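import Groth.Prelude.Def_AlgSpDec
import Mathlib.CategoryTheory.Limits.Types.Pullbacks

/-!
# helper52: basic API for points of fppf sheaves (namespace `Groth.Agent.H52`)

* `sections_isPullback`: sections of a pullback square of sheaves form a pullback square of types.
* `FieldPt.restrict`, `mk_restrict`: restricting a field-valued point along a field extension.
* `exists_point_of_isPullback`: `|P| → |F| ×_{|H|} |G|` is surjective for a pullback square of sheaves.
* `mono_yon_map`, `quasiCompact_of_finite`.
* `exists_mono_rep_of_representable`, `isDecent_of_representable`, `isDecent_of_isDecentMor_baseChange`.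
-/

universe u

open CategoryTheory CategoryTheory.Limits AlgebraicGeometry Opposite AlgSp

namespace Groth.Agent.H52

variable {S : Scheme.{u}}

/-- Sections of a pullback square of sheaves over an object form a pullback square of types. -/
theorem sections_isPullback {P F G H : Sp S} {fst : P ⟶ F} {snd : P ⟶ G} {f : F ⟶ H} {g : G ⟶ H}
    (h : IsPullback fst snd f g) (T : (Over S)ᵒᵖ) :
    IsPullback (fst.hom.app T) (snd.hom.app T) (f.hom.app T) (g.hom.app T) :=
  h.map (sheafToPresheaf (J S) (Type (u+1)) ⋙ (evaluation _ _).obj T)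

/-- Restriction of a field-valued point along a morphism from the spectrum of a field. -/
noncomputable def restrict {F : Sp S} (p : FieldPt F) {Ω : Type u} [Field Ω]
    {w : Spec (CommRingCat.of Ω) ⟶ S} (a : Over.mk w ⟶ p.pt) : FieldPt F :=
  ⟨Ω, w, F.obj.map a.op p.val⟩

theorem mk_restrict {F : Sp S} (p : FieldPt F) {Ω : Type u} [Field Ω]
    {w : Spec (CommRingCat.of Ω) ⟶ S} (a : Over.mk w ⟶ p.pt) :
    Points.mk (restrict p a) = Points.mk p := by
  refine Points.sound ⟨Ω, inferInstance, w, 𝟙 _, a, ?_⟩
  change F.obj.map (𝟙 _).op (F.obj.map a.op p.val) = F.obj.map a.op p.val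
  rw [op_id, Functor.map_id_apply]

/-- For a pullback square of sheaves, the map from the points of the corner to the fibre product of the sets of
points is surjective. -/
theorem exists_point_of_isPullback {P F G H : Sp S} {fst : P ⟶ F} {snd : P ⟶ G} {f : F ⟶ H} {g : G ⟶ H}
    (h : IsPullback fst snd f g) (x : Points F) (y : Points G)
    (hxy : Points.map f x = Points.map g y) :
    ∃ z : Points P, Points.map fst z = x ∧ Points.map snd z = y := by
  induction x using Points.ind with
  | h p =>
  induction y using Points.ind with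
  | h q =>
  rw [Points.map_mk, Points.map_mk, Points.mk_eq_mk_iff] at hxy
  obtain ⟨Ω, _, w, a, b, hab⟩ := hxy
  change Over.mk w ⟶ p.pt at a
  change Over.mk w ⟶ q.pt at b
  change H.obj.map a.op (f.hom.app _ p.val) = H.obj.map b.op (g.hom.app _ q.val) at hab
  have hab' : f.hom.app (op (Over.mk w)) (F.obj.map a.op p.val) =
      g.hom.app (op (Over.mk w)) (G.obj.map b.op q.val) := by
    rw [NatTrans.naturality_apply, NatTrans.naturality_apply]
    exact hab
  obtain ⟨s, hs1, hs2⟩ := Types.exists_of_isPullback (sections_isPullback h (op (Over.mk w))) _ _ hab'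
  refine ⟨Points.mk ⟨Ω, w, s⟩, ?_, ?_⟩
  · rw [Points.map_mk, ← mk_restrict p a]
    change Points.mk ⟨Ω, w, fst.hom.app _ s⟩ = Points.mk ⟨Ω, w, F.obj.map a.op p.val⟩
    rw [hs1]
  · rw [Points.map_mk, ← mk_restrict q b]
    change Points.mk ⟨Ω, w, snd.hom.app _ s⟩ = Points.mk ⟨Ω, w, G.obj.map b.op q.val⟩
    rw [hs2]

/-- `h_φ` is a monomorphism of sheaves as soon as the morphism of schemes underlying `φ` is a monomorphism. -/
theorem mono_yon_map {T T' : Over S} (φ : T ⟶ T') [Mono φ.left] : Mono ((yon S).map φ) := by
  have : Mono φ := (Over.forget S).mono_of_mono_map (by simpa using ‹Mono φ.left›)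
  infer_instance

/-- A morphism of schemes with finite source is quasi-compact. -/
theorem quasiCompact_of_finite {X Y : Scheme.{u}} (f : X ⟶ Y) [Finite ↥X] : QuasiCompact f :=
  ⟨fun _ _ _ => (Set.toFinite _).isCompact⟩

end Groth.Agent.H52
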