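import Groth.Agent.H52.Points
import Groth.Prelude.Def_AlgSp4
import Mathlib.AlgebraicGeometry.Morphisms.UniversallyOpen
import Mathlib.AlgebraicGeometry.Morphisms.Etale

/-!
# helper52: topology of the space of points: etale charts are open maps, surjective etale charts are quotient maps
-/

universe u

open CategoryTheory CategoryTheory.Limits AlgebraicGeometry Opposite AlgSp Topology

namespace Groth.Agent.H52

variable {S : Scheme.{u}}

theorem map_yon_map_ofScheme {V T : Over S} (ψ : V ⟶ T) (v : ↥V.left) :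
    Points.map ((yon S).map ψ) (Points.ofScheme V v) = Points.ofScheme T (ψ.left v) :=
  Points.map_yon_map_apply ψ v

theorem ofPt_yon_map_comp {F : Sp S} {V T : Over S} (ψ : V ⟶ T) (g : (yon S).obj T ⟶ F) (v : ↥V.left) :
    Points.ofPt ((yon S).map ψ ≫ g) v = Points.ofPt g (ψ.left v) := by
  rw [Points.ofPt_eq_map_ofScheme, Points.map_comp, map_yon_map_ofScheme, ← Points.ofPt_eq_map_ofScheme]

theorem ofScheme_injective (T : Over S) : Function.Injective (Points.ofScheme T) :=
  (Points.schemeEquiv T).injective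

/-- Description of the fibre product of points on charts: if `ofPt g t = ofPt a u` and `h_V` is the fibre product,
there is a point of `V` over both. -/
theorem exists_of_ofPt_eq_ofPt {F : Sp S} {U T V : Over S} {a : (yon S).obj U ⟶ F} {g : (yon S).obj T ⟶ F}
    {φ : V ⟶ U} {ψ : V ⟶ T} (sq : IsPullback ((yon S).map φ) ((yon S).map ψ) a g) (u : ↥U.left) (t : ↥T.left)
    (h : Points.ofPt a u = Points.ofPt g t) : ∃ v : ↥V.left, φ.left v = u ∧ ψ.left v = t := by
  rw [Points.ofPt_eq_map_ofScheme, Points.ofPt_eq_map_ofScheme] at h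
  obtain ⟨z, hz1, hz2⟩ := exists_point_of_isPullback sq _ _ h
  obtain ⟨v, rfl⟩ := (Points.schemeEquiv V).surjective z
  change Points.map _ (Points.ofScheme V v) = _ at hz1
  change Points.map _ (Points.ofScheme V v) = _ at hz2
  rw [map_yon_map_ofScheme] at hz1 hz2
  exact ⟨v, ofScheme_injective U hz1, ofScheme_injective T hz2⟩

/-- A representable etale map from a scheme induces an open map on points. -/
theorem isOpenMap_ofPt_of_etale {F : Sp S} {U : Over S} (a : (yon S).obj U ⟶ F)
    (ha : RepWith @Etale a) : IsOpenMap (Points.ofPt a) := by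
  intro W hW
  rw [Points.isOpen_iff]
  intro T g
  obtain ⟨V, ψ, fst, sq⟩ := ha.1 g
  have hψ : Etale ψ.left := ha.2 _ _ _ sq
  obtain ⟨φ, rfl⟩ := (yon S).map_surjective fst
  have key : Points.ofPt g ⁻¹' (Points.ofPt a '' W) = ψ.left '' (φ.left ⁻¹' W) := by
    ext t
    constructor
    · rintro ⟨u, hu, hut⟩
      obtain ⟨v, hv1, hv2⟩ := exists_of_ofPt_eq_ofPt sq u t hut
      exact ⟨v, by simpa [hv1] using hu, hv2⟩
    · rintro ⟨v, hv, rfl⟩
      refine ⟨φ.left v, hv, ?_⟩
      rw [← ofPt_yon_map_comp, ← ofPt_yon_map_comp, sq.w]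
  rw [key]
  exact ψ.left.isOpenMap _ (hW.preimage φ.left.continuous)

/-- A representable surjective map from a scheme is surjective on points. -/
theorem surjective_ofPt_of_surjective {F : Sp S} {U : Over S} (a : (yon S).obj U ⟶ F)
    (hs : RepWith @Surjective a) : Function.Surjective (Points.ofPt a) := by
  intro x
  induction x using Points.ind with
  | h p =>
  obtain ⟨V, ψ, fst, sq⟩ := hs.1 p.toHom
  have hψ : Surjective ψ.left := hs.2 _ _ _ sq
  obtain ⟨φ, rfl⟩ := (yon S).map_surjective fst
  obtain ⟨v, -⟩ := hψ.surj (IsLocalRing.closedPoint p.K : PrimeSpectrum p.K)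
  refine ⟨φ.left v, ?_⟩
  rw [← ofPt_yon_map_comp, sq.w, ofPt_yon_map_comp, Points.ofPt_toHom]

theorem isQuotientMap_ofPt {F : Sp S} {U : Over S} (a : (yon S).obj U ⟶ F)
    (ha : RepWith @Etale a) (hs : RepWith @Surjective a) : IsQuotientMap (Points.ofPt a) :=
  (isOpenMap_ofPt_of_etale a ha).isQuotientMap (Points.continuous_ofPt a)
    (surjective_ofPt_of_surjective a hs)

end Groth.Agent.H52
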