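import Groth.Agent.H52.Topology

/-!
# helper52: manipulating charts of sheaves
-/

universe u

open CategoryTheory CategoryTheory.Limits AlgebraicGeometry Opposite AlgSp Topology

namespace Groth.Agent.H52

variable {S : Scheme.{u}}

/-- A representable map from a scheme that is surjective on points is representable surjective. -/
theorem repWith_surjective_of_surjective_ofPt {F : Sp S} {U : Over S} (a : (yon S).obj U ⟶ F)
    (ha : Representable a) (hs : Function.Surjective (Points.ofPt a)) : RepWith @Surjective a := by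
  refine ⟨ha, fun T V g fst snd sq => ?_⟩
  obtain ⟨φ, rfl⟩ := (yon S).map_surjective fst
  refine ⟨fun t => ?_⟩
  obtain ⟨u, hu⟩ := hs (Points.ofPt g t)
  obtain ⟨v, -, hv⟩ := exists_of_ofPt_eq_ofPt sq u t hu
  exact ⟨v, hv⟩

/-- Precomposing a map with property `P` by `h_ψ` for `ψ` a morphism of schemes with `P`. -/
theorem repWith_yon_map_comp (P : MorphismProperty Scheme.{u}) [P.IsStableUnderBaseChange]
    [P.IsMultiplicative] {F : Sp S} {U V : Over S} (ψ : V ⟶ U) (hψ : P ψ.left)
    (a : (yon S).obj U ⟶ F) (ha : RepWith P a) : RepWith P ((yon S).map ψ ≫ a) := by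
  have := AlgSp.repWith_isMultiplicative (S := S) P
  exact (RepWith P).comp_mem _ _ ((repWith_yon_map_iff P ψ).2 hψ) ha

/-- The scheme over `S` given by a morphism `d : V ⟶ U.left`, with its morphism to `U`. -/
abbrev overOf {U : Over S} {V : Scheme.{u}} (d : V ⟶ U.left) : Over S := Over.mk (d ≫ U.hom)

abbrev overOfHom {U : Over S} {V : Scheme.{u}} (d : V ⟶ U.left) : overOf d ⟶ U := Over.homMk d rfl

end Groth.Agent.H52
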