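import Groth.Agent.H52.FibProd
import Groth.Agent.S10174

/-!
# helper52: quasi-compact sheaves and finite covers
-/

universe u

open CategoryTheory CategoryTheory.Limits AlgebraicGeometry Opposite AlgSp Topology

namespace Groth.Agent.H52

variable {S : Scheme.{u}}

theorem compactSpace_points_of_isQuasiCompactSp {F : Sp S} (h : IsQuasiCompactSp F) :
    CompactSpace (Points F) := by
  obtain ⟨U, p, hpe, hps, hU⟩ := h
  have : CompactSpace ↥U.left := hU
  exact (surjective_ofPt_of_surjective p hps).compactSpace (Points.continuous_ofPt p)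

theorem isQuasiCompactSp_iff {F : Sp S} (hF : IsAlgSpace F) :
    IsQuasiCompactSp F ↔ CompactSpace (Points F) :=
  Groth.Agent.S10174.result (S := S) ⟨F, hF⟩

theorem isQuasiCompactSp_of_surjective {F G : Sp S} (f : F ⟶ G) (hG : IsAlgSpace G)
    (hf : Function.Surjective (Points.map f)) (hF : IsQuasiCompactSp F) : IsQuasiCompactSp G := by
  have := compactSpace_points_of_isQuasiCompactSp hF
  exact (isQuasiCompactSp_iff hG).2 (hf.compactSpace (Points.continuous_map f))

/-- The union of the images of finitely many quasi-compact sheaves is compact. -/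
theorem isCompact_iUnion_range_of_isQuasiCompactSp {ι : Type*} [Finite ι] {G : Sp S} (Q : ι → Sp S)
    (q : ∀ i, Q i ⟶ G) (hQ : ∀ i, IsQuasiCompactSp (Q i)) :
    IsCompact (⋃ i, Set.range (Points.map (q i))) :=
  isCompact_iUnion fun i => by
    have := compactSpace_points_of_isQuasiCompactSp (hQ i)
    exact isCompact_range (Points.continuous_map (q i))

theorem isQuasiCompactSp_of_finite_cover {ι : Type*} [Finite ι] {G : Sp S} (hG : IsAlgSpace G)
    (Q : ι → Sp S) (q : ∀ i, Q i ⟶ G) (hQ : ∀ i, IsQuasiCompactSp (Q i))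
    (hs : ∀ x : Points G, ∃ i, x ∈ Set.range (Points.map (q i))) : IsQuasiCompactSp G := by
  rw [isQuasiCompactSp_iff hG, ← isCompact_univ_iff]
  have : (Set.univ : Set (Points G)) = ⋃ i, Set.range (Points.map (q i)) := by
    ext x
    simpa using hs x
  rw [this]
  exact isCompact_iUnion_range_of_isQuasiCompactSp Q q hQ

theorem surjective_map_fst_of_isPullback {P F G H : Sp S} {fst : P ⟶ F} {snd : P ⟶ G} {f : F ⟶ H}
    {g : G ⟶ H} (sq : IsPullback fst snd f g) (hg : Function.Surjective (Points.map g)) :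
    Function.Surjective (Points.map fst) := by
  intro x
  obtain ⟨y, hy⟩ := hg (Points.map f x)
  obtain ⟨z, hz, -⟩ := exists_point_of_isPullback sq x y hy.symm
  exact ⟨z, hz⟩

theorem surjective_map_snd_of_isPullback {P F G H : Sp S} {fst : P ⟶ F} {snd : P ⟶ G} {f : F ⟶ H}
    {g : G ⟶ H} (sq : IsPullback fst snd f g) (hf : Function.Surjective (Points.map f)) :
    Function.Surjective (Points.map snd) :=
  surjective_map_fst_of_isPullback sq.flip hf

/-- A quasi-compact scheme is covered by finitely many affine opens. -/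
theorem exists_finset_affineOpens_cover (X : Scheme.{u}) [CompactSpace X] :
    ∃ t : Finset X.affineOpens, ∀ x : X, ∃ V ∈ t, x ∈ V.1 := by
  have hcov : (Set.univ : Set X) ⊆ ⋃ V : X.affineOpens, (V.1 : Set X) := by
    intro x _
    obtain ⟨_, ⟨V, hV, rfl⟩, hxV, -⟩ :=
      X.isBasis_affineOpens.exists_subset_of_mem_open (Set.mem_univ x) isOpen_univ
    exact Set.mem_iUnion.mpr ⟨⟨V, hV⟩, hxV⟩
  obtain ⟨t, ht⟩ := isCompact_univ.elim_finite_subcover _ (fun V : X.affineOpens => V.1.2) hcov
  exact ⟨t, fun x => by simpa using ht (Set.mem_univ x)⟩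

/-- The scheme over `S` given by an open subscheme of a scheme over `S`. -/
abbrev overOpen (U : Over S) (V : U.left.Opens) : Over S := overOf (U := U) V.ι

abbrev overOpenHom (U : Over S) (V : U.left.Opens) : overOpen U V ⟶ U := overOfHom (U := U) V.ι

/-- A quasi-compact sheaf is covered by finitely many affine schemes etale over it. -/
theorem exists_finite_affine_charts {F : Sp S} (hF : IsQuasiCompactSp F) :
    ∃ (ι : Type u) (_ : Finite ι) (T : ι → Over S) (c : ∀ i, (yon S).obj (T i) ⟶ F),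
      (∀ i, IsAffine (T i).left) ∧ (∀ i, RepWith @Etale (c i)) ∧
      ∀ x : Points F, ∃ i t, Points.ofPt (c i) t = x := by
  obtain ⟨U, p, hpe, hps, hU⟩ := hF
  have : CompactSpace ↥U.left := hU
  obtain ⟨t, ht⟩ := exists_finset_affineOpens_cover U.left
  refine ⟨↥t, inferInstance, fun V => overOpen U V.1.1, fun V => (yon S).map (overOpenHom U V.1.1) ≫ p,
    fun V => V.1.2, fun V => repWith_yon_map_comp @Etale _ (show Etale V.1.1.ι from inferInstance) p hpe,
    fun x => ?_⟩
  obtain ⟨u, rfl⟩ := surjective_ofPt_of_surjective p hps x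
  obtain ⟨V, hV, huV⟩ := ht u
  refine ⟨⟨V, hV⟩, ⟨u, huV⟩, ?_⟩
  rw [ofPt_yon_map_comp]
  rfl

/-- A sheaf isomorphic to a quasi-compact scheme is quasi-compact. -/
theorem isQuasiCompactSp_of_iso_yon {F : Sp S} (T : Over S) [CompactSpace ↥T.left]
    (e : (yon S).obj T ⟶ F) [IsIso e] : IsQuasiCompactSp F := by
  have h1 := AlgSp.repWith_isMultiplicative (S := S) @Etale
  have h2 := AlgSp.repWith_isMultiplicative (S := S) @Surjective
  have h3 := AlgSp.repWith_isStableUnderBaseChange (S := S) @Etale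
  have h4 := AlgSp.repWith_isStableUnderBaseChange (S := S) @Surjective
  exact ⟨T, e, MorphismProperty.of_isIso (RepWith @Etale) e,
    MorphismProperty.of_isIso (RepWith @Surjective) e, inferInstance⟩

theorem isQuasiCompactSp_yon (T : Over S) [CompactSpace ↥T.left] :
    IsQuasiCompactSp ((yon S).obj T) :=
  isQuasiCompactSp_of_iso_yon T (𝟙 _)

/-- Test of quasi-compactness of a morphism on affine schemes. -/
theorem isQuasiCompactMor_of_affine {X Y : Sp S} (hX : IsAlgSpace X) (hY : IsAlgSpace Y) (f : X ⟶ Y)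
    (H : ∀ (Z : Over S), IsAffine Z.left → ∀ (g : (yon S).obj Z ⟶ Y) (P : Sp S)
        (fst : P ⟶ X) (snd : P ⟶ (yon S).obj Z), IsPullback fst snd f g → IsQuasiCompactSp P) :
    IsQuasiCompactMor f := by
  intro Z Z' hZ hZq g fst snd sq
  obtain ⟨ι, _, T, c, hT, hc, hs⟩ := exists_finite_affine_charts hZq
  have hZ' : IsAlgSpace Z' := isAlgSpace_of_isPullback sq hY.diag hX hZ
  have sqi : ∀ i, IsPullback (pullback.fst f (c i ≫ g)) (pullback.snd f (c i ≫ g)) f (c i ≫ g) :=
    fun i => IsPullback.of_hasPullback f (c i ≫ g)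
  let l : ∀ i, pullback f (c i ≫ g) ⟶ Z' := fun i =>
    sq.lift (pullback.fst f (c i ≫ g)) (pullback.snd f (c i ≫ g) ≫ c i)
      (by simp [pullback.condition])
  have sql : ∀ i, IsPullback (l i) (pullback.snd f (c i ≫ g)) snd (c i) := fun i =>
    isPullback_lift_of_comp_right sq (sqi i) (l i) (sq.lift_fst _ _ _) (sq.lift_snd _ _ _)
  refine isQuasiCompactSp_of_finite_cover hZ' (fun i => pullback f (c i ≫ g)) l
    (fun i => H (T i) (hT i) (c i ≫ g) _ _ _ (sqi i)) fun x => ?_
  obtain ⟨i, t, hit⟩ := hs (Points.map snd x)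
  rw [Points.ofPt_eq_map_ofScheme] at hit
  obtain ⟨z, hz, -⟩ := exists_point_of_isPullback (sql i) x _ hit.symm
  exact ⟨i, z, hz⟩

/-- Refining a map from a quasi-compact scheme along an etale chart of the target that is surjective on points:
finitely many affine schemes etale over the source, jointly surjective, each lifting to the chart. -/
theorem exists_finite_affine_refinement {Y : Sp S} {Z V : Over S} [CompactSpace ↥Z.left]
    (h : (yon S).obj Z ⟶ Y) (φ : (yon S).obj V ⟶ Y) (hφ : RepWith @Etale φ)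
    (hs : Function.Surjective (Points.ofPt φ)) :
    ∃ (ι : Type u) (_ : Finite ι) (T : ι → Over S) (c : ∀ i, T i ⟶ Z) (d : ∀ i, T i ⟶ V),
      (∀ i, IsAffine (T i).left) ∧ (∀ i, Etale (c i).left) ∧
      (∀ i, (yon S).map (c i) ≫ h = (yon S).map (d i) ≫ φ) ∧
      ∀ z : ↥Z.left, ∃ i t, (c i).left t = z := by
  obtain ⟨T', sndT, fstT, sqT⟩ := hφ.1 h
  have hE : Etale sndT.left := hφ.2 _ _ _ sqT
  obtain ⟨φT, rfl⟩ := (yon S).map_surjective fstT
  have hsurj : ∀ z : ↥Z.left, ∃ t : ↥T'.left, sndT.left t = z := fun z => by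
    obtain ⟨v, hv⟩ := hs (Points.ofPt h z)
    obtain ⟨t, -, ht⟩ := exists_of_ofPt_eq_ofPt sqT v z hv
    exact ⟨t, ht⟩
  have hopen : ∀ W : T'.left.affineOpens, IsOpen (sndT.left '' (W.1 : Set ↥T'.left)) :=
    fun W => sndT.left.isOpenMap _ W.1.2
  have hcov : (Set.univ : Set ↥Z.left) ⊆
      ⋃ W : T'.left.affineOpens, sndT.left '' (W.1 : Set ↥T'.left) := by
    intro z _
    obtain ⟨t, rfl⟩ := hsurj z
    obtain ⟨_, ⟨W, hW, rfl⟩, htW, -⟩ :=
      T'.left.isBasis_affineOpens.exists_subset_of_mem_open (Set.mem_univ t) isOpen_univ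
    exact Set.mem_iUnion.mpr ⟨⟨W, hW⟩, t, htW, rfl⟩
  obtain ⟨s, hs'⟩ := isCompact_univ.elim_finite_subcover _ hopen hcov
  refine ⟨↥s, inferInstance, fun W => overOpen T' W.1.1, fun W => overOpenHom T' W.1.1 ≫ sndT,
    fun W => overOpenHom T' W.1.1 ≫ φT, fun W => W.1.2, fun W => ?_, fun W => ?_, fun z => ?_⟩
  · change Etale (W.1.1.ι ≫ sndT.left)
    infer_instance
  · rw [Functor.map_comp, Functor.map_comp, Category.assoc, Category.assoc, sqT.w]
  · have := hs' (Set.mem_univ z)
    simp only [Set.mem_iUnion] at this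
    obtain ⟨W, hW, t, htW, rfl⟩ := this
    exact ⟨⟨W, hW⟩, ⟨t, htW⟩, rfl⟩

end Groth.Agent.H52
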