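import Groth.Agent.H52.FieldPts
import Groth.Agent.H52.QC
import Mathlib.RingTheory.Unramified.Field
import Mathlib.RingTheory.Ideal.MinimalPrime.Localization
import Mathlib.AlgebraicGeometry.Noetherian
import Mathlib.RingTheory.Finiteness.Descent
import Mathlib.RingTheory.RingHom.FaithfullyFlat
import Mathlib.RingTheory.RegularLocalRing.Defs
import Mathlib.AlgebraicGeometry.ResidueField

/-!
# Reduced one point algebraic spaces and field points (helper52)
-/

set_option autoImplicit false
universe u

open CategoryTheory CategoryTheory.Limits AlgebraicGeometry Opposite AlgSp Topology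

namespace Groth.Agent.H52

/-- A nontrivial reduced ring admits a flat ring homomorphism to a field. -/
theorem exists_flat_field_of_isReduced (A : Type u) [CommRing A] [_root_.IsReduced A] [Nontrivial A] :
    ∃ (k : Type u) (_ : Field k) (φ : A →+* k), φ.Flat := by
  obtain ⟨⟨𝔭, h𝔭⟩⟩ := Ideal.nonempty_minimalPrimes (I := (⊥ : Ideal A)) (by simp)
  have hprime : 𝔭.IsPrime := h𝔭.1.1
  have hfield : IsField (Localization.AtPrime 𝔭) := by
    rw [IsLocalRing.isField_iff_maximalIdeal_eq,
      ← IsLocalization.AtPrime.map_eq_maximalIdeal 𝔭 (Localization.AtPrime 𝔭),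
      ← IsLocalization.AtPrime.radical_map_of_mem_minimalPrimes (A := Localization.AtPrime 𝔭) 𝔭 ⊥ h𝔭]
    simp only [Ideal.map_bot]
    exact nilradical_eq_zero _
  let _ : Field (Localization.AtPrime 𝔭) := hfield.toField
  refine ⟨Localization.AtPrime 𝔭, inferInstance, algebraMap A (Localization.AtPrime 𝔭), ?_⟩
  rw [RingHom.flat_algebraMap_iff]
  infer_instance

/-- A nontrivial noetherian ring admits a finitely presented ring homomorphism to a field. -/
theorem exists_fp_field_of_isNoetherianRing (A : Type u) [CommRing A] [IsNoetherianRing A]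
    [Nontrivial A] : ∃ (k : Type u) (_ : Field k) (φ : A →+* k), φ.FinitePresentation := by
  obtain ⟨𝔪, h𝔪⟩ := Ideal.exists_maximal A
  let _ : Field (A ⧸ 𝔪) := Ideal.Quotient.field 𝔪
  refine ⟨A ⧸ 𝔪, inferInstance, Ideal.Quotient.mk 𝔪, ?_⟩
  exact RingHom.FinitePresentation.of_surjective _ Ideal.Quotient.mk_surjective
    ((isNoetherianRing_iff_ideal_fg A).1 inferInstance _)

/-- Reducedness descends along flat surjective morphisms of schemes. -/
theorem isReduced_of_flat_of_surjective {X Y : Scheme.{u}} (f : X ⟶ Y) [Flat f] [Surjective f]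
    [IsReduced X] : IsReduced Y := by
  have : ∀ y : Y, _root_.IsReduced (Y.presheaf.stalk y) := by
    intro y
    obtain ⟨x, rfl⟩ := f.surjective y
    algebraize [(f.stalkMap x).hom]
    have : Module.FaithfullyFlat (Y.presheaf.stalk (f x)) (X.presheaf.stalk x) :=
      @Module.FaithfullyFlat.of_flat_of_isLocalHom _ _ _ _ _ _ _
        (Flat.stalkMap f x) (f.toLRSHom.prop x)
    exact isReduced_of_injective (f.stalkMap x).hom ‹RingHom.FaithfullyFlat _›.injective
  exact isReduced_of_isReduced_stalk Y

/-- A scheme etale over a field is reduced. -/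
theorem isReduced_of_etale_field {k : Type u} [Field k] {X : Scheme.{u}}
    (g : X ⟶ Spec (CommRingCat.of k)) [Etale g] : IsReduced X := by
  have : ∀ i, IsReduced (X.affineOpenCover.openCover.X i) := by
    intro i
    change IsReduced (Spec (X.affineOpenCover.X i))
    have h : Etale (X.affineOpenCover.f i ≫ g) := inferInstance
    obtain ⟨φ, hφ⟩ := Spec.map_surjective (X.affineOpenCover.f i ≫ g)
    rw [← hφ, HasRingHomProperty.Spec_iff (P := @Etale)] at h
    algebraize [φ.hom]
    have : Algebra.Etale k (X.affineOpenCover.X i) := h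
    have := Algebra.FormallyUnramified.isReduced_of_field k (X.affineOpenCover.X i)
    infer_instance
  exact IsReduced.of_openCover X X.affineOpenCover.openCover

/-- A nonempty reduced scheme receives a flat morphism from the spectrum of a field. -/
theorem exists_flat_field_point (U : Scheme.{u}) [IsReduced U] [Nonempty ↥U] :
    ∃ (k : Type u) (_ : Field k) (g : Spec (CommRingCat.of k) ⟶ U), Flat g := by
  obtain ⟨x⟩ := ‹Nonempty ↥U›
  obtain ⟨i, y, hy⟩ := U.affineOpenCover.openCover.exists_eq x
  have hred : IsReduced (Spec (U.affineOpenCover.X i)) :=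
    isReduced_of_isOpenImmersion (U.affineOpenCover.f i)
  have hred' : _root_.IsReduced (U.affineOpenCover.X i) := (affine_isReduced_iff _).1 hred
  have hnt : Nontrivial (U.affineOpenCover.X i) :=
    PrimeSpectrum.nonempty_iff_nontrivial.1 ⟨y⟩
  obtain ⟨k, hk, φ, hφ⟩ := exists_flat_field_of_isReduced (U.affineOpenCover.X i)
  refine ⟨k, hk, Spec.map (CommRingCat.ofHom φ) ≫ U.affineOpenCover.f i, ?_⟩
  have : Flat (Spec.map (CommRingCat.ofHom φ)) := by
    rw [HasRingHomProperty.Spec_iff (P := @Flat)]
    exact hφ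
  infer_instance

/-- A nonempty locally noetherian scheme receives a locally finitely presented morphism from the spectrum of a
field. -/
theorem exists_lfp_field_point (U : Scheme.{u}) [IsLocallyNoetherian U] [Nonempty ↥U] :
    ∃ (k : Type u) (_ : Field k) (g : Spec (CommRingCat.of k) ⟶ U),
      LocallyOfFinitePresentation g := by
  obtain ⟨x⟩ := ‹Nonempty ↥U›
  obtain ⟨i, y, hy⟩ := U.affineOpenCover.openCover.exists_eq x
  have hn : IsLocallyNoetherian (Spec (U.affineOpenCover.X i)) :=
    isLocallyNoetherian_of_isOpenImmersion (U.affineOpenCover.f i)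
  have hn' : IsNoetherianRing (U.affineOpenCover.X i) := by
    have : IsNoetherian (Spec (U.affineOpenCover.X i)) := { }
    exact (isNoetherian_Spec).1 this
  have hnt : Nontrivial (U.affineOpenCover.X i) :=
    PrimeSpectrum.nonempty_iff_nontrivial.1 ⟨y⟩
  obtain ⟨k, hk, φ, hφ⟩ := exists_fp_field_of_isNoetherianRing (U.affineOpenCover.X i)
  refine ⟨k, hk, Spec.map (CommRingCat.ofHom φ) ≫ U.affineOpenCover.f i, ?_⟩
  have : LocallyOfFinitePresentation (Spec.map (CommRingCat.ofHom φ)) := by
    rw [HasRingHomProperty.Spec_iff (P := @LocallyOfFinitePresentation)]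
    exact hφ
  infer_instance

/-- Noetherianity descends along faithfully flat ring maps. -/
theorem isNoetherianRing_of_faithfullyFlat {A B : Type u} [CommRing A] [CommRing B] (φ : A →+* B)
    (hφ : φ.FaithfullyFlat) [IsNoetherianRing B] : IsNoetherianRing A := by
  algebraize [φ]
  have : Module.FaithfullyFlat A B := hφ
  rw [isNoetherianRing_iff_ideal_fg]
  intro I
  exact Ideal.FG.of_FG_map_of_faithfullyFlat (S := B)
    ((isNoetherianRing_iff_ideal_fg B).1 inferInstance _)

/-- Local noetherianity descends along flat surjective open morphisms of schemes. -/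
theorem isLocallyNoetherian_of_flat_surjective_open {X Y : Scheme.{u}} (f : X ⟶ Y) [Flat f]
    [Surjective f] (hopen : IsOpenMap f) [IsLocallyNoetherian X] : IsLocallyNoetherian Y := by
  have key : ∀ y : Y, ∃ V' : Y.affineOpens, y ∈ V'.1 ∧ IsNoetherianRing Γ(Y, V'.1) := by
    intro y
    obtain ⟨x, rfl⟩ := f.surjective y
    obtain ⟨_, ⟨V, hV, rfl⟩, hyV, -⟩ :=
      Y.isBasis_affineOpens.exists_subset_of_mem_open (Set.mem_univ (f x)) isOpen_univ
    obtain ⟨_, ⟨U, hU, rfl⟩, hxU, hUV⟩ :=
      X.isBasis_affineOpens.exists_subset_of_mem_open (show x ∈ (f ⁻¹ᵁ V : Set X) from hyV)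
        (f ⁻¹ᵁ V).isOpen
    let O : Y.Opens := ⟨f '' U, hopen _ U.isOpen⟩
    have hyO : f x ∈ O := ⟨x, hxU, rfl⟩
    obtain ⟨s, hsO, hys⟩ := hV.exists_basicOpen_le ⟨f x, hyO⟩ hyV
    have e : U ≤ f ⁻¹ᵁ V := hUV
    have hV' : IsAffineOpen (Y.basicOpen s) := hV.basicOpen s
    have hU' : IsAffineOpen (X.basicOpen (f.appLE V U e s)) := hU.basicOpen _
    have hU'eq : X.basicOpen (f.appLE V U e s) = U ⊓ f ⁻¹ᵁ (Y.basicOpen s) :=
      Scheme.basicOpen_appLE f U V e s
    have e' : X.basicOpen (f.appLE V U e s) ≤ f ⁻¹ᵁ (Y.basicOpen s) := by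
      rw [hU'eq]; exact inf_le_right
    refine ⟨⟨Y.basicOpen s, hV'⟩, hys, ?_⟩
    have hflat : (f.appLE (Y.basicOpen s) (X.basicOpen (f.appLE V U e s)) e').hom.Flat :=
      HasRingHomProperty.appLE (P := @Flat) f inferInstance ⟨_, hV'⟩ ⟨_, hU'⟩ e'
    have hsurj : Function.Surjective
        (PrimeSpectrum.comap (f.appLE (Y.basicOpen s) (X.basicOpen (f.appLE V U e s)) e').hom) := by
      intro 𝔮
      have h𝔮 : hV'.fromSpec 𝔮 ∈ Y.basicOpen s := by
        have : hV'.fromSpec 𝔮 ∈ Set.range hV'.fromSpec := ⟨𝔮, rfl⟩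
        rwa [hV'.range_fromSpec] at this
      obtain ⟨u, huU, hu⟩ := hsO h𝔮
      have huU' : u ∈ X.basicOpen (f.appLE V U e s) := by
        rw [hU'eq]
        refine ⟨huU, ?_⟩
        show f u ∈ Y.basicOpen s
        rw [hu]; exact h𝔮
      obtain ⟨𝔯, rfl⟩ : u ∈ Set.range hU'.fromSpec := by
        rw [hU'.range_fromSpec]; exact huU'
      refine ⟨𝔯, ?_⟩
      apply hV'.fromSpec.isOpenEmbedding.injective
      have h1 := IsAffineOpen.SpecMap_appLE_fromSpec f hV' hU' e'
      have h2 := congrArg (fun g => g 𝔯) h1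
      simp only [Scheme.Hom.comp_apply] at h2
      rw [← hu, ← h2]
      rfl
    have hff : (f.appLE (Y.basicOpen s) (X.basicOpen (f.appLE V U e s)) e').hom.FaithfullyFlat :=
      RingHom.FaithfullyFlat.iff_flat_and_comap_surjective.2 ⟨hflat, hsurj⟩
    have : IsNoetherianRing Γ(X, X.basicOpen (f.appLE V U e s)) :=
      IsLocallyNoetherian.component_noetherian ⟨_, hU'⟩
    exact isNoetherianRing_of_faithfullyFlat _ hff
  choose V' hyV' hN using key
  refine isLocallyNoetherian_of_affine_cover (S := V') ?_ hN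
  rw [eq_top_iff]
  intro y _
  exact TopologicalSpace.Opens.mem_iSup.2 ⟨y, hyV' y⟩

theorem isField_of_injective_isLocalHom {R K : Type*} [CommRing R] [IsLocalRing R] [CommRing K]
    (hK : IsField K) (φ : R →+* K) [IsLocalHom φ] (hφ : Function.Injective φ) : IsField R := by
  rw [IsLocalRing.isField_iff_maximalIdeal_eq, eq_bot_iff]
  intro x hx
  rw [Ideal.mem_bot]
  apply hφ
  rw [map_zero]
  by_contra h
  obtain ⟨b, hb⟩ := hK.mul_inv_cancel h
  have : IsUnit (φ x) := IsUnit.of_mul_eq_one b hb
  exact (IsLocalRing.mem_maximalIdeal x).1 hx ((isUnit_map_iff φ x).1 this)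

theorem isField_stalk_spec_field (R : CommRingCat.{u}) (hR : IsField R) (x : Spec R) :
    IsField ((Spec R).presheaf.stalk x) := by
  have e1 := (Spec.stalkIso R x).commRingCatIsoToRingEquiv
  have e2 : R ≃ₐ[R] Localization.AtPrime x.asIdeal :=
    IsLocalization.atUnits R x.asIdeal.primeCompl (by
      intro m hm
      have hne : m ≠ 0 := fun h => hm (h ▸ x.asIdeal.zero_mem)
      obtain ⟨b, hb⟩ := hR.mul_inv_cancel hne
      exact IsUnit.of_mul_eq_one b hb)
  exact MulEquiv.isField (MulEquiv.isField hR e2.symm.toMulEquiv) e1.toMulEquiv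

theorem isField_stalk_of_flat_fromSpecResidueField {X : Scheme.{u}} (x : X)
    [Flat (X.fromSpecResidueField x)] : IsField (X.presheaf.stalk x) := by
  let pt : Spec (X.residueField x) := IsLocalRing.closedPoint (X.residueField x)
  have hpt : X.fromSpecResidueField x pt = x := X.fromSpecResidueField_apply x pt
  have key : IsField (X.presheaf.stalk (X.fromSpecResidueField x pt)) := by
    have hK := isField_stalk_spec_field (X.residueField x) (Field.toIsField _) pt
    algebraize [((X.fromSpecResidueField x).stalkMap pt).hom]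
    have : Module.FaithfullyFlat (X.presheaf.stalk (X.fromSpecResidueField x pt))
        ((Spec (X.residueField x)).presheaf.stalk pt) :=
      @Module.FaithfullyFlat.of_flat_of_isLocalHom _ _ _ _ _ _ _
        (Flat.stalkMap (X.fromSpecResidueField x) pt) ((X.fromSpecResidueField x).toLRSHom.prop pt)
    have : IsLocalHom ((X.fromSpecResidueField x).stalkMap pt).hom :=
      (X.fromSpecResidueField x).toLRSHom.prop pt
    exact isField_of_injective_isLocalHom hK ((X.fromSpecResidueField x).stalkMap pt).hom
      ‹RingHom.FaithfullyFlat _›.injective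
  rwa [hpt] at key

theorem isRegularLocalRing_of_isField (R : Type*) [CommRing R] (h : IsField R) :
    IsRegularLocalRing R := by
  let _ := h.toField
  infer_instance

variable {S : Scheme.{u}}

/-- A morphism of schemes over `S` is surjective when it is surjective on points of the represented sheaves. -/
theorem surjective_left_of_isSurjectiveMor {V T : Over S} (ψ : V ⟶ T)
    (h : IsSurjectiveMor ((yon S).map ψ)) : Surjective ψ.left := by
  refine ⟨fun t => ?_⟩
  obtain ⟨z, hz⟩ := h (Points.ofScheme T t)
  obtain ⟨v, rfl⟩ := (Points.schemeEquiv V).surjective z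
  change Points.map _ (Points.ofScheme V v) = _ at hz
  rw [map_yon_map_ofScheme] at hz
  exact ⟨v, ofScheme_injective T hz⟩

/-- If a sheaf receives a flat surjective morphism from the spectrum of a field, every etale chart of it is
reduced. -/
theorem isReduced_chart_of_flat_surjective_field {Z : Sp S} {k : Type u} [Field k]
    (str : Spec (CommRingCat.of k) ⟶ S) (p : (yon S).obj (Over.mk str) ⟶ Z)
    (hpf : LocP @Flat p) (hps : IsSurjectiveMor p) {U : Over S} (a : (yon S).obj U ⟶ Z)
    (ha : RepWith @Etale a) : IsReduced U.left := by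
  obtain ⟨W, ψ, fst, sq⟩ := ha.1 p
  have hψ : Etale ψ.left := ha.2 _ _ _ sq
  obtain ⟨φ, rfl⟩ := (yon S).map_surjective fst
  have hφf : Flat φ.left :=
    hpf ((yon S).map ψ) a φ ((repWith_yon_map_iff @Etale ψ).2 hψ) ha sq.w.symm
  have hφs : Surjective φ.left :=
    surjective_left_of_isSurjectiveMor φ (surjective_map_fst_of_isPullback sq hps)
  have hW : IsReduced W.left := isReduced_of_etale_field (k := k) ψ.left
  exact isReduced_of_flat_of_surjective φ.left

/-- A sheaf with a reduced etale surjective chart and exactly one point receives a flat surjective morphism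
from the spectrum of a field. -/
theorem exists_flat_surjective_field_of_reduced {Z : Sp S} {U : Over S} (a : (yon S).obj U ⟶ Z)
    (hae : RepWith @Etale a) (has : RepWith @Surjective a) (hred : IsReduced U.left)
    (z₀ : Points Z) (hsub : Subsingleton (Points Z)) :
    ∃ (k : Type u) (_ : Field k) (str : Spec (CommRingCat.of k) ⟶ S)
      (p : (yon S).obj (Over.mk str) ⟶ Z), LocP @Flat p ∧ IsSurjectiveMor p := by
  obtain ⟨u, -⟩ := surjective_ofPt_of_surjective a has z₀
  have : Nonempty ↥U.left := ⟨u⟩
  obtain ⟨k, hk, g, hg⟩ := exists_flat_field_point U.left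
  let gO : Over.mk (g ≫ U.hom) ⟶ U := Over.homMk g rfl
  refine ⟨k, hk, g ≫ U.hom, (yon S).map gO ≫ a, ?_, ?_⟩
  · have hgO : Flat gO.left := hg
    refine locP_comp etLocal_flat (IsAlgSpace.yon_obj _) _ _ (locP_flat_yon_map gO)
      (H50.locP_of_repWith (fun _ _ g hg => by have := hg; infer_instance)
        (H50.repWith_mono (fun _ _ g hg => by have := hg; infer_instance) hae))
  · intro z
    obtain ⟨y₀⟩ := nonempty_points_spec_field (g ≫ U.hom)
    exact ⟨y₀, Subsingleton.elim _ _⟩

/-- If a sheaf receives a flat surjective locally finitely presented morphism from the spectrum of a field,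
every etale chart of it is locally noetherian. -/
theorem isLocallyNoetherian_chart_of_fppf_field {Z : Sp S} {k : Type u} [Field k]
    (str : Spec (CommRingCat.of k) ⟶ S) (p : (yon S).obj (Over.mk str) ⟶ Z)
    (hpp : LocP @LocallyOfFinitePresentation p) (hpf : LocP @Flat p) (hps : IsSurjectiveMor p)
    {U : Over S} (a : (yon S).obj U ⟶ Z) (ha : RepWith @Etale a) :
    IsLocallyNoetherian U.left := by
  obtain ⟨W, ψ, fst, sq⟩ := ha.1 p
  have hψ : Etale ψ.left := ha.2 _ _ _ sq
  obtain ⟨φ, rfl⟩ := (yon S).map_surjective fst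
  have hφf : Flat φ.left :=
    hpf ((yon S).map ψ) a φ ((repWith_yon_map_iff @Etale ψ).2 hψ) ha sq.w.symm
  have hφp : LocallyOfFinitePresentation φ.left :=
    hpp ((yon S).map ψ) a φ ((repWith_yon_map_iff @Etale ψ).2 hψ) ha sq.w.symm
  have hφs : Surjective φ.left :=
    surjective_left_of_isSurjectiveMor φ (surjective_map_fst_of_isPullback sq hps)
  have hW : IsLocallyNoetherian W.left :=
    LocallyOfFiniteType.isLocallyNoetherian (Y := Spec (CommRingCat.of k)) ψ.left
  exact isLocallyNoetherian_of_flat_surjective_open φ.left φ.left.isOpenMap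

/-- A one point sheaf with a reduced chart and a locally noetherian chart receives a flat surjective locally finitely
presented morphism from the spectrum of a field. -/
theorem exists_fppf_field_of_reduced_locNoeth {Z : Sp S} {U₁ : Over S} (a₁ : (yon S).obj U₁ ⟶ Z)
    (hae₁ : RepWith @Etale a₁) (has₁ : RepWith @Surjective a₁) (hred : IsReduced U₁.left)
    {U₂ : Over S} (a₂ : (yon S).obj U₂ ⟶ Z)
    (hae₂ : RepWith @Etale a₂) (has₂ : RepWith @Surjective a₂) (hn : IsLocallyNoetherian U₂.left)
    (z₀ : Points Z) (hsub : Subsingleton (Points Z)) :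
    ∃ (k : Type u) (_ : Field k) (str : Spec (CommRingCat.of k) ⟶ S)
      (p : (yon S).obj (Over.mk str) ⟶ Z),
      LocP @LocallyOfFinitePresentation p ∧ LocP @Flat p ∧ IsSurjectiveMor p := by
  obtain ⟨k₀, hk₀, str₀, p₀, hpf₀, hps₀⟩ :=
    exists_flat_surjective_field_of_reduced a₁ hae₁ has₁ hred z₀ hsub
  obtain ⟨u, -⟩ := surjective_ofPt_of_surjective a₂ has₂ z₀
  have : Nonempty ↥U₂.left := ⟨u⟩
  obtain ⟨k, hk, g, hg⟩ := exists_lfp_field_point U₂.left
  let gO : Over.mk (g ≫ U₂.hom) ⟶ U₂ := Over.homMk g rfl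
  have hfs := flat_surjective_fieldPt str₀ p₀ hpf₀ hps₀ (g ≫ U₂.hom) ((yon S).map gO ≫ a₂)
  refine ⟨k, hk, g ≫ U₂.hom, (yon S).map gO ≫ a₂, ?_, hfs.1, hfs.2⟩
  have hgO : LocallyOfFinitePresentation gO.left := hg
  exact locP_comp etLocal_lfp (IsAlgSpace.yon_obj _) _ _
    (H50.locP_of_repWith (fun _ _ g hg => by have := hg; infer_instance)
      ((repWith_yon_map_iff @LocallyOfFinitePresentation gO).2 hgO))
    (H50.locP_of_repWith (fun _ _ g hg => by have := hg; infer_instance)
      (H50.repWith_mono (fun _ _ g hg => by have := hg; infer_instance) hae₂))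

/-- If a sheaf receives a flat surjective morphism from the spectrum of a field, all local rings of its etale
charts are fields. -/
theorem isField_stalk_chart_of_flat_surjective_field {Z : Sp S} {k : Type u} [Field k]
    (str : Spec (CommRingCat.of k) ⟶ S) (p : (yon S).obj (Over.mk str) ⟶ Z)
    (hpf : LocP @Flat p) (hps : IsSurjectiveMor p) {U : Over S} (a : (yon S).obj U ⟶ Z)
    (ha : RepWith @Etale a) (u : ↥U.left) : IsField (U.left.presheaf.stalk u) := by
  let g : Spec (CommRingCat.of (U.left.residueField u)) ⟶ U.left := U.left.fromSpecResidueField u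
  let gO : Over.mk (g ≫ U.hom) ⟶ U := Over.homMk g rfl
  have hfs := flat_surjective_fieldPt str p hpf hps (k' := U.left.residueField u) (g ≫ U.hom)
    ((yon S).map gO ≫ a)
  have hfl : Flat gO.left :=
    hfs.1 (𝟙 _) a gO (repWith_id _ _) ha (by simp)
  have : Flat (U.left.fromSpecResidueField u) := hfl
  exact isField_stalk_of_flat_fromSpecResidueField u

end Groth.Agent.H52
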