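import Groth.Agent.H52.EpiFppf

/-!
# Epimorphisms of fppf sheaves are stable under base change; monomorphisms descend along them (helper52)
-/

set_option autoImplicit false
universe u

open CategoryTheory CategoryTheory.Limits AlgebraicGeometry Opposite AlgSp Topology

namespace Groth.Agent.H52

variable {S : Scheme.{u}}

/-- Epimorphisms of sheaves are stable under base change. -/
theorem epi_fst_of_isPullback {P F G H : Sp S} {fst : P ⟶ F} {snd : P ⟶ G} {f : F ⟶ H} {g : G ⟶ H}
    (sq : IsPullback fst snd f g) [Epi g] : Epi fst := by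
  apply H50.epi_of_local_lift
  intro T y
  obtain ⟨Sg, hSg, hlift⟩ := H50.exists_local_lift g (y ≫ f)
  refine ⟨Sg, hSg, fun T' φ hφ => ?_⟩
  obtain ⟨x, hx⟩ := hlift φ hφ
  exact ⟨sq.lift ((yon S).map φ ≫ y) x (by rw [Category.assoc, hx]), sq.lift_fst _ _ _⟩

theorem epi_snd_of_isPullback {P F G H : Sp S} {fst : P ⟶ F} {snd : P ⟶ G} {f : F ⟶ H} {g : G ⟶ H}
    (sq : IsPullback fst snd f g) [Epi f] : Epi snd :=
  epi_fst_of_isPullback sq.flip

/-- Being a monomorphism descends along base change by an epimorphism of sheaves. -/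
theorem mono_of_isPullback_of_epi {P F G H : Sp S} {fst : P ⟶ F} {snd : P ⟶ G} {f : F ⟶ H}
    {g : G ⟶ H} (sq : IsPullback fst snd f g) [Epi g] [Mono snd] : Mono f := by
  constructor
  intro T a b hab
  have sqT := IsPullback.of_hasPullback (a ≫ f) g
  have : Epi (pullback.fst (a ≫ f) g) := epi_fst_of_isPullback sqT
  rw [← cancel_epi (pullback.fst (a ≫ f) g)]
  have ha : (pullback.fst (a ≫ f) g ≫ a) ≫ f = pullback.snd (a ≫ f) g ≫ g := by
    rw [Category.assoc]; exact pullback.condition
  have hb : (pullback.fst (a ≫ f) g ≫ b) ≫ f = pullback.snd (a ≫ f) g ≫ g := by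
    rw [Category.assoc, ← hab]; exact pullback.condition
  have h1 : sq.lift _ _ ha = sq.lift _ _ hb := by
    rw [← cancel_mono snd, sq.lift_snd, sq.lift_snd]
  calc pullback.fst (a ≫ f) g ≫ a = sq.lift _ _ ha ≫ fst := (sq.lift_fst _ _ _).symm
    _ = sq.lift _ _ hb ≫ fst := by rw [h1]
    _ = pullback.fst (a ≫ f) g ≫ b := sq.lift_fst _ _ _

/-- A representable etale surjective morphism is an epimorphism of sheaves. -/
theorem epi_of_etale_surjective {F G : Sp S} (p : F ⟶ G) (hp : RepWith @Etale p)
    (hps : RepWith @Surjective p) : Epi p :=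
  epi_of_repWith_fppf p
    (H50.repWith_mono (fun _ _ g hg => by have := hg; infer_instance) hp)
    (H50.repWith_mono (fun _ _ g hg => by have := hg; infer_instance) hp) hps

end Groth.Agent.H52
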