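import Mathlib

/-!
# Finite type / finite presentation descend on the source along etale faithfully flat maps (helper52)
-/

set_option autoImplicit false
universe u

open CategoryTheory CategoryTheory.Limits AlgebraicGeometry MorphismProperty TensorProduct

namespace Groth.Agent.H52

/-- Cancel a monomorphism at the base of a pullback square. -/
theorem isPullback_of_comp_mono' {C : Type*} [Category C] {P X Y Z W : C} {fst : P ⟶ X}
    {snd : P ⟶ Y} {f : X ⟶ Z} {g : Y ⟶ Z}
    (j : Z ⟶ W) [Mono j] (sq : IsPullback fst snd (f ≫ j) (g ≫ j)) : IsPullback fst snd f g := by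
  have w : fst ≫ f = snd ≫ g := by
    rw [← cancel_mono j, Category.assoc, Category.assoc]
    exact sq.w
  refine ⟨⟨w⟩, ⟨PullbackCone.IsLimit.mk w
    (fun s => sq.lift s.fst s.snd (by rw [← Category.assoc, s.condition, Category.assoc]))
    (fun s => sq.lift_fst _ _ _) (fun s => sq.lift_snd _ _ _)
    (fun s m h1 h2 => sq.hom_ext (h1.trans (sq.lift_fst _ _ _).symm)
      (h2.trans (sq.lift_snd _ _ _).symm))⟩⟩

/-- fpqc descent along a flat, open, quasi-compact map whose image contains the image of `p`. -/
theorem descend_of_range_subset {P : MorphismProperty Scheme.{u}}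
    [P.DescendsAlong (@Surjective ⊓ @Flat ⊓ @QuasiCompact)] [P.RespectsRight @IsOpenImmersion]
    {Y T T' A : Scheme.{u}} {p : Y ⟶ T} {q : T' ⟶ T} [Flat q] [UniversallyOpen q] [QuasiCompact q]
    {fst : A ⟶ Y} {snd : A ⟶ T'} (sq : IsPullback fst snd p q)
    (hr : Set.range p ⊆ Set.range q) (H : P snd) : P p := by
  let W₀ : T.Opens := ⟨Set.range q, q.isOpenMap.isOpen_range⟩
  have hW₀ : Set.range W₀.ι = Set.range q := by simp [W₀]
  let p' : Y ⟶ W₀ := IsOpenImmersion.lift W₀.ι p (by rw [hW₀]; exact hr)
  let q' : T' ⟶ W₀ := IsOpenImmersion.lift W₀.ι q (by rw [hW₀])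
  have hp' : p' ≫ W₀.ι = p := IsOpenImmersion.lift_fac _ _ _
  have hq' : q' ≫ W₀.ι = q := IsOpenImmersion.lift_fac _ _ _
  have hflat : Flat q' := MorphismProperty.of_postcomp (W := @Flat)
    (W' := MorphismProperty.monomorphisms Scheme) q' W₀.ι
    (inferInstanceAs (Mono W₀.ι)) (by rw [hq']; infer_instance)
  have hqc : QuasiCompact q' := MorphismProperty.of_postcomp (W := @QuasiCompact)
    (W' := MorphismProperty.monomorphisms Scheme) q' W₀.ι
    (inferInstanceAs (Mono W₀.ι)) (by rw [hq']; infer_instance)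
  have hsurj : Surjective q' := by
    refine ⟨fun w => ?_⟩
    obtain ⟨t, ht⟩ : W₀.ι w ∈ Set.range q := hW₀ ▸ Set.mem_range_self w
    refine ⟨t, ?_⟩
    apply W₀.ι.injective
    rw [← Scheme.Hom.comp_apply, hq']
    exact ht
  have sq' : IsPullback fst snd p' q' := by
    apply isPullback_of_comp_mono' W₀.ι
    rw [hp', hq']
    exact sq
  have hp : P p' := MorphismProperty.of_isPullback_of_descendsAlong
    (Q := @Surjective ⊓ @Flat ⊓ @QuasiCompact) sq'.flip ⟨⟨hsurj, hflat⟩, hqc⟩ H
  rw [← hp']
  exact MorphismProperty.RespectsRight.postcomp (Q := @IsOpenImmersion) _ inferInstance _ hp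

end Groth.Agent.H52

namespace Groth.Agent.H52

set_option backward.isDefEq.respectTransparency.types false in
/-- If `f ≫ g` is locally of finite presentation and `g` is locally of finite type, then `f` is
locally of finite presentation. -/
theorem lfp_of_comp_of_lft' {X Y Z : Scheme.{u}} (f : X ⟶ Y) (g : Y ⟶ Z)
    (h : LocallyOfFinitePresentation (f ≫ g)) (hg : LocallyOfFiniteType g) :
    LocallyOfFinitePresentation f := by
  wlog hZ : IsAffine Z generalizing X Y Z
  · rw [IsZariskiLocalAtTarget.iff_of_iSup_eq_top (P := @LocallyOfFinitePresentation) _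
      (g.iSup_preimage_eq_top (iSup_affineOpens_eq_top Z))]
    intro U
    have H := IsZariskiLocalAtTarget.restrict h U.1
    rw [morphismRestrict_comp] at H
    exact this _ _ H (IsZariskiLocalAtTarget.restrict hg U.1) inferInstance
  wlog hY : IsAffine Y generalizing X Y
  · rw [IsZariskiLocalAtTarget.iff_of_iSup_eq_top (P := @LocallyOfFinitePresentation) _
      (iSup_affineOpens_eq_top Y)]
    intro U
    have H := HasRingHomProperty.comp_of_isOpenImmersion @LocallyOfFinitePresentation
      (f ⁻¹ᵁ U.1).ι (f ≫ g) h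
    rw [← morphismRestrict_ι_assoc] at H
    exact this _ _ H (inferInstance : LocallyOfFiniteType (U.1.ι ≫ g)) inferInstance
  wlog hX : IsAffine X generalizing X
  · rw [IsZariskiLocalAtSource.iff_of_iSup_eq_top (P := @LocallyOfFinitePresentation) _
      (iSup_affineOpens_eq_top X)]
    intro U
    have H := HasRingHomProperty.comp_of_isOpenImmersion @LocallyOfFinitePresentation
      U.1.ι (f ≫ g) h
    rw [← Category.assoc] at H
    exact this _ H inferInstance
  rw [HasRingHomProperty.iff_of_isAffine (P := @LocallyOfFinitePresentation)] at h ⊢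
  rw [HasRingHomProperty.iff_of_isAffine (P := @LocallyOfFiniteType)] at hg
  rw [Scheme.Hom.comp_appTop, CommRingCat.hom_comp] at h
  exact RingHom.FinitePresentation.of_comp_finiteType _ h hg

/-- A property stable under composition and containing open immersions respects open immersions
on the right. -/
theorem respectsRight_isOpenImmersion_of {P : MorphismProperty Scheme.{u}}
    [P.IsStableUnderComposition]
    (h : ∀ {X Y : Scheme.{u}} (f : X ⟶ Y) [IsOpenImmersion f], P f) :
    P.RespectsRight @IsOpenImmersion :=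
  ⟨fun i hi f hf => P.comp_mem f i hf (@h _ _ i hi)⟩

instance : MorphismProperty.RespectsRight (@LocallyOfFiniteType : MorphismProperty Scheme.{u})
    @IsOpenImmersion :=
  respectsRight_isOpenImmersion_of (fun f hf => inferInstanceAs (LocallyOfFiniteType f))

instance : MorphismProperty.RespectsRight
    (@LocallyOfFinitePresentation : MorphismProperty Scheme.{u}) @IsOpenImmersion :=
  respectsRight_isOpenImmersion_of (fun f hf => inferInstanceAs (LocallyOfFinitePresentation f))

section FinDescent

variable (R A B : Type u) [CommRing R] [CommRing A] [CommRing B] [Algebra R A] [Algebra A B]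
  [Algebra R B] [IsScalarTower R A B]

/-- A finitely presented model of an etale algebra: `B ≃ C` and `Spec C` is the base change of an
etale quasi-compact `T' ⟶ Spec A₁` with `A₁` finitely presented over `R`. -/
theorem exists_fp_model [Algebra.Etale A B] :
    ∃ (A₁ : Type u) (_ : CommRing A₁) (_ : Algebra R A₁) (_ : Algebra A₁ A)
      (_ : IsScalarTower R A₁ A) (_ : Algebra.FinitePresentation R A₁)
      (T' : Scheme.{u}) (q : T' ⟶ Spec (.of A₁)) (_ : Etale q) (_ : QuasiCompact q)
      (C : Type u) (_ : CommRing C) (_ : Algebra A C) (_ : B ≃ₐ[A] C) (r : Spec (.of C) ⟶ T'),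
      IsPullback (Spec.map (CommRingCat.ofHom (algebraMap A C))) r
        (Spec.map (CommRingCat.ofHom (algebraMap A₁ A))) q := by
  obtain ⟨A₀, B₀, _, _, hfg, hét, ⟨e⟩⟩ := Algebra.Etale.exists_subalgebra_fg ℤ A B
  have : Algebra.FiniteType ℤ A₀ := (Subalgebra.fg_iff_finiteType A₀).mp hfg
  have : Algebra.FinitePresentation ℤ A₀ :=
    Algebra.FinitePresentation.of_finiteType.mp inferInstance
  let φ₁ : R ⊗[ℤ] A₀ →ₐ[R] A :=
    Algebra.TensorProduct.lift (Algebra.ofId R A) A₀.val (fun _ _ => .all _ _)
  letI : Algebra (R ⊗[ℤ] A₀) A := φ₁.toRingHom.toAlgebra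
  have : IsScalarTower R (R ⊗[ℤ] A₀) A := .of_algebraMap_eq' φ₁.comp_algebraMap.symm
  let j : A₀ →+* R ⊗[ℤ] A₀ :=
    (Algebra.TensorProduct.includeRight : A₀ →ₐ[ℤ] R ⊗[ℤ] A₀).toRingHom
  have hj : (algebraMap (R ⊗[ℤ] A₀) A).comp j = algebraMap A₀ A := by
    ext a
    simp [j, φ₁, RingHom.algebraMap_toAlgebra]
  let q₀ : Spec (.of B₀) ⟶ Spec (.of A₀) := Spec.map (CommRingCat.ofHom (algebraMap A₀ B₀))
  have hq₀ : Etale q₀ := HasRingHomProperty.Spec_iff.mpr (RingHom.etale_algebraMap.mpr hét)
  let J : Spec (.of (R ⊗[ℤ] A₀)) ⟶ Spec (.of A₀) := Spec.map (CommRingCat.ofHom j)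
  have big := isPullback_SpecMap_of_isPushout _ _ _ _ (CommRingCat.isPushout_tensorProduct A₀ A B₀)
  have hfac : Spec.map (CommRingCat.ofHom (algebraMap A₀ A)) =
      Spec.map (CommRingCat.ofHom (algebraMap (R ⊗[ℤ] A₀) A)) ≫ J := by
    rw [← Spec.map_comp, ← CommRingCat.ofHom_comp, hj]
  have hw : (Spec.map (CommRingCat.ofHom (algebraMap A (A ⊗[A₀] B₀))) ≫
      Spec.map (CommRingCat.ofHom (algebraMap (R ⊗[ℤ] A₀) A))) ≫ J =
      Spec.map (CommRingCat.ofHom (Algebra.TensorProduct.includeRight :
        B₀ →ₐ[A₀] A ⊗[A₀] B₀).toRingHom) ≫ q₀ := by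
    rw [Category.assoc, ← hfac]
    exact big.w
  refine ⟨R ⊗[ℤ] A₀, inferInstance, inferInstance, inferInstance, inferInstance, inferInstance,
    pullback J q₀, pullback.fst J q₀, inferInstance, inferInstance, A ⊗[A₀] B₀, inferInstance,
    inferInstance, e, pullback.lift _ _ hw, ?_⟩
  refine (IsPullback.of_right ?_ (pullback.lift_fst _ _ hw) (IsPullback.of_hasPullback J q₀).flip).flip
  rw [pullback.lift_snd, ← hfac]
  exact big.flip

/-- Finite presentation descends on the source along etale faithfully flat maps. -/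
theorem finitePresentation_of_comp_etale [Algebra.Etale A B] [Module.FaithfullyFlat A B]
    [Algebra.FinitePresentation R B] : Algebra.FinitePresentation R A := by
  obtain ⟨A₁, _, _, _, _, hfp, T', q, hq, hqc, C, _, _, e, r, sq⟩ := exists_fp_model R A B
  letI : Algebra R C := ((algebraMap A C).comp (algebraMap R A)).toAlgebra
  have : IsScalarTower R A C := .of_algebraMap_eq' rfl
  have : Algebra.FinitePresentation R C := .equiv (e.restrictScalars R)
  have : Module.FaithfullyFlat A C := .of_linearEquiv _ _ e.symm.toLinearEquiv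
  have h1 : LocallyOfFinitePresentation (Spec.map (CommRingCat.ofHom (algebraMap R C))) :=
    HasRingHomProperty.Spec_iff.mpr (RingHom.finitePresentation_algebraMap.mpr inferInstance)
  have h2 : LocallyOfFinitePresentation (Spec.map (CommRingCat.ofHom (algebraMap R A₁))) :=
    HasRingHomProperty.Spec_iff.mpr (RingHom.finitePresentation_algebraMap.mpr hfp)
  have h3 : r ≫ q ≫ Spec.map (CommRingCat.ofHom (algebraMap R A₁)) =
      Spec.map (CommRingCat.ofHom (algebraMap R C)) := by
    rw [← Category.assoc, ← sq.w, Category.assoc, ← Spec.map_comp, ← Spec.map_comp,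
      ← CommRingCat.ofHom_comp, ← CommRingCat.ofHom_comp, ← IsScalarTower.algebraMap_eq,
      ← IsScalarTower.algebraMap_eq]
  have hr : LocallyOfFinitePresentation r :=
    lfp_of_comp_of_lft' r _ (h3 ▸ h1) inferInstance
  have hsurj : Surjective (Spec.map (CommRingCat.ofHom (algebraMap A C))) :=
    ((flat_and_surjective_SpecMap_iff _).mpr
      (RingHom.faithfullyFlat_algebraMap_iff.mpr inferInstance)).2
  have hrange : Set.range (Spec.map (CommRingCat.ofHom (algebraMap A₁ A))) ⊆ Set.range q := by
    rintro _ ⟨y, rfl⟩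
    obtain ⟨c, rfl⟩ := hsurj.surj y
    refine ⟨r c, ?_⟩
    rw [← Scheme.Hom.comp_apply, ← sq.w, Scheme.Hom.comp_apply]
  have hp : LocallyOfFinitePresentation (Spec.map (CommRingCat.ofHom (algebraMap A₁ A))) :=
    descend_of_range_subset sq hrange hr
  have : Algebra.FinitePresentation A₁ A :=
    RingHom.finitePresentation_algebraMap.mp (HasRingHomProperty.Spec_iff.mp hp)
  exact Algebra.FinitePresentation.trans R A₁ A

/-- Finite type descends on the source along etale faithfully flat maps. -/
theorem finiteType_of_comp_etale [Algebra.Etale A B] [Module.FaithfullyFlat A B]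
    [Algebra.FiniteType R B] : Algebra.FiniteType R A := by
  obtain ⟨A₁, _, _, _, _, hfp, T', q, hq, hqc, C, _, _, e, r, sq⟩ := exists_fp_model R A B
  letI : Algebra R C := ((algebraMap A C).comp (algebraMap R A)).toAlgebra
  have : IsScalarTower R A C := .of_algebraMap_eq' rfl
  have : Algebra.FiniteType R C := .equiv inferInstance (e.restrictScalars R)
  have : Module.FaithfullyFlat A C := .of_linearEquiv _ _ e.symm.toLinearEquiv
  have h1 : LocallyOfFiniteType (Spec.map (CommRingCat.ofHom (algebraMap R C))) :=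
    HasRingHomProperty.Spec_iff.mpr (RingHom.finiteType_algebraMap.mpr inferInstance)
  have h3 : r ≫ q ≫ Spec.map (CommRingCat.ofHom (algebraMap R A₁)) =
      Spec.map (CommRingCat.ofHom (algebraMap R C)) := by
    rw [← Category.assoc, ← sq.w, Category.assoc, ← Spec.map_comp, ← Spec.map_comp,
      ← CommRingCat.ofHom_comp, ← CommRingCat.ofHom_comp, ← IsScalarTower.algebraMap_eq,
      ← IsScalarTower.algebraMap_eq]
  have hr : LocallyOfFiniteType r := by
    have : LocallyOfFiniteType (r ≫ q ≫ Spec.map (CommRingCat.ofHom (algebraMap R A₁))) :=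
      h3 ▸ h1
    exact locallyOfFiniteType_of_comp r (q ≫ Spec.map (CommRingCat.ofHom (algebraMap R A₁)))
  have hsurj : Surjective (Spec.map (CommRingCat.ofHom (algebraMap A C))) :=
    ((flat_and_surjective_SpecMap_iff _).mpr
      (RingHom.faithfullyFlat_algebraMap_iff.mpr inferInstance)).2
  have hrange : Set.range (Spec.map (CommRingCat.ofHom (algebraMap A₁ A))) ⊆ Set.range q := by
    rintro _ ⟨y, rfl⟩
    obtain ⟨c, rfl⟩ := hsurj.surj y
    refine ⟨r c, ?_⟩
    rw [← Scheme.Hom.comp_apply, ← sq.w, Scheme.Hom.comp_apply]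
  have hp : LocallyOfFiniteType (Spec.map (CommRingCat.ofHom (algebraMap A₁ A))) :=
    descend_of_range_subset sq hrange hr
  have : Algebra.FiniteType A₁ A :=
    RingHom.finiteType_algebraMap.mp (HasRingHomProperty.Spec_iff.mp hp)
  have : Algebra.FiniteType R A₁ := inferInstance
  exact Algebra.FiniteType.trans ‹Algebra.FiniteType R A₁› ‹Algebra.FiniteType A₁ A›

end FinDescent

theorem _root_.RingHom.FiniteType.of_comp_etale_faithfullyFlat {R A B : Type u} [CommRing R]
    [CommRing A] [CommRing B] (φ : R →+* A) (ψ : A →+* B) (hψ : ψ.Etale)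
    (hψ' : ψ.FaithfullyFlat) (h : (ψ.comp φ).FiniteType) : φ.FiniteType := by
  algebraize [φ, ψ, ψ.comp φ]
  have : Module.FaithfullyFlat A B := hψ'
  have : Algebra.FiniteType R B := h
  exact finiteType_of_comp_etale R A B

theorem _root_.RingHom.FinitePresentation.of_comp_etale_faithfullyFlat {R A B : Type u}
    [CommRing R] [CommRing A] [CommRing B] (φ : R →+* A) (ψ : A →+* B) (hψ : ψ.Etale)
    (hψ' : ψ.FaithfullyFlat) (h : (ψ.comp φ).FinitePresentation) : φ.FinitePresentation := by
  algebraize [φ, ψ, ψ.comp φ]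
  have : Module.FaithfullyFlat A B := hψ'
  have : Algebra.FinitePresentation R B := h
  exact finitePresentation_of_comp_etale R A B

end Groth.Agent.H52
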