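import Mathlib
import Groth.Agent.H52.SrcFin

/-!
# Smoothness descends on the source along etale faithfully flat maps (helper52)
-/

set_option autoImplicit false
universe u

open TensorProduct Polynomial

namespace Groth.Agent.H52

/-- Lifting a standard etale pair along a surjection (the unit `g` is replaced by a power). -/
theorem exists_standardEtalePair_lift {P A : Type*} [CommRing P] [CommRing A] (π : P →+* A)
    (hπ : Function.Surjective π) (𝔓 : StandardEtalePair A) :
    ∃ (𝔔 : StandardEtalePair P) (n : ℕ), 𝔔.f.map π = 𝔓.f ∧ 𝔔.g.map π = 𝔓.g ^ (n + 1) := by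
  obtain ⟨p₁, p₂, n, e⟩ := 𝔓.cond
  obtain ⟨F, hF, -, hFm⟩ := Polynomial.lifts_and_natDegree_eq_and_monic
    ((Polynomial.mem_lifts _).2 (Polynomial.map_surjective π hπ 𝔓.f)) 𝔓.monic_f
  obtain ⟨G₀, hG₀⟩ := Polynomial.map_surjective π hπ 𝔓.g
  obtain ⟨P₁, hP₁⟩ := Polynomial.map_surjective π hπ p₁
  obtain ⟨P₂, hP₂⟩ := Polynomial.map_surjective π hπ p₂
  refine ⟨⟨F, hFm, (derivative F * P₁ + F * P₂) * G₀, P₁ * G₀, P₂ * G₀, 1, by ring⟩, n, hF, ?_⟩
  have hd : Polynomial.map π (derivative F) = derivative 𝔓.f := by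
    rw [← Polynomial.derivative_map, hF]
  simp only [Polynomial.map_mul, Polynomial.map_add, hF, hG₀, hP₁, hP₂, hd]
  rw [e]
  ring

theorem hasMap_iff_of_pow {A : Type*} [CommRing A] (𝔓 𝔓' : StandardEtalePair A) (n : ℕ)
    (hf : 𝔓'.f = 𝔓.f) (hg : 𝔓'.g = 𝔓.g ^ (n + 1)) {C : Type*} [CommRing C] [Algebra A C]
    (x : C) : 𝔓'.HasMap x ↔ 𝔓.HasMap x := by
  simp only [StandardEtalePair.HasMap, hf, hg, map_pow]
  rw [isUnit_pow_iff (Nat.succ_ne_zero n)]

/-- The standard etale algebras of `(f, g)` and `(f, g ^ (n + 1))` are isomorphic. -/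
noncomputable def ringEquivOfPow {A : Type*} [CommRing A] (𝔓 𝔓' : StandardEtalePair A) (n : ℕ)
    (hf : 𝔓'.f = 𝔓.f) (hg : 𝔓'.g = 𝔓.g ^ (n + 1)) : 𝔓'.Ring ≃ₐ[A] 𝔓.Ring :=
  AlgEquiv.ofAlgHom (𝔓'.lift 𝔓.X ((hasMap_iff_of_pow 𝔓 𝔓' n hf hg _).2 𝔓.hasMap_X))
    (𝔓.lift 𝔓'.X ((hasMap_iff_of_pow 𝔓 𝔓' n hf hg _).1 𝔓'.hasMap_X))
    (by ext; simp) (by ext; simp)

section H1

open Algebra Algebra.Extension

variable (R S : Type u) [CommRing R] [CommRing S] [Algebra R S]

set_option backward.isDefEq.respectTransparency false in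
/-- For a standard etale algebra `𝔔.Ring` over the polynomial ring `P` presenting `S`, the base
change `T = S ⊗[P] 𝔔.Ring` satisfies `T ⊗[S] H¹(L_{S/R}) = 0` as soon as `T` is formally smooth
over `R`. -/
theorem subsingleton_tensor_h1Cotangent_of_lift
    (𝔔 : StandardEtalePair (Generators.self R S).toExtension.Ring)
    [FormallySmooth R (S ⊗[(Generators.self R S).toExtension.Ring] 𝔔.Ring)] :
    Subsingleton ((S ⊗[(Generators.self R S).toExtension.Ring] 𝔔.Ring) ⊗[S]
      H1Cotangent R S) := by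
  let P : Extension R S := (Generators.self R S).toExtension
  letI : Algebra R 𝔔.Ring := ((algebraMap P.Ring 𝔔.Ring).comp (algebraMap R P.Ring)).toAlgebra
  haveI : IsScalarTower R P.Ring 𝔔.Ring := .of_algebraMap_eq' rfl
  let incl : 𝔔.Ring →ₐ[P.Ring] S ⊗[P.Ring] 𝔔.Ring := Algebra.TensorProduct.includeRight
  let fQ : 𝔔.Ring →ₐ[R] S ⊗[P.Ring] 𝔔.Ring :=
    { toRingHom := incl.toRingHom
      commutes' := fun r => by
        change (1 : S) ⊗ₜ[P.Ring] (algebraMap P.Ring 𝔔.Ring (algebraMap R P.Ring r)) = _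
        rw [Algebra.algebraMap_eq_smul_one (A := 𝔔.Ring), ← TensorProduct.smul_tmul,
          ← Algebra.algebraMap_eq_smul_one, ← IsScalarTower.algebraMap_apply R P.Ring S]
        rfl }
  have hfQ : ∀ q, fQ q = (1 : S) ⊗ₜ[P.Ring] q := fun q => rfl
  have hsurj : Function.Surjective fQ := by
    intro t
    induction t with
    | zero => exact ⟨0, map_zero _⟩
    | add x y hx hy =>
      obtain ⟨a, rfl⟩ := hx
      obtain ⟨b, rfl⟩ := hy
      exact ⟨a + b, map_add _ _ _⟩
    | tmul s q =>
      obtain ⟨p, rfl⟩ := P.algebraMap_surjective s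
      refine ⟨p • q, ?_⟩
      rw [hfQ, Algebra.algebraMap_eq_smul_one (A := S), TensorProduct.smul_tmul]
  let Q : Extension R (S ⊗[P.Ring] 𝔔.Ring) := .ofSurjective fQ hsurj
  let f : P.Hom Q :=
    { toRingHom := algebraMap P.Ring 𝔔.Ring
      toRingHom_algebraMap := fun x => rfl
      algebraMap_toRingHom := fun x => by
        change (1 : S) ⊗ₜ[P.Ring] (algebraMap P.Ring 𝔔.Ring x) = _
        rw [Algebra.algebraMap_eq_smul_one (A := 𝔔.Ring), ← TensorProduct.smul_tmul,
          ← Algebra.algebraMap_eq_smul_one]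
        rfl }
  haveI : FormallySmooth R P.Ring := inferInstanceAs (FormallySmooth R (MvPolynomial _ _))
  haveI : FormallySmooth P.Ring 𝔔.Ring := inferInstance
  haveI : FormallySmooth R Q.Ring := .comp R P.Ring 𝔔.Ring
  haveI : Module.Flat S (S ⊗[P.Ring] 𝔔.Ring) := inferInstance
  letI : Algebra P.Ring Q.Ring := (inferInstance : Algebra P.Ring 𝔔.Ring)
  have H₁ : f.toRingHom.FormallyEtale :=
    RingHom.formallyEtale_algebraMap.mpr (inferInstanceAs (FormallyEtale P.Ring 𝔔.Ring))
  have H₂ : Function.Bijective ((f.mapKer rfl).liftBaseChange Q.Ring) := by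
    let F : 𝔔.Ring ⊗[P.Ring] P.ker →ₗ[𝔔.Ring] Q.ker := (f.mapKer rfl).liftBaseChange 𝔔.Ring
    let ι : P.ker →ₗ[P.Ring] P.Ring := Submodule.subtype P.ker
    have hι : Function.Injective (ι.lTensor 𝔔.Ring) :=
      Module.Flat.lTensor_preserves_injective_linearMap ι Subtype.val_injective
    have hF : ∀ w, (show 𝔔.Ring from (F w).1) =
        TensorProduct.rid P.Ring 𝔔.Ring (ι.lTensor 𝔔.Ring w) := by
      intro w
      induction w with
      | zero => simp
      | add x y hx hy => simp only [map_add, Submodule.coe_add, hx, hy]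
      | tmul q i =>
        simp [F, ι, Algebra.smul_def, mul_comm]
        rfl
    have hex : Function.Exact (ι.lTensor 𝔔.Ring)
        ((Algebra.linearMap P.Ring S).lTensor 𝔔.Ring) := by
      refine lTensor_exact 𝔔.Ring ?_ P.algebraMap_surjective
      intro x
      simp [ι, Extension.ker, RingHom.mem_ker]
    change Function.Bijective F
    constructor
    · intro w w' h
      apply hι
      apply (TensorProduct.rid P.Ring 𝔔.Ring).injective
      rw [← hF, ← hF, h]
    · rintro ⟨z, hz⟩
      have hz0 : (1 : S) ⊗ₜ[P.Ring] z = 0 := hz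
      have hz' : ((Algebra.linearMap P.Ring S).lTensor 𝔔.Ring) (z ⊗ₜ[P.Ring] (1 : P.Ring)) = 0 := by
        have := congr(TensorProduct.comm P.Ring S 𝔔.Ring $hz0)
        simpa using this
      obtain ⟨w, hw⟩ := (hex _).1 hz'
      refine ⟨w, Subtype.ext ?_⟩
      refine (hF w).trans ?_
      rw [hw]
      simp
  exact (Extension.tensorH1CotangentOfFormallyEtale f rfl H₁ H₂ ≪≫ₗ
    Extension.equivH1CotangentOfFormallySmooth _).toEquiv.subsingleton

end H1

/-- If `T` is flat over `A` and `T ⊗[A] M = 0`, then the annihilator of any element of `M`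
generates the unit ideal of `T`. -/
theorem map_torsionOf_eq_top_of_subsingleton_tensor {A T M : Type*} [CommRing A] [CommRing T]
    [Algebra A T] [Module.Flat A T] [AddCommGroup M] [Module A M] (h : Subsingleton (T ⊗[A] M))
    (x : M) : (Ideal.torsionOf A M x).map (algebraMap A T) = ⊤ := by
  have h1 : Function.Injective ((Submodule.span A {x}).subtype.lTensor T) :=
    Module.Flat.lTensor_preserves_injective_linearMap _ Subtype.val_injective
  have h2 : Subsingleton (T ⊗[A] (Submodule.span A {x})) := h1.subsingleton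
  have e1 : (A ⧸ Ideal.torsionOf A M x) ≃ₗ[A] Submodule.span A {x} :=
    Ideal.quotTorsionOfEquivSpanSingleton A M x
  have h3 : Subsingleton (T ⊗[A] (A ⧸ Ideal.torsionOf A M x)) :=
    (TensorProduct.congr (LinearEquiv.refl A T) e1).toEquiv.subsingleton
  have h4 : Subsingleton (T ⧸ (Ideal.torsionOf A M x • (⊤ : Submodule A T))) :=
    (TensorProduct.tensorQuotEquivQuotSMul T (Ideal.torsionOf A M x)).symm.toEquiv.subsingleton
  rw [Submodule.Quotient.subsingleton_iff] at h4
  rw [Ideal.eq_top_iff_one, ← Submodule.restrictScalars_mem A, ← Ideal.smul_top_eq_map, h4]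
  trivial

section Main

variable (R A B : Type u) [CommRing R] [CommRing A] [CommRing B] [Algebra R A] [Algebra A B]
  [Algebra R B] [IsScalarTower R A B]

set_option backward.isDefEq.respectTransparency false in
/-- Smoothness descends on the source along etale faithfully flat maps. -/
theorem smooth_of_comp_etale [Algebra.Etale A B] [Module.FaithfullyFlat A B]
    [Algebra.Smooth R B] : Algebra.Smooth R A := by
  have hfp : Algebra.FinitePresentation R A := finitePresentation_of_comp_etale R A B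
  refine ⟨?_, hfp⟩
  rw [Algebra.formallySmooth_iff]
  constructor
  · let e' : B ⊗[A] Ω[A⁄R] ≃ₗ[B] Ω[B⁄R] :=
      KaehlerDifferential.tensorKaehlerEquivOfFormallyEtale R A B
    have : Module.Flat B (B ⊗[A] Ω[A⁄R]) := .of_linearEquiv e'
    have : Module.Flat A Ω[A⁄R] := Module.Flat.of_flat_tensorProduct _ _ B
    exact Module.Flat.projective_of_finitePresentation
  · by_contra hne
    rw [not_subsingleton_iff_nontrivial] at hne
    obtain ⟨x, hx⟩ := exists_ne (0 : Algebra.H1Cotangent R A)
    have hI : Ideal.torsionOf A (Algebra.H1Cotangent R A) x ≠ ⊤ := by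
      rw [Ne, Ideal.torsionOf_eq_top_iff]
      exact hx
    obtain ⟨𝔪, h𝔪, hI𝔪⟩ := Ideal.exists_le_maximal _ hI
    have : 𝔪.IsPrime := h𝔪.isPrime
    obtain ⟨𝔮, h𝔮p, h𝔮o⟩ := Ideal.exists_isPrime_liesOver_of_faithfullyFlat (B := B) 𝔪
    have : Algebra.IsEtaleAt A 𝔮 := inferInstance
    obtain ⟨g, hg𝔮, hstd⟩ := Algebra.IsEtaleAt.exists_isStandardEtale (R := A) 𝔮
    obtain ⟨𝔓⟩ := hstd.nonempty_standardEtalePresentation
    obtain ⟨𝔔, n, hf, hg⟩ := exists_standardEtalePair_lift
      (algebraMap (Algebra.Generators.self R A).toExtension.Ring A)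
      (Algebra.Generators.self R A).toExtension.algebraMap_surjective 𝔓.P
    let taut : StandardEtalePresentation (Algebra.Generators.self R A).toExtension.Ring 𝔔.Ring :=
      ⟨𝔔, 𝔔.X, 𝔔.hasMap_X, by
        simpa [StandardEtalePair.lift_X_left] using Function.bijective_id⟩
    let e₁ : A ⊗[(Algebra.Generators.self R A).toExtension.Ring] 𝔔.Ring ≃ₐ[A]
        (𝔔.map (algebraMap (Algebra.Generators.self R A).toExtension.Ring A)).Ring :=
      (taut.baseChange (T := A)).equivRing
    let e₂ : (𝔔.map (algebraMap (Algebra.Generators.self R A).toExtension.Ring A)).Ring ≃ₐ[A]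
        𝔓.P.Ring := ringEquivOfPow 𝔓.P (𝔔.map _) n hf hg
    let e : A ⊗[(Algebra.Generators.self R A).toExtension.Ring] 𝔔.Ring ≃ₐ[A]
        Localization.Away g := (e₁.trans e₂).trans 𝔓.equivRing.symm
    have : Algebra.FormallySmooth R (Localization.Away g) := inferInstance
    have : Algebra.FormallySmooth R
        (A ⊗[(Algebra.Generators.self R A).toExtension.Ring] 𝔔.Ring) :=
      .of_equiv (e.symm.restrictScalars R)
    have hsub := subsingleton_tensor_h1Cotangent_of_lift R A 𝔔
    have hmap := map_torsionOf_eq_top_of_subsingleton_tensor hsub x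
    have hmap' : (Ideal.torsionOf A (Algebra.H1Cotangent R A) x).map
        (algebraMap A (Localization.Away g)) = ⊤ := by
      have h1 : (algebraMap A (Localization.Away g)) =
          (e.toAlgHom.toRingHom).comp (algebraMap A _) := by
        ext a
        exact (e.commutes a).symm
      rw [h1, ← Ideal.map_map, hmap, Ideal.map_top]
    have hle : (Ideal.torsionOf A (Algebra.H1Cotangent R A) x).map
        (algebraMap A (Localization.Away g)) ≤ 𝔮.map (algebraMap B (Localization.Away g)) := by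
      rw [IsScalarTower.algebraMap_eq A B (Localization.Away g), ← Ideal.map_map]
      apply Ideal.map_mono
      rw [Ideal.map_le_iff_le_comap]
      refine hI𝔪.trans (le_of_eq ?_)
      exact h𝔮o.over
    have hne' : 𝔮.map (algebraMap B (Localization.Away g)) ≠ ⊤ := by
      rw [IsLocalization.map_algebraMap_ne_top_iff_disjoint (Submonoid.powers g)]
      rw [Set.disjoint_left]
      rintro _ ⟨k, rfl⟩ hk
      exact hg𝔮 (h𝔮p.mem_of_pow_mem k hk)
    exact hne' (top_le_iff.mp (hmap' ▸ hle))

end Main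

theorem _root_.RingHom.Smooth.of_comp_etale_faithfullyFlat {R A B : Type u}
    [CommRing R] [CommRing A] [CommRing B] (φ : R →+* A) (ψ : A →+* B) (hψ : ψ.Etale)
    (hψ' : ψ.FaithfullyFlat) (h : (ψ.comp φ).Smooth) : φ.Smooth := by
  algebraize [φ, ψ, ψ.comp φ]
  have : Module.FaithfullyFlat A B := hψ'
  have : Algebra.Smooth R B := h
  exact RingHom.smooth_algebraMap.mpr (smooth_of_comp_etale R A B)

end Groth.Agent.H52
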