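import Groth.Agent.H52.LocPChart
import Groth.Agent.H52.SrcSmooth
import Groth.Agent.H50.Descent

/-!
# The classes of morphisms that are etale local on source and target (helper52)
-/

set_option autoImplicit false
universe u

open CategoryTheory CategoryTheory.Limits AlgebraicGeometry MorphismProperty
open AlgSp

namespace Groth.Agent.H52

theorem EtLocal.of_goodProp {P : MorphismProperty Scheme.{u}} (h : Groth.Agent.H50.GoodProp P)
    (hs : SrcLocal P) : EtLocal P :=
  ⟨h.bc, h.mult, h.etale, hs⟩

theorem etLocal_lft : EtLocal (@LocallyOfFiniteType : MorphismProperty Scheme.{u}) :=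
  .of_goodProp Groth.Agent.H50.goodProp_lft srcLocal_lft

theorem etLocal_lfp : EtLocal (@LocallyOfFinitePresentation : MorphismProperty Scheme.{u}) :=
  .of_goodProp Groth.Agent.H50.goodProp_lfp srcLocal_lfp

theorem etLocal_flat : EtLocal (@Flat : MorphismProperty Scheme.{u}) :=
  .of_goodProp Groth.Agent.H50.goodProp_flat srcLocal_flat

theorem etLocal_etale : EtLocal (@Etale : MorphismProperty Scheme.{u}) :=
  .of_goodProp Groth.Agent.H50.goodProp_etale srcLocal_etale

theorem etLocal_lqf :
    EtLocal ((@LocallyQuasiFinite : MorphismProperty Scheme.{u}) ⊓ @LocallyOfFiniteType) :=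
  .of_goodProp Groth.Agent.H50.goodProp_lqf (srcLocal_lqf.inf srcLocal_lft)

theorem etLocal_unramified :
    EtLocal ((@LocallyOfFiniteType : MorphismProperty Scheme.{u}) ⊓ @FormallyUnramified) :=
  .of_goodProp Groth.Agent.H50.goodProp_unramified (srcLocal_lft.inf srcLocal_formallyUnramified)

theorem srcLocal_smooth : SrcLocal (@Smooth : MorphismProperty Scheme.{u}) :=
  fun e h he hs H => srcDescent_of_ringHom (P := @Smooth)
    (fun φ ψ h1 h2 h3 => RingHom.Smooth.of_comp_etale_faithfullyFlat φ ψ h1 h2 h3) e h he hs H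

theorem etLocal_smooth : EtLocal (@Smooth : MorphismProperty Scheme.{u}) :=
  .of_goodProp Groth.Agent.H50.goodProp_smooth srcLocal_smooth

/-- The seven classes of the source are etale local on source and target. -/
theorem etLocal_of_list (P : MorphismProperty Scheme.{u})
    (hP : P = @LocallyOfFiniteType ∨ P = @LocallyOfFinitePresentation ∨ P = @Flat ∨ P = @Smooth ∨
      P = @Etale ∨
      (∀ ⦃A B : Scheme.{u}⦄ (g : A ⟶ B), P g ↔ (LocallyQuasiFinite g ∧ LocallyOfFiniteType g)) ∨
      (∀ ⦃A B : Scheme.{u}⦄ (g : A ⟶ B), P g ↔ (LocallyOfFiniteType g ∧ FormallyUnramified g))) :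
    EtLocal P := by
  rcases hP with rfl | rfl | rfl | rfl | rfl | h | h
  · exact etLocal_lft
  · exact etLocal_lfp
  · exact etLocal_flat
  · exact etLocal_smooth
  · exact etLocal_etale
  · obtain rfl : P = _ := MorphismProperty.ext P
      ((@LocallyQuasiFinite : MorphismProperty Scheme.{u}) ⊓ @LocallyOfFiniteType)
      (fun A B g => h g)
    exact etLocal_lqf
  · obtain rfl : P = _ := MorphismProperty.ext P
      ((@LocallyOfFiniteType : MorphismProperty Scheme.{u}) ⊓ @FormallyUnramified)
      (fun A B g => h g)
    exact etLocal_unramified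

end Groth.Agent.H52
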