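import Groth.Agent.H52.Points
import Groth.Prelude.Def_AlgSp4

/-!
# helper52: products with representables and surjectivity on points
-/

universe u

open CategoryTheory CategoryTheory.Limits AlgebraicGeometry Opposite AlgSp

namespace Groth.Agent.H52

set_option backward.isDefEq.respectTransparency false in
/-- The square exhibiting `X ⨯ A` as the pullback of `X ⨯ B ⟶ B` along `φ : A ⟶ B`. -/
theorem isPullback_prod_map_id_snd {C : Type*} [Category C] {A B : C} (φ : A ⟶ B) (X : C)
    [HasBinaryProduct X A] [HasBinaryProduct X B] :
    IsPullback (prod.map (𝟙 X) φ) prod.snd prod.snd φ where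
  w := by simp
  isLimit' := ⟨PullbackCone.isLimitAux' _ (fun s ↦ by
    refine ⟨prod.lift (s.fst ≫ prod.fst) s.snd, ?_, ?_, ?_⟩
    · ext
      · simp
      · simp [PullbackCone.condition]
    · simp
    · intro m h₁ h₂
      dsimp at m h₁ h₂ ⊢
      apply Limits.prod.hom_ext
      · simp [← h₁]
      · simpa using h₂)⟩

variable {S : Scheme.{u}}

/-- If `g : T' ⟶ T` is surjective on underlying spaces, then `F ⨯ h_{T'} ⟶ F ⨯ h_T` is surjective on points. -/
theorem surjective_map_prod_map_id {T T' : Over S} (g : T' ⟶ T)
    (hg : Function.Surjective (fun t : ↥T'.left => g.left t)) (F : Sp S) :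
    Function.Surjective (Points.map (prod.map (𝟙 F) ((yon S).map g))) := by
  intro x
  obtain ⟨t', ht'⟩ := hg (Points.toScheme T (Points.map prod.snd x))
  simp only at ht'
  have hy : Points.map (prod.snd : F ⨯ (yon S).obj T ⟶ _) x =
      Points.map ((yon S).map g) (Points.ofScheme T' t') := by
    have := Points.map_yon_map_apply g t'
    change Points.map ((yon S).map g) (Points.ofScheme T' t') = Points.ofScheme T (g.left t') at this
    rw [this, ht', Points.ofScheme_toScheme]
  obtain ⟨z, hz, -⟩ := exists_point_of_isPullback (isPullback_prod_map_id_snd ((yon S).map g) F) x _ hy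
  exact ⟨z, hz⟩

end Groth.Agent.H52
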