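import Groth.Agent.H52.Charts
import Groth.Agent.H52.ProdBC

/-!
# helper52: fibre products of algebraic spaces

* `isPullback_of_comp_mono`: cancel a monomorphism at the base of a pullback square.
* `representable_of_comp_mono`, `representable_prod_map`, `representable_prod_lift`.
* `representable_to_pullback`, `representable_diag_of_isPullback`.
* `isPullback_lift_of_comp_left/right`: `X' ×_H Y ⟶ X ×_H Y` is a base change of `X' ⟶ X`.
* `exists_chart_of_isPullback`: charts of a fibre product.
* `isAlgSpace_of_isPullback`: a fibre product of algebraic spaces over a sheaf with representable diagonal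
  is an algebraic space.
-/

universe u

open CategoryTheory CategoryTheory.Limits AlgebraicGeometry Opposite AlgSp

namespace Groth.Agent.H52

section Cat

variable {C : Type*} [Category C]

/-- Cancel a monomorphism at the base of a pullback square. -/
theorem isPullback_of_comp_mono {P X Y Z W : C} {fst : P ⟶ X} {snd : P ⟶ Y} {f : X ⟶ Z} {g : Y ⟶ Z}
    (j : Z ⟶ W) [Mono j] (sq : IsPullback fst snd (f ≫ j) (g ≫ j)) : IsPullback fst snd f g := by
  have w : fst ≫ f = snd ≫ g := by
    rw [← cancel_mono j, Category.assoc, Category.assoc]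
    exact sq.w
  refine ⟨⟨w⟩, ⟨PullbackCone.IsLimit.mk w
    (fun s => sq.lift s.fst s.snd (by rw [← Category.assoc, s.condition, Category.assoc]))
    (fun s => sq.lift_fst _ _ _) (fun s => sq.lift_snd _ _ _)
    (fun s m h1 h2 => sq.hom_ext (h1.trans (sq.lift_fst _ _ _).symm)
      (h2.trans (sq.lift_snd _ _ _).symm))⟩⟩

set_option backward.isDefEq.respectTransparency false in
/-- The square exhibiting `A ⨯ X` as the pullback of `B ⨯ X ⟶ B` along `φ : A ⟶ B`. -/
theorem isPullback_prod_map_id_fst {A B : C} (φ : A ⟶ B) (X : C)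
    [HasBinaryProduct A X] [HasBinaryProduct B X] :
    IsPullback (prod.map φ (𝟙 X)) prod.fst prod.fst φ where
  w := by simp
  isLimit' := ⟨PullbackCone.isLimitAux' _ (fun s ↦ by
    refine ⟨prod.lift s.snd (s.fst ≫ prod.snd), ?_, ?_, ?_⟩
    · ext
      · simp [PullbackCone.condition]
      · simp
    · simp
    · intro m h₁ h₂
      dsimp at m h₁ h₂ ⊢
      apply Limits.prod.hom_ext
      · simpa using h₂
      · simp [← h₁])⟩

/-- `X' ×_H Y ⟶ X ×_H Y` is a base change of `X' ⟶ X`. -/
theorem isPullback_lift_of_comp_left {X X' Y H P P' : C} {f : X ⟶ H} {g : Y ⟶ H} {fst : P ⟶ X}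
    {snd : P ⟶ Y} (sq : IsPullback fst snd f g) {p : X' ⟶ X} {fst' : P' ⟶ X'} {snd' : P' ⟶ Y}
    (sq' : IsPullback fst' snd' (p ≫ f) g) (l : P' ⟶ P) (h1 : l ≫ fst = fst' ≫ p)
    (h2 : l ≫ snd = snd') : IsPullback l fst' fst p := by
  subst h2
  exact (IsPullback.of_bot sq' h1.symm sq).flip

/-- `X ×_H Y' ⟶ X ×_H Y` is a base change of `Y' ⟶ Y`. -/
theorem isPullback_lift_of_comp_right {X Y Y' H P P' : C} {f : X ⟶ H} {g : Y ⟶ H} {fst : P ⟶ X}
    {snd : P ⟶ Y} (sq : IsPullback fst snd f g) {q : Y' ⟶ Y} {fst' : P' ⟶ X} {snd' : P' ⟶ Y'}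
    (sq' : IsPullback fst' snd' f (q ≫ g)) (l : P' ⟶ P) (h1 : l ≫ fst = fst')
    (h2 : l ≫ snd = snd' ≫ q) : IsPullback l snd' snd q :=
  isPullback_lift_of_comp_left sq.flip sq'.flip l h2 h1

end Cat

variable {S : Scheme.{u}}

/-- If `c ≫ j` is representable and `j` is a monomorphism then `c` is representable. -/
theorem representable_of_comp_mono {F G H : Sp S} (c : F ⟶ G) (j : G ⟶ H) [Mono j]
    (h : Representable (c ≫ j)) : Representable c := by
  intro T d
  obtain ⟨W, snd, fst, sq⟩ := h (d ≫ j)
  exact ⟨W, snd, fst, isPullback_of_comp_mono j sq⟩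

theorem representable_prod_map {A A' B B' : Sp S} (a : A ⟶ A') (b : B ⟶ B')
    (ha : Representable a) (hb : Representable b) : Representable (prod.map a b) := by
  have h1 : Representable (prod.map a (𝟙 B)) :=
    MorphismProperty.of_isPullback (isPullback_prod_map_id_fst a B).flip ha
  have h2 : Representable (prod.map (𝟙 A') b) :=
    MorphismProperty.of_isPullback (isPullback_prod_map_id_snd b A').flip hb
  have : prod.map a b = prod.map a (𝟙 B) ≫ prod.map (𝟙 A') b := by simp
  rw [this]
  exact MorphismProperty.comp_mem _ _ _ h1 h2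

theorem representable_prod_lift {T : Over S} {X Y : Sp S} (a : (yon S).obj T ⟶ X)
    (b : (yon S).obj T ⟶ Y) (ha : Representable a) (hb : Representable b) :
    Representable (prod.lift a b) := by
  have : prod.lift a b = Limits.diag _ ≫ prod.map a b := by simp
  rw [this]
  exact MorphismProperty.comp_mem _ _ _ (IsAlgSpace.yon_obj T).diag (representable_prod_map a b ha hb)

/-- Every map from a scheme to a fibre product of sheaves, all of whose maps from schemes are representable, is
representable. -/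
theorem representable_to_pullback {X Y H P : Sp S} {f : X ⟶ H} {g : Y ⟶ H} {fst : P ⟶ X}
    {snd : P ⟶ Y} (sq : IsPullback fst snd f g)
    (hX : ∀ ⦃T : Over S⦄ (a : (yon S).obj T ⟶ X), Representable a)
    (hY : ∀ ⦃T : Over S⦄ (a : (yon S).obj T ⟶ Y), Representable a)
    ⦃T : Over S⦄ (c : (yon S).obj T ⟶ P) : Representable c := by
  have : Mono (prod.lift fst snd) := ⟨fun a b hab => by
    have h1 := congr($hab ≫ prod.fst)
    have h2 := congr($hab ≫ prod.snd)
    simp only [Category.assoc, prod.lift_fst, prod.lift_snd] at h1 h2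
    exact sq.hom_ext h1 h2⟩
  apply representable_of_comp_mono c (prod.lift fst snd)
  rw [prod.comp_lift]
  exact representable_prod_lift _ _ (hX _) (hY _)

theorem representable_diag_of_isPullback {X Y H P : Sp S} {f : X ⟶ H} {g : Y ⟶ H} {fst : P ⟶ X}
    {snd : P ⟶ Y} (sq : IsPullback fst snd f g)
    (hX : ∀ ⦃T : Over S⦄ (a : (yon S).obj T ⟶ X), Representable a)
    (hY : ∀ ⦃T : Over S⦄ (a : (yon S).obj T ⟶ Y), Representable a) :
    Representable (Limits.diag P) :=
  Functor.relativelyRepresentable.diag_of_map_from_obj (representable_to_pullback sq hX hY)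

/-- Charts of a fibre product `P = X ×_H Y` over a sheaf `H` with representable diagonal: for maps `p : h_U ⟶ X`,
`q : h_V ⟶ Y` from schemes, the scheme `W = U ×_H V` maps to `P`, and this map has every property (stable under
base change and composition) that `p` and `q` have. -/
theorem exists_chart_of_isPullback {X Y H P : Sp S} {f : X ⟶ H} {g : Y ⟶ H} {fst : P ⟶ X}
    {snd : P ⟶ Y} (sq : IsPullback fst snd f g) (hH : Representable (Limits.diag H))
    {U V : Over S} (p : (yon S).obj U ⟶ X) (q : (yon S).obj V ⟶ Y) :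
    ∃ (W : Over S) (a : W ⟶ U) (b : W ⟶ V) (r : (yon S).obj W ⟶ P),
      r ≫ fst = (yon S).map a ≫ p ∧ r ≫ snd = (yon S).map b ≫ q ∧
      IsPullback ((yon S).map a) ((yon S).map b) (p ≫ f) (q ≫ g) ∧
      ∀ (Q : MorphismProperty Scheme.{u}) [Q.IsStableUnderBaseChange] [Q.IsMultiplicative],
        RepWith Q p → RepWith Q q → RepWith Q r := by
  have hpf : Representable (p ≫ f) := Functor.relativelyRepresentable.of_diag hH _
  obtain ⟨W, b, a', sqW⟩ := hpf (q ≫ g)
  obtain ⟨a, rfl⟩ := (yon S).map_surjective a'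
  have sqQ := IsPullback.of_hasPullback f (q ≫ g)
  let l1 : (yon S).obj W ⟶ pullback f (q ≫ g) :=
    sqQ.lift ((yon S).map a ≫ p) ((yon S).map b) (by simpa using sqW.w)
  have sq1 : IsPullback l1 ((yon S).map a) (pullback.fst f (q ≫ g)) p :=
    isPullback_lift_of_comp_left sqQ sqW l1 (sqQ.lift_fst _ _ _) (sqQ.lift_snd _ _ _)
  let l2 : pullback f (q ≫ g) ⟶ P :=
    sq.lift (pullback.fst f (q ≫ g)) (pullback.snd f (q ≫ g) ≫ q) (by simp [pullback.condition])
  have sq2 : IsPullback l2 (pullback.snd f (q ≫ g)) snd q :=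
    isPullback_lift_of_comp_right sq sqQ l2 (sq.lift_fst _ _ _) (sq.lift_snd _ _ _)
  refine ⟨W, a, b, l1 ≫ l2, ?_, ?_, sqW, ?_⟩
  · rw [Category.assoc, sq.lift_fst, sqQ.lift_fst]
  · rw [Category.assoc, sq.lift_snd, ← Category.assoc, sqQ.lift_snd]
  · intro Q _ _ hp hq
    have := AlgSp.repWith_isMultiplicative (S := S) Q
    have := AlgSp.repWith_isStableUnderBaseChange (S := S) Q
    exact (RepWith Q).comp_mem _ _ (MorphismProperty.of_isPullback sq1.flip hp)
      (MorphismProperty.of_isPullback sq2.flip hq)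

/-- A fibre product of algebraic spaces over a sheaf with representable diagonal is an algebraic space. -/
theorem isAlgSpace_of_isPullback {X Y H P : Sp S} {f : X ⟶ H} {g : Y ⟶ H} {fst : P ⟶ X}
    {snd : P ⟶ Y} (sq : IsPullback fst snd f g) (hH : Representable (Limits.diag H))
    (hX : IsAlgSpace X) (hY : IsAlgSpace Y) : IsAlgSpace P := by
  obtain ⟨U, p, hpe, hps⟩ := hX.atlas
  obtain ⟨V, q, hqe, hqs⟩ := hY.atlas
  obtain ⟨W, a, b, r, -, -, -, hr⟩ := exists_chart_of_isPullback sq hH p q
  exact ⟨representable_diag_of_isPullback sq (fun _ a => hX.representable_from_yon a)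
    (fun _ a => hY.representable_from_yon a), W, r, hr @Etale hpe hqe, hr @Surjective hps hqs⟩

end Groth.Agent.H52
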