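import Groth.Agent.H52.LocPOps
import Groth.Agent.H52.FibProd

/-!
# Base change of `AlgSp.LocP` (helper52)
-/

set_option autoImplicit false
universe u

open CategoryTheory CategoryTheory.Limits AlgebraicGeometry MorphismProperty
open AlgSp

namespace Groth.Agent.H52

variable {S : Scheme.{u}}

/-- If `f₀ : h_U ⟶ Y` has `P` etale locally, then its base change to any scheme `T ⟶ Y` has `P`. -/
theorem P_snd_of_locP {P : MorphismProperty Scheme.{u}} (hP : EtLocal P) {Y : Sp S}
    (hY : IsAlgSpace Y) {U T W : Over S} (f₀ : (yon S).obj U ⟶ Y) (t : (yon S).obj T ⟶ Y)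
    (a : W ⟶ U) (b : W ⟶ T) (sqW : IsPullback ((yon S).map a) ((yon S).map b) f₀ t)
    (hf : LocP P f₀) : P b.left := by
  obtain ⟨V, v, hve, hvs⟩ := hY.atlas
  have := hP.bc
  have := AlgSp.repWith_isStableUnderBaseChange (S := S) P
  -- T_V
  have sqT := hve.rep.isPullback' t
  have htse : Etale (hve.rep.snd t).left := hve.property_snd t
  -- U_V
  have sqU := hve.rep.isPullback' f₀
  have huse : Etale (hve.rep.snd f₀).left := hve.property_snd f₀
  have hPU : P (hve.rep.fst' f₀).left :=
    hf ((yon S).map (hve.rep.snd f₀)) v _ ((repWith_yon_map_iff _ _).2 huse) hve sqU.w.symm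
  -- W_V
  have sqWV := hve.rep.isPullback' ((yon S).map b ≫ t)
  have hwse : Etale (hve.rep.snd ((yon S).map b ≫ t)).left := hve.property_snd _
  have hwss : Surjective (hve.rep.snd ((yon S).map b ≫ t)).left := hvs.property_snd _
  set fW := hve.rep.fst' ((yon S).map b ≫ t) with hfW
  set sW := hve.rep.snd ((yon S).map b ≫ t) with hsW
  -- m : W_V ⟶ T_V
  have hm0 : (yon S).map fW ≫ v = (yon S).map (sW ≫ b) ≫ t := by
    rw [Functor.map_comp, Category.assoc]; exact sqWV.w
  obtain ⟨m, hm⟩ := (yon S).map_surjective (sqT.lift _ _ hm0)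
  have hm₁ : (yon S).map m ≫ (yon S).map (hve.rep.fst' t) = (yon S).map fW := by
    rw [hm, sqT.lift_fst]
  have hm₂ : (yon S).map m ≫ (yon S).map (hve.rep.snd t) = (yon S).map sW ≫ (yon S).map b := by
    rw [hm, sqT.lift_snd, Functor.map_comp]
  -- n : W_V ⟶ U_V
  have hn0 : (yon S).map fW ≫ v = (yon S).map (sW ≫ a) ≫ f₀ := by
    rw [Functor.map_comp, Category.assoc, sqW.w]; exact sqWV.w
  obtain ⟨n, hn⟩ := (yon S).map_surjective (sqU.lift _ _ hn0)
  have hn₁ : (yon S).map n ≫ (yon S).map (hve.rep.fst' f₀) = (yon S).map fW := by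
    rw [hn, sqU.lift_fst]
  have hn₂ : (yon S).map n ≫ (yon S).map (hve.rep.snd f₀) = (yon S).map sW ≫ (yon S).map a := by
    rw [hn, sqU.lift_snd, Functor.map_comp]
  -- (L') : W_V = U_V ×_U W
  have sqL' : IsPullback ((yon S).map n) ((yon S).map sW) ((yon S).map (hve.rep.snd f₀))
      ((yon S).map a) := by
    refine IsPullback.of_right ?_ hn₂ sqU
    rw [hn₁, sqW.w]
    exact sqWV
  -- outer : W_V = T ×_Y U_V
  have sqO : IsPullback ((yon S).map sW ≫ (yon S).map b) ((yon S).map n) t
      ((yon S).map (hve.rep.snd f₀) ≫ f₀) := sqL'.flip.paste_horiz sqW.flip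
  -- the square W_V = T_V ×_V U_V
  have sqM : IsPullback ((yon S).map m) ((yon S).map n) ((yon S).map (hve.rep.fst' t))
      ((yon S).map (hve.rep.fst' f₀)) := by
    refine IsPullback.of_right ?_ (hm₁.trans hn₁.symm) sqT.flip
    rw [hm₂, sqU.w]
    exact sqO
  have hPm : P m.left := by
    have h1 : RepWith P ((yon S).map (hve.rep.fst' f₀)) := (repWith_yon_map_iff _ _).2 hPU
    have h2 : RepWith P ((yon S).map m) := MorphismProperty.of_isPullback sqM.flip h1
    exact (repWith_yon_map_iff _ _).1 h2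
  have h3 : P (m.left ≫ (hve.rep.snd t).left) := hP.postcomp _ _ htse hPm
  have h4 : m ≫ hve.rep.snd t = sW ≫ b := by
    apply (yon S).map_injective
    rw [Functor.map_comp, Functor.map_comp, hm₂]
  have h5 : P (sW.left ≫ b.left) := by
    rw [← Over.comp_left, ← h4, Over.comp_left]
    exact h3
  exact SrcLocal.of_single (P := P) hP.src _ _ hwse hwss h5

/-- `LocP P` is stable under base change, for `P` etale local on the source-and-target, when the source of
the map and the two bases are algebraic spaces. -/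
theorem locP_baseChange {P : MorphismProperty Scheme.{u}} (hP : EtLocal P) {X Y Y' X' : Sp S}
    (hX : IsAlgSpace X) (hY : IsAlgSpace Y) (hY' : IsAlgSpace Y')
    {f : X ⟶ Y} {g : Y' ⟶ Y} {fst : X' ⟶ X} {f' : X' ⟶ Y'}
    (sq : IsPullback fst f' f g) (hf : LocP P f) : LocP P f' := by
  obtain ⟨U, p, hpe, hps⟩ := hX.atlas
  obtain ⟨V, q, hqe, hqs⟩ := hY'.atlas
  obtain ⟨W, a, b, r, -, hr₂, sqW, hr⟩ := exists_chart_of_isPullback sq hY.diag p q
  have hb : P b.left := P_snd_of_locP hP hY (p ≫ f) (q ≫ g) a b sqW (locP_chart_comp hf p hpe)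
  exact locP_of_one_chart hP f' r q b (hr @Etale hpe hqe) (hr @Surjective hps hqs) hqe hr₂ hb

end Groth.Agent.H52
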