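import Groth.Agent.H52.Points

/-!
# helper52: decent sheaves, representable morphisms and base change
-/

universe u

open CategoryTheory CategoryTheory.Limits AlgebraicGeometry Opposite AlgSp

namespace Groth.Agent.H52

variable {S : Scheme.{u}}

/-- the class of any point of `h_{Spec K}` mapped by `q.toHom` is the class of `q` -/
theorem map_toHom_ofScheme {G : Sp S} (q : FieldPt G) (s : ↥(Spec (CommRingCat.of q.K))) :
    Points.map q.toHom (Points.ofScheme q.pt s) = Points.mk q := by
  rw [← Points.ofPt_eq_map_ofScheme, Points.ofPt_toHom]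

/-- Let `f : F ⟶ G` be representable and `x` a point of `F` whose image is the class of a field-valued point `q`
with `q.toHom` a monomorphism.  Then `x` is the class of a field-valued point `p` with `p.toHom` a monomorphism,
which is moreover representable quasi-compact if `q.toHom` is. -/
theorem exists_mono_rep_of_representable {F G : Sp S} (f : F ⟶ G) (hf : Representable f)
    (x : Points F) (q : FieldPt G) (hq : Points.mk q = Points.map f x) (hm : Mono q.toHom) :
    ∃ p : FieldPt F, Points.mk p = x ∧ Mono p.toHom ∧
      (RepWith @QuasiCompact q.toHom → RepWith @QuasiCompact p.toHom) := by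
  obtain ⟨V, snd, fst, sq⟩ := hf q.toHom
  let s : ↥(Spec (CommRingCat.of q.K)) := IsLocalRing.closedPoint q.K
  obtain ⟨z, hz1, -⟩ := exists_point_of_isPullback sq x (Points.ofScheme q.pt s)
    (by rw [map_toHom_ofScheme, hq])
  set v := Points.toScheme V z with hv
  have hzv : Points.ofScheme V v = z := Points.ofScheme_toScheme V z
  refine ⟨FieldPt.ofPt fst v, ?_, ?_, ?_⟩
  · change Points.ofPt fst v = x
    rw [Points.ofPt_eq_map_ofScheme, hzv, hz1]
  · rw [FieldPt.toHom_ofPt]
    have h1 : Mono ((yon S).map (Over.homMk (V.left.fromSpecResidueField v) rfl :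
        Over.mk (V.left.fromSpecResidueField v ≫ V.hom) ⟶ V)) := by
      have : Mono (Over.homMk (V.left.fromSpecResidueField v) rfl :
        Over.mk (V.left.fromSpecResidueField v ≫ V.hom) ⟶ V).left := by
        change Mono (V.left.fromSpecResidueField v)
        infer_instance
      exact mono_yon_map _
    have h2 : Mono fst := PullbackCone.mono_fst_of_is_pullback_of_mono sq.isLimit
    exact @mono_comp _ _ _ _ _ _ h1 _ h2
  · intro hqc
    rw [FieldPt.toHom_ofPt]
    have := AlgSp.repWith_isMultiplicative (S := S) @QuasiCompact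
    have := AlgSp.repWith_isStableUnderBaseChange (S := S) @QuasiCompact
    refine (RepWith @QuasiCompact).comp_mem _ _ ?_ ?_
    · refine (repWith_yon_map_iff _ _).2 ?_
      change QuasiCompact (V.left.fromSpecResidueField v)
      have : Finite ↥(Spec (V.left.residueField v)) :=
        inferInstanceAs (Finite (PrimeSpectrum (V.left.residueField v)))
      exact quasiCompact_of_finite _
    · exact MorphismProperty.of_isPullback sq.flip hqc

/-- If `f : F ⟶ G` is representable and `G` is decent, then `F` is decent. -/
theorem isDecent_of_representable {F G : Sp S} (f : F ⟶ G) (hf : Representable f)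
    (hG : IsDecent G) : IsDecent F := by
  intro x
  obtain ⟨q, hq, hm, hqc⟩ := hG (Points.map f x)
  obtain ⟨p, hp, hpm, hpq⟩ := exists_mono_rep_of_representable f hf x q hq hm
  exact ⟨p, hp, hpm, hpq hqc⟩

/-- The base change of a decent morphism along a morphism from a decent sheaf has decent source. -/
theorem isDecent_of_isDecentMor_baseChange {F G G' F' : Sp S} (f : F ⟶ G) (hf : IsDecentMor f)
    (g : G' ⟶ G) (fst : F' ⟶ F) (snd : F' ⟶ G') (sq : IsPullback fst snd f g)
    (hG' : IsDecent G') : IsDecent F' := by
  intro x
  obtain ⟨q, hq, hm, hqc⟩ := hG' (Points.map snd x)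
  have sq' := IsPullback.of_hasPullback snd q.toHom
  have hdec : IsDecent (pullback snd q.toHom) :=
    hf (q.toHom ≫ g) (pullback.fst snd q.toHom ≫ fst) (pullback.snd snd q.toHom)
      (sq'.paste_horiz sq)
  let s : ↥(Spec (CommRingCat.of q.K)) := IsLocalRing.closedPoint q.K
  obtain ⟨z, hz1, -⟩ := exists_point_of_isPullback sq' x (Points.ofScheme q.pt s)
    (by rw [map_toHom_ofScheme, hq])
  obtain ⟨p, hp, hpm, hpq⟩ := hdec z
  refine ⟨p.map (pullback.fst snd q.toHom), ?_, ?_, ?_⟩
  · rw [← Points.map_mk, hp, hz1]
  · rw [FieldPt.toHom_map]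
    have h2 : Mono (pullback.fst snd q.toHom) := inferInstance
    exact @mono_comp _ _ _ _ _ _ hpm _ h2
  · rw [FieldPt.toHom_map]
    have := AlgSp.repWith_isMultiplicative (S := S) @QuasiCompact
    have := AlgSp.repWith_isStableUnderBaseChange (S := S) @QuasiCompact
    exact (RepWith @QuasiCompact).comp_mem _ _ hpq (MorphismProperty.of_isPullback sq'.flip hqc)

end Groth.Agent.H52
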