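import Groth.Agent.H52.QC
import Groth.Agent.H52.Decent
import Groth.Agent.H50.Descent
import Mathlib.AlgebraicGeometry.Morphisms.QuasiFinite
import Mathlib.AlgebraicGeometry.Morphisms.UniversallyOpen

/-!
# Fibres of etale charts over points represented by quasi-compact monomorphisms (helper52)

Specializations in fibres of etale charts, lifting of generalizations, the Kolmogorov property of decent spaces.
-/

set_option autoImplicit false
universe u

open CategoryTheory CategoryTheory.Limits AlgebraicGeometry Opposite AlgSp Topology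

namespace Groth.Agent.H52

variable {S : Scheme.{u}}

/-- The fibre of a chart over the class of a field-valued point `p` is the image of the base change of `p`. -/
theorem fibre_eq_range_of_isPullback {X : Sp S} (p : FieldPt X) {U T : Over S}
    (a : (yon S).obj U ⟶ X) {ψ : T ⟶ U} {φ : T ⟶ p.pt}
    (sq : IsPullback ((yon S).map φ) ((yon S).map ψ) p.toHom a) :
    Points.ofPt a ⁻¹' {Points.mk p} = Set.range ψ.left := by
  ext u₀
  simp only [Set.mem_preimage, Set.mem_singleton_iff, Set.mem_range]
  constructor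
  · intro h
    let s₀ : ↥p.pt.left := (IsLocalRing.closedPoint p.K : PrimeSpectrum p.K)
    have h' : Points.ofPt p.toHom s₀ = Points.ofPt a u₀ := by rw [Points.ofPt_toHom, h]
    obtain ⟨v, -, hv⟩ := exists_of_ofPt_eq_ofPt sq s₀ u₀ h'
    exact ⟨v, hv⟩
  · rintro ⟨t, rfl⟩
    rw [← ofPt_yon_map_comp, ← sq.w, ofPt_yon_map_comp, Points.ofPt_toHom]

/-- A quasi-compact scheme etale over the spectrum of a field is finite. -/
theorem finite_of_etale_field_of_compact {K : Type u} [Field K] {T : Scheme.{u}} [CompactSpace ↥T]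
    (φ : T ⟶ Spec (CommRingCat.of K)) [Etale φ] : Finite ↥T := by
  have : LocallyQuasiFinite φ := H50.locallyQuasiFinite_of_unramified φ
  have : QuasiCompact φ := inferInstance
  have h := φ.finite_preimage_singleton (IsLocalRing.closedPoint K : PrimeSpectrum K)
  refine Set.finite_univ_iff.1 (h.subset fun t _ => ?_)
  exact Subsingleton.elim (α := PrimeSpectrum K) _ _

/-- The fibre of an etale chart from a quasi-compact scheme over a point represented by a representable
quasi-compact field point is finite. -/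
theorem finite_fibre_of_quasiCompact {X : Sp S} (p : FieldPt X) (hq : RepWith @QuasiCompact p.toHom)
    {U : Over S} [CompactSpace ↥U.left] (a : (yon S).obj U ⟶ X) (ha : RepWith @Etale a) :
    (Points.ofPt a ⁻¹' {Points.mk p}).Finite := by
  obtain ⟨T, ψ, fst, sq⟩ := hq.1 a
  have hψ : QuasiCompact ψ.left := hq.2 _ _ _ sq
  obtain ⟨φ, rfl⟩ := (yon S).map_surjective fst
  have hφ : Etale φ.left := ha.2 _ _ _ sq.flip
  have : CompactSpace ↥T.left := QuasiCompact.compactSpace_of_compactSpace ψ.left
  have : Finite ↥T.left := finite_of_etale_field_of_compact (K := p.K) φ.left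
  rw [fibre_eq_range_of_isPullback p a sq]
  exact Set.finite_range _

/-- In a finite fibre of an etale chart there are no nontrivial specializations. -/
theorem eq_of_specializes_of_finite_fibre {X : Sp S} (x : Points X) {U : Over S}
    (a : (yon S).obj U ⟶ X) (ha : RepWith @Etale a) (hfin : (Points.ofPt a ⁻¹' {x}).Finite)
    (u u' : ↥U.left) (hu : Points.ofPt a u = x) (hu' : Points.ofPt a u' = x) (hs : u' ⤳ u) :
    u = u' := by
  obtain ⟨R, t, fst, sq⟩ := ha.1 a
  have ht : Etale t.left := ha.2 _ _ _ sq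
  obtain ⟨s, rfl⟩ := (yon S).map_surjective fst
  have hs' : Etale s.left := ha.2 _ _ _ sq.flip
  let _ : Preorder ↥U.left := specializationPreorder ↥U.left
  obtain ⟨e, he⟩ := hfin.exists_maximal ⟨u, hu⟩
  have heF : Points.ofPt a e = x := he.1
  have hmin : ∀ y, Points.ofPt a y = x → y ⤳ e → y = e := by
    intro y hy hye
    have h1 : e ⤳ y := he.2 hy hye
    exact (hye.antisymm h1).eq
  obtain ⟨r, hr1, hr2⟩ := exists_of_ofPt_eq_ofPt sq u e (hu.trans heF.symm)
  have hgen : GeneralizingMap s.left := Flat.generalizingMap s.left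
  obtain ⟨r₂, hr₂r, hr₂s⟩ := hgen (a := r) (b := u') (by rw [hr1]; exact hs)
  have hte : t.left r₂ = e := by
    apply hmin
    · rw [← ofPt_yon_map_comp, ← sq.w, ofPt_yon_map_comp, hr₂s, hu']
    · rw [← hr2]; exact hr₂r.map t.left.continuous
  have : LocallyQuasiFinite t.left := H50.locallyQuasiFinite_of_unramified t.left
  have hdisc : DiscreteTopology ↥(t.left ⁻¹' {e}) :=
    (t.left.isDiscrete_preimage_singleton e).to_subtype
  have hrr : r₂ = r := by
    have h1 : (⟨r₂, hte⟩ : ↥(t.left ⁻¹' {e})) ⤳ ⟨r, hr2⟩ :=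
      Topology.IsInducing.subtypeVal.specializes_iff.1 hr₂r
    exact congrArg Subtype.val h1.eq
  rw [← hr1, ← hr₂s, hrr]

/-- Restriction of a chart to an affine open neighbourhood of a point. -/
theorem exists_affine_restriction {X : Sp S} {U : Over S} (a : (yon S).obj U ⟶ X)
    (ha : RepWith @Etale a) (u : ↥U.left) :
    ∃ (V : U.left.Opens) (_ : IsAffineOpen V) (u₀ : ↥(overOpen U V).left),
      (overOpenHom U V).left u₀ = u ∧ RepWith @Etale ((yon S).map (overOpenHom U V) ≫ a) ∧
      ∀ u' : ↥U.left, u' ⤳ u → ∃ u₀' : ↥(overOpen U V).left,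
        (overOpenHom U V).left u₀' = u' ∧ u₀' ⤳ u₀ := by
  obtain ⟨_, ⟨V, hV, rfl⟩, huV, -⟩ :=
    U.left.isBasis_affineOpens.exists_subset_of_mem_open (Set.mem_univ u) isOpen_univ
  refine ⟨V, hV, (⟨u, huV⟩ : ↥V), rfl,
    repWith_yon_map_comp @Etale _ (show Etale (Scheme.Opens.ι V) from inferInstance) a ha, ?_⟩
  intro u' hu'
  have hu'V : u' ∈ V := hu'.mem_open V.isOpen huV
  refine ⟨(⟨u', hu'V⟩ : ↥V), rfl, ?_⟩
  exact (Topology.IsInducing.subtypeVal.specializes_iff).1 hu'

/-- Generalizations lift along etale charts to points represented by representable quasi-compact field points. -/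
theorem exists_generization_of_specializes {X : Sp S} (x : Points X) (p : FieldPt X)
    (h : Points.mk p ⤳ x) (hq : RepWith @QuasiCompact p.toHom)
    {U : Over S} (a : (yon S).obj U ⟶ X) (ha : RepWith @Etale a) (u : ↥U.left)
    (hu : Points.ofPt a u = x) :
    ∃ u' : ↥U.left, u' ⤳ u ∧ Points.ofPt a u' = Points.mk p := by
  obtain ⟨V, hV, u₀, hu₀, ha₀, -⟩ := exists_affine_restriction a ha u
  have : CompactSpace ↥(overOpen U V).left := isCompact_iff_compactSpace.1 hV.isCompact
  have hfin := finite_fibre_of_quasiCompact p hq _ ha₀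
  have hopen := isOpenMap_ofPt_of_etale _ ha₀
  have h1 : u₀ ∈ Points.ofPt ((yon S).map (overOpenHom U V) ≫ a) ⁻¹' closure {Points.mk p} := by
    rw [Set.mem_preimage, ofPt_yon_map_comp, hu₀, hu]
    exact specializes_iff_mem_closure.1 h
  have h2 := hopen.preimage_closure_subset_closure_preimage h1
  rw [← Set.biUnion_of_singleton (Points.ofPt ((yon S).map (overOpenHom U V) ≫ a) ⁻¹'
    {Points.mk p}), hfin.closure_biUnion] at h2
  simp only [Set.mem_iUnion] at h2
  obtain ⟨u₀', hu₀'F, hu₀'⟩ := h2
  have hsp : u₀' ⤳ u₀ := specializes_iff_mem_closure.2 hu₀'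
  refine ⟨(overOpenHom U V).left u₀', ?_, ?_⟩
  · rw [← hu₀]
    exact hsp.map (overOpenHom U V).left.continuous
  · have := hu₀'F
    rw [Set.mem_preimage, Set.mem_singleton_iff, ofPt_yon_map_comp] at this
    exact this

/-- If the fibres over `x` of all affine etale charts are finite, there are no nontrivial specializations in the
fibre over `x` of any etale chart. -/
theorem eq_of_specializes_of_affine_finite_fibre {X : Sp S} (x : Points X)
    (hx : ∀ (V : Over S) (b : (yon S).obj V ⟶ X), IsAffine V.left → RepWith @Etale b →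
      (Points.ofPt b ⁻¹' {x}).Finite)
    {U : Over S} (a : (yon S).obj U ⟶ X) (ha : RepWith @Etale a) (u u' : ↥U.left)
    (hu : Points.ofPt a u = x) (hu' : Points.ofPt a u' = x) (hs : u' ⤳ u) : u = u' := by
  obtain ⟨V, hV, u₀, hu₀, ha₀, hgen⟩ := exists_affine_restriction a ha u
  obtain ⟨u₀', hu₀', hsp⟩ := hgen u' hs
  have hfin := hx (overOpen U V) _ (show IsAffine V.toScheme from hV) ha₀
  have h1 : Points.ofPt ((yon S).map (overOpenHom U V) ≫ a) u₀ = x := by
    rw [ofPt_yon_map_comp, hu₀, hu]
  have h2 : Points.ofPt ((yon S).map (overOpenHom U V) ≫ a) u₀' = x := by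
    rw [ofPt_yon_map_comp, hu₀', hu']
  have := eq_of_specializes_of_finite_fibre x _ ha₀ hfin u₀ u₀' h1 h2 hsp
  rw [← hu₀, ← hu₀', this]

/-- The fibres of affine etale charts of a decent space are finite. -/
theorem finite_fibre_of_isDecent {X : Sp S} (hX : IsDecent X) (x : Points X) (V : Over S)
    (b : (yon S).obj V ⟶ X) (hV : IsAffine V.left) (hb : RepWith @Etale b) :
    (Points.ofPt b ⁻¹' {x}).Finite := by
  obtain ⟨p, rfl, -, hq⟩ := hX x
  exact finite_fibre_of_quasiCompact p hq b hb

/-- In a decent space there are no nontrivial specializations in the fibres of etale charts. -/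
theorem eq_of_specializes_of_isDecent {X : Sp S} (hX : IsDecent X)
    {U : Over S} (a : (yon S).obj U ⟶ X) (ha : RepWith @Etale a) (u u' : ↥U.left)
    (he : Points.ofPt a u = Points.ofPt a u') (hs : u' ⤳ u) : u = u' :=
  eq_of_specializes_of_affine_finite_fibre (Points.ofPt a u) (finite_fibre_of_isDecent hX _) a ha u u'
    rfl he.symm hs

/-- Generalizations lift along flat morphisms to points represented by representable quasi-compact field
points. -/
theorem exists_generization_of_flat {X Y : Sp S} (hY : IsAlgSpace Y) (hX : IsAlgSpace X) (f : Y ⟶ X)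
    (hf : LocP @Flat f) (x : Points X) (p : FieldPt X) (h : Points.mk p ⤳ x)
    (hq : RepWith @QuasiCompact p.toHom) (y : Points Y) (hy : Points.map f y = x) :
    ∃ y' : Points Y, y' ⤳ y ∧ Points.map f y' = Points.mk p := by
  obtain ⟨U, a, hae, has⟩ := hX.atlas
  obtain ⟨V₀, b₀, hbe, hbs⟩ := hY.atlas
  obtain ⟨W, ψ, fst, sq⟩ := hae.1 (b₀ ≫ f)
  have hψe : Etale ψ.left := hae.2 _ _ _ sq
  have hψs : Surjective ψ.left := has.2 _ _ _ sq
  obtain ⟨h', rfl⟩ := (yon S).map_surjective fst
  have hbe' : RepWith @Etale ((yon S).map ψ ≫ b₀) := repWith_yon_map_comp @Etale _ hψe b₀ hbe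
  have comm : ((yon S).map ψ ≫ b₀) ≫ f = (yon S).map h' ≫ a := by
    rw [Category.assoc]; exact sq.w.symm
  have hfl : Flat h'.left := hf _ a h' hbe' hae comm
  obtain ⟨v₀, rfl⟩ := surjective_ofPt_of_surjective b₀ hbs y
  obtain ⟨w, rfl⟩ := hψs.surj v₀
  have hu : Points.ofPt a (h'.left w) = x := by
    rw [← ofPt_yon_map_comp, ← comm, ← hy, Points.map_ofPt, Category.assoc, ofPt_yon_map_comp]
  obtain ⟨u', hu's, hu'p⟩ := exists_generization_of_specializes x p h hq a hae _ hu
  obtain ⟨w', hw's, hw'⟩ := (Flat.generalizingMap h'.left) (a := w) (b := u') hu's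
  refine ⟨Points.ofPt ((yon S).map ψ ≫ b₀) w', ?_, ?_⟩
  · rw [← ofPt_yon_map_comp]
    exact hw's.map (Points.continuous_ofPt _)
  · rw [Points.map_ofPt, comm, ofPt_yon_map_comp, hw', hu'p]

/-- The space of points of a decent algebraic space is Kolmogorov. -/
theorem t0Space_of_isDecent {X : Sp S} (hXa : IsAlgSpace X) (hX : IsDecent X) :
    T0Space (Points X) := by
  refine ⟨fun x y hxy => ?_⟩
  obtain ⟨U, a, hae, has⟩ := hXa.atlas
  obtain ⟨u, rfl⟩ := surjective_ofPt_of_surjective a has x
  obtain ⟨py, rfl, -, hqy⟩ := hX y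
  obtain ⟨px, hpx, -, hqx⟩ := hX (Points.ofPt a u)
  obtain ⟨u', hu's, hu'⟩ := exists_generization_of_specializes _ py hxy.specializes' hqy a hae u rfl
  have h2 : Points.mk px ⤳ Points.mk py := by rw [hpx]; exact hxy.specializes
  obtain ⟨u'', hu''s, hu''⟩ := exists_generization_of_specializes _ px h2 hqx a hae u' hu'
  have h3 : u = u'' := eq_of_specializes_of_isDecent hX a hae u u'' (by rw [hu'', hpx])
    (hu''s.trans hu's)
  have h4 : u ⤳ u' := by rw [h3]; exact hu''s
  have h5 : u = u' := (h4.antisymm hu's).eq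
  rw [← hu', ← h5]

end Groth.Agent.H52
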