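import Groth.Agent.H52.FQQs
import Groth.Agent.H52.DecentTop
import Groth.Agent.H50.Points
import Mathlib.AlgebraicGeometry.Artinian

/-!
# Monomorphic field points from etale charts (helper52)
-/

set_option autoImplicit false
universe u

open CategoryTheory CategoryTheory.Limits AlgebraicGeometry Opposite AlgSp

namespace Groth.Agent.H52

variable {S : Scheme.{u}}

/-- If `f` is surjective and `f ≫ g` is quasi-compact then `g` is quasi-compact. -/
theorem quasiCompact_of_surjective_comp {X Y Z : Scheme.{u}} (f : X ⟶ Y) (g : Y ⟶ Z)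
    [Surjective f] [QuasiCompact (f ≫ g)] : QuasiCompact g := by
  refine ⟨fun U hU hU' => ?_⟩
  have h1 : IsCompact ((f ≫ g) ⁻¹' U) := QuasiCompact.isCompact_preimage (f := f ≫ g) U hU hU'
  have h2 : g ⁻¹' U = f '' ((f ≫ g) ⁻¹' U) := by
    ext y
    constructor
    · intro hy
      obtain ⟨x, rfl⟩ := f.surjective y
      exact ⟨x, by simpa using hy, rfl⟩
    · rintro ⟨x, hx, rfl⟩
      simpa using hx
  rw [h2]
  exact h1.image f.continuous

/-- Quasi-compactness of a field point only depends on the point it defines. -/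
theorem repWith_quasiCompact_of_mk_eq {X : Sp S} (hX : Representable (Limits.diag X))
    {p q : FieldPt X} (h : Points.mk p = Points.mk q) (hq : RepWith @QuasiCompact q.toHom) :
    RepWith @QuasiCompact p.toHom := by
  obtain ⟨Ω, _, w, a, b, hab⟩ := H50.mk_eq_mk_iff_toHom.1 h
  have hb : QuasiCompact b.left := quasiCompact_of_field (k := Ω) b.left
  have hω : RepWith @QuasiCompact ((yon S).map b ≫ q.toHom) :=
    (RepWith @QuasiCompact).comp_mem _ _ ((repWith_yon_map_iff _ b).2 hb) hq
  rw [← hab] at hω
  have hrep : Representable p.toHom := Functor.relativelyRepresentable.of_diag hX p.toHom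
  refine MorphismProperty.relative_of_snd hrep (fun T g => ?_)
  change QuasiCompact (hrep.snd g).left
  have sqg := hrep.isPullback g
  obtain ⟨f', hf'⟩ := (yon S).map_surjective (hrep.fst g)
  rw [← hf'] at sqg
  have sqO := IsPullback.of_hasPullback f' a
  have sqY := sqO.map (yon S)
  have big := sqY.flip.paste_vert sqg
  rw [← Functor.map_comp] at big
  have h1 : QuasiCompact (pullback.fst f' a ≫ hrep.snd g).left := hω.2 _ _ _ big
  have sqS : IsPullback (pullback.fst f' a).left (pullback.snd f' a).left f'.left a.left :=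
    sqO.map (Over.forget S)
  have hne : Nonempty ↥(Over.mk w).left :=
    ⟨(IsLocalRing.closedPoint Ω : PrimeSpectrum Ω)⟩
  have ha : Surjective a.left := (flat_surjective_to_field (k := p.K) a.left).2
  have h2 : Surjective (pullback.fst f' a).left :=
    MorphismProperty.of_isPullback (P := @Surjective) sqS.flip ha
  have h3 : QuasiCompact ((pullback.fst f' a).left ≫ (hrep.snd g).left) := by
    rw [← Over.comp_left]; exact h1
  exact quasiCompact_of_surjective_comp (pullback.fst f' a).left (hrep.snd g).left

/-- Every field point of a quasi-separated sheaf is representable quasi-compact. -/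
theorem repWith_quasiCompact_toHom_of_isQuasiSeparatedSp {X : Sp S} (hX : IsQuasiSeparatedSp X)
    (p : FieldPt X) : RepWith @QuasiCompact p.toHom := by
  have hrep : Representable p.toHom := Functor.relativelyRepresentable.of_diag hX.rep p.toHom
  refine MorphismProperty.relative_of_snd hrep (fun T g => ?_)
  change QuasiCompact (hrep.snd g).left
  have sqg := hrep.isPullback g
  obtain ⟨f', hf'⟩ := (yon S).map_surjective (hrep.fst g)
  rw [← hf'] at sqg
  have h : QuasiCompact (prod.lift f' (hrep.snd g)).left :=
    H51.prop_lift_of_repWith_diag @QuasiCompact hX sqg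
  have : QuasiCompact p.pt.hom := quasiCompact_of_field p.str
  have h2 : QuasiCompact (prod.snd : p.pt ⨯ T ⟶ T).left := quasiCompact_prod_snd_left _ _
  have h3 : (hrep.snd g).left = (prod.lift f' (hrep.snd g)).left ≫
      (prod.snd : p.pt ⨯ T ⟶ T).left := by
    rw [← Over.comp_left, prod.lift_snd]
  rw [h3]
  infer_instance

/-- **Monomorphic field points from charts.**  Let `a : h_U ⟶ X` be etale, `u ∈ U`, and suppose the fibre product
`U ×_X Spec κ(u)` is a quasi-compact scheme.  Then the point of `X` defined by `u` is represented by a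
monomorphism from the spectrum of a subfield of `κ(u)` of finite index. -/
theorem exists_mono_fieldPt_of_compact_fibre {X : Sp S} {U : Over S} (a : (yon S).obj U ⟶ X)
    (ha : RepWith @Etale a) (u : ↥U.left) {W : Over S} (wU : W ⟶ U)
    (wZ : W ⟶ (FieldPt.ofPt a u).pt)
    (sqW : IsPullback ((yon S).map wU) ((yon S).map wZ) a (FieldPt.ofPt a u).toHom)
    [CompactSpace ↥W.left] :
    ∃ (p : FieldPt X) (c : (FieldPt.ofPt a u).pt ⟶ p.pt), Mono p.toHom ∧
      (yon S).map c ≫ p.toHom = (FieldPt.ofPt a u).toHom ∧ IsFinite c.left ∧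
      Points.mk p = Points.ofPt a u := by
  let i : (FieldPt.ofPt a u).pt ⟶ U := Over.homMk (U.left.fromSpecResidueField u) rfl
  have hz : (FieldPt.ofPt a u).toHom = (yon S).map i ≫ a := FieldPt.toHom_ofPt a u
  have haffZ : IsAffine (FieldPt.ofPt a u).pt.left :=
    inferInstanceAs (IsAffine (Spec (CommRingCat.of (FieldPt.ofPt a u).K)))
  have hwZe : Etale wZ.left := ha.2 _ _ _ sqW
  have hwZq : QuasiCompact wZ.left := inferInstance
  have hwZf : IsFinite wZ.left :=
    isFinite_of_etale_quasiCompact_field (k := (FieldPt.ofPt a u).K) wZ.left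
  have sqO := IsPullback.of_hasPullback i wU
  have sqY := sqO.map (yon S)
  have big := sqY.flip.paste_horiz sqW.flip
  rw [← hz, ← Functor.map_comp] at big
  have sqS : IsPullback (pullback.fst i wU).left (pullback.snd i wU).left i.left wU.left :=
    sqO.map (Over.forget S)
  have hpre : IsPreimmersion i.left :=
    inferInstanceAs (IsPreimmersion (U.left.fromSpecResidueField u))
  have hpre' : IsPreimmersion (pullback.snd i wU).left :=
    MorphismProperty.of_isPullback (P := @IsPreimmersion) sqS hpre
  have hlqf : LocallyQuasiFinite wZ.left := H50.locallyQuasiFinite_of_unramified wZ.left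
  have hartZ : IsLocallyArtinian (FieldPt.ofPt a u).pt.left :=
    inferInstanceAs (IsLocallyArtinian (Spec (CommRingCat.of (FieldPt.ofPt a u).K)))
  have hart : IsLocallyArtinian W.left := IsLocallyArtinian.of_locallyQuasiFinite wZ.left
  have hci : IsClosedImmersion (pullback.snd i wU).left :=
    IsClosedImmersion.of_isPreimmersion _ (isClosed_discrete _)
  have hfin : IsFinite (pullback.snd i wU ≫ wZ).left := by
    rw [Over.comp_left]; infer_instance
  exact exists_mono_fieldPt_of_finite (FieldPt.ofPt a u) (pullback.snd i wU ≫ wZ)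
    (pullback.fst i wU) big.flip

end Groth.Agent.H52

namespace Groth.Agent.H52

variable {S : Scheme.{u}}

/-- Every point of an algebraic space lies in an affine etale chart. -/
theorem exists_affine_chart_at {X : Sp S} (hX : IsAlgSpace X) (x : Points X) :
    ∃ (U : Over S) (a : (yon S).obj U ⟶ X) (u : ↥U.left), IsAffine U.left ∧ RepWith @Etale a ∧
      Points.ofPt a u = x := by
  obtain ⟨U₀, a₀, hae, has⟩ := hX.atlas
  obtain ⟨u₀, hu₀⟩ := surjective_ofPt_of_surjective a₀ has x
  obtain ⟨V, hV, u, hu, hVe, -⟩ := exists_affine_restriction a₀ hae u₀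
  refine ⟨overOpen U₀ V, (yon S).map (overOpenHom U₀ V) ≫ a₀, u, hV, hVe, ?_⟩
  rw [ofPt_yon_map_comp, hu, hu₀]

/-- A point represented by a representable quasi-compact field point is represented by a representable
quasi-compact monomorphism from the spectrum of a field. -/
theorem exists_mono_quasiCompact_of_quasiCompact {X : Sp S} (hX : IsAlgSpace X) (q : FieldPt X)
    (hq : RepWith @QuasiCompact q.toHom) :
    ∃ p : FieldPt X, Points.mk p = Points.mk q ∧ Mono p.toHom ∧ RepWith @QuasiCompact p.toHom := by
  obtain ⟨U, a, u, hU, hae, hu⟩ := exists_affine_chart_at hX (Points.mk q)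
  have hzq : RepWith @QuasiCompact (FieldPt.ofPt a u).toHom :=
    repWith_quasiCompact_of_mk_eq hX.diag (p := FieldPt.ofPt a u) (q := q) hu hq
  obtain ⟨W, wU, fst, sq⟩ := hzq.1 a
  have hwU : QuasiCompact wU.left := hzq.2 _ _ _ sq
  obtain ⟨wZ, rfl⟩ := (yon S).map_surjective fst
  have : CompactSpace ↥U.left := inferInstance
  have : CompactSpace ↥W.left := QuasiCompact.compactSpace_of_compactSpace wU.left
  obtain ⟨p, c, hm, hfac, hfin, hp⟩ := exists_mono_fieldPt_of_compact_fibre a hae u wU wZ sq.flip
  refine ⟨p, hp.trans hu, hm, ?_⟩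
  exact repWith_quasiCompact_of_mk_eq hX.diag (hp.trans hu) hq

end Groth.Agent.H52

namespace Groth.Agent.H52

variable {S : Scheme.{u}}

/-- A quasi-separated algebraic space is decent. -/
theorem isDecent_of_isQuasiSeparatedSp {X : Sp S} (hX : IsAlgSpace X) (hqs : IsQuasiSeparatedSp X) :
    IsDecent X := by
  intro x
  obtain ⟨U, a, u, hU, hae, hu⟩ := exists_affine_chart_at hX x
  obtain ⟨p, hp, hm, hq⟩ := exists_mono_quasiCompact_of_quasiCompact hX (FieldPt.ofPt a u)
    (repWith_quasiCompact_toHom_of_isQuasiSeparatedSp hqs _)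
  exact ⟨p, hp.trans hu, hm, hq⟩

end Groth.Agent.H52
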