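import Groth.Agent.H52.FQApp
import Groth.Agent.H52.EpiBC
import Groth.Agent.H51.DiagSq
import Mathlib.CategoryTheory.Limits.Constructions.Over.Products

/-!
# Field points of quasi-separated sheaves (helper52)
-/

set_option autoImplicit false
universe u

open CategoryTheory CategoryTheory.Limits AlgebraicGeometry Opposite AlgSp

namespace Groth.Agent.H52

variable {S : Scheme.{u}}

/-- A morphism from the spectrum of a field is quasi-compact. -/
theorem quasiCompact_of_field {k : Type u} [Field k] {Y : Scheme.{u}}
    (f : Spec (CommRingCat.of k) ⟶ Y) : QuasiCompact f := by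
  have hfin : Finite ↥(Spec (CommRingCat.of k)) :=
    inferInstanceAs (Finite (PrimeSpectrum k))
  exact ⟨fun U _ _ => (Set.toFinite _).isCompact⟩

/-- The second projection `U ×_S V ⟶ V` is quasi-compact when `U ⟶ S` is. -/
theorem quasiCompact_prod_snd_left (U V : Over S) [QuasiCompact U.hom] :
    QuasiCompact (prod.snd : U ⨯ V ⟶ V).left := by
  rw [← Over.prodLeftIsoPullback_hom_snd]
  infer_instance

/-- For a quasi-separated sheaf, the projections of the kernel pair of a field point are quasi-compact. -/
theorem quasiCompact_kernelPair_of_isQuasiSeparatedSp {X : Sp S} (hX : IsQuasiSeparatedSp X)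
    {k : Type u} [Field k] (str : Spec (CommRingCat.of k) ⟶ S) {R : Over S}
    (s t : R ⟶ Over.mk str) {z : (yon S).obj (Over.mk str) ⟶ X}
    (sq : IsPullback ((yon S).map t) ((yon S).map s) z z) : QuasiCompact s.left := by
  have h : QuasiCompact (prod.lift t s).left := H51.prop_lift_of_repWith_diag @QuasiCompact hX sq
  have : QuasiCompact (Over.mk str).hom := quasiCompact_of_field str
  have h2 : QuasiCompact (prod.snd : Over.mk str ⨯ Over.mk str ⟶ Over.mk str).left :=
    quasiCompact_prod_snd_left _ _
  have h3 : s.left = (prod.lift t s).left ≫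
      (prod.snd : Over.mk str ⨯ Over.mk str ⟶ Over.mk str).left := by
    rw [← Over.comp_left, prod.lift_snd]
  rw [h3]
  infer_instance

end Groth.Agent.H52
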