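import Mathlib
import Groth.Prelude.Def_AlgSpMor5
import Groth.Agent.H52.Topology
import Groth.Agent.H52.Points

/-! Valuative criteria for morphisms of algebraic spaces: scheme-level tools. -/

set_option autoImplicit false
universe u
open CategoryTheory CategoryTheory.Limits AlgebraicGeometry
open AlgSp

namespace Groth.Agent.H52

set_option backward.isDefEq.respectTransparency.types false in
/-- For a morphism of schemes `f`, a point `x` of the source and a specialization `f x ⤳ y`, there is a
valuation subring `A` of `κ(x)` and a morphism `Spec A ⟶ Y` extending `Spec κ(x) ⟶ X ⟶ Y` and sending the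
closed point to `y`. -/
theorem exists_valuationSubring_of_specializes {X Y : Scheme.{u}} (f : X ⟶ Y) (x : X) (y : Y)
    (h : f x ⤳ y) :
    ∃ (A : ValuationSubring (X.residueField x)) (b : Spec (.of A) ⟶ Y),
      Spec.map (CommRingCat.ofHom (algebraMap A (X.residueField x))) ≫ b =
        X.fromSpecResidueField x ≫ f ∧
      b (IsLocalRing.closedPoint A) = y := by
  let stalk_y_to_residue_x : Y.presheaf.stalk y ⟶ X.residueField x :=
    Y.presheaf.stalkSpecializes h ≫ f.stalkMap x ≫ X.residue x
  obtain ⟨A, hA, hA_local⟩ := IsLocalRing.exists_factor_valuationRing stalk_y_to_residue_x.hom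
  let stalk_y_to_A : Y.presheaf.stalk y ⟶ .of A :=
    CommRingCat.ofHom (stalk_y_to_residue_x.hom.codRestrict _ hA)
  have w : X.fromSpecResidueField x ≫ f =
      Spec.map (CommRingCat.ofHom (algebraMap A (X.residueField x))) ≫
        Spec.map stalk_y_to_A ≫ Y.fromSpecStalk y := by
    rw [Scheme.fromSpecResidueField, Category.assoc, ← Scheme.SpecMap_stalkMap_fromSpecStalk,
      ← Scheme.SpecMap_stalkSpecializes_fromSpecStalk h]
    simp_rw [← Spec.map_comp_assoc]
    rfl
  refine ⟨A, Spec.map stalk_y_to_A ≫ Y.fromSpecStalk y, w.symm, ?_⟩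
  rw [Scheme.Hom.comp_apply]
  have : Spec.map stalk_y_to_A (IsLocalRing.closedPoint A) =
      IsLocalRing.closedPoint (Y.presheaf.stalk y) :=
    IsLocalRing.comap_closedPoint (S := A) (stalk_y_to_residue_x.hom.codRestrict A.toSubring hA)
  rw [this, Y.fromSpecStalk_closedPoint]

/-- For a morphism of affine schemes, the image of a closed set is closed as soon as it is stable under
specialization. -/
theorem isClosed_image_of_stableUnderSpecialization_of_isAffine {V Z : Scheme.{u}} [IsAffine V]
    [IsAffine Z] (g : V ⟶ Z) (T : Set V) (hT : IsClosed T)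
    (hs : StableUnderSpecialization (g '' T)) : IsClosed (g '' T) := by
  have hnat := Scheme.isoSpec_hom_naturality g
  let eV : V ≃ₜ Spec Γ(V, ⊤) := Scheme.homeoOfIso V.isoSpec
  let eZ : Z ≃ₜ Spec Γ(Z, ⊤) := Scheme.homeoOfIso Z.isoSpec
  have h1 : eZ '' (g '' T) = PrimeSpectrum.comap g.appTop.hom '' (eV '' T) := by
    rw [Set.image_image, Set.image_image]
    apply Set.image_congr
    intro t _
    change (g ≫ Z.isoSpec.hom) t = (V.isoSpec.hom ≫ Spec.map g.appTop) t
    rw [hnat]
  have h2 : IsClosed (eZ '' (g '' T)) := by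
    rw [h1]
    apply PrimeSpectrum.isClosed_image_of_stableUnderSpecialization
    · exact eV.isClosedMap _ hT
    · rw [← h1]
      exact hs.image eZ.isClosedMap.specializingMap
  have h3 : g '' T = eZ ⁻¹' (eZ '' (g '' T)) := (Set.preimage_image_eq _ eZ.injective).symm
  rw [h3]
  exact h2.preimage eZ.continuous

variable {S : Scheme.{u}}

/-- The existence part of the valuative criterion is stable under base change (any sheaves). -/
theorem existVC_of_isPullback {F G G' F' : Sp S} {f : F ⟶ G} {g : G' ⟶ G} {fst : F' ⟶ F}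
    {f' : F' ⟶ G'} (sq : IsPullback fst f' f g) (h : ExistVC f) : ExistVC f' := by
  intro sq'
  let sq0 : ValSq f :=
    { A := sq'.A, K := sq'.K, str := sq'.str, top := sq'.top ≫ fst, bot := sq'.bot ≫ g,
      comm := by
        rw [Category.assoc, sq.w, ← Category.assoc, sq'.comm, Category.assoc] }
  obtain ⟨e, l, hl1, hl2⟩ := h sq0
  let e' : sq'.DomExt :=
    { A' := e.A', K' := e.K', φ := e.φ, ψ := e.ψ, comm := e.comm, isLocalHom := e.isLocalHom }
  have hcompat : l ≫ f = ((yon S).map (Over.homMk (Spec.map (CommRingCat.ofHom e.φ)) rfl :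
      e'.ptA' ⟶ sq'.ptA) ≫ sq'.bot) ≫ g := by
    rw [hl2, Category.assoc]
  refine ⟨e', sq.lift l _ hcompat, ?_, ?_⟩
  · apply sq.hom_ext
    · rw [Category.assoc, sq.lift_fst, Category.assoc]
      exact hl1
    · rw [Category.assoc, sq.lift_snd, Category.assoc, sq'.comm, ← Category.assoc,
        ← Category.assoc, ← Functor.map_comp, ← Functor.map_comp]
      congr 2
      ext
      simp only [Over.comp_left, Over.homMk_left]
      rw [← Spec.map_comp, ← Spec.map_comp, ← CommRingCat.ofHom_comp, ← CommRingCat.ofHom_comp]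
      congr 2
      exact e.comm
  · exact sq.lift_snd _ _ _

/-- The closed point of an extended lift lies in every closed set containing the image of the
generic point. -/
theorem ofPt_closedPoint_mem_of_hasLift {F G : Sp S} {f : F ⟶ G} {sq : ValSq f} (e : sq.DomExt)
    (l : (yon S).obj e.ptA' ⟶ F)
    (hl1 : (yon S).map (Over.homMk (Spec.map (CommRingCat.ofHom (algebraMap e.A' e.K'))) rfl :
        e.ptK' ⟶ e.ptA') ≫ l =
      (yon S).map (Over.homMk (Spec.map (CommRingCat.ofHom e.ψ)) (by
          change Spec.map _ ≫ Spec.map _ ≫ _ = Spec.map _ ≫ Spec.map _ ≫ _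
          rw [← Spec.map_comp_assoc, ← Spec.map_comp_assoc, ← CommRingCat.ofHom_comp,
            ← CommRingCat.ofHom_comp, e.comm]) : e.ptK' ⟶ sq.ptK) ≫ sq.top)
    (C : Set (Points F)) (hC : IsClosed C)
    (hgen : ∀ k : ↥sq.ptK.left, Points.ofPt sq.top k ∈ C) :
    Points.ofPt l (IsLocalRing.closedPoint e.A') ∈ C := by
  let pt : ↥e.ptK'.left := IsLocalRing.closedPoint e.K'
  have h1 := congrArg (fun m => Points.ofPt m pt) hl1
  simp only [ofPt_yon_map_comp] at h1
  have hmem : Points.ofPt l ((Spec.map (CommRingCat.ofHom (algebraMap e.A' e.K'))) pt) ∈ C := by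
    have := hgen ((Spec.map (CommRingCat.ofHom e.ψ)) pt)
    exact h1 ▸ this
  have hcl : IsClosed (Points.ofPt l ⁻¹' C) := hC.preimage (Points.continuous_ofPt l)
  exact (IsLocalRing.specializes_closedPoint (R := e.A') _).mem_closed hcl hmem

set_option backward.isDefEq.respectTransparency.types false in
/-- A morphism from a quasi-compact sheaf to an affine scheme satisfying the existence part of the
valuative criterion is closed on points. -/
theorem isClosedMap_of_existVC_of_isAffine {P : Sp S} {Z : Over S} (hZ : IsAffine Z.left)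
    (snd : P ⟶ (yon S).obj Z) (hP : IsQuasiCompactSp P) (he : ExistVC snd) :
    IsClosedMap (Points.map snd) := by
  obtain ⟨U, a, hae, has, hUc⟩ := hP
  obtain ⟨R, r, hr⟩ := compactSpace_iff_exists.mp hUc
  let V : Over S := Over.mk (r ≫ U.hom)
  let rV : V ⟶ U := Over.homMk r rfl
  let h : (yon S).obj V ⟶ P := (yon S).map rV ≫ a
  have hsurj : Function.Surjective (Points.ofPt h) := by
    intro x
    obtain ⟨u, hu⟩ := surjective_ofPt_of_surjective a has x
    obtain ⟨v, hv⟩ := hr u
    refine ⟨v, ?_⟩
    rw [ofPt_yon_map_comp]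
    change Points.ofPt a (r v) = x
    rw [hv, hu]
  obtain ⟨g, hg⟩ := (yon S).map_surjective (h ≫ snd)
  have hgpt : ∀ v : ↥V.left, Points.map snd (Points.ofPt h v) = Points.ofScheme Z (g.left v) := by
    intro v
    rw [Points.map_ofPt, ← hg]
    have := ofPt_yon_map_comp g (𝟙 _) v
    rw [Category.comp_id] at this
    exact this
  intro C hC
  let T : Set ↥V.left := Points.ofPt h ⁻¹' C
  have hT : IsClosed T := hC.preimage (Points.continuous_ofPt h)
  have himg : Points.map snd '' C = Points.schemeHomeo Z '' (g.left '' T) := by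
    ext y
    constructor
    · rintro ⟨x, hxC, rfl⟩
      obtain ⟨v, rfl⟩ := hsurj x
      exact ⟨g.left v, ⟨v, hxC, rfl⟩, (hgpt v).symm⟩
    · rintro ⟨_, ⟨v, hv, rfl⟩, rfl⟩
      exact ⟨Points.ofPt h v, hv, hgpt v⟩
  rw [himg]
  apply (Points.schemeHomeo Z).isClosedMap
  haveI : IsAffine V.left := inferInstanceAs (IsAffine (Spec R))
  apply isClosed_image_of_stableUnderSpecialization_of_isAffine g.left T hT
  rintro y' y hyy' ⟨t, ht, rfl⟩
  obtain ⟨A, b, hb1, hb2⟩ := exists_valuationSubring_of_specializes g.left t y hyy'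
  let K := V.left.residueField t
  let strA : Spec (.of A) ⟶ S := b ≫ Z.hom
  have hw : V.left.fromSpecResidueField t ≫ V.hom =
      Spec.map (CommRingCat.ofHom (algebraMap A K)) ≫ strA := by
    rw [← Category.assoc, hb1, Category.assoc, Over.w g]
  let topK : Over.mk (Spec.map (CommRingCat.ofHom (algebraMap A K)) ≫ strA) ⟶ V :=
    Over.homMk (V.left.fromSpecResidueField t) hw
  let botA : Over.mk strA ⟶ Z := Over.homMk b rfl
  let sq : ValSq snd :=
    { A := A, K := K, str := strA, top := (yon S).map topK ≫ h, bot := (yon S).map botA,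
      comm := by
        rw [Category.assoc, ← hg, ← Functor.map_comp, ← Functor.map_comp]
        congr 1
        ext
        exact hb1.symm }
  obtain ⟨e, l, hl1, hl2⟩ := he sq
  have hxC : Points.ofPt l (IsLocalRing.closedPoint e.A') ∈ C := by
    apply ofPt_closedPoint_mem_of_hasLift e l hl1 C hC
    intro k
    change Points.ofPt ((yon S).map topK ≫ h) k ∈ C
    rw [ofPt_yon_map_comp]
    change Points.ofPt h (V.left.fromSpecResidueField t k) ∈ C
    rw [Scheme.fromSpecResidueField_apply]
    exact ht
  obtain ⟨v, hv⟩ := hsurj (Points.ofPt l (IsLocalRing.closedPoint e.A'))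
  refine ⟨v, ?_, ?_⟩
  · change Points.ofPt h v ∈ C
    rw [hv]; exact hxC
  · apply ofScheme_injective Z
    rw [← hgpt v, hv, Points.map_ofPt, hl2]
    change Points.ofPt ((yon S).map _ ≫ (yon S).map botA) _ = _
    rw [ofPt_yon_map_comp]
    have := ofPt_yon_map_comp botA (𝟙 _) ((Spec.map (CommRingCat.ofHom e.φ))
      (IsLocalRing.closedPoint e.A'))
    rw [Category.comp_id] at this
    refine this.trans ?_
    congr 1
    change b ((Spec.map (CommRingCat.ofHom e.φ)) (IsLocalRing.closedPoint e.A')) = y
    haveI := e.isLocalHom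
    have hc : (Spec.map (CommRingCat.ofHom e.φ)) (IsLocalRing.closedPoint e.A') =
        IsLocalRing.closedPoint A := IsLocalRing.comap_closedPoint (S := e.A') e.φ
    rw [hc, hb2]

end Groth.Agent.H52
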