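import Mathlib
import Groth.Prelude.Def_AlgSpMor5
import Groth.Prelude.Def_AlgSpDec
import Groth.Agent.H52.Topology
import Groth.Agent.H52.Points
import Groth.Agent.H52.DecentTop
import Groth.Agent.H52.FQDecent

/-! Existence part of the valuative criterion from closedness, for decent spaces. -/

set_option autoImplicit false
universe u
open CategoryTheory CategoryTheory.Limits AlgebraicGeometry
open AlgSp

namespace Groth.Agent.H52

set_option backward.isDefEq.respectTransparency.types false in
/-- For a field-valued point `m : Spec K ⟶ Y` of a scheme and a specialization `m(pt) ⤳ y`, there is a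
valuation subring `A` of `K` and a local homomorphism `O_{Y,y} → A` through which `m` factors. -/
theorem exists_valuationSubring_of_specializes_field {K : Type u} [Field K] {Y : Scheme.{u}}
    (m : Spec (.of K) ⟶ Y) (y : Y) (h : m (IsLocalRing.closedPoint K) ⤳ y) :
    ∃ (A : ValuationSubring K) (β : Y.presheaf.stalk y ⟶ .of A), IsLocalHom β.hom ∧
      Spec.map (CommRingCat.ofHom (algebraMap A K)) ≫ Spec.map β ≫ Y.fromSpecStalk y = m := by
  let f₀ : Y.presheaf.stalk y ⟶ .of K :=
    Y.presheaf.stalkSpecializes h ≫ Scheme.stalkClosedPointTo m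
  obtain ⟨A, hA, hA_local⟩ := IsLocalRing.exists_factor_valuationRing f₀.hom
  let β : Y.presheaf.stalk y ⟶ .of A := CommRingCat.ofHom (f₀.hom.codRestrict A.toSubring hA)
  refine ⟨A, β, hA_local, ?_⟩
  have h1 : β ≫ CommRingCat.ofHom (algebraMap A K) = f₀ := rfl
  rw [← Spec.map_comp_assoc, h1, Spec.map_comp_assoc,
    Scheme.SpecMap_stalkSpecializes_fromSpecStalk h,
    Scheme.Spec_stalkClosedPointTo_fromSpecStalk]

variable {S : Scheme.{u}}

set_option backward.isDefEq.respectTransparency.types false in
/-- Existence part of the valuative criterion for one square: if the base change of `f` to `Spec A` is a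
decent algebraic space whose projection to `Spec A` is closed on points, the square has a dotted arrow
after a dominating extension. -/
theorem hasLiftExt_of_decent_closed {F G : Sp S} {f : F ⟶ G} (sq : ValSq f) {P : Sp S}
    {fst : P ⟶ F} {snd : P ⟶ (yon S).obj sq.ptA} (pb : IsPullback fst snd f sq.bot)
    (hPa : IsAlgSpace P) (hPd : IsDecent P) (hcl : IsClosedMap (Points.map snd)) :
    sq.HasLiftExt := by
  let top' : (yon S).obj sq.ptK ⟶ P := pb.lift sq.top ((yon S).map sq.j) sq.comm
  have ht1 : top' ≫ fst = sq.top := pb.lift_fst _ _ _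
  have ht2 : top' ≫ snd = (yon S).map sq.j := pb.lift_snd _ _ _
  let pt : ↥sq.ptK.left := IsLocalRing.closedPoint sq.K
  let x : Points P := Points.ofPt top' pt
  let c : ↥sq.ptA.left := IsLocalRing.closedPoint sq.A
  have hx : Points.map snd x = Points.ofScheme sq.ptA (sq.j.left pt) := by
    rw [Points.map_ofPt, ht2]
    have := ofPt_yon_map_comp sq.j (𝟙 _) pt
    rw [Category.comp_id] at this
    exact this
  have hcl' : IsClosed (Points.map snd '' closure {x}) := hcl _ isClosed_closure
  have hc : Points.ofScheme sq.ptA c ∈ Points.map snd '' closure {x} := by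
    have hs : sq.j.left pt ⤳ c := IsLocalRing.specializes_closedPoint (R := sq.A) _
    have hs' := hs.map (Points.continuous_ofPt (𝟙 ((yon S).obj sq.ptA)))
    exact hs'.mem_closed hcl' ⟨x, subset_closure rfl, hx⟩
  obtain ⟨x', hx'cl, hx'c⟩ := hc
  have hspec : x ⤳ x' := specializes_iff_mem_closure.2 hx'cl
  obtain ⟨U, a, u', -, hae, hu'⟩ := exists_affine_chart_at hPa x'
  obtain ⟨p, hp, -, hpq⟩ := hPd x
  obtain ⟨u, hus, hu⟩ := exists_generization_of_specializes x' p (hp ▸ hspec) hpq a hae u' hu'
  rw [hp] at hu
  obtain ⟨g, hg⟩ := (yon S).map_surjective (a ≫ snd)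
  have hgu' : g.left u' = c := by
    apply ofScheme_injective sq.ptA
    have h1 := ofPt_yon_map_comp g (𝟙 ((yon S).obj sq.ptA)) u'
    rw [Category.comp_id] at h1
    change Points.ofPt (𝟙 _) (g.left u') = _
    rw [← h1, hg, ← Points.map_ofPt, hu', hx'c]
  obtain ⟨W, ψ, fstW, sqW⟩ := hae.1 top'
  obtain ⟨φW, rfl⟩ := (yon S).map_surjective fstW
  obtain ⟨w, hw1, hw2⟩ := exists_of_ofPt_eq_ofPt sqW u pt hu
  let K' := W.left.residueField w
  let m : Spec (.of K') ⟶ U.left := W.left.fromSpecResidueField w ≫ φW.left
  have hm : m (IsLocalRing.closedPoint K') ⤳ u' := by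
    have : m (IsLocalRing.closedPoint K') = u := by
      change (W.left.fromSpecResidueField w ≫ φW.left) _ = u
      rw [Scheme.Hom.comp_apply, Scheme.fromSpecResidueField_apply, hw1]
    rw [this]; exact hus
  obtain ⟨A', β, hβ, hβm⟩ := exists_valuationSubring_of_specializes_field m u' hm
  let l₀ : Spec (.of A') ⟶ U.left := Spec.map β ≫ U.left.fromSpecStalk u'
  have hl₀ : Spec.map (CommRingCat.ofHom (algebraMap A' K')) ≫ l₀ = m := hβm
  let φ : CommRingCat.of sq.A ⟶ CommRingCat.of A' := Spec.preimage (l₀ ≫ g.left)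
  have hφ : Spec.map φ = l₀ ≫ g.left := Spec.map_preimage _
  let ψr : CommRingCat.of sq.K ⟶ CommRingCat.of K' :=
    Spec.preimage (W.left.fromSpecResidueField w ≫ ψ.left)
  have hψr : Spec.map ψr = W.left.fromSpecResidueField w ≫ ψ.left := Spec.map_preimage _
  have hφloc : IsLocalHom φ.hom := by
    have h1 : Spec.map φ (IsLocalRing.closedPoint A') = IsLocalRing.closedPoint sq.A := by
      rw [hφ, Scheme.Hom.comp_apply]
      change g.left ((Spec.map β ≫ U.left.fromSpecStalk u') _) = _
      rw [Scheme.Hom.comp_apply]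
      have : Spec.map β (IsLocalRing.closedPoint A') =
          IsLocalRing.closedPoint (U.left.presheaf.stalk u') :=
        IsLocalRing.comap_closedPoint (S := A') β.hom
      rw [this, Scheme.fromSpecStalk_closedPoint, hgu']
    have h2 : Ideal.comap φ.hom (IsLocalRing.maximalIdeal A') = IsLocalRing.maximalIdeal sq.A := by
      have := congrArg PrimeSpectrum.asIdeal h1
      exact this
    exact ((IsLocalRing.local_hom_TFAE φ.hom).out 0 4).2 h2
  -- compatibility of the charts over `Spec A`
  have hWg : φW ≫ g = ψ ≫ sq.j := by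
    apply (yon S).map_injective
    rw [Functor.map_comp, Functor.map_comp, hg, ← Category.assoc, sqW.w, Category.assoc, ht2]
  have hcomm : (algebraMap A' K').comp φ.hom = ψr.hom.comp (algebraMap sq.A sq.K) := by
    have h1 : φ ≫ CommRingCat.ofHom (algebraMap A' K') =
        CommRingCat.ofHom (algebraMap sq.A sq.K) ≫ ψr := by
      apply Spec.map_injective
      rw [Spec.map_comp, Spec.map_comp, hφ, hψr, ← Category.assoc, hl₀, Category.assoc,
        Category.assoc]
      congr 1
      exact congrArg (fun k => k.left) hWg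
    exact congrArg CommRingCat.Hom.hom h1
  let e : sq.DomExt :=
    { A' := A', K' := K', φ := φ.hom, ψ := ψr.hom, comm := hcomm, isLocalHom := hφloc }
  have hwU : l₀ ≫ U.hom = Spec.map (CommRingCat.ofHom e.φ) ≫ sq.str := by
    change l₀ ≫ U.hom = Spec.map φ ≫ sq.str
    rw [hφ, Category.assoc]
    exact congrArg (l₀ ≫ ·) (Over.w g).symm
  let l₁ : e.ptA' ⟶ U := Over.homMk l₀ hwU
  refine ⟨e, (yon S).map l₁ ≫ a ≫ fst, ?_, ?_⟩
  · -- restriction to the generic point
    have hwW : W.left.fromSpecResidueField w ≫ W.hom = e.ptK'.hom := by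
      change _ = Spec.map _ ≫ Spec.map φ ≫ sq.str
      rw [hφ, ← Category.assoc, ← Category.assoc, hl₀, Category.assoc, Category.assoc]
      congr 1
      rw [← Over.w φW]
      congr 1
      exact (Over.w g).symm
    let wK : e.ptK' ⟶ W := Over.homMk (W.left.fromSpecResidueField w) hwW
    rw [← Category.assoc, ← Functor.map_comp]
    have h1 : (Over.homMk (Spec.map (CommRingCat.ofHom (algebraMap e.A' e.K'))) rfl :
        e.ptK' ⟶ e.ptA') ≫ l₁ = wK ≫ φW := by
      ext
      exact hl₀
    rw [h1, Functor.map_comp, Category.assoc, ← Category.assoc ((yon S).map φW), sqW.w,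
      Category.assoc, ht1, ← Category.assoc, ← Functor.map_comp]
    congr 2
    ext
    exact hψr.symm
  · rw [Category.assoc, Category.assoc, pb.w, ← Category.assoc a, ← hg, ← Category.assoc,
      ← Functor.map_comp]
    congr 2
    ext
    exact hφ.symm

end Groth.Agent.H52
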