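import Mathlib
import Groth.Prelude.Def_AlgSpMor5
import Groth.Prelude.Def_AlgSpDec
import Groth.Agent.H50.Descent
import Groth.Agent.H52.FQQs
import Groth.Agent.H52.Topology
import Groth.Agent.H52.Points
import Groth.Agent.H52.ValExist
import Groth.Agent.H52.ValCrit
import Groth.Agent.H52.FQDecent

/-! Existence part of the valuative criterion: finite separable extensions suffice. -/

set_option autoImplicit false
universe u
open CategoryTheory CategoryTheory.Limits AlgebraicGeometry
open AlgSp

namespace Groth.Agent.H52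

set_option backward.isDefEq.respectTransparency.types false in
theorem finite_separable_of_etale_field {K : Type u} [Field K] {W : Scheme.{u}}
    (ψ : W ⟶ Spec (.of K)) [Etale ψ] (w : W)
    (ψr : CommRingCat.of K ⟶ W.residueField w)
    (hψr : Spec.map ψr = W.fromSpecResidueField w ≫ ψ) :
    letI := ψr.hom.toAlgebra
    Module.Finite K (W.residueField w) ∧ Algebra.IsSeparable K (W.residueField w) := by
  have hlqf : LocallyQuasiFinite ψ := H50.locallyQuasiFinite_of_unramified ψ
  have hartZ : IsLocallyArtinian (Spec (CommRingCat.of K)) := inferInstance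
  have hart : IsLocallyArtinian W := IsLocallyArtinian.of_locallyQuasiFinite ψ
  have hci : IsClosedImmersion (W.fromSpecResidueField w) :=
    IsClosedImmersion.of_isPreimmersion _ (isClosed_discrete _)
  have hl : LocallyQuasiFinite (W.fromSpecResidueField w ≫ ψ) := inferInstance
  have hq : QuasiCompact (W.fromSpecResidueField w ≫ ψ) :=
    quasiCompact_of_field (k := W.residueField w) _
  have hfin : IsFinite (Spec.map ψr) := by
    rw [hψr]; exact IsFinite.of_locallyQuasiFinite _
  have hfu : FormallyUnramified (Spec.map ψr) := by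
    rw [hψr]
    have h1 : FormallyUnramified (W.fromSpecResidueField w) := inferInstance
    have h2 : FormallyUnramified ψ := inferInstance
    exact MorphismProperty.comp_mem _ _ _ h1 h2
  have h1 : ψr.hom.Finite := (IsFinite.SpecMap_iff ψr).1 hfin
  have h2 : ψr.hom.FormallyUnramified :=
    (HasRingHomProperty.Spec_iff (P := @FormallyUnramified)).1 hfu
  letI := ψr.hom.toAlgebra
  have h1' : Module.Finite K (W.residueField w) := h1
  have h2' : Algebra.FormallyUnramified K (W.residueField w) := h2
  exact ⟨h1', Algebra.FormallyUnramified.isSeparable K (W.residueField w)⟩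


variable {S : Scheme.{u}}

set_option backward.isDefEq.respectTransparency.types false in
/-- From an etale chart of the base change `P` of `f` to `Spec A` and a specialization `u ⤳ u'` in the
chart with `u` over the image of `Spec K` and `u'` over the closed point of `Spec A`, one gets a dotted
arrow after a finite separable extension of `K`. -/
theorem exists_domExt_of_chart_specialization {F G : Sp S} {f : F ⟶ G} (sq : ValSq f) {P : Sp S}
    {fst : P ⟶ F} {snd : P ⟶ (yon S).obj sq.ptA} (pb : IsPullback fst snd f sq.bot)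
    {U : Over S} (a : (yon S).obj U ⟶ P) (hae : RepWith @Etale a) (u u' : ↥U.left) (hus : u ⤳ u')
    (hu : Points.ofPt a u = Points.ofPt (pb.lift sq.top ((yon S).map sq.j) sq.comm)
      (IsLocalRing.closedPoint sq.K : PrimeSpectrum sq.K))
    (hu' : Points.map snd (Points.ofPt a u') =
      Points.ofScheme sq.ptA (IsLocalRing.closedPoint sq.A : PrimeSpectrum sq.A)) :
    ∃ e : sq.DomExt, (letI := e.ψ.toAlgebra; Module.Finite sq.K e.K' ∧ Algebra.IsSeparable sq.K e.K') ∧
      e.HasLift := by
  let top' : (yon S).obj sq.ptK ⟶ P := pb.lift sq.top ((yon S).map sq.j) sq.comm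
  have ht1 : top' ≫ fst = sq.top := pb.lift_fst _ _ _
  have ht2 : top' ≫ snd = (yon S).map sq.j := pb.lift_snd _ _ _
  let pt : ↥sq.ptK.left := (IsLocalRing.closedPoint sq.K : PrimeSpectrum sq.K)
  let c : ↥sq.ptA.left := (IsLocalRing.closedPoint sq.A : PrimeSpectrum sq.A)
  obtain ⟨g, hg⟩ := (yon S).map_surjective (a ≫ snd)
  have hgu' : g.left u' = c := by
    apply ofScheme_injective sq.ptA
    have h1 := ofPt_yon_map_comp g (𝟙 ((yon S).obj sq.ptA)) u'
    rw [Category.comp_id] at h1
    change Points.ofPt (𝟙 _) (g.left u') = _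
    rw [← h1, hg, ← Points.map_ofPt, hu']
  obtain ⟨W, ψ, fstW, sqW⟩ := hae.1 top'
  have hψe : Etale ψ.left := hae.2 _ _ _ sqW
  obtain ⟨φW, rfl⟩ := (yon S).map_surjective fstW
  obtain ⟨w, hw1, hw2⟩ := exists_of_ofPt_eq_ofPt sqW u pt hu
  let K' := W.left.residueField w
  let m : Spec (.of K') ⟶ U.left := W.left.fromSpecResidueField w ≫ φW.left
  have hm : m (IsLocalRing.closedPoint K') ⤳ u' := by
    have : m (IsLocalRing.closedPoint K') = u := by
      change (W.left.fromSpecResidueField w ≫ φW.left) _ = u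
      rw [Scheme.Hom.comp_apply, Scheme.fromSpecResidueField_apply, hw1]
    rw [this]; exact hus
  obtain ⟨A', β, hβ, hβm⟩ := exists_valuationSubring_of_specializes_field m u' hm
  let l₀ : Spec (.of A') ⟶ U.left := Spec.map β ≫ U.left.fromSpecStalk u'
  have hl₀ : Spec.map (CommRingCat.ofHom (algebraMap A' K')) ≫ l₀ = m := hβm
  let φ : CommRingCat.of sq.A ⟶ CommRingCat.of A' := Spec.preimage (l₀ ≫ g.left)
  have hφ : Spec.map φ = l₀ ≫ g.left := Spec.map_preimage _
  let ψr : CommRingCat.of sq.K ⟶ CommRingCat.of K' :=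
    Spec.preimage (W.left.fromSpecResidueField w ≫ ψ.left)
  have hψr : Spec.map ψr = W.left.fromSpecResidueField w ≫ ψ.left := Spec.map_preimage _
  have hφloc : IsLocalHom φ.hom := by
    have h1 : Spec.map φ (IsLocalRing.closedPoint A') = IsLocalRing.closedPoint sq.A := by
      rw [hφ, Scheme.Hom.comp_apply]
      change g.left ((Spec.map β ≫ U.left.fromSpecStalk u') _) = _
      rw [Scheme.Hom.comp_apply]
      have : Spec.map β (IsLocalRing.closedPoint A') =
          IsLocalRing.closedPoint (U.left.presheaf.stalk u') :=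
        IsLocalRing.comap_closedPoint (S := A') β.hom
      rw [this, Scheme.fromSpecStalk_closedPoint, hgu']
    have h2 : Ideal.comap φ.hom (IsLocalRing.maximalIdeal A') = IsLocalRing.maximalIdeal sq.A := by
      have := congrArg PrimeSpectrum.asIdeal h1
      exact this
    exact ((IsLocalRing.local_hom_TFAE φ.hom).out 0 4).2 h2
  have hWg : φW ≫ g = ψ ≫ sq.j := by
    apply (yon S).map_injective
    rw [Functor.map_comp, Functor.map_comp, hg, ← Category.assoc, sqW.w, Category.assoc, ht2]
  have hcomm : (algebraMap A' K').comp φ.hom = ψr.hom.comp (algebraMap sq.A sq.K) := by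
    have h1 : φ ≫ CommRingCat.ofHom (algebraMap A' K') =
        CommRingCat.ofHom (algebraMap sq.A sq.K) ≫ ψr := by
      apply Spec.map_injective
      rw [Spec.map_comp, Spec.map_comp, hφ, hψr, ← Category.assoc, hl₀, Category.assoc,
        Category.assoc]
      congr 1
      exact congrArg (fun k => k.left) hWg
    exact congrArg CommRingCat.Hom.hom h1
  let e : sq.DomExt :=
    { A' := A', K' := K', φ := φ.hom, ψ := ψr.hom, comm := hcomm, isLocalHom := hφloc }
  have hwU : l₀ ≫ U.hom = Spec.map (CommRingCat.ofHom e.φ) ≫ sq.str := by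
    change l₀ ≫ U.hom = Spec.map φ ≫ sq.str
    rw [hφ, Category.assoc]
    exact congrArg (l₀ ≫ ·) (Over.w g).symm
  let l₁ : e.ptA' ⟶ U := Over.homMk l₀ hwU
  refine ⟨e, finite_separable_of_etale_field ψ.left w ψr hψr, (yon S).map l₁ ≫ a ≫ fst, ?_, ?_⟩
  · have hwW : W.left.fromSpecResidueField w ≫ W.hom = e.ptK'.hom := by
      change _ = Spec.map _ ≫ Spec.map φ ≫ sq.str
      rw [hφ, ← Category.assoc, ← Category.assoc, hl₀, Category.assoc, Category.assoc]
      congr 1
      rw [← Over.w φW]
      congr 1
      exact (Over.w g).symm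
    let wK : e.ptK' ⟶ W := Over.homMk (W.left.fromSpecResidueField w) hwW
    rw [← Category.assoc, ← Functor.map_comp]
    have h1 : (Over.homMk (Spec.map (CommRingCat.ofHom (algebraMap e.A' e.K'))) rfl :
        e.ptK' ⟶ e.ptA') ≫ l₁ = wK ≫ φW := by
      ext
      exact hl₀
    rw [h1, Functor.map_comp, Category.assoc, ← Category.assoc ((yon S).map φW), sqW.w,
      Category.assoc, ht1, ← Category.assoc, ← Functor.map_comp]
    congr 2
    ext
    exact hψr.symm
  · rw [Category.assoc, Category.assoc, pb.w, ← Category.assoc a, ← hg, ← Category.assoc,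
      ← Functor.map_comp]
    congr 2
    ext
    exact hφ.symm

set_option backward.isDefEq.respectTransparency.types false in
/-- If `f` satisfies the existence part of the valuative criterion, every square has a dotted arrow
after a finite separable extension of the fraction field. -/
theorem exists_finite_separable_domExt {F G : Sp S} {f : F ⟶ G} (sq : ValSq f) {P : Sp S}
    {fst : P ⟶ F} {snd : P ⟶ (yon S).obj sq.ptA} (pb : IsPullback fst snd f sq.bot)
    (hPa : IsAlgSpace P) (he : ExistVC f) :
    ∃ e : sq.DomExt, (letI := e.ψ.toAlgebra; Module.Finite sq.K e.K' ∧ Algebra.IsSeparable sq.K e.K') ∧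
      e.HasLift := by
  have he' : ExistVC snd := existVC_of_isPullback pb he
  let top' : (yon S).obj sq.ptK ⟶ P := pb.lift sq.top ((yon S).map sq.j) sq.comm
  have ht2 : top' ≫ snd = (yon S).map sq.j := pb.lift_snd _ _ _
  let sq' : ValSq snd :=
    { A := sq.A, K := sq.K, str := sq.str, top := top', bot := 𝟙 _,
      comm := by rw [ht2, Category.comp_id] }
  obtain ⟨e₀, l₀, hl1, hl2⟩ := he' sq'
  let c₁ : ↥e₀.ptA'.left := (IsLocalRing.closedPoint e₀.A' : PrimeSpectrum e₀.A')
  obtain ⟨U, a, u', -, hae, hu'⟩ := exists_affine_chart_at hPa (Points.ofPt l₀ c₁)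
  obtain ⟨W₁, ψ₁, fst₁, sq₁⟩ := hae.1 l₀
  have hψ₁e : Etale ψ₁.left := hae.2 _ _ _ sq₁
  obtain ⟨φ₁, rfl⟩ := (yon S).map_surjective fst₁
  obtain ⟨p, hp1, hp2⟩ := exists_of_ofPt_eq_ofPt sq₁ u' c₁ hu'
  let pt₁ : ↥e₀.ptK'.left := (IsLocalRing.closedPoint e₀.K' : PrimeSpectrum e₀.K')
  let η₁ : ↥e₀.ptA'.left := (Spec.map (CommRingCat.ofHom (algebraMap e₀.A' e₀.K'))) pt₁
  have hη : η₁ ⤳ ψ₁.left p := by
    rw [hp2]; exact IsLocalRing.specializes_closedPoint (R := e₀.A') _
  obtain ⟨p', hp's, hp'η⟩ := Flat.generalizingMap ψ₁.left hη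
  apply exists_domExt_of_chart_specialization sq pb a hae (φ₁.left p') u' ?_ ?_ ?_
  · rw [← hp1]; exact hp's.map φ₁.left.continuous
  · rw [← ofPt_yon_map_comp, sq₁.w, ofPt_yon_map_comp, hp'η]
    have h1 := congrArg (fun m => Points.ofPt m pt₁) hl1
    simp only [ofPt_yon_map_comp] at h1
    refine h1.trans ?_
    congr 1
    exact Subsingleton.elim (α := PrimeSpectrum sq.K) _ _
  · rw [hu', Points.map_ofPt, hl2, ofPt_yon_map_comp]
    change Points.ofScheme sq.ptA _ = _
    congr 1
    haveI := e₀.isLocalHom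
    exact IsLocalRing.comap_closedPoint (S := e₀.A') e₀.φ

end Groth.Agent.H52
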