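import Mathlib

/-!
# (P2) for helper23's S14012 squad: Mittag-Leffler lifting of compatible families

NOTE: the requested statement lacked `g ∘ f = 0`; without it the statement is false
(`A = B = Y = ℤ` constant, `f = w = id`, `r = 0`, `g_n : ℤ → ℤ/p^n`).  We add `hzero`.
-/

set_option autoImplicit false
universe u v
open CategoryTheory CategoryTheory.Limits Opposite

namespace Groth.Agent.H52.ML_P2

variable {R : Type v} [CommRing R]

/-- transition map `A_n → A_m` for `m ≤ n`. -/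
noncomputable abbrev T (A : ℕᵒᵖ ⥤ ModuleCat.{v} R) {m n : ℕ} (h : m ≤ n) :
    A.obj (op n) →ₗ[R] A.obj (op m) :=
  (A.map (homOfLE h).op).hom

theorem T_comp (A : ℕᵒᵖ ⥤ ModuleCat.{v} R) {l m n : ℕ} (h₁ : l ≤ m) (h₂ : m ≤ n)
    (x : A.obj (op n)) : T A h₁ (T A h₂ x) = T A (h₁.trans h₂) x := by
  have : A.map (homOfLE h₂).op ≫ A.map (homOfLE h₁).op = A.map (homOfLE (h₁.trans h₂)).op := by
    rw [← A.map_comp]
    rfl
  exact congrArg (fun φ => φ.hom x) this

theorem T_nat {A B : ℕᵒᵖ ⥤ ModuleCat.{v} R} (φ : A ⟶ B) {m n : ℕ} (h : m ≤ n)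
    (x : A.obj (op n)) : (φ.app (op m)).hom (T A h x) = T B h ((φ.app (op n)).hom x) := by
  have := φ.naturality (homOfLE h).op
  exact congrArg (fun ψ => ψ.hom x) this

theorem c_compat (C : ℕᵒᵖ ⥤ ModuleCat.{v} R) (c : ∀ n : ℕ, C.obj (op n))
    (hc : ∀ n : ℕ, (C.map (homOfLE (Nat.le_succ n)).op).hom (c (n + 1)) = c n)
    {m n : ℕ} (h : m ≤ n) : T C h (c n) = c m := by
  induction n, h using Nat.le_induction with
  | base =>
    simp [T]
  | succ n hmn ih =>
    have h1 : T C (hmn.trans (Nat.le_succ n)) (c (n + 1)) = T C hmn (T C (Nat.le_succ n) (c (n + 1))) :=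
      (T_comp C hmn (Nat.le_succ n) _).symm
    rw [h1]
    have : T C (Nat.le_succ n) (c (n + 1)) = c n := hc n
    rw [this, ih]

/-- (P2) algebra: Mittag-Leffler lifting of compatible families (with `g ∘ f = 0` added). -/
theorem exists_compat_lift (A B C Y : ℕᵒᵖ ⥤ ModuleCat.{v} R)
    (f : A ⟶ B) (g : B ⟶ C) (w : Y ⟶ A)
    (hgs : ∀ n : ℕ, Function.Surjective (g.app (op n)).hom)
    (hex : ∀ (n : ℕ) (x : B.obj (op n)), (g.app (op n)).hom x = 0 →
      ∃ a : A.obj (op n), (f.app (op n)).hom a = x)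
    (hzero : ∀ (n : ℕ) (a : A.obj (op n)), (g.app (op n)).hom ((f.app (op n)).hom a) = 0)
    (hY : ∀ n : ℕ, Function.Surjective (Y.map (homOfLE (Nat.le_succ n)).op).hom)
    (r : ℕ) (hr : ∀ (n : ℕ) (a : A.obj (op (n + r))), ∃ y : Y.obj (op n),
      (w.app (op n)).hom y = (A.map (homOfLE (Nat.le_add_right n r)).op).hom a)
    (c : ∀ n : ℕ, C.obj (op n))
    (hc : ∀ n : ℕ, (C.map (homOfLE (Nat.le_succ n)).op).hom (c (n + 1)) = c n) :
    ∃ b : ∀ n : ℕ, B.obj (op n),
      (∀ n : ℕ, (B.map (homOfLE (Nat.le_succ n)).op).hom (b (n + 1)) = b n) ∧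
      ∀ n : ℕ, (g.app (op n)).hom (b n) = c n := by
  classical
  -- the cosets `E° n`
  let E : (n : ℕ) → Set (B.obj (op n)) := fun n =>
    {x | ∃ b : B.obj (op (n + r)), (g.app (op (n + r))).hom b = c (n + r) ∧
      ∃ y : Y.obj (op n), x = T B (Nat.le_add_right n r) b + (f.app (op n)).hom ((w.app (op n)).hom y)}
  -- key claim (c)
  have key : ∀ (n : ℕ) (b b' : B.obj (op (n + r))), (g.app (op (n + r))).hom b = c (n + r) →
      (g.app (op (n + r))).hom b' = c (n + r) → ∃ y : Y.obj (op n),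
        T B (Nat.le_add_right n r) b =
          T B (Nat.le_add_right n r) b' + (f.app (op n)).hom ((w.app (op n)).hom y) := by
    intro n b b' hb hb'
    obtain ⟨a, ha⟩ := hex (n + r) (b - b') (by rw [map_sub, hb, hb', sub_self])
    obtain ⟨y, hy⟩ := hr n a
    refine ⟨y, ?_⟩
    have h1 : (f.app (op n)).hom (T A (Nat.le_add_right n r) a) =
        T B (Nat.le_add_right n r) ((f.app (op (n + r))).hom a) := T_nat f _ a
    have hy' : (w.app (op n)).hom y = T A (Nat.le_add_right n r) a := hy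
    rw [hy', h1, ha, map_sub]
    abel
  -- (d)
  have hE_g : ∀ (n : ℕ) (x : B.obj (op n)), x ∈ E n → (g.app (op n)).hom x = c n := by
    rintro n x ⟨b, hb, y, rfl⟩
    rw [map_add, hzero, add_zero, T_nat g, hb]
    exact c_compat C c hc _
  -- (e)
  have hE_ne : ∀ n : ℕ, ∃ x : B.obj (op n), x ∈ E n := by
    intro n
    obtain ⟨b, hb⟩ := hgs (n + r) (c (n + r))
    exact ⟨T B (Nat.le_add_right n r) b + (f.app (op n)).hom ((w.app (op n)).hom 0), b, hb, 0, rfl⟩
  -- (f)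
  have step : ∀ (n : ℕ) (x : E n), ∃ x' : E (n + 1), T B (Nat.le_succ n) x'.1 = x.1 := by
    rintro n ⟨x, b, hb, y, rfl⟩
    obtain ⟨b', hb'⟩ := hgs (n + 1 + r) (c (n + 1 + r))
    have hle : n + r ≤ n + 1 + r := by omega
    have hb'' : (g.app (op (n + r))).hom (T B hle b') = c (n + r) := by
      rw [T_nat g, hb']
      exact c_compat C c hc _
    obtain ⟨y₁, hy₁⟩ := key n b (T B hle b') hb hb''
    obtain ⟨y₃, hy₃⟩ := hY n (y₁ + y)
    have hy₃' : T Y (Nat.le_succ n) y₃ = y₁ + y := hy₃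
    refine ⟨⟨T B (Nat.le_add_right (n + 1) r) b' +
      (f.app (op (n + 1))).hom ((w.app (op (n + 1))).hom y₃), b', hb', y₃, rfl⟩, ?_⟩
    show T B (Nat.le_succ n) (T B (Nat.le_add_right (n + 1) r) b' +
      (f.app (op (n + 1))).hom ((w.app (op (n + 1))).hom y₃)) =
      T B (Nat.le_add_right n r) b + (f.app (op n)).hom ((w.app (op n)).hom y)
    rw [map_add, T_comp, ← T_nat f, ← T_nat w, hy₃', hy₁, T_comp, map_add, map_add]
    abel
  choose nxt hnxt using step
  obtain ⟨x0, hx0⟩ := hE_ne 0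
  let s : (n : ℕ) → E n := fun n => Nat.rec ⟨x0, hx0⟩ (fun n x => nxt n x) n
  refine ⟨fun n => (s n).1, fun n => hnxt n (s n), fun n => hE_g n _ (s n).2⟩

end Groth.Agent.H52.ML_P2
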