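import Groth.Agent.H51.DiagSq
import Groth.Agent.H50.Basic
import Groth.Agent.H50.RepBySpCat
import Groth.Agent.H50.Descent
import Mathlib.AlgebraicGeometry.Morphisms.QuasiSeparated
import Mathlib.CategoryTheory.Limits.Constructions.Over.Products

/-!
# The product atlas `h_{U × V} ⟶ X ⨯ Y` and descent of properties of the diagonal (helper52)
-/

set_option autoImplicit false
universe u

open CategoryTheory CategoryTheory.Limits AlgebraicGeometry Opposite AlgSp Topology MorphismProperty

namespace Groth.Agent.H52

variable {S : Scheme.{u}}

/-- A product of two morphisms with `RepWith P` has `RepWith P`. -/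
theorem repWith_prod_map {P : MorphismProperty Scheme.{u}} [P.IsStableUnderBaseChange]
    [P.IsMultiplicative] {A B X Y : Sp S} {a : A ⟶ X} {b : B ⟶ Y} (ha : RepWith P a)
    (hb : RepWith P b) : RepWith P (prod.map a b) := by
  have h1 : RepWith P (prod.map a (𝟙 B)) :=
    H50.repWith_snd_of_isPullback (H50.isPullback_prod_map_id a B) ha
  have h2 : RepWith P (prod.map (𝟙 X) b) :=
    H50.repWith_snd_of_isPullback (H50.isPullback_prod_id_map b X) hb
  have h3 : prod.map a b = prod.map a (𝟙 B) ≫ prod.map (𝟙 X) b := by
    rw [prod.map_map, Category.comp_id, Category.id_comp]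
  rw [h3]
  exact (RepWith P).comp_mem _ _ h1 h2

/-- The product atlas. -/
theorem repWith_prodComparison_prod_map {P : MorphismProperty Scheme.{u}}
    [P.IsStableUnderBaseChange] [P.IsMultiplicative] {U V : Over S} {X Y : Sp S}
    {a : (yon S).obj U ⟶ X} {b : (yon S).obj V ⟶ Y} (ha : RepWith P a) (hb : RepWith P b) :
    RepWith P (prodComparison (yon S) U V ≫ prod.map a b) := by
  have : (RepWith (S := S) P).RespectsIso := inferInstance
  exact ((RepWith P).cancel_left_of_respectsIso (prodComparison (yon S) U V) _).2
    (repWith_prod_map ha hb)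

/-- A property of the absolute diagonal of an algebraic space that descends along fppf covers can be
checked on `R ⟶ U ×_S U` for an atlas `U` with `R = U ×_X U`. -/
theorem repWith_diag_of_atlas {Q : MorphismProperty Scheme.{u}} [Q.IsStableUnderBaseChange]
    (hQ : DescendsAlong Q H50.fppfProp) {X : Sp S} (hX : Representable (Limits.diag X))
    {R U : Over S} (p : (yon S).obj U ⟶ X) (hp : RepWith @Etale p) (hs : RepWith @Surjective p)
    (s t : R ⟶ U) (hR : IsPullback ((yon S).map t) ((yon S).map s) p p)
    (h : Q (prod.lift t s).left) : RepWith Q (Limits.diag X) :=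
  H50.repWith_of_isPullback_atlas hQ hX (repWith_prodComparison_prod_map hp hp)
    (repWith_prodComparison_prod_map hs hs) (H51.isPullback_diag_yon hR)
    ((repWith_yon_map_iff Q _).2 h)

/-- The projection `U ×_S U ⟶ U` is quasi-separated when `U` is a quasi-separated scheme. -/
theorem quasiSeparated_prod_fst_left (U V : Over S) [QuasiSeparatedSpace ↥V.left] :
    QuasiSeparated (prod.fst : U ⨯ V ⟶ U).left := by
  rw [← Over.prodLeftIsoPullback_hom_fst]
  infer_instance

end Groth.Agent.H52
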