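import Groth.Agent.H51.DiagSq
import Groth.Agent.H50.Basic
import Groth.Agent.H52.Charts
import Mathlib.AlgebraicGeometry.Morphisms.Separated
import Mathlib.CategoryTheory.Limits.Constructions.Over.Products

/-!
# Quasi-separatedness of an algebraic space from quasi-compactness of fibre products of affines (helper52)
-/

set_option autoImplicit false
universe u

open CategoryTheory CategoryTheory.Limits AlgebraicGeometry Opposite AlgSp Topology

namespace Groth.Agent.H52

variable {S : Scheme.{u}}

/-- The diagonal of an affine scheme over `S` is a closed immersion. -/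
theorem isClosedImmersion_diag_left_of_isAffine (T : Over S) [IsAffine T.left] :
    IsClosedImmersion (Limits.diag T).left := by
  have hsep : IsSeparated T.hom := inferInstance
  have h1 : (Limits.diag T).left ≫ (Over.prodLeftIsoPullback T T).hom = pullback.diagonal T.hom := by
    apply pullback.hom_ext
    · rw [Category.assoc, Over.prodLeftIsoPullback_hom_fst, ← Over.comp_left, Limits.diag,
        prod.lift_fst, pullback.diagonal_fst]
      rfl
    · rw [Category.assoc, Over.prodLeftIsoPullback_hom_snd, ← Over.comp_left, Limits.diag,
        prod.lift_snd, pullback.diagonal_snd]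
      rfl
  have h2 : IsClosedImmersion ((Limits.diag T).left ≫ (Over.prodLeftIsoPullback T T).hom) := by
    rw [h1]; infer_instance
  exact (MorphismProperty.cancel_right_of_respectsIso @IsClosedImmersion _ _).1 h2

/-- A Zariski local property of the absolute diagonal can be checked on affine schemes. -/
theorem repWith_diag_of_affine {Q : MorphismProperty Scheme.{u}}
    [Q.IsStableUnderBaseChange] [IsZariskiLocalAtTarget Q] {X : Sp S}
    (hrep : Representable (Limits.diag X))
    (h : ∀ (T : Over S), IsAffine T.left → ∀ (g : (yon S).obj T ⟶ X ⨯ X) (E : Over S)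
      (x : (yon S).obj E ⟶ X) (e : E ⟶ T), IsPullback x ((yon S).map e) (Limits.diag X) g →
      Q e.left) : RepWith Q (Limits.diag X) := by
  have : Q.RespectsIso := MorphismProperty.IsStableUnderBaseChange.respectsIso
  refine MorphismProperty.relative_of_snd hrep (fun T g => ?_)
  change Q (hrep.snd g).left
  refine IsZariskiLocalAtTarget.of_openCover (P := Q) T.left.affineCover (fun i => ?_)
  let U : Over S := Over.mk (T.left.affineCover.f i ≫ T.hom)
  let τ : U ⟶ T := Over.homMk (T.left.affineCover.f i) rfl
  have hU : IsAffine U.left := inferInstanceAs (IsAffine (T.left.affineCover.X i))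
  have sqE' := IsPullback.of_hasPullback (hrep.snd g) τ
  have big := (sqE'.map (yon S)).paste_horiz (hrep.isPullback g)
  have hr : Q (pullback.snd (hrep.snd g) τ).left := h U hU _ _ _ _ big
  have sqS : IsPullback (pullback.fst (hrep.snd g) τ).left (pullback.snd (hrep.snd g) τ).left
      (hrep.snd g).left (T.left.affineCover.f i) := sqE'.map (Over.forget S)
  have e := sqS.isoPullback_hom_snd
  change Q (pullback.snd (hrep.snd g).left (T.left.affineCover.f i))
  rw [← Q.cancel_left_of_respectsIso sqS.isoPullback.hom, e]
  exact hr

/-- If all fibre products of affine schemes over an algebraic space are quasi-compact, the space is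
quasi-separated. -/
theorem isQuasiSeparatedSp_of_compact_affine_fibre_products {X : Sp S} (hX : IsAlgSpace X)
    (h : ∀ (U V P : Over S) (a : (yon S).obj U ⟶ X) (b : (yon S).obj V ⟶ X)
      (fst : P ⟶ U) (snd : P ⟶ V), IsAffine U.left → IsAffine V.left →
      IsPullback ((yon S).map fst) ((yon S).map snd) a b → CompactSpace ↥P.left) :
    IsQuasiSeparatedSp X := by
  refine repWith_diag_of_affine hX.diag (fun T hT g E x e sqE => ?_)
  have : IsAffine T.left := hT
  -- the two components
  obtain ⟨a, ha⟩ : ∃ a, a = g ≫ prod.fst := ⟨_, rfl⟩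
  obtain ⟨b, hb⟩ : ∃ b, b = g ≫ prod.snd := ⟨_, rfl⟩
  obtain ⟨P, snd, fst', sq⟩ := (hX.representable_from_yon a) b
  obtain ⟨fst, rfl⟩ := (yon S).map_surjective fst'
  have hP : CompactSpace ↥P.left := h T T P a b fst snd hT hT sq
  have sqP := H51.isPullback_diag_yon sq
  have hg : g = (yon S).map (Limits.diag T) ≫ prodComparison (yon S) T T ≫ prod.map a b := by
    apply Limits.prod.hom_ext
    · simp only [Category.assoc, prod.map_fst, prodComparison_fst_assoc, ← Functor.map_comp_assoc,
        Limits.diag, prod.lift_fst, ha]
      simp
    · simp only [Category.assoc, prod.map_snd, prodComparison_snd_assoc, ← Functor.map_comp_assoc,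
        Limits.diag, prod.lift_snd, hb]
      simp
  have hw : x ≫ Limits.diag X =
      ((yon S).map e ≫ (yon S).map (Limits.diag T)) ≫ prodComparison (yon S) T T ≫ prod.map a b := by
    rw [sqE.w, hg, Category.assoc]
  have h11 : sqP.lift x ((yon S).map e ≫ (yon S).map (Limits.diag T)) hw ≫
      ((yon S).map fst ≫ a) = x := sqP.lift_fst _ _ _
  have big : IsPullback (sqP.lift x ((yon S).map e ≫ (yon S).map (Limits.diag T)) hw ≫
      ((yon S).map fst ≫ a)) ((yon S).map e) (Limits.diag X)
      ((yon S).map (Limits.diag T) ≫ prodComparison (yon S) T T ≫ prod.map a b) := by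
    rw [h11, ← hg]; exact sqE
  have left : IsPullback (sqP.lift x ((yon S).map e ≫ (yon S).map (Limits.diag T)) hw)
      ((yon S).map e) ((yon S).map (prod.lift fst snd)) ((yon S).map (Limits.diag T)) :=
    IsPullback.of_right big (sqP.lift_snd _ _ _) sqP
  obtain ⟨ε, hε⟩ := (yon S).map_surjective (sqP.lift x ((yon S).map e ≫ (yon S).map (Limits.diag T)) hw)
  rw [← hε] at left
  have hΔ : RepWith @IsClosedImmersion ((yon S).map (Limits.diag T)) :=
    (repWith_yon_map_iff @IsClosedImmersion _).2 (isClosedImmersion_diag_left_of_isAffine T)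
  have hεci : IsClosedImmersion ε.left :=
    (repWith_yon_map_iff @IsClosedImmersion ε).1 (H50.repWith_fst_of_isPullback left hΔ)
  have : CompactSpace ↥E.left := QuasiCompact.compactSpace_of_compactSpace ε.left
  exact inferInstance

end Groth.Agent.H52
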