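import Groth.Agent.H50.Descent
import Mathlib.AlgebraicGeometry.ZariskisMainTheorem

/-!
# fppf descent for quasi-compact morphisms, monomorphisms and closed immersions (helper52)
-/

set_option autoImplicit false
universe u

open CategoryTheory CategoryTheory.Limits AlgebraicGeometry MorphismProperty

namespace Groth.Agent.H52

open Groth.Agent.H50 (fppfProp)

/-- Quasi-compactness descends along a surjective universally open base change. -/
theorem quasiCompact_of_pullback_fst {X Y Z : Scheme.{u}} (f : X ⟶ Z) (g : Y ⟶ Z) [Surjective f]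
    [UniversallyOpen f] (h : QuasiCompact (pullback.fst f g)) : QuasiCompact g := by
  rw [quasiCompact_iff_forall_isAffineOpen]
  intro U hU
  have hUc : IsCompact (U : Set Z) := hU.isCompact
  let ι := {W : X.affineOpens // W.1 ≤ f ⁻¹ᵁ U}
  have hcov : (U : Set Z) ⊆ ⋃ W : ι, f '' (W.1.1 : Set X) := by
    intro z hz
    obtain ⟨x, rfl⟩ := f.surjective z
    obtain ⟨_, ⟨W, hW, rfl⟩, hxW, hWU⟩ := X.isBasis_affineOpens.exists_subset_of_mem_open
      (show x ∈ ((f ⁻¹ᵁ U : X.Opens) : Set X) from hz) (f ⁻¹ᵁ U).2
    exact Set.mem_iUnion.2 ⟨⟨⟨W, hW⟩, hWU⟩, x, hxW, rfl⟩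
  obtain ⟨t, ht⟩ := hUc.elim_finite_subcover (fun W : ι => f '' (W.1.1 : Set X))
    (fun W => f.isOpenMap _ W.1.1.2) hcov
  let K : X.Opens := ⨆ W ∈ t, W.1.1
  have hKset : (K : Set X) = ⋃ W ∈ t, (W.1.1 : Set X) := by
    simp only [K, TopologicalSpace.Opens.coe_iSup]
  have hK : IsCompact (K : Set X) := by
    rw [hKset]
    exact t.finite_toSet.isCompact_biUnion (fun W _ => W.1.2.isCompact)
  have h1 : IsCompact ((pullback.fst f g) ⁻¹ᵁ K : Set ↥(pullback f g)) :=
    (pullback.fst f g).isCompact_preimage hK
  have h2 := h1.image (pullback.snd f g).continuous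
  convert h2 using 1
  ext y
  constructor
  · intro hy
    have hy' : g y ∈ (U : Set Z) := hy
    obtain ⟨W, hW, x, hxW, hx⟩ := Set.mem_iUnion₂.1 (ht hy')
    obtain ⟨a, ha1, ha2⟩ := Scheme.Pullback.exists_preimage_pullback x y hx
    refine ⟨a, ?_, ha2⟩
    change (pullback.fst f g) a ∈ (K : Set X)
    rw [ha1, hKset]
    exact Set.mem_iUnion₂.2 ⟨W, hW, hxW⟩
  · rintro ⟨a, ha, rfl⟩
    have ha' : (pullback.fst f g) a ∈ (K : Set X) := ha
    rw [hKset] at ha'
    obtain ⟨W, -, hW⟩ := Set.mem_iUnion₂.1 ha'
    change g ((pullback.snd f g) a) ∈ (U : Set Z)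
    have : g ((pullback.snd f g) a) = f ((pullback.fst f g) a) := by
      rw [← Scheme.Hom.comp_apply, ← Scheme.Hom.comp_apply, pullback.condition]
    rw [this]
    exact W.2 hW

/-- Quasi-compactness satisfies fppf descent. -/
theorem quasiCompact_descendsAlong_fppf :
    DescendsAlong (@QuasiCompact : MorphismProperty Scheme.{u}) fppfProp := by
  apply DescendsAlong.mk'
  intro X Y Z f g _ hf h
  have : Surjective f := hf.1.1
  have : Flat f := hf.1.2
  have : LocallyOfFinitePresentation f := hf.2
  exact quasiCompact_of_pullback_fst f g h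

/-- Being a monomorphism satisfies fppf descent. -/
theorem mono_descendsAlong_fppf :
    DescendsAlong (MorphismProperty.monomorphisms Scheme.{u}) fppfProp := by
  rw [← MorphismProperty.diagonal_isomorphisms]
  infer_instance

/-- Being a closed immersion satisfies fppf descent. -/
theorem isClosedImmersion_descendsAlong_fppf :
    DescendsAlong (@IsClosedImmersion : MorphismProperty Scheme.{u}) fppfProp := by
  have hm := mono_descendsAlong_fppf.{u}
  refine ⟨fun {A X Y Z fst snd f g} sq hf hfst => ?_⟩
  have hci : IsClosedImmersion fst := hfst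
  have h1 : Mono g := hm.of_isPullback sq hf (inferInstanceAs (Mono fst))
  have h2 : UniversallyClosed g :=
    MorphismProperty.of_isPullback_of_descendsAlong (P := @UniversallyClosed) (Q := fppfProp) sq hf
      inferInstance
  have h3 : LocallyOfFiniteType g :=
    MorphismProperty.of_isPullback_of_descendsAlong (P := @LocallyOfFiniteType) (Q := fppfProp) sq hf
      inferInstance
  have : IsProper g := {}
  exact (IsClosedImmersion.iff_isProper_and_mono g).2 ⟨this, h1⟩

end Groth.Agent.H52
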