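import Groth.Agent.H52.Sections
import Groth.Agent.H52.DescCI

/-!
# Separation properties of morphisms of algebraic spaces and base change (helper52)
-/

set_option autoImplicit false
universe u

open CategoryTheory CategoryTheory.Limits AlgebraicGeometry MorphismProperty
open AlgSp

namespace Groth.Agent.H52

section Cat

variable {C : Type*} [Category C] [HasPullbacks C]

/-- In a pullback square, the diagonal of the base change is the base change of the diagonal. -/
theorem isPullback_diagonal_of_isPullback {X Y X' Y' : C} {f : X ⟶ Y} {p : Y' ⟶ Y} {u : X' ⟶ X}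
    {f' : X' ⟶ Y'} (sq : IsPullback u f' f p) (β : pullback f' f' ⟶ pullback f f)
    (hβ₁ : β ≫ pullback.fst f f = pullback.fst f' f' ≫ u)
    (hβ₂ : β ≫ pullback.snd f f = pullback.snd f' f' ≫ u) :
    IsPullback (pullback.diagonal f') u β (pullback.diagonal f) := by
  have key : ∀ {W : C} (a : W ⟶ pullback f' f') (b : W ⟶ X), a ≫ β = b ≫ pullback.diagonal f →
      a ≫ pullback.fst f' f' ≫ u = b ∧ a ≫ pullback.snd f' f' ≫ u = b := by
    intro W a b h
    have h1 := congr($h ≫ pullback.fst f f)
    have h2 := congr($h ≫ pullback.snd f f)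
    simp only [Category.assoc, hβ₁, hβ₂, pullback.diagonal_fst, pullback.diagonal_snd,
      Category.comp_id] at h1 h2
    exact ⟨h1, h2⟩
  have key2 : ∀ {W : C} (a : W ⟶ pullback f' f') (b : W ⟶ X), a ≫ β = b ≫ pullback.diagonal f →
      a ≫ pullback.fst f' f' = a ≫ pullback.snd f' f' := by
    intro W a b h
    obtain ⟨h1, h2⟩ := key a b h
    apply sq.hom_ext
    · rw [Category.assoc, Category.assoc, h1, h2]
    · rw [Category.assoc, Category.assoc, pullback.condition]
  refine ⟨⟨?_⟩, ⟨PullbackCone.IsLimit.mk _ (fun c => c.fst ≫ pullback.fst f' f') ?_ ?_ ?_⟩⟩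
  · apply pullback.hom_ext
    · rw [Category.assoc, hβ₁, pullback.diagonal_fst_assoc, Category.assoc, pullback.diagonal_fst,
        Category.comp_id]
    · rw [Category.assoc, hβ₂, pullback.diagonal_snd_assoc, Category.assoc, pullback.diagonal_snd,
        Category.comp_id]
  · intro c
    apply pullback.hom_ext
    · rw [Category.assoc, pullback.diagonal_fst, Category.comp_id]
    · rw [Category.assoc, pullback.diagonal_snd, Category.comp_id]
      exact key2 c.fst c.snd c.condition
  · intro c
    rw [Category.assoc]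
    exact (key c.fst c.snd c.condition).1
  · intro c m h1 _
    rw [← h1, Category.assoc, pullback.diagonal_fst, Category.comp_id]

end Cat

variable {S : Scheme.{u}}

/-- Key computation: the base change of the diagonal of `f` to a scheme `T'` over which `f` has been
base changed to `snd` is a base change of the diagonal of `snd`. -/
theorem Q_of_diagonal_baseChange {Q : MorphismProperty Scheme.{u}} {X Y V₀ P : Sp S} {f : X ⟶ Y}
    {p : V₀ ⟶ Y} {fst : P ⟶ X} {snd : P ⟶ V₀} (sq : IsPullback fst snd f p)
    (hQ : RepWith Q (pullback.diagonal snd))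
    {T T' E E' : Over S} (g : (yon S).obj T ⟶ pullback f f) (x : (yon S).obj E ⟶ X) (e : E ⟶ T)
    (sqE : IsPullback x ((yon S).map e) (pullback.diagonal f) g)
    (v : T' ⟶ T) (t₀ : (yon S).obj T' ⟶ V₀)
    (ht₀ : t₀ ≫ p = (yon S).map v ≫ g ≫ pullback.fst f f ≫ f)
    (pfst : E' ⟶ E) (psnd : E' ⟶ T') (sqE' : IsPullback pfst psnd e v) : Q psnd.left := by
  -- the two maps `T' ⟶ P`
  have ht₀' : t₀ ≫ p = (yon S).map v ≫ g ≫ pullback.snd f f ≫ f := by
    rw [ht₀, pullback.condition]
  let a' : (yon S).obj T' ⟶ P := sq.lift ((yon S).map v ≫ g ≫ pullback.fst f f) t₀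
    (by simp only [Category.assoc]; exact ht₀.symm)
  let b' : (yon S).obj T' ⟶ P := sq.lift ((yon S).map v ≫ g ≫ pullback.snd f f) t₀
    (by simp only [Category.assoc]; exact ht₀'.symm)
  have ha'₁ : a' ≫ fst = (yon S).map v ≫ g ≫ pullback.fst f f := sq.lift_fst _ _ _
  have ha'₂ : a' ≫ snd = t₀ := sq.lift_snd _ _ _
  have hb'₁ : b' ≫ fst = (yon S).map v ≫ g ≫ pullback.snd f f := sq.lift_fst _ _ _
  have hb'₂ : b' ≫ snd = t₀ := sq.lift_snd _ _ _
  let γ : (yon S).obj T' ⟶ pullback snd snd := pullback.lift a' b' (ha'₂.trans hb'₂.symm)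
  have hγ₁ : γ ≫ pullback.fst snd snd = a' := pullback.lift_fst _ _ _
  have hγ₂ : γ ≫ pullback.snd snd snd = b' := pullback.lift_snd _ _ _
  let β : pullback snd snd ⟶ pullback f f :=
    pullback.lift (pullback.fst snd snd ≫ fst) (pullback.snd snd snd ≫ fst)
      (by rw [Category.assoc, Category.assoc, sq.w, ← Category.assoc, ← Category.assoc,
        pullback.condition])
  have hβ₁ : β ≫ pullback.fst f f = pullback.fst snd snd ≫ fst := pullback.lift_fst _ _ _
  have hβ₂ : β ≫ pullback.snd f f = pullback.snd snd snd ≫ fst := pullback.lift_snd _ _ _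
  have sqD := isPullback_diagonal_of_isPullback sq β hβ₁ hβ₂
  have hγβ : γ ≫ β = (yon S).map v ≫ g := by
    apply pullback.hom_ext
    · rw [Category.assoc, hβ₁, ← Category.assoc, hγ₁, ha'₁, Category.assoc]
    · rw [Category.assoc, hβ₂, ← Category.assoc, hγ₂, hb'₁, Category.assoc]
  -- the big rectangle
  have big : IsPullback ((yon S).map pfst ≫ x) ((yon S).map psnd) (pullback.diagonal f)
      ((yon S).map v ≫ g) := (sqE'.map (yon S)).paste_horiz sqE
  rw [← hγβ] at big
  -- x in terms of e
  have hx₁ : x = (yon S).map e ≫ g ≫ pullback.fst f f := by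
    have := congr($(sqE.w) ≫ pullback.fst f f)
    simpa only [Category.assoc, pullback.diagonal_fst, Category.comp_id] using this
  have hx₂ : x = (yon S).map e ≫ g ≫ pullback.snd f f := by
    have := congr($(sqE.w) ≫ pullback.snd f f)
    simpa only [Category.assoc, pullback.diagonal_snd, Category.comp_id] using this
  have hw : (yon S).map pfst ≫ (yon S).map e = (yon S).map psnd ≫ (yon S).map v := by
    rw [← Functor.map_comp, ← Functor.map_comp, sqE'.w]
  have e1 : (yon S).map psnd ≫ (yon S).map v ≫ g ≫ pullback.fst f f = (yon S).map pfst ≫ x := by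
    rw [← Category.assoc, ← hw, Category.assoc, ← hx₁]
  have e2 : (yon S).map psnd ≫ (yon S).map v ≫ g ≫ pullback.snd f f = (yon S).map pfst ≫ x := by
    rw [← Category.assoc, ← hw, Category.assoc, ← hx₂]
  have hab : (yon S).map psnd ≫ a' = (yon S).map psnd ≫ b' := by
    apply sq.hom_ext
    · rw [Category.assoc, Category.assoc, ha'₁, hb'₁, e1, e2]
    · rw [Category.assoc, Category.assoc, ha'₂, hb'₂]
  have h₁₁ : ((yon S).map psnd ≫ a') ≫ fst = (yon S).map pfst ≫ x := by
    rw [Category.assoc, ha'₁, e1]
  have hcomm : ((yon S).map psnd ≫ a') ≫ pullback.diagonal snd = (yon S).map psnd ≫ γ := by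
    apply pullback.hom_ext
    · rw [Category.assoc, pullback.diagonal_fst, Category.comp_id, Category.assoc, hγ₁]
    · rw [Category.assoc, pullback.diagonal_snd, Category.comp_id, Category.assoc, hγ₂, hab]
  rw [← h₁₁] at big
  have top : IsPullback ((yon S).map psnd ≫ a') ((yon S).map psnd) (pullback.diagonal snd) γ :=
    IsPullback.of_right big hcomm sqD.flip
  exact hQ.property γ _ psnd top

/-- A property of the diagonal that descends along fppf covers can be checked after one etale surjective
base change from a scheme. -/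
theorem repWith_diagonal_of_etale_cover {Q : MorphismProperty Scheme.{u}}
    [Q.IsStableUnderBaseChange] (hQd : DescendsAlong Q H50.fppfProp) {X Y : Sp S}
    {f : X ⟶ Y} (hrep : Representable (pullback.diagonal f)) {V : Over S}
    (p : (yon S).obj V ⟶ Y) (hpe : RepWith @Etale p) (hps : RepWith @Surjective p) {P : Sp S}
    {fst : P ⟶ X} {snd : P ⟶ (yon S).obj V} (sq : IsPullback fst snd f p)
    (h : RepWith Q (pullback.diagonal snd)) : RepWith Q (pullback.diagonal f) := by
  refine MorphismProperty.relative_of_snd hrep (fun T g => ?_)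
  have hp : Representable p := hpe.rep
  have sqT := hp.isPullback' (g ≫ pullback.fst f f ≫ f)
  have hv1 : Etale (hp.snd (g ≫ pullback.fst f f ≫ f)).left := hpe.property_snd _
  have hv2 : Surjective (hp.snd (g ≫ pullback.fst f f ≫ f)).left := hps.property_snd _
  have sqE' := IsPullback.of_hasPullback (hrep.snd g) (hp.snd (g ≫ pullback.fst f f ≫ f))
  have hr : Q (pullback.snd (hrep.snd g) (hp.snd (g ≫ pullback.fst f f ≫ f))).left :=
    Q_of_diagonal_baseChange sq h g (hrep.fst g) (hrep.snd g) (hrep.isPullback g)
      (hp.snd (g ≫ pullback.fst f f ≫ f)) ((yon S).map (hp.fst' (g ≫ pullback.fst f f ≫ f)))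
      sqT.w _ _ sqE'
  exact H50.descend_of_isPullback_over hQd sqE' hv1 hv2 hr

/-- A Zariski local property of the diagonal can be checked after base change to affine schemes. -/
theorem repWith_diagonal_of_affine {Q : MorphismProperty Scheme.{u}}
    [Q.IsStableUnderBaseChange] [IsZariskiLocalAtTarget Q] {X Y : Sp S} {f : X ⟶ Y}
    (hrep : Representable (pullback.diagonal f))
    (h : ∀ (Z : Over S), IsAffine Z.left → ∀ (g : (yon S).obj Z ⟶ Y),
      RepWith Q (pullback.diagonal (pullback.snd f g))) : RepWith Q (pullback.diagonal f) := by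
  refine MorphismProperty.relative_of_snd hrep (fun T g => ?_)
  change Q (hrep.snd g).left
  refine IsZariskiLocalAtTarget.of_openCover (P := Q) T.left.affineCover (fun i => ?_)
  let U : Over S := Over.mk (T.left.affineCover.f i ≫ T.hom)
  let τ : U ⟶ T := Over.homMk (T.left.affineCover.f i) rfl
  have hU : IsAffine U.left := inferInstanceAs (IsAffine (T.left.affineCover.X i))
  have sqE' := IsPullback.of_hasPullback (hrep.snd g) τ
  have hr : Q (pullback.snd (hrep.snd g) τ).left :=
    Q_of_diagonal_baseChange (p := (yon S).map τ ≫ g ≫ pullback.fst f f ≫ f)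
      (IsPullback.of_hasPullback f _) (h U hU _) g (hrep.fst g) (hrep.snd g)
      (hrep.isPullback g) τ (𝟙 _) (Category.id_comp _) _ _ sqE'
  have sqS : IsPullback (pullback.fst (hrep.snd g) τ).left (pullback.snd (hrep.snd g) τ).left
      (hrep.snd g).left (T.left.affineCover.f i) := sqE'.map (Over.forget S)
  have : Q.RespectsIso := MorphismProperty.IsStableUnderBaseChange.respectsIso
  have e := sqS.isoPullback_hom_snd
  change Q (pullback.snd (hrep.snd g).left (T.left.affineCover.f i))
  rw [← Q.cancel_left_of_respectsIso sqS.isoPullback.hom, e]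
  exact hr

end Groth.Agent.H52
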