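import Groth.Agent.H52.FQZar
import Groth.Agent.H52.SepBC
import Groth.Agent.H52.QSAffine

/-!
# Representable and quasi-separated morphisms are decent (helper52)
-/

set_option autoImplicit false
universe u

open CategoryTheory CategoryTheory.Limits AlgebraicGeometry Opposite AlgSp

namespace Groth.Agent.H52

variable {S : Scheme.{u}}

/-- Schemes are decent. -/
theorem isDecent_yon (T : Over S) : IsDecent ((yon S).obj T) := by
  intro x
  have hx : Points.ofScheme T (Points.toScheme T x) = x := Points.ofScheme_toScheme T x
  refine ⟨FieldPt.ofPt (𝟙 _) (Points.toScheme T x), hx, ?_, ?_⟩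
  · rw [FieldPt.toHom_ofPt, Category.comp_id]
    have h1 : Mono (T.left.fromSpecResidueField (Points.toScheme T x)) := inferInstance
    have h2 : Mono (Over.homMk (T.left.fromSpecResidueField (Points.toScheme T x)) rfl :
        Over.mk (T.left.fromSpecResidueField (Points.toScheme T x) ≫ T.hom) ⟶ T) :=
      (Over.forget S).mono_of_mono_map h1
    exact @Functor.map_mono _ _ _ _ (yon S) _ _ _ _ h2
  · rw [FieldPt.toHom_ofPt, Category.comp_id]
    exact (repWith_yon_map_iff _ _).2 (quasiCompact_of_field _)

/-- A sheaf quasi-separated over an affine scheme is quasi-separated over `S`. -/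
theorem isQuasiSeparatedSp_of_quasiSeparated_over_affine {F : Sp S} {T : Over S} [IsAffine T.left]
    (h : F ⟶ (yon S).obj T) (hh : RepWith @QuasiCompact (pullback.diagonal h)) :
    IsQuasiSeparatedSp F := by
  have e : Limits.diag F =
      pullback.diagonal h ≫ prod.lift (pullback.fst h h) (pullback.snd h h) := by
    apply Limits.prod.hom_ext <;> simp [Limits.diag]
  have hT : RepWith @QuasiCompact (Limits.diag ((yon S).obj T)) := by
    rw [repWith_diag_yon_iff]
    have : IsSeparated T.hom := inferInstance
    infer_instance
  have sq := (H51.isPullback_diag_of_isPullback (IsPullback.of_hasPullback h h)).flip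
  have h2 : RepWith @QuasiCompact (prod.lift (pullback.fst h h) (pullback.snd h h)) :=
    H50.repWith_fst_of_isPullback sq hT
  change RepWith @QuasiCompact (Limits.diag F)
  rw [e]
  exact (RepWith @QuasiCompact).comp_mem _ _ hh h2

/-- The diagonal of a base change is quasi-compact when the diagonal of the morphism is. -/
theorem repWith_quasiCompact_diagonal_baseChange {X Y X' Y' : Sp S} {f : X ⟶ Y} {p : Y' ⟶ Y}
    {u : X' ⟶ X} {f' : X' ⟶ Y'} (sq : IsPullback u f' f p)
    (hf : RepWith @QuasiCompact (pullback.diagonal f)) :
    RepWith @QuasiCompact (pullback.diagonal f') := by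
  have w : (pullback.fst f' f' ≫ u) ≫ f = (pullback.snd f' f' ≫ u) ≫ f := by
    rw [Category.assoc, Category.assoc, sq.w, ← Category.assoc, ← Category.assoc,
      pullback.condition]
  exact H50.repWith_fst_of_isPullback
    (isPullback_diagonal_of_isPullback sq (pullback.lift _ _ w) (pullback.lift_fst _ _ _)
      (pullback.lift_snd _ _ _)) hf

/-- An algebraic space quasi-separated over a scheme is decent. -/
theorem isDecent_of_quasiSeparated_over_scheme {F : Sp S} (hF : IsAlgSpace F) {T : Over S}
    (h : F ⟶ (yon S).obj T) (hh : RepWith @QuasiCompact (pullback.diagonal h)) : IsDecent F := by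
  refine isDecent_of_zarCover hF (ι := T.left.affineOpens)
    (fun α => pullback h ((yon S).map (overOpenHom T α.1))) (fun α => ?_)
    (fun α => pullback.fst h ((yon S).map (overOpenHom T α.1))) ⟨fun α => ?_, fun x => ?_⟩
    (fun α => ?_)
  · exact isAlgSpace_of_isPullback (IsPullback.of_hasPullback h _) (IsAlgSpace.yon_obj T).diag hF
      (IsAlgSpace.yon_obj _)
  · exact H50.repWith_fst_of_isPullback (IsPullback.of_hasPullback h _)
      ((repWith_yon_map_iff @IsOpenImmersion _).2
        (show IsOpenImmersion (Scheme.Opens.ι α.1) from inferInstance))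
  · obtain ⟨_, ⟨O, hO, rfl⟩, htO, -⟩ :=
      T.left.isBasis_affineOpens.exists_subset_of_mem_open
        (Set.mem_univ (Points.toScheme T (Points.map h x))) isOpen_univ
    refine ⟨⟨O, hO⟩, ?_⟩
    have hy : Points.map h x = Points.map ((yon S).map (overOpenHom T O))
        (Points.ofScheme (overOpen T O) (⟨_, htO⟩ : ↥O)) := by
      rw [map_yon_map_ofScheme]
      exact (Points.ofScheme_toScheme T _).symm
    obtain ⟨z, hz, -⟩ := H50.exists_point_of_isPullback (IsPullback.of_hasPullback h _) x _ hy
    exact ⟨z, hz⟩
  · have : IsAffine (overOpen T α.1).left := α.2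
    have hA := isAlgSpace_of_isPullback (IsPullback.of_hasPullback h
      ((yon S).map (overOpenHom T α.1))) (IsAlgSpace.yon_obj T).diag hF (IsAlgSpace.yon_obj _)
    exact isDecent_of_isQuasiSeparatedSp hA
      (isQuasiSeparatedSp_of_quasiSeparated_over_affine (pullback.snd h _)
        (repWith_quasiCompact_diagonal_baseChange (IsPullback.of_hasPullback h _) hh))

end Groth.Agent.H52
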