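import Groth.Agent.H52.Topology
import Groth.Agent.H52.Charts

/-!
# Existence of a chart diagram of a morphism of algebraic spaces through a given point (helper52)
-/

set_option autoImplicit false
universe u

open CategoryTheory CategoryTheory.Limits AlgebraicGeometry Opposite AlgSp

namespace Groth.Agent.H52

variable {S : Scheme.{u}}

/-- Every point of the source of a morphism of algebraic spaces lies in some chart diagram. -/
theorem exists_chart_diagram_at {X Y : Sp S} (hX : IsAlgSpace X) (hY : IsAlgSpace Y) (f : X ⟶ Y)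
    (x : Points X) :
    ∃ (U V : Over S) (a : (yon S).obj U ⟶ X) (b : (yon S).obj V ⟶ Y) (h : U ⟶ V) (u : ↥U.left),
      RepWith @Etale a ∧ RepWith @Etale b ∧ a ≫ f = (yon S).map h ≫ b ∧ Points.ofPt a u = x := by
  obtain ⟨U₀, p, hpe, hps⟩ := hX.atlas
  obtain ⟨V₀, q, hqe, hqs⟩ := hY.atlas
  obtain ⟨U, h, a', sqW⟩ := (hY.representable_from_yon (p ≫ f)) q
  obtain ⟨a₁, rfl⟩ := (yon S).map_surjective a'
  have ha₁ : Etale a₁.left := hqe.2 _ _ _ sqW.flip
  obtain ⟨u₀, hu₀⟩ := surjective_ofPt_of_surjective p hps x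
  obtain ⟨v₀, hv₀⟩ := surjective_ofPt_of_surjective q hqs (Points.map f x)
  have hpt : Points.ofPt (p ≫ f) u₀ = Points.ofPt q v₀ := by
    rw [hv₀, ← hu₀, Points.map_ofPt]
  obtain ⟨u, hu, -⟩ := exists_of_ofPt_eq_ofPt sqW u₀ v₀ hpt
  refine ⟨U, V₀, (yon S).map a₁ ≫ p, q, h, u, repWith_yon_map_comp @Etale a₁ ha₁ p hpe, hqe, ?_, ?_⟩
  · rw [Category.assoc]; exact sqW.w
  · rw [ofPt_yon_map_comp, hu, hu₀]

end Groth.Agent.H52
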