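import Mathlib
import Groth.Prelude.Def_AlgSpDec
import Groth.Agent.H52.Topology
import Groth.Agent.H70.LocalDimEtale

/-!
# Independence of the chart for local dimensions and fibre dimensions (helper52)
-/

set_option autoImplicit false
universe u
open CategoryTheory CategoryTheory.Limits AlgebraicGeometry
open AlgSp

namespace Groth.Agent.H52

variable {S : Scheme.{u}}

/-- The local dimension at a point of an étale chart only depends on the image point. -/
theorem localDim_eq_of_charts {X : Sp S} {U U' : Over S} (a : (yon S).obj U ⟶ X)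
    (a' : (yon S).obj U' ⟶ X) (ha : RepWith @Etale a) (ha' : RepWith @Etale a') (u : ↥U.left)
    (u' : ↥U'.left) (hu : Points.ofPt a u = Points.ofPt a' u') :
    FlatMor.localDim ↥U.left u = FlatMor.localDim ↥U'.left u' := by
  have sqW := ha.rep.isPullback' a'
  have hw₂e : Etale (ha.rep.snd a').left := ha.property_snd a'
  have hw₁e : Etale (ha.rep.fst' a').left := ha'.2 a ((yon S).map (ha.rep.snd a')) _ sqW.flip
  obtain ⟨w, hw1, hw2⟩ := exists_of_ofPt_eq_ofPt sqW u u' hu
  rw [← hw1, ← hw2, ← Groth.Agent.H70.LocalDimEtale.localDim_eq_of_etale (ha.rep.fst' a').left w,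
    ← Groth.Agent.H70.LocalDimEtale.localDim_eq_of_etale (ha.rep.snd a').left w]

/-- The fibre dimension at a point of a chart diagram only depends on the image point. -/
theorem fibreDimAt_eq_of_charts {X Y : Sp S}
    (f : X ⟶ Y) {U V : Over S} (a : (yon S).obj U ⟶ X) (b : (yon S).obj V ⟶ Y) (h : U ⟶ V)
    (ha : RepWith @Etale a) (hb : RepWith @Etale b)
    (comm : a ≫ f = (yon S).map h ≫ b)
    {U' V' : Over S} (a' : (yon S).obj U' ⟶ X) (b' : (yon S).obj V' ⟶ Y) (h' : U' ⟶ V')
    (ha' : RepWith @Etale a') (hb' : RepWith @Etale b')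
    (comm' : a' ≫ f = (yon S).map h' ≫ b') (u : ↥U.left) (u' : ↥U'.left)
    (hu : Points.ofPt a u = Points.ofPt a' u') :
    FlatMor.fibreDimAt h.left u = FlatMor.fibreDimAt h'.left u' := by
  have sqW := ha.rep.isPullback' a'
  have hw₂e : Etale (ha.rep.snd a').left := ha.property_snd a'
  have hw₁e : Etale (ha.rep.fst' a').left := ha'.2 a ((yon S).map (ha.rep.snd a')) _ sqW.flip
  have sqV := hb.rep.isPullback' b'
  have hv₂e : Etale (hb.rep.snd b').left := hb.property_snd b'
  have hv₁e : Etale (hb.rep.fst' b').left := hb'.2 b ((yon S).map (hb.rep.snd b')) _ sqV.flip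
  have hcomp : (yon S).map (ha.rep.fst' a' ≫ h) ≫ b = (yon S).map (ha.rep.snd a' ≫ h') ≫ b' := by
    rw [Functor.map_comp, Functor.map_comp, Category.assoc, Category.assoc, ← comm, ← comm',
      ← Category.assoc, ← Category.assoc, sqW.w]
  obtain ⟨k, hk⟩ := (yon S).map_surjective (sqV.lift _ _ hcomp)
  have hk₁ : k ≫ hb.rep.fst' b' = ha.rep.fst' a' ≫ h := by
    apply (yon S).map_injective
    rw [Functor.map_comp, hk, sqV.lift_fst]
  have hk₂ : k ≫ hb.rep.snd b' = ha.rep.snd a' ≫ h' := by
    apply (yon S).map_injective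
    rw [Functor.map_comp, hk, sqV.lift_snd]
  obtain ⟨w, hw1, hw2⟩ := exists_of_ofPt_eq_ofPt sqW u u' hu
  have e1 := Groth.Agent.H70.LocalDimEtale.fibreDimAt_eq_of_etale_square h.left k.left
    (ha.rep.fst' a').left (hb.rep.fst' b').left (congrArg (fun m => m.left) hk₁) w
  have e2 := Groth.Agent.H70.LocalDimEtale.fibreDimAt_eq_of_etale_square h'.left k.left
    (ha.rep.snd a').left (hb.rep.snd b').left (congrArg (fun m => m.left) hk₂) w
  rw [← hw1, ← hw2, e1, e2]

/-- A value of the fibre dimension read on some chart diagram is the value on every chart diagram. -/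
theorem fibreDimAt_eq_of_hasAtMor {X Y : Sp S} (f : X ⟶ Y) (x : Points X) (d : WithBot ℕ∞)
    (hd : HasAtMor (fun _ _ h u => FlatMor.fibreDimAt h u = d) f x)
    {U V : Over S} (a : (yon S).obj U ⟶ X) (b : (yon S).obj V ⟶ Y) (h : U ⟶ V)
    (ha : RepWith @Etale a) (hb : RepWith @Etale b)
    (comm : a ≫ f = (yon S).map h ≫ b) (u : ↥U.left) (hu : Points.ofPt a u = x) :
    FlatMor.fibreDimAt h.left u = d := by
  obtain ⟨U', V', a', b', h', u', ha', hb', comm', hu', hd'⟩ := hd
  rw [← hd']
  exact fibreDimAt_eq_of_charts f a b h ha hb comm a' b' h' ha' hb' comm' u u' (hu.trans hu'.symm)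

/-- A value of the local dimension read on some chart is the value on every chart. -/
theorem localDim_eq_of_hasAt {X : Sp S} (x : Points X) (d : WithBot ℕ∞)
    (hd : HasAt (fun U u => FlatMor.localDim ↥U u = d) X x)
    {U : Over S} (a : (yon S).obj U ⟶ X) (ha : RepWith @Etale a) (u : ↥U.left)
    (hu : Points.ofPt a u = x) : FlatMor.localDim ↥U.left u = d := by
  obtain ⟨U', a', u', ha', hu', hd'⟩ := hd
  rw [← hd']
  exact localDim_eq_of_charts a a' ha ha' u u' (hu.trans hu'.symm)

end Groth.Agent.H52
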