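import Groth.Agent.H52.Points
import Mathlib.AlgebraicGeometry.Morphisms.FlatMono

/-!
# helper52: field-valued points in the class of a monomorphic quasi-compact point factor through it
-/

universe u

open CategoryTheory CategoryTheory.Limits AlgebraicGeometry Opposite AlgSp

namespace Groth.Agent.H52

variable {S : Scheme.{u}}

theorem toHom_restrict {F : Sp S} (p : FieldPt F) {Ω : Type u} [Field Ω]
    {w : Spec (CommRingCat.of Ω) ⟶ S} (a : Over.mk w ⟶ p.pt) :
    (restrict p a).toHom = (yon S).map a ≫ p.toHom :=
  ((J S).uliftYonedaEquiv_symm_naturality_left a F p.val).symm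

/-- A quasi-compact monomorphism from a nonempty scheme to the spectrum of a field is an isomorphism. -/
theorem isIso_of_mono_of_quasiCompact_of_nonempty {Z : Scheme.{u}} {K : Type u} [Field K]
    (f : Z ⟶ Spec (CommRingCat.of K)) [Mono f] [QuasiCompact f] [Nonempty ↥Z] : IsIso f := by
  have : Surjective f := ⟨fun y => ⟨Classical.arbitrary ↥Z,
    Subsingleton.elim (α := PrimeSpectrum K) _ _⟩⟩
  exact Flat.isIso_of_surjective_of_mono f

/-- If `p.toHom` is a monomorphism and representable quasi-compact, every field-valued point in the class of `p`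
factors through `p`. -/
theorem exists_factor_of_mk_eq {F : Sp S} (p q : FieldPt F) (hm : Mono p.toHom)
    (hp : RepWith @QuasiCompact p.toHom) (h : Points.mk q = Points.mk p) :
    ∃ c : q.pt ⟶ p.pt, (yon S).map c ≫ p.toHom = q.toHom := by
  obtain ⟨Ω, _, w, a, b, hab⟩ := Points.mk_eq_mk_iff.mp h
  have e : (yon S).map a ≫ q.toHom = (yon S).map b ≫ p.toHom := by
    rw [← toHom_restrict, ← toHom_restrict]
    unfold restrict
    rw [hab]
  obtain ⟨V, snd, fst, sq⟩ := hp.1 q.toHom
  have hqc : QuasiCompact snd.left := hp.2 _ _ _ sq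
  have hmono1 : Mono ((yon S).map snd) := PullbackCone.mono_snd_of_is_pullback_of_mono sq.isLimit
  have hmono2 : Mono snd := (yon S).mono_of_mono_map hmono1
  have hmono3 : Mono snd.left := inferInstance
  obtain ⟨l', hl'⟩ := (yon S).map_surjective (sq.lift ((yon S).map b) ((yon S).map a) e.symm)
  have hne : Nonempty ↥V.left := ⟨l'.left (IsLocalRing.closedPoint Ω : PrimeSpectrum Ω)⟩
  have hiso : IsIso snd.left := isIso_of_mono_of_quasiCompact_of_nonempty (K := q.K) snd.left
  have hiso' : IsIso snd := by
    have : IsIso ((Over.forget S).map snd) := hiso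
    exact isIso_of_reflects_iso snd (Over.forget S)
  obtain ⟨φ, rfl⟩ := (yon S).map_surjective fst
  refine ⟨inv snd ≫ φ, ?_⟩
  rw [Functor.map_comp, Category.assoc, sq.w, ← Category.assoc, ← Functor.map_comp, IsIso.inv_hom_id]
  erw [(yon S).map_id]
  exact Category.id_comp _

end Groth.Agent.H52
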