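import Mathlib
import Groth.Prelude.Def_AlgSpDec
import Groth.Agent.H52.Topology
import Groth.Agent.H25.EtaleDimStalk

/-!
# Independence of the chart for the Krull dimension of local rings (helper52)
-/

set_option autoImplicit false
universe u
open CategoryTheory CategoryTheory.Limits AlgebraicGeometry
open AlgSp

namespace Groth.Agent.H52

variable {S : Scheme.{u}}

/-- The Krull dimension of the local ring at a point of an étale chart only depends on the image point. -/
theorem ringKrullDim_stalk_eq_of_charts {X : Sp S} {U U' : Over S} (a : (yon S).obj U ⟶ X)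
    (a' : (yon S).obj U' ⟶ X) (ha : RepWith @Etale a) (ha' : RepWith @Etale a') (u : ↥U.left)
    (u' : ↥U'.left) (hu : Points.ofPt a u = Points.ofPt a' u') :
    ringKrullDim ↥(U.left.presheaf.stalk u) = ringKrullDim ↥(U'.left.presheaf.stalk u') := by
  have sqW := ha.rep.isPullback' a'
  have hw₂e : Etale (ha.rep.snd a').left := ha.property_snd a'
  have hw₁e : Etale (ha.rep.fst' a').left := ha'.2 a ((yon S).map (ha.rep.snd a')) _ sqW.flip
  obtain ⟨w, hw1, hw2⟩ := exists_of_ofPt_eq_ofPt sqW u u' hu
  rw [← hw1, ← hw2, ← Groth.Agent.H25.EtaleDimStalk.ringKrullDim_stalk_eq_of_etale (ha.rep.fst' a').left w,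
    ← Groth.Agent.H25.EtaleDimStalk.ringKrullDim_stalk_eq_of_etale (ha.rep.snd a').left w]

/-- A value of the Krull dimension of the local ring read on some chart is the value on every chart. -/
theorem ringKrullDim_stalk_eq_of_hasAt {X : Sp S} (x : Points X) (d : WithBot ℕ∞)
    (hd : HasAt (fun U u => ringKrullDim ↥(U.presheaf.stalk u) = d) X x)
    {U : Over S} (a : (yon S).obj U ⟶ X) (ha : RepWith @Etale a) (u : ↥U.left)
    (hu : Points.ofPt a u = x) : ringKrullDim ↥(U.left.presheaf.stalk u) = d := by
  obtain ⟨U', a', u', ha', hu', hd'⟩ := hd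
  rw [← hd']
  exact ringKrullDim_stalk_eq_of_charts a a' ha ha' u u' (hu.trans hu'.symm)

end Groth.Agent.H52
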