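import Groth.Agent.H52.SrcDescent
import Groth.Prelude.Def_AlgSp4

/-!
# Chart independence of `AlgSp.LocP` (helper52)
-/

set_option autoImplicit false
universe u

open CategoryTheory CategoryTheory.Limits AlgebraicGeometry MorphismProperty
open AlgSp

namespace Groth.Agent.H52

/-- The properties of morphisms of schemes that are etale local on the source-and-target. -/
structure EtLocal (P : MorphismProperty Scheme.{u}) : Prop where
  bc : P.IsStableUnderBaseChange
  mult : P.IsMultiplicative
  etale : ∀ ⦃A B : Scheme.{u}⦄ (g : A ⟶ B), Etale g → P g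
  src : SrcLocal P

namespace EtLocal

variable {P : MorphismProperty Scheme.{u}}

theorem of_postcomp (hP : EtLocal P) {A B C : Scheme.{u}} (k : A ⟶ B) (l : B ⟶ C) (hl : Etale l)
    (h : P (k ≫ l)) : P k := by
  have := hP.bc
  have := hP.mult
  have : P.HasOfPostcompProperty @Etale := by
    rw [MorphismProperty.hasOfPostcompProperty_iff_le_diagonal]
    intro X Y f hf
    have : Etale f := hf
    exact hP.etale _ (inferInstanceAs (Etale (pullback.diagonal f)))
  exact P.of_postcomp (W' := @Etale) k l hl h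

theorem precomp (hP : EtLocal P) {A B C : Scheme.{u}} (k : A ⟶ B) (l : B ⟶ C) (hk : Etale k)
    (h : P l) : P (k ≫ l) :=
  have := hP.mult
  P.comp_mem _ _ (hP.etale _ hk) h

theorem postcomp (hP : EtLocal P) {A B C : Scheme.{u}} (k : A ⟶ B) (l : B ⟶ C) (hl : Etale l)
    (h : P k) : P (k ≫ l) :=
  have := hP.mult
  P.comp_mem _ _ h (hP.etale _ hl)

end EtLocal

variable {S : Scheme.{u}}

/-- Chart independence: if one chart diagram of `f` with surjective etale source chart has top arrow
in `P`, then `f` has `P` etale locally on source and target. -/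
theorem locP_of_one_chart {P : MorphismProperty Scheme.{u}} (hP : EtLocal P) {X Y : Sp S}
    (f : X ⟶ Y) {U V : Over S} (a : (yon S).obj U ⟶ X) (b : (yon S).obj V ⟶ Y) (h : U ⟶ V)
    (ha : RepWith @Etale a) (has : RepWith @Surjective a) (hb : RepWith @Etale b)
    (comm : a ≫ f = (yon S).map h ≫ b) (hh : P h.left) : LocP P f := by
  intro U' V' a' b' h' ha' hb' comm'
  -- W = U ×_X U'
  have sqW := ha.rep.isPullback' a'
  have hw₂e : Etale (ha.rep.snd a').left := ha.property_snd a'
  have hw₂s : Surjective (ha.rep.snd a').left := has.property_snd a'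
  have hw₁e : Etale (ha.rep.fst' a').left := ha'.2 a ((yon S).map (ha.rep.snd a')) _ sqW.flip
  -- V'' = V ×_Y V'
  have sqV := hb.rep.isPullback' b'
  have hv₂e : Etale (hb.rep.snd b').left := hb.property_snd b'
  have hv₁e : Etale (hb.rep.fst' b').left := hb'.2 b ((yon S).map (hb.rep.snd b')) _ sqV.flip
  -- the map W ⟶ V''
  have hcomp : (yon S).map (ha.rep.fst' a' ≫ h) ≫ b = (yon S).map (ha.rep.snd a' ≫ h') ≫ b' := by
    rw [Functor.map_comp, Functor.map_comp, Category.assoc, Category.assoc, ← comm, ← comm',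
      ← Category.assoc, ← Category.assoc, sqW.w]
  obtain ⟨k, hk⟩ := (yon S).map_surjective (sqV.lift _ _ hcomp)
  have hk₁ : k ≫ hb.rep.fst' b' = ha.rep.fst' a' ≫ h := by
    apply (yon S).map_injective
    rw [Functor.map_comp, hk, sqV.lift_fst]
  have hk₂ : k ≫ hb.rep.snd b' = ha.rep.snd a' ≫ h' := by
    apply (yon S).map_injective
    rw [Functor.map_comp, hk, sqV.lift_snd]
  have h1 : P ((ha.rep.fst' a').left ≫ h.left) := hP.precomp _ _ hw₁e hh
  have h2 : P (k.left ≫ (hb.rep.fst' b').left) := by
    rw [← Over.comp_left, hk₁, Over.comp_left]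
    exact h1
  have h3 : P k.left := hP.of_postcomp _ _ hv₁e h2
  have h4 : P (k.left ≫ (hb.rep.snd b').left) := hP.postcomp _ _ hv₂e h3
  have h5 : P ((ha.rep.snd a').left ≫ h'.left) := by
    rw [← Over.comp_left, ← hk₂, Over.comp_left]
    exact h4
  exact SrcLocal.of_single (P := P) hP.src _ _ hw₂e hw₂s h5

/-- `LocP P` is preserved by precomposition with a chart. -/
theorem locP_chart_comp {P : MorphismProperty Scheme.{u}} {X Y : Sp S} {f : X ⟶ Y}
    (hf : LocP P f) {U : Over S} (φ : (yon S).obj U ⟶ X) (hφ : RepWith @Etale φ) :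
    LocP P (φ ≫ f) := by
  intro U' V' a' b' h' ha' hb' comm'
  have := AlgSp.repWith_isMultiplicative (S := S) @Etale
  exact hf (a' ≫ φ) b' h' ((RepWith @Etale).comp_mem _ _ ha' hφ) hb'
    (by rw [Category.assoc, comm'])

end Groth.Agent.H52
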