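import Mathlib

/-!
# Ring-level source descent along etale faithfully flat maps (helper52)
-/

set_option autoImplicit false
universe u

open TensorProduct

namespace Groth.Agent.H52

section Unramified

variable (R A B : Type*) [CommRing R] [CommRing A] [CommRing B] [Algebra R A] [Algebra A B]
  [Algebra R B] [IsScalarTower R A B]

/-- Formally unramified descends on the source along formally etale faithfully flat maps. -/
theorem formallyUnramified_of_comp_etale [Algebra.FormallyEtale A B] [Module.FaithfullyFlat A B]
    [Algebra.FormallyUnramified R B] : Algebra.FormallyUnramified R A := by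
  constructor
  have e := KaehlerDifferential.tensorKaehlerEquivOfFormallyEtale R A B
  have : Subsingleton (B ⊗[A] Ω[A⁄R]) := e.toEquiv.subsingleton
  exact (Module.FaithfullyFlat.subsingleton_tensorProduct_iff_right A B).mp this

/-- Quasi-finite descends on the source along faithfully flat maps. -/
theorem quasiFinite_of_comp_faithfullyFlat [Module.FaithfullyFlat A B]
    [Algebra.QuasiFinite R B] : Algebra.QuasiFinite R A := by
  refine ⟨fun P _ => ?_⟩
  let f : A →ₗ[R] B := (IsScalarTower.toAlgHom R A B).toLinearMap
  let g : P.Fiber A →ₗ[P.ResidueField] P.Fiber B := f.baseChange P.ResidueField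
  have hmk : Function.Injective (TensorProduct.mk A B (A ⊗[R] P.ResidueField) 1) :=
    Module.FaithfullyFlat.tensorProduct_mk_injective (A := A) (B := B) _
  have key : ∀ x : P.ResidueField ⊗[R] A,
      (TensorProduct.comm R B P.ResidueField)
        (AlgebraTensorModule.cancelBaseChange R A B B P.ResidueField
          (TensorProduct.mk A B (A ⊗[R] P.ResidueField) 1
            (TensorProduct.comm R P.ResidueField A x))) = g x := by
    intro x
    induction x with
    | zero => simp
    | add x y hx hy => simp only [map_add, hx, hy]
    | tmul k a => simp [g, f, Algebra.smul_def]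
  have hg : Function.Injective g := by
    intro x y hxy
    rw [← key, ← key] at hxy
    exact (TensorProduct.comm R P.ResidueField A).injective
      (hmk ((AlgebraTensorModule.cancelBaseChange R A B B P.ResidueField).injective
        ((TensorProduct.comm R B P.ResidueField).injective hxy)))
  have : IsNoetherian P.ResidueField (P.Fiber B) := inferInstance
  exact Module.Finite.of_injective g hg

end Unramified

theorem _root_.RingHom.FormallyUnramified.of_comp_etale_faithfullyFlat {R A B : Type*} [CommRing R]
    [CommRing A] [CommRing B] (φ : R →+* A) (ψ : A →+* B) (hψ : ψ.Etale)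
    (hψ' : ψ.FaithfullyFlat) (h : (ψ.comp φ).FormallyUnramified) : φ.FormallyUnramified := by
  algebraize [φ, ψ, ψ.comp φ]
  have : Module.FaithfullyFlat A B := hψ'
  have : Algebra.FormallyUnramified R B := h
  exact formallyUnramified_of_comp_etale R A B

theorem _root_.RingHom.QuasiFinite.of_comp_faithfullyFlat {R A B : Type*} [CommRing R]
    [CommRing A] [CommRing B] (φ : R →+* A) (ψ : A →+* B)
    (hψ' : ψ.FaithfullyFlat) (h : (ψ.comp φ).QuasiFinite) : φ.QuasiFinite := by
  algebraize [φ, ψ, ψ.comp φ]
  have : Module.FaithfullyFlat A B := hψ'
  have : Algebra.QuasiFinite R B := h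
  exact quasiFinite_of_comp_faithfullyFlat R A B

end Groth.Agent.H52
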