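import Mathlib

/-!
# Reduction of etale-local-on-the-source statements to affine schemes / rings (helper52)
-/

set_option autoImplicit false
universe u

open CategoryTheory AlgebraicGeometry MorphismProperty

namespace Groth.Agent.H52

/-- Source descent along etale surjective families can be checked for affine schemes. -/
theorem srcDescent_of_affine {P : MorphismProperty Scheme.{u}} [IsZariskiLocalAtSource P]
    [IsZariskiLocalAtTarget P] [P.RespectsRight @IsOpenImmersion]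
    (H : ∀ {X Y Z : Scheme.{u}} [IsAffine X] [IsAffine Y] [IsAffine Z] (e : X ⟶ Y) (h : Y ⟶ Z),
      Etale e → Surjective e → P (e ≫ h) → P h)
    {ι : Type*} {X : ι → Scheme.{u}} {Y Z : Scheme.{u}} (e : ∀ i, X i ⟶ Y) (h : Y ⟶ Z)
    (he : ∀ i, Etale (e i)) (hs : ∀ y : Y, ∃ i, y ∈ Set.range (e i))
    (Hc : ∀ i, P (e i ≫ h)) : P h := by
  rw [IsZariskiLocalAtSource.iff_exists_resLE (P := P)]
  intro y
  obtain ⟨i, x, rfl⟩ := hs y
  have := he i
  obtain ⟨U, hU, hyU, -⟩ := TopologicalSpace.Opens.isBasis_iff_nbhd.mp Z.isBasis_affineOpens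
    (TopologicalSpace.Opens.mem_top (h (e i x)))
  obtain ⟨V, hV, hyV, hVU⟩ := TopologicalSpace.Opens.isBasis_iff_nbhd.mp Y.isBasis_affineOpens
    (show e i x ∈ h ⁻¹ᵁ U from hyU)
  obtain ⟨W, hW, hxW, hWV⟩ := TopologicalSpace.Opens.isBasis_iff_nbhd.mp
    (X i).isBasis_affineOpens (show x ∈ (e i) ⁻¹ᵁ V from hyV)
  have hopen : IsOpen ((e i) '' (W : Set (X i))) := (e i).isOpenMap _ W.2
  let I : Y.Opens := ⟨_, hopen⟩
  obtain ⟨s, hsI, hys⟩ := hV.exists_basicOpen_le (V := I) ⟨e i x, ⟨x, hxW, rfl⟩⟩ hyV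
  have hV'V : Y.basicOpen s ≤ V := Y.basicOpen_le s
  let W' : (X i).Opens := (X i).basicOpen ((e i).appLE V W hWV s)
  have hW' : IsAffineOpen W' := hW.basicOpen _
  have hV' : IsAffineOpen (Y.basicOpen s) := hV.basicOpen s
  have hmem : ∀ w : X i, w ∈ W' ↔ w ∈ W ∧ e i w ∈ Y.basicOpen s := by
    intro w
    simp [W', Scheme.Hom.appLE, ← Scheme.preimage_basicOpen]
  have hW'V' : W' ≤ (e i) ⁻¹ᵁ (Y.basicOpen s) := fun w hw => ((hmem w).1 hw).2
  have hV'U : Y.basicOpen s ≤ h ⁻¹ᵁ U := hV'V.trans hVU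
  refine ⟨U, Y.basicOpen s, hys, hV'U, ?_⟩
  have : IsAffine W'.toScheme := hW'
  have : IsAffine (Y.basicOpen s).toScheme := hV'
  have : IsAffine (Scheme.Opens.toScheme U) := hU
  refine H ((e i).resLE (Y.basicOpen s) W' hW'V') (h.resLE U (Y.basicOpen s) hV'U)
    inferInstance ⟨fun v => ?_⟩ ?_
  · obtain ⟨w, hwW, hwv⟩ := hsI v.2
    refine ⟨⟨w, (hmem w).2 ⟨hwW, hwv ▸ v.2⟩⟩, ?_⟩
    apply Subtype.ext
    rw [Scheme.Hom.coe_resLE_apply]
    exact hwv
  · rw [Scheme.Hom.resLE_comp_resLE]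
    exact IsZariskiLocalAtSource.resLE _ (Hc i)

/-- Source descent for affine schemes follows from the corresponding statement for rings. -/
theorem affine_srcDescent_of_ringHom {P : MorphismProperty Scheme.{u}}
    {Q : ∀ {R S : Type u} [CommRing R] [CommRing S], (R →+* S) → Prop} [HasRingHomProperty P Q]
    (HQ : ∀ {R A B : Type u} [CommRing R] [CommRing A] [CommRing B] (φ : R →+* A) (ψ : A →+* B),
      ψ.Etale → ψ.FaithfullyFlat → Q (ψ.comp φ) → Q φ)
    {X Y Z : Scheme.{u}} [IsAffine X] [IsAffine Y] [IsAffine Z] (e : X ⟶ Y) (h : Y ⟶ Z)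
    (he : Etale e) (hs : Surjective e) (H : P (e ≫ h)) : P h := by
  rw [HasRingHomProperty.iff_of_isAffine (P := P)] at H ⊢
  rw [Scheme.Hom.comp_appTop, CommRingCat.hom_comp] at H
  refine HQ h.appTop.hom e.appTop.hom ?_ ?_ H
  · exact HasRingHomProperty.appTop (P := @Etale) e he
  · exact (Flat.flat_and_surjective_iff_faithfullyFlat_of_isAffine e).mp ⟨inferInstance, hs⟩

/-- Source descent along etale surjective families from the ring-level statement. -/
theorem srcDescent_of_ringHom {P : MorphismProperty Scheme.{u}}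
    {Q : ∀ {R S : Type u} [CommRing R] [CommRing S], (R →+* S) → Prop} [HasRingHomProperty P Q]
    [P.RespectsRight @IsOpenImmersion]
    (HQ : ∀ {R A B : Type u} [CommRing R] [CommRing A] [CommRing B] (φ : R →+* A) (ψ : A →+* B),
      ψ.Etale → ψ.FaithfullyFlat → Q (ψ.comp φ) → Q φ)
    {ι : Type*} {X : ι → Scheme.{u}} {Y Z : Scheme.{u}} (e : ∀ i, X i ⟶ Y) (h : Y ⟶ Z)
    (he : ∀ i, Etale (e i)) (hs : ∀ y : Y, ∃ i, y ∈ Set.range (e i))
    (Hc : ∀ i, P (e i ≫ h)) : P h :=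
  srcDescent_of_affine (fun e h he hs H => affine_srcDescent_of_ringHom HQ e h he hs H) e h he hs Hc

end Groth.Agent.H52
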