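import Groth.Agent.H52.SrcFlat
import Groth.Agent.H52.SrcMeta
import Groth.Agent.H52.SrcAlg
import Groth.Agent.H52.SrcFin

/-!
# Properties of morphisms of schemes that are etale local on the source (helper52)

`SrcLocal P`: if `e i : X i ⟶ Y` is a jointly surjective family of etale morphisms and every
`e i ≫ h` has `P`, then `h` has `P`.
-/

set_option autoImplicit false
universe u

open CategoryTheory AlgebraicGeometry MorphismProperty

namespace Groth.Agent.H52

/-- `P` is etale local on the source: it descends along jointly surjective etale families. -/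
def SrcLocal (P : MorphismProperty Scheme.{u}) : Prop :=
  ∀ {ι : Type u} {X : ι → Scheme.{u}} {Y Z : Scheme.{u}} (e : ∀ i, X i ⟶ Y) (h : Y ⟶ Z),
    (∀ i, Etale (e i)) → (∀ y : Y, ∃ i, y ∈ Set.range (e i)) → (∀ i, P (e i ≫ h)) → P h

theorem SrcLocal.of_single {P : MorphismProperty Scheme.{u}} (hP : SrcLocal P)
    {X Y Z : Scheme.{u}} (e : X ⟶ Y) (h : Y ⟶ Z) (he : Etale e) (hs : Surjective e)
    (H : P (e ≫ h)) : P h :=
  hP (ι := PUnit) (fun _ => e) h (fun _ => he) (fun y => ⟨⟨⟩, hs.surj y⟩) (fun _ => H)

theorem SrcLocal.inf {P Q : MorphismProperty Scheme.{u}} (hP : SrcLocal P) (hQ : SrcLocal Q) :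
    SrcLocal (P ⊓ Q) :=
  fun e h he hs H => ⟨hP e h he hs (fun i => (H i).1), hQ e h he hs (fun i => (H i).2)⟩

theorem srcLocal_flat : SrcLocal (@Flat : MorphismProperty Scheme.{u}) :=
  fun e h he hs H => flat_of_comp_of_flat_family e h (fun i => by have := he i; infer_instance) hs H

theorem srcLocal_lft : SrcLocal (@LocallyOfFiniteType : MorphismProperty Scheme.{u}) :=
  fun e h he hs H => srcDescent_of_ringHom (P := @LocallyOfFiniteType)
    (fun φ ψ h1 h2 h3 => RingHom.FiniteType.of_comp_etale_faithfullyFlat φ ψ h1 h2 h3) e h he hs H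

theorem srcLocal_lfp : SrcLocal (@LocallyOfFinitePresentation : MorphismProperty Scheme.{u}) :=
  fun e h he hs H => srcDescent_of_ringHom (P := @LocallyOfFinitePresentation)
    (fun φ ψ h1 h2 h3 => RingHom.FinitePresentation.of_comp_etale_faithfullyFlat φ ψ h1 h2 h3)
    e h he hs H

instance : MorphismProperty.RespectsRight (@FormallyUnramified : MorphismProperty Scheme.{u})
    @IsOpenImmersion :=
  respectsRight_isOpenImmersion_of (fun f _ => inferInstanceAs (FormallyUnramified f))

instance : MorphismProperty.RespectsRight (@LocallyQuasiFinite : MorphismProperty Scheme.{u})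
    @IsOpenImmersion :=
  respectsRight_isOpenImmersion_of (fun f _ => inferInstanceAs (LocallyQuasiFinite f))

theorem srcLocal_formallyUnramified :
    SrcLocal (@FormallyUnramified : MorphismProperty Scheme.{u}) :=
  fun e h he hs H => srcDescent_of_ringHom (P := @FormallyUnramified)
    (fun φ ψ h1 h2 h3 => RingHom.FormallyUnramified.of_comp_etale_faithfullyFlat φ ψ h1 h2 h3)
    e h he hs H

theorem srcLocal_lqf : SrcLocal (@LocallyQuasiFinite : MorphismProperty Scheme.{u}) :=
  fun e h he hs H => srcDescent_of_ringHom (P := @LocallyQuasiFinite)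
    (fun φ ψ _ h2 h3 => RingHom.QuasiFinite.of_comp_faithfullyFlat φ ψ h2 h3) e h he hs H

theorem srcLocal_etale : SrcLocal (@Etale : MorphismProperty Scheme.{u}) := by
  intro ι X Y Z e h he hs H
  rw [Etale.iff_flat_and_formallyUnramified]
  refine ⟨srcLocal_flat e h he hs (fun i => ?_), srcLocal_formallyUnramified e h he hs (fun i => ?_),
    srcLocal_lfp e h he hs (fun i => ?_)⟩
  all_goals have := H i; infer_instance

end Groth.Agent.H52
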