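import Mathlib
import Groth.Prelude.Def_AlgSpDec
import Groth.Agent.H52.Topology
import Groth.Agent.H52.LocPChart
import Groth.Agent.H52.SrcDescent
import Groth.Agent.H50.AtMor

/-!
# The neighbourhood form of pointed properties of morphisms: independence of the chart (helper52)
-/

set_option autoImplicit false
universe u
open CategoryTheory CategoryTheory.Limits AlgebraicGeometry
open AlgSp

namespace Groth.Agent.H52

/-- If `P (q ≫ g)` for an étale `q` whose image contains `x`, then `P` holds for `g` on an open neighbourhood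
of `x`. -/
theorem exists_open_nbhd_of_etale_nbhd {P : MorphismProperty Scheme.{u}} (hP : EtLocal P)
    {Q U V : Scheme.{u}} (q : Q ⟶ U) [Etale q] (g : U ⟶ V) (x : U) (hx : x ∈ Set.range q)
    (H : P (q ≫ g)) : ∃ W : U.Opens, x ∈ W ∧ P (W.ι ≫ g) := by
  let W : U.Opens := ⟨Set.range q, q.isOpenMap.isOpen_range⟩
  have hsub : Set.range q ⊆ Set.range W.ι := by
    rw [Scheme.Opens.range_ι]
    exact subset_rfl
  let q' : Q ⟶ W.toScheme := IsOpenImmersion.lift W.ι q hsub
  have hq' : q' ≫ W.ι = q := IsOpenImmersion.lift_fac _ _ hsub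
  have hq'e : Etale q' := by
    refine MorphismProperty.of_postcomp (W := @Etale) (W' := @Etale) q' W.ι inferInstance ?_
    rw [hq']
    infer_instance
  have hq's : Surjective q' := by
    refine ⟨fun w => ?_⟩
    obtain ⟨z, hz⟩ : W.ι w ∈ Set.range q := w.2
    refine ⟨z, ?_⟩
    apply W.ι.isOpenEmbedding.injective
    rw [← Scheme.Hom.comp_apply, hq', hz]
  have hsrc : SrcLocal P := hP.src
  refine ⟨W, hx, hsrc.of_single q' (W.ι ≫ g) hq'e hq's ?_⟩
  rw [← Category.assoc, hq']
  exact H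

variable {S : Scheme.{u}}

/-- The neighbourhood form of a property étale local on the source-and-target can be read on every chart
diagram through the point. -/
theorem exists_nbhd_of_hasAtMor_nbhd {P : MorphismProperty Scheme.{u}} (hP : EtLocal P) {X Y : Sp S}
    (f : X ⟶ Y) (x : Points X)
    (H : HasAtMor (fun U _ h u => ∃ W : U.Opens, u ∈ W ∧ P (W.ι ≫ h)) f x)
    {U' V' : Over S} (a' : (yon S).obj U' ⟶ X) (b' : (yon S).obj V' ⟶ Y) (h' : U' ⟶ V')
    (ha' : RepWith @Etale a') (hb' : RepWith @Etale b')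
    (comm' : a' ≫ f = (yon S).map h' ≫ b') (u' : ↥U'.left) (hu' : Points.ofPt a' u' = x) :
    ∃ W : U'.left.Opens, u' ∈ W ∧ P (W.ι ≫ h'.left) := by
  obtain ⟨U, V, a, b, h, u, ha, hb, comm, hu, W, huW, hW⟩ := H
  obtain ⟨Q, q, hq, hr, hPq⟩ := Groth.Agent.H50.exists_etale_nbhd_of_chart_nbhd hP f a b h ha hb comm
    W hW a' b' h' ha' hb' comm' u huW u' (hu.trans hu'.symm)
  exact exists_open_nbhd_of_etale_nbhd hP q h'.left u' hr hPq

/-- The locus where a property holds in the neighbourhood form is open. -/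
theorem isOpen_setOf_hasAtMor_nbhd (R : ∀ (U V : Scheme.{u}), (U ⟶ V) → U.Opens → Prop) {X Y : Sp S}
    (f : X ⟶ Y) :
    IsOpen {x : Points X | HasAtMor (fun U V h u => ∃ W : U.Opens, u ∈ W ∧ R U V h W) f x} := by
  rw [isOpen_iff_forall_mem_open]
  rintro x ⟨U, V, a, b, h, u, ha, hb, comm, hu, W, huW, hW⟩
  refine ⟨Points.ofPt a '' (W : Set ↥U.left), ?_, isOpenMap_ofPt_of_etale a ha _ W.2, ⟨u, huW, hu⟩⟩
  rintro _ ⟨u', hu', rfl⟩
  exact ⟨U, V, a, b, h, u', ha, hb, comm, rfl, W, hu', hW⟩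

end Groth.Agent.H52
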