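import Groth.Agent.H24.DimLift
import Groth.Agent.H52.Topology
import Groth.Prelude.Def_AlgSpDec

/-!
# helper52: dimension and locally quasi-finite morphisms
-/

set_option autoImplicit false
universe u

open CategoryTheory CategoryTheory.Limits AlgebraicGeometry Opposite AlgSp Topology TopologicalSpace

namespace Groth.Agent.H52

attribute [local instance] specializationOrder

/-- The Krull dimension of a sober T0 space is the Krull dimension of its specialization order. -/
theorem topologicalKrullDim_eq_krullDim_specializationOrder (Z : Type*) [TopologicalSpace Z]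
    [QuasiSober Z] [T0Space Z] : topologicalKrullDim Z = Order.krullDim Z := by
  unfold topologicalKrullDim
  exact Order.krullDim_eq_of_orderIso (irreducibleSetEquivPoints (α := Z))

/-- A locally quasi-finite morphism does not raise dimension. -/
theorem topologicalKrullDim_le_of_locallyQuasiFinite {X Y : Scheme.{u}} (f : X ⟶ Y)
    [LocallyQuasiFinite f] : topologicalKrullDim X ≤ topologicalKrullDim Y := by
  rw [topologicalKrullDim_eq_krullDim_specializationOrder, topologicalKrullDim_eq_krullDim_specializationOrder]
  refine Order.krullDim_le_of_strictMono (fun x : X => f x) ?_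
  intro x y hxy
  have hle : y ⤳ x := hxy.le
  refine lt_of_le_of_ne (hle.map f.continuous) ?_
  intro heq
  have hd : DiscreteTopology ↥(f ⁻¹' {f x}) := (f.isDiscrete_preimage_singleton (f x)).to_subtype
  have hx : x ∈ f ⁻¹' {f x} := rfl
  have hy : y ∈ f ⁻¹' {f x} := heq.symm
  have hs : (⟨y, hy⟩ : ↥(f ⁻¹' {f x})) ⤳ ⟨x, hx⟩ := (subtype_specializes_iff _ _).2 hle
  have := hs.eq
  exact hxy.ne (congrArg Subtype.val this).symm

/-- A flat surjective morphism does not lower dimension. -/
theorem topologicalKrullDim_le_of_flat_surjective {X Y : Scheme.{u}} (f : X ⟶ Y) [Flat f]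
    [Surjective f] : topologicalKrullDim Y ≤ topologicalKrullDim X :=
  Groth.Agent.H24.topologicalKrullDim_le_of_generalizingMap (fun x : X => f x) f.continuous
    (Flat.generalizingMap f) f.surjective

/-- Coheight does not drop along a map with the lifting property for larger elements. -/
theorem coheight_le_of_lift {α β : Type*} [Preorder α] [Preorder β] (f : α → β)
    (h : ∀ a : α, ∀ b : β, f a < b → ∃ a' : α, a < a' ∧ f a' = b) (a : α) :
    Order.coheight (f a) ≤ Order.coheight a := by
  refine Order.coheight_le_iff'.mpr fun p hp => ?_
  induction p using RelSeries.inductionOn generalizing a with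
  | singleton x => simp
  | cons p x hx ih =>
    simp only [RelSeries.head_cons] at hp
    obtain ⟨a', haa', ha'⟩ := h a p.head (by rw [← hp]; exact hx)
    have h1 := ih a' ha'.symm
    have h2 := Order.coheight_add_one_le haa'
    rw [RelSeries.cons_length, Nat.cast_add, Nat.cast_one]
    exact (add_le_add_left h1 1).trans h2

/-- The local ring at a point of the source of a flat morphism has dimension at least that of the local ring at
its image. -/
theorem ringKrullDim_stalk_le_of_flat {X Y : Scheme.{u}} (f : X ⟶ Y) [Flat f] (x : X) :
    ringKrullDim (Y.presheaf.stalk (f x)) ≤ ringKrullDim (X.presheaf.stalk x) := by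
  rw [ringKrullDim_stalk_eq_coheight, ringKrullDim_stalk_eq_coheight]
  have := coheight_le_of_lift (fun x : X => f x) (fun a b hab => by
    obtain ⟨a', ha', hfa'⟩ := Flat.generalizingMap f (show b ⤳ f a from hab.le)
    refine ⟨a', lt_of_le_not_ge ha' (fun hle => hab.not_ge ?_), hfa'⟩
    rw [← hfa']
    exact Specializes.map hle f.continuous) x
  exact_mod_cast this

/-- The local ring at a point of the source of a locally quasi-finite morphism has dimension at most that of the
local ring at its image. -/
theorem ringKrullDim_stalk_le_of_locallyQuasiFinite {X Y : Scheme.{u}} (f : X ⟶ Y)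
    [LocallyQuasiFinite f] (x : X) :
    ringKrullDim (X.presheaf.stalk x) ≤ ringKrullDim (Y.presheaf.stalk (f x)) := by
  rw [ringKrullDim_stalk_eq_coheight, ringKrullDim_stalk_eq_coheight]
  have := Order.coheight_le_coheight_apply_of_strictMono (fun x : X => f x) (fun a b hab => by
    have hle : b ⤳ a := hab.le
    refine lt_of_le_not_ge (hle.map f.continuous) (fun hge => hab.not_ge ?_)
    have heq : f a = f b := (Specializes.antisymm hge (hle.map f.continuous)).eq
    have hd : DiscreteTopology ↥(f ⁻¹' {f a}) := (f.isDiscrete_preimage_singleton (f a)).to_subtype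
    have ha : a ∈ f ⁻¹' {f a} := rfl
    have hb : b ∈ f ⁻¹' {f a} := heq.symm
    have hs : (⟨b, hb⟩ : ↥(f ⁻¹' {f a})) ⤳ ⟨a, ha⟩ := (subtype_specializes_iff _ _).2 hle
    have h1 : b = a := congrArg Subtype.val hs.eq
    rw [h1]) x
  exact_mod_cast this

end Groth.Agent.H52
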