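import Groth.Agent.H52.Codim0Qf
import Groth.Agent.H52.ChartNbhd
import Groth.Agent.H52.ChartAt
import Groth.Agent.H52.ChartIndep2
import Groth.Agent.H52.DimLqf
import Groth.Agent.H52.EtLocalInst

/-!
# helper52: quasi-finiteness over a codimension zero point (algebraic spaces)
-/

universe u

open CategoryTheory CategoryTheory.Limits AlgebraicGeometry Opposite AlgSp Topology

namespace Groth.Agent.H52

variable {S : Scheme.{u}}

/-- Quasi-finiteness of the stalk map gives the neighbourhood form on a chart diagram. -/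
theorem hasAtMor_lqf_of_quasiFiniteAt {X Y : Sp S} (f : X ⟶ Y) {U V : Over S}
    (a : (yon S).obj U ⟶ X) (b : (yon S).obj V ⟶ Y) (h : U ⟶ V) (ha : RepWith @Etale a)
    (hb : RepWith @Etale b) (comm : a ≫ f = (yon S).map h ≫ b) [LocallyOfFiniteType h.left]
    (u : ↥U.left) (hq : h.left.QuasiFiniteAt u) :
    HasAtMor (fun U _ h u => ∃ W : U.Opens, u ∈ W ∧ LocallyQuasiFinite (W.ι ≫ h) ∧
      LocallyOfFiniteType (W.ι ≫ h)) f (Points.ofPt a u) :=
  ⟨U, V, a, b, h, u, ha, hb, comm, rfl, h.left.quasiFiniteLocus, hq,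
    (inferInstance : LocallyQuasiFinite (h.left.quasiFiniteLocus.ι ≫ h.left)),
    (inferInstance : LocallyOfFiniteType (h.left.quasiFiniteLocus.ι ≫ h.left))⟩

/-- (1) ⇒ (2): if all points over `f x` have codimension zero then `f` is quasi-finite at `x`. -/
theorem hasAtMor_lqf_of_fibre_codim_zero {X Y : Sp S} (hX : IsAlgSpace X) (hY : IsAlgSpace Y) (f : X ⟶ Y)
    (hf : LocP @LocallyOfFiniteType f) (x : Points X)
    (H : ∀ x' : Points X, Points.map f x' = Points.map f x →
      HasAt (fun U u => ringKrullDim ↥(U.presheaf.stalk u) = 0) X x') :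
    HasAtMor (fun U _ h u => ∃ W : U.Opens, u ∈ W ∧ LocallyQuasiFinite (W.ι ≫ h) ∧
      LocallyOfFiniteType (W.ι ≫ h)) f x := by
  obtain ⟨U, V, a, b, h, u, ha, hb, comm, rfl⟩ := exists_chart_diagram_at hX hY f x
  have hlft : LocallyOfFiniteType h.left := hf a b h ha hb comm
  have hmap : ∀ u' : ↥U.left, Points.map f (Points.ofPt a u') = Points.ofPt b (h.left u') := by
    intro u'
    rw [Points.map_ofPt, comm, ofPt_yon_map_comp]
  refine hasAtMor_lqf_of_quasiFiniteAt f a b h ha hb comm u ?_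
  refine quasiFiniteAt_of_fibre_codim_zero h.left u fun u' hu' => ?_
  exact ringKrullDim_stalk_eq_of_hasAt _ 0 (H (Points.ofPt a u') (by rw [hmap, hmap, hu'])) a ha u' rfl

/-- (2) ⇒ (1): a point where `f` is quasi-finite, over a point of codimension zero, has codimension zero. -/
theorem codim_zero_of_hasAtMor_lqf {X Y : Sp S} (f : X ⟶ Y) (x : Points X)
    (hy : HasAt (fun U u => ringKrullDim ↥(U.presheaf.stalk u) = 0) Y (Points.map f x))
    (H : HasAtMor (fun U _ h u => ∃ W : U.Opens, u ∈ W ∧ LocallyQuasiFinite (W.ι ≫ h) ∧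
      LocallyOfFiniteType (W.ι ≫ h)) f x) :
    HasAt (fun U u => ringKrullDim ↥(U.presheaf.stalk u) = 0) X x := by
  obtain ⟨U, V, a, b, h, u, ha, hb, comm, rfl, W, huW, hq, -⟩ := H
  refine ⟨U, a, u, ha, rfl, ?_⟩
  have hv : ringKrullDim ↥(V.left.presheaf.stalk (h.left u)) = 0 :=
    ringKrullDim_stalk_eq_of_hasAt _ 0 hy b hb (h.left u)
      (by rw [Points.map_ofPt, comm, ofPt_yon_map_comp])
  have h1 := ringKrullDim_stalk_le_of_locallyQuasiFinite (W.ι ≫ h.left) ⟨u, huW⟩
  have h2 : ringKrullDim ↥(W.toScheme.presheaf.stalk ⟨u, huW⟩) =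
      ringKrullDim ↥(U.left.presheaf.stalk u) := by
    rw [ringKrullDim_stalk_eq_coheight, ringKrullDim_stalk_eq_coheight,
      ← coheight_eq_of_isOpenImmersion W.ι]
    rfl
  change ringKrullDim ↥(U.left.presheaf.stalk u) = 0
  apply le_antisymm
  · rw [← h2]
    refine h1.trans (le_of_eq ?_)
    exact hv
  · rw [ringKrullDim_stalk_eq_coheight]
    exact_mod_cast bot_le

/-- (3) ⇒ (1). -/
theorem codim_zero_of_lqf_at_codim_zero {X Y : Sp S} (hX : IsAlgSpace X) (hY : IsAlgSpace Y) (f : X ⟶ Y)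
    (hf : LocP @LocallyOfFiniteType f) (x : Points X)
    (hy : HasAt (fun U u => ringKrullDim ↥(U.presheaf.stalk u) = 0) Y (Points.map f x))
    (H : ∀ x' : Points X, Points.map f x' = Points.map f x →
      HasAt (fun U u => ringKrullDim ↥(U.presheaf.stalk u) = 0) X x' →
      HasAtMor (fun U _ h u => ∃ W : U.Opens, u ∈ W ∧ LocallyQuasiFinite (W.ι ≫ h) ∧
        LocallyOfFiniteType (W.ι ≫ h)) f x') :
    HasAt (fun U u => ringKrullDim ↥(U.presheaf.stalk u) = 0) X x := by
  obtain ⟨U, V, a, b, h, u, ha, hb, comm, rfl⟩ := exists_chart_diagram_at hX hY f x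
  have hlft : LocallyOfFiniteType h.left := hf a b h ha hb comm
  have hmap : ∀ u' : ↥U.left, Points.map f (Points.ofPt a u') = Points.ofPt b (h.left u') := by
    intro u'
    rw [Points.map_ofPt, comm, ofPt_yon_map_comp]
  have hv : ringKrullDim ↥(V.left.presheaf.stalk (h.left u)) = 0 :=
    ringKrullDim_stalk_eq_of_hasAt _ 0 hy b hb (h.left u) (hmap u).symm
  refine ⟨U, a, u, ha, rfl, ?_⟩
  refine codim_zero_of_quasiFiniteAt_generic h.left u hv fun ξ hξ hξ0 => ?_
  have hx' := H (Points.ofPt a ξ) (by rw [hmap, hmap, hξ]) ⟨U, a, ξ, ha, rfl, hξ0⟩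
  have hP : EtLocal (@LocallyQuasiFinite ⊓ @LocallyOfFiniteType) := etLocal_lqf
  exact quasiFiniteAt_of_nbhd h.left ξ
    (exists_nbhd_of_hasAtMor_nbhd hP f _ hx' a b h ha hb comm ξ rfl)

end Groth.Agent.H52
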