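import Groth.Agent.H52.FQCover
import Groth.Agent.H50.MonoPts
import Groth.Prelude.Def_AlgSpCov

/-!
# Decency is Zariski local (helper52)
-/

set_option autoImplicit false
universe u

open CategoryTheory CategoryTheory.Limits AlgebraicGeometry Opposite AlgSp

namespace Groth.Agent.H52

variable {S : Scheme.{u}}

/-- An algebraic space with a Zariski covering by decent open subspaces is decent. -/
theorem isDecent_of_zarCover {X : Sp S} (hX : IsAlgSpace X) {ι : Type u} (Xi : ι → Sp S)
    (hXi : ∀ i, IsAlgSpace (Xi i)) (j : ∀ i, Xi i ⟶ X) (hj : IsZarCover Xi j)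
    (hd : ∀ i, IsDecent (Xi i)) : IsDecent X := by
  intro x
  obtain ⟨i, xi, rfl⟩ := hj.2 x
  obtain ⟨pi, hpi, hm, hq⟩ := hd i xi
  have hjm : ∀ i', Mono (j i') := fun i' =>
    H50.mono_of_repWith (fun _ _ g hg => by have := hg; infer_instance) (hj.1 i')
  have hje : ∀ i', RepWith @Etale (j i') := fun i' =>
    H50.repWith_mono (fun _ _ g hg => by have := hg; infer_instance) (hj.1 i')
  have hmono : Mono (pi.map (j i)).toHom := by
    rw [FieldPt.toHom_map]
    exact @mono_comp _ _ _ _ _ _ hm _ (hjm i)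
  refine ⟨pi.map (j i), by rw [← Points.map_mk, hpi], hmono, ?_⟩
  refine repWith_quasiCompact_of_finite_fibres hX _ (fun V b hV hbe => ?_)
  have : IsAffine V.left := hV
  refine finite_fibre_of_cover _
    (ι := Σ (i' : ι) (W : Over S), {a : (yon S).obj W ⟶ Xi i' // IsAffine W.left ∧ RepWith @Etale a})
    (fun k => k.2.1) (fun k => k.2.2.1 ≫ j k.1) ?_ ?_ ?_ b hbe
  · rintro ⟨i', W, a, hW, hae⟩
    exact (RepWith @Etale).comp_mem _ _ hae (hje i')
  · intro y
    obtain ⟨i', y', rfl⟩ := hj.2 y
    obtain ⟨W, a, w, hW, hae, hw⟩ := exists_affine_chart_at (hXi i') y'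
    exact ⟨⟨i', W, a, hW, hae⟩, w, by rw [← hw]; rfl⟩
  · rintro ⟨i', W, a, hW, hae⟩
    by_cases h : ∃ x', Points.map (j i') x' = Points.mk (pi.map (j i))
    · obtain ⟨x', hx'⟩ := h
      refine (finite_fibre_of_isDecent (hd i') x' W a hW hae).subset (fun w hw => ?_)
      have hw' : Points.ofPt (a ≫ j i') w = Points.mk (pi.map (j i)) := hw
      have : Points.map (j i') (Points.ofPt a w) = Points.map (j i') x' := by
        rw [hx', ← hw']; rfl
      exact H50.injective_map_of_mono (j i') this
    · convert Set.finite_empty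
      ext w
      simp only [Set.mem_preimage, Set.mem_singleton_iff, Set.mem_empty_iff_false, iff_false]
      intro hw
      exact h ⟨Points.ofPt a w, hw⟩

end Groth.Agent.H52
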