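import Groth.Agent.H52.QC
import Groth.Agent.H52.Topology
import Groth.Agent.H50.Kernel
import Groth.Agent.H50.Descent
import Groth.Agent.S10096

/-!
# Monomorphisms to the spectrum of a field (helper52)
-/

set_option autoImplicit false
universe u

open CategoryTheory CategoryTheory.Limits AlgebraicGeometry Opposite AlgSp Topology

namespace Groth.Agent.H52

variable {S : Scheme.{u}}

/-- `h_φ` is an epimorphism of fppf sheaves when `φ` is flat, surjective and locally of finite presentation. -/
theorem epi_yon_map_of_fppf {W T : Over S} (φ : W ⟶ T) [Flat φ.left] [Surjective φ.left]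
    [LocallyOfFinitePresentation φ.left] : Epi ((yon S).map φ) := by
  apply H50.epi_of_local_lift
  intro T₁ y
  obtain ⟨y₀, rfl⟩ := (yon S).map_surjective y
  have sqO := IsPullback.of_hasPullback φ y₀
  have sqS : IsPullback (pullback.fst φ y₀).left (pullback.snd φ y₀).left φ.left y₀.left :=
    sqO.map (Over.forget S)
  have h1 : Flat (pullback.snd φ y₀).left :=
    MorphismProperty.of_isPullback (P := @Flat) sqS inferInstance
  have h2 : Surjective (pullback.snd φ y₀).left :=
    MorphismProperty.of_isPullback (P := @Surjective) sqS inferInstance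
  have h3 : LocallyOfFinitePresentation (pullback.snd φ y₀).left :=
    MorphismProperty.of_isPullback (P := @LocallyOfFinitePresentation) sqS inferInstance
  refine ⟨Sieve.generate (Presieve.singleton (pullback.snd φ y₀)),
    Groth.Agent.S10096.generate_singleton_mem_J _, ?_⟩
  rintro T' f ⟨Y, k, g, ⟨⟩, rfl⟩
  refine ⟨(yon S).map (k ≫ pullback.fst φ y₀), ?_⟩
  rw [← Functor.map_comp, ← Functor.map_comp, Category.assoc, Category.assoc, sqO.w]

/-- Composing the two legs of a pullback square with a monomorphism gives a pullback square. -/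
theorem isPullback_comp_mono {C : Type*} [Category C] {P X Y Z W : C} {fst : P ⟶ X} {snd : P ⟶ Y}
    {f : X ⟶ Z} {g : Y ⟶ Z} (sq : IsPullback fst snd f g) (j : Z ⟶ W) [Mono j] :
    IsPullback fst snd (f ≫ j) (g ≫ j) := by
  refine ⟨⟨by rw [← Category.assoc, sq.w, Category.assoc]⟩, ⟨PullbackCone.IsLimit.mk _
    (fun s => sq.lift s.fst s.snd (by
      have := s.condition
      simp only [← Category.assoc] at this
      exact (cancel_mono j).1 this))
    (fun s => sq.lift_fst _ _ _) (fun s => sq.lift_snd _ _ _)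
    (fun s m h1 h2 => sq.hom_ext (h1.trans (sq.lift_fst _ _ _).symm)
      (h2.trans (sq.lift_snd _ _ _).symm))⟩⟩

/-- A monomorphism from a nonempty algebraic space to the spectrum of a field is an isomorphism. -/
theorem isIso_of_mono_to_field {k : Type u} [Field k] (str : Spec (CommRingCat.of k) ⟶ S)
    {Z : Sp S} (hZ : IsAlgSpace Z) (f : Z ⟶ (yon S).obj (Over.mk str)) [Mono f]
    (hne : Nonempty (Points Z)) : IsIso f := by
  obtain ⟨U, p, hpe, hps⟩ := hZ.atlas
  obtain ⟨z⟩ := hne
  obtain ⟨u, -⟩ := surjective_ofPt_of_surjective p hps z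
  obtain ⟨_, ⟨V, hV, rfl⟩, huV, -⟩ :=
    U.left.isBasis_affineOpens.exists_subset_of_mem_open (Set.mem_univ u) isOpen_univ
  have hVaff : IsAffine (overOpen U V).left := hV
  -- the chart `a`
  have hae : RepWith @Etale ((yon S).map (overOpenHom U V) ≫ p) :=
    repWith_yon_map_comp @Etale _ (show Etale (Scheme.Opens.ι V) from inferInstance) p hpe
  obtain ⟨a, ha⟩ : ∃ a, a = (yon S).map (overOpenHom U V) ≫ p := ⟨_, rfl⟩
  rw [← ha] at hae
  obtain ⟨φ, hφ⟩ := (yon S).map_surjective (a ≫ f)
  -- `R = U₀ ×_Z U₀`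
  have hrep : Representable a := hae.rep
  have sqR := hrep.isPullback' a
  have hr₂ : Etale (hrep.snd a).left := hae.property_snd a
  have hr₁ : Etale (hrep.fst' a).left := hae.property a _ _ sqR.flip
  have sqK := isPullback_comp_mono sqR f
  rw [← hφ] at sqK
  have sqO : IsPullback (hrep.fst' a) (hrep.snd a) φ φ := IsPullback.of_map (yon S)
    ((yon S).map_injective (by simpa only [Functor.map_comp] using sqK.w)) sqK
  have sqS : IsPullback (hrep.fst' a).left (hrep.snd a).left φ.left φ.left :=
    sqO.map (Over.forget S)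
  -- `φ` is an fpqc cover
  have hsub : Subsingleton ↥(Spec (CommRingCat.of k)) :=
    inferInstanceAs (Subsingleton (PrimeSpectrum k))
  have key : ∀ g : (overOpen U V).left ⟶ Spec (CommRingCat.of k),
      Flat g ∧ Surjective g ∧ QuasiCompact g := fun g =>
    ⟨inferInstance, ⟨fun y => ⟨⟨u, huV⟩, Subsingleton.elim _ _⟩⟩, inferInstance⟩
  obtain ⟨hfl, hsurj, hqc⟩ := key φ.left
  have het : Etale φ.left :=
    MorphismProperty.of_isPullback_of_descendsAlong (P := @Etale)
      (Q := @Surjective ⊓ @Flat ⊓ @QuasiCompact) sqS ⟨⟨hsurj, hfl⟩, hqc⟩ hr₁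
  have : Epi ((yon S).map φ) := epi_yon_map_of_fppf φ
  rw [hφ] at this
  have : Epi f := epi_of_epi a f
  exact isIso_of_mono_of_epi f

end Groth.Agent.H52
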