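import Groth.Agent.H52.SoberCore
import Groth.Agent.H52.FQDecent
import Groth.Agent.H52.FQZar
import Groth.Agent.H52.DecentTop
import Groth.Agent.H52.MonoField
import Groth.Agent.H52.QC
import Groth.Agent.H51.DiagSq
import Groth.Agent.H50.RepIso
import Groth.Agent.S10179
import Groth.Agent.S10180

/-!
# helper52: sobriety and spectrality of the space of points of (Zariski locally) quasi-separated algebraic spaces
-/

set_option autoImplicit false
universe u

open CategoryTheory CategoryTheory.Limits AlgebraicGeometry Opposite AlgSp Topology TopologicalSpace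

namespace Groth.Agent.H52

variable {S : Scheme.{u}}

/-- The saturation of a compact open subset of a chart whose kernel pair has a quasi-compact projection is
compact. -/
theorem isCompact_preimage_image_ofPt {X : Sp S} {U R : Over S} (a : (yon S).obj U ⟶ X)
    (s t : R ⟶ U) (hR : IsPullback ((yon S).map t) ((yon S).map s) a a) [QuasiCompact s.left]
    (B : Set ↥U.left) (hBo : IsOpen B) (hBc : IsCompact B) :
    IsCompact (Points.ofPt a ⁻¹' (Points.ofPt a '' B)) := by
  have hsat_eq : Points.ofPt a ⁻¹' (Points.ofPt a '' B) = t.left '' (s.left ⁻¹' B) := by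
    ext v
    constructor
    · rintro ⟨b, hb, hbv⟩
      obtain ⟨r, hr1, hr2⟩ := exists_of_ofPt_eq_ofPt hR v b hbv.symm
      exact ⟨r, by rw [Set.mem_preimage, hr2]; exact hb, hr1⟩
    · rintro ⟨r, hr, rfl⟩
      refine ⟨s.left r, hr, ?_⟩
      rw [← ofPt_yon_map_comp, ← ofPt_yon_map_comp, hR.w]
  rw [hsat_eq]
  exact (QuasiCompact.isCompact_preimage (f := s.left) B hBo hBc).image t.left.continuous

/-- Every point of an algebraic space lies in an affine etale chart `U` whose self product over `S` is
quasi-compact (the chart maps into an affine open of `S`). -/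
theorem exists_affine_chart_at_compact_prod {X : Sp S} (hX : IsAlgSpace X) (x : Points X) :
    ∃ (U : Over S) (a : (yon S).obj U ⟶ X) (u : ↥U.left), IsAffine U.left ∧ RepWith @Etale a ∧
      Points.ofPt a u = x ∧ CompactSpace ↥(U ⨯ U).left := by
  obtain ⟨U₀, a₀, u₀, hU₀, hae₀, hu₀⟩ := exists_affine_chart_at hX x
  obtain ⟨_, ⟨(S' : S.Opens), hS', rfl⟩, hσS', -⟩ :=
    S.isBasis_affineOpens.exists_subset_of_mem_open (Set.mem_univ (U₀.hom u₀)) isOpen_univ
  obtain ⟨_, ⟨(V : U₀.left.Opens), hV, rfl⟩, hu₀V, hVsub⟩ :=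
    U₀.left.isBasis_affineOpens.exists_subset_of_mem_open
      (show u₀ ∈ ((U₀.hom ⁻¹ᵁ S' : U₀.left.Opens) : Set ↥U₀.left) from hσS') (U₀.hom ⁻¹ᵁ S').2
  refine ⟨overOpen U₀ V, (yon S).map (overOpenHom U₀ V) ≫ a₀, (⟨u₀, hu₀V⟩ : ↥V), hV,
    repWith_yon_map_comp @Etale _ (show Etale (Scheme.Opens.ι V) from inferInstance) a₀ hae₀, ?_, ?_⟩
  · rw [ofPt_yon_map_comp]; exact hu₀
  · have hrange : Set.range (overOpen U₀ V).hom ⊆ Set.range S'.ι := by
      rintro _ ⟨y, rfl⟩
      rw [Scheme.Opens.range_ι]
      change (V.ι ≫ U₀.hom) y ∈ (S' : Set ↥S)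
      rw [Scheme.Hom.comp_apply]
      exact hVsub y.2
    have hg' : IsOpenImmersion.lift S'.ι (overOpen U₀ V).hom hrange ≫ S'.ι =
        (overOpen U₀ V).hom := IsOpenImmersion.lift_fac _ _ _
    have hS'a : IsAffine (S' : Scheme.{u}) := hS'
    have hVa : IsAffine (overOpen U₀ V).left := hV
    have sq := isPullback_comp_mono (IsPullback.of_hasPullback
      (IsOpenImmersion.lift S'.ι (overOpen U₀ V).hom hrange)
      (IsOpenImmersion.lift S'.ι (overOpen U₀ V).hom hrange)) S'.ι
    rw [hg'] at sq
    have : IsAffine (pullback (overOpen U₀ V).hom (overOpen U₀ V).hom) :=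
      .of_isIso sq.isoPullback.inv
    exact (Over.prodLeftIsoPullback (overOpen U₀ V) (overOpen U₀ V)).hom.homeomorph.symm.compactSpace

/-- For a quasi-separated sheaf and an affine chart with quasi-compact self product, the projections of the kernel
pair are quasi-compact. -/
theorem quasiCompact_kernelPair_of_compact_prod {X : Sp S} (hqs : IsQuasiSeparatedSp X)
    {U R : Over S} [IsAffine U.left] [CompactSpace ↥(U ⨯ U).left] (a : (yon S).obj U ⟶ X)
    (s t : R ⟶ U) (hR : IsPullback ((yon S).map t) ((yon S).map s) a a) :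
    QuasiCompact s.left := by
  have hq : QuasiCompact (prod.lift t s).left :=
    H51.prop_lift_of_repWith_diag @QuasiCompact hqs hR
  have : CompactSpace ↥R.left := QuasiCompact.compactSpace_of_compactSpace (prod.lift t s).left
  infer_instance

/-- Irreducible closed subsets of the space of points of a Zariski locally quasi-separated algebraic space have
generic points. -/
theorem exists_isGenericPoint_of_zarCover_qs {X : Sp S} {ι : Type u} (Xi : ι → Sp S)
    (hXi : ∀ i, IsAlgSpace (Xi i)) (j : ∀ i, Xi i ⟶ X) (hj : IsZarCover Xi j)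
    (hqs : ∀ i, IsQuasiSeparatedSp (Xi i)) (T : Set (Points X)) (hT : IsIrreducible T)
    (hTc : IsClosed T) : ∃ x, IsGenericPoint x T := by
  obtain ⟨x, hxT⟩ := hT.nonempty
  obtain ⟨i, xi, rfl⟩ := hj.2 x
  obtain ⟨U, a, u, hU, hae, hu, hc⟩ := exists_affine_chart_at_compact_prod (hXi i) xi
  have hje : RepWith @Etale (j i) :=
    H50.repWith_mono (fun _ _ g hg => by have := hg; infer_instance) (hj.1 i)
  have hjm : Mono (j i) :=
    H50.mono_of_repWith (fun _ _ g hg => by have := hg; infer_instance) (hj.1 i)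
  have h4 := AlgSp.repWith_isMultiplicative (S := S) @Etale
  have hae' : RepWith @Etale (a ≫ j i) := (RepWith @Etale).comp_mem _ _ hae hje
  obtain ⟨R, t', fst, sq⟩ := hae.1 a
  obtain ⟨s', rfl⟩ := (yon S).map_surjective fst
  have hqc : QuasiCompact t'.left := quasiCompact_kernelPair_of_compact_prod (hqs i) a t' s' sq
  have sq' := isPullback_comp_mono sq (j i)
  obtain ⟨z, hz⟩ := exists_isGenericPoint_of_affine_chart (a ≫ j i) hae' t' s' sq' T
    hT.isPreirreducible hTc u (by rw [← Points.map_ofPt, hu]; exact hxT)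
  exact ⟨_, hz⟩

/-- The space of points of a Zariski locally quasi-separated algebraic space is quasi-sober. -/
theorem quasiSober_of_zarCover_qs {X : Sp S} {ι : Type u} (Xi : ι → Sp S)
    (hXi : ∀ i, IsAlgSpace (Xi i)) (j : ∀ i, Xi i ⟶ X) (hj : IsZarCover Xi j)
    (hqs : ∀ i, IsQuasiSeparatedSp (Xi i)) : QuasiSober (Points X) :=
  ⟨fun hT hTc => exists_isGenericPoint_of_zarCover_qs Xi hXi j hj hqs _ hT hTc⟩

/-- The trivial Zariski covering. -/
theorem isZarCover_id (X : Sp S) :
    IsZarCover (ι := PUnit.{u + 1}) (fun _ => X) (fun _ => 𝟙 X) :=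
  ⟨fun _ => H50.repWith_of_isIso @IsOpenImmersion (𝟙 X),
    fun x => ⟨PUnit.unit, x, by rw [Points.map_id]⟩⟩

/-- The space of points of a quasi-compact algebraic space with quasi-compact diagonal over a quasi-separated base
is spectral. -/
theorem spectralSpace_points [QuasiSeparatedSpace ↥S] {X : Sp S} (hX : IsAlgSpace X)
    (hqc : IsQuasiCompactSp X) (hqs : IsQuasiSeparatedSp X) : SpectralSpace (Points X) := by
  have hT0 : T0Space (Points X) := t0Space_of_isDecent hX (isDecent_of_isQuasiSeparatedSp hX hqs)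
  have hcs : CompactSpace (Points X) := compactSpace_points_of_isQuasiCompactSp hqc
  have hsob : QuasiSober (Points X) :=
    quasiSober_of_zarCover_qs (fun _ : PUnit.{u + 1} => X) (fun _ => hX) (fun _ => 𝟙 X)
      (isZarCover_id X) (fun _ => hqs)
  have hpre : PrespectralSpace (Points X) :=
    PrespectralSpace.of_isTopologicalBasis
      (isTopologicalBasis_of_isOpen_of_nhds (s := {V : Set (Points X) | IsOpen V ∧ IsCompact V})
        (fun V hV => hV.1) (fun x W hx hW => by
          obtain ⟨V, hVo, hVc, hxV, hVW⟩ := Groth.Agent.S10179.result ⟨X, hX⟩ x W hW hx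
          exact ⟨V, ⟨hVo, hVc⟩, hxV, hVW⟩)) (fun V hV => hV.2)
  have hqsep : QuasiSeparatedSpace (Points X) := by
    obtain ⟨U, a, hU, hae, has⟩ := (Groth.Agent.S10180.result ⟨X, hX⟩).1 hqc
    have hUa : IsAffine U.left := hU
    have hsurj := surjective_ofPt_of_surjective a has
    have hcont := Points.continuous_ofPt a
    have hopen := isOpenMap_ofPt_of_etale a hae
    obtain ⟨R, t', fst, sq⟩ := hae.1 a
    obtain ⟨s', rfl⟩ := (yon S).map_surjective fst
    have hUq : QuasiCompact U.hom := inferInstance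
    have h1 : CompactSpace ↥(pullback U.hom U.hom) :=
      QuasiCompact.compactSpace_of_compactSpace (pullback.fst U.hom U.hom)
    have h2 : CompactSpace ↥(U ⨯ U).left :=
      (Over.prodLeftIsoPullback U U).hom.homeomorph.symm.compactSpace
    have hqc' : QuasiCompact t'.left := quasiCompact_kernelPair_of_compact_prod hqs a t' s' sq
    have key : ∀ O : Set (Points X), IsOpen O → IsCompact O →
        IsCompact (Points.ofPt a ⁻¹' O) := by
      intro O hOo hOc
      have hpreo : IsOpen (Points.ofPt a ⁻¹' O) := hOo.preimage hcont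
      have hB : ∀ v : ↥(Points.ofPt a ⁻¹' O), ∃ B : Set ↥U.left, IsOpen B ∧ IsCompact B ∧
          v.1 ∈ B ∧ B ⊆ Points.ofPt a ⁻¹' O := fun v => by
        obtain ⟨B, ⟨hBo, hBc⟩, hvB, hBsub⟩ :=
          (PrespectralSpace.isTopologicalBasis (X := ↥U.left)).exists_subset_of_mem_open v.2 hpreo
        exact ⟨B, hBo, hBc, hvB, hBsub⟩
      choose B hBo hBc hvB hBsub using hB
      obtain ⟨F, hF⟩ := hOc.elim_finite_subcover (fun v => Points.ofPt a '' B v)
        (fun v => hopen _ (hBo v)) (by
          intro x hx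
          obtain ⟨v, rfl⟩ := hsurj x
          exact Set.mem_iUnion.2 ⟨⟨v, hx⟩, v, hvB _, rfl⟩)
      have heq : Points.ofPt a ⁻¹' O =
          ⋃ v ∈ F, Points.ofPt a ⁻¹' (Points.ofPt a '' B v) := by
        apply Set.Subset.antisymm
        · intro v hv
          have := hF hv
          simp only [Set.mem_iUnion] at this ⊢
          obtain ⟨w, hwF, h⟩ := this
          exact ⟨w, hwF, h⟩
        · intro v hv
          simp only [Set.mem_iUnion] at hv
          obtain ⟨w, hwF, b, hb, hbe⟩ := hv
          change Points.ofPt a v ∈ O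
          rw [← hbe]
          exact hBsub w hb
      rw [heq]
      exact F.isCompact_biUnion
        (fun v _ => isCompact_preimage_image_ofPt a t' s' sq _ (hBo v) (hBc v))
    refine ⟨fun O₁ O₂ h1o h1c h2o h2c => ?_⟩
    have hc := QuasiSeparatedSpace.inter_isCompact _ _ (h1o.preimage hcont) (key O₁ h1o h1c)
      (h2o.preimage hcont) (key O₂ h2o h2c)
    have heq : O₁ ∩ O₂ = Points.ofPt a '' (Points.ofPt a ⁻¹' O₁ ∩ Points.ofPt a ⁻¹' O₂) := by
      rw [← Set.preimage_inter, Set.image_preimage_eq _ hsurj]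
    rw [heq]
    exact hc.image hcont
  exact { }

end Groth.Agent.H52
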