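import Groth.Agent.H52.EpiFppf
import Groth.Agent.H50.Points

/-!
# Morphisms from spectra of fields to algebraic spaces (helper52)
-/

set_option autoImplicit false
universe u

open CategoryTheory CategoryTheory.Limits AlgebraicGeometry Opposite AlgSp Topology

namespace Groth.Agent.H52

variable {S : Scheme.{u}}

/-- Flatness of a morphism from a scheme to a sheaf can be checked after precomposing with a flat surjective
morphism of schemes. -/
theorem locP_flat_of_precomp {Z : Sp S} {B C : Over S} (q : (yon S).obj B ⟶ Z) (r : C ⟶ B)
    [Flat r.left] [Surjective r.left] (h : LocP @Flat ((yon S).map r ≫ q)) : LocP @Flat q := by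
  intro U' V a' b' k ha' hb' comm
  obtain ⟨α, rfl⟩ := (yon S).map_surjective a'
  have hα : Etale α.left := (repWith_yon_map_iff @Etale α).1 ha'
  have sqO := IsPullback.of_hasPullback α r
  have sqS : IsPullback (pullback.fst α r).left (pullback.snd α r).left α.left r.left :=
    sqO.map (Over.forget S)
  have h1 : Etale (pullback.snd α r).left :=
    MorphismProperty.of_isPullback (P := @Etale) sqS hα
  have h2 : Flat (pullback.fst α r).left :=
    MorphismProperty.of_isPullback (P := @Flat) sqS.flip inferInstance
  have h3 : Surjective (pullback.fst α r).left :=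
    MorphismProperty.of_isPullback (P := @Surjective) sqS.flip inferInstance
  have hfl : Flat ((pullback.fst α r) ≫ k).left := by
    refine h ((yon S).map (pullback.snd α r)) b' (pullback.fst α r ≫ k)
      ((repWith_yon_map_iff @Etale _).2 h1) hb' ?_
    rw [← Category.assoc, ← Functor.map_comp, ← sqO.w, Functor.map_comp, Category.assoc, comm,
      Functor.map_comp, Category.assoc]
  rw [Over.comp_left] at hfl
  exact flat_of_comp_of_flat_of_surjective (pullback.fst α r).left k.left hfl

/-- `h_g` is flat etale locally when `g` is flat. -/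
theorem locP_flat_yon_map {A B : Over S} (g : A ⟶ B) [Flat g.left] :
    LocP @Flat ((yon S).map g) :=
  H50.locP_of_repWith (fun _ _ g hg => by have := hg; infer_instance)
    ((repWith_yon_map_iff @Flat g).2 inferInstance)

/-- Morphisms to the spectrum of a field are flat; from a nonempty scheme they are surjective. -/
theorem flat_surjective_to_field {k : Type u} [Field k] {X : Scheme.{u}} [Nonempty ↥X]
    (g : X ⟶ Spec (CommRingCat.of k)) : Flat g ∧ Surjective g := by
  have hsub : Subsingleton ↥(Spec (CommRingCat.of k)) :=
    inferInstanceAs (Subsingleton (PrimeSpectrum k))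
  obtain ⟨x⟩ := ‹Nonempty ↥X›
  exact ⟨inferInstance, ⟨fun y => ⟨x, Subsingleton.elim _ _⟩⟩⟩

/-- The points of the spectrum of a field form a one point space. -/
theorem subsingleton_points_spec_field {k : Type u} [Field k] (str : Spec (CommRingCat.of k) ⟶ S) :
    Subsingleton (Points ((yon S).obj (Over.mk str))) := by
  have hsub : Subsingleton ↥(Over.mk str).left :=
    inferInstanceAs (Subsingleton (PrimeSpectrum k))
  exact (Points.schemeEquiv (Over.mk str)).symm.injective.subsingleton

theorem nonempty_points_spec_field {k : Type u} [Field k] (str : Spec (CommRingCat.of k) ⟶ S) :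
    Nonempty (Points ((yon S).obj (Over.mk str))) :=
  ⟨Points.schemeEquiv (Over.mk str) (IsLocalRing.closedPoint k : PrimeSpectrum k)⟩

/-- If an algebraic space admits a flat surjective morphism from the spectrum of a field, every morphism from
the spectrum of a field to it is flat and surjective. -/
theorem flat_surjective_fieldPt {Z : Sp S}
    {k : Type u} [Field k] (str : Spec (CommRingCat.of k) ⟶ S)
    (p : (yon S).obj (Over.mk str) ⟶ Z) (hpf : LocP @Flat p) (hps : IsSurjectiveMor p)
    {k' : Type u} [Field k'] (str' : Spec (CommRingCat.of k') ⟶ S)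
    (q : (yon S).obj (Over.mk str') ⟶ Z) : LocP @Flat q ∧ IsSurjectiveMor q := by
  have hsubA := subsingleton_points_spec_field str
  obtain ⟨x₀⟩ := nonempty_points_spec_field str
  obtain ⟨y₀⟩ := nonempty_points_spec_field str'
  have hsubZ : Subsingleton (Points Z) := hps.subsingleton
  have hqs : IsSurjectiveMor q := fun z => ⟨y₀, Subsingleton.elim _ _⟩
  refine ⟨?_, hqs⟩
  obtain ⟨Ω, _, w, a, b, hab, -, -⟩ :=
    H50.exists_common_field p q x₀ y₀ (Subsingleton.elim _ _)
  obtain ⟨α, rfl⟩ := (yon S).map_surjective a
  obtain ⟨β, rfl⟩ := (yon S).map_surjective b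
  have hne : Nonempty ↥(Spec (CommRingCat.of Ω)) :=
    ⟨(IsLocalRing.closedPoint Ω : PrimeSpectrum Ω)⟩
  obtain ⟨hα, -⟩ := flat_surjective_to_field (k := k) (X := Spec (CommRingCat.of Ω)) α.left
  obtain ⟨hβ, hβs⟩ := flat_surjective_to_field (k := k') (X := Spec (CommRingCat.of Ω)) β.left
  have h1 : LocP @Flat ((yon S).map α ≫ p) :=
    locP_comp etLocal_flat (IsAlgSpace.yon_obj _) _ _ (locP_flat_yon_map α) hpf
  rw [hab] at h1
  exact locP_flat_of_precomp q β h1

end Groth.Agent.H52
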