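import Groth.Agent.H52.DecentTop
import Groth.Agent.H52.RedField
import Mathlib.AlgebraicGeometry.Noetherian
import Mathlib.RingTheory.Ideal.KrullsHeightTheorem

/-!
# helper52: specializations in fibres of etale charts of locally Noetherian spaces
-/

set_option autoImplicit false
universe u

open CategoryTheory CategoryTheory.Limits AlgebraicGeometry Opposite AlgSp Topology TopologicalSpace

namespace Groth.Agent.H52

variable {S : Scheme.{u}}

/-- In a locally Noetherian scheme every member `u` of a set `F` has a generization in `F` which has no proper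
generization in `F`. -/
theorem exists_minimal_generization {U : Scheme.{u}} [IsLocallyNoetherian U] (F : Set ↥U) (u : ↥U)
    (hu : u ∈ F) : ∃ e ∈ F, e ⤳ u ∧ ∀ y ∈ F, y ⤳ e → y = e := by
  let G : Set (PrimeSpectrum ↑(U.presheaf.stalk u)) :=
    {P | (U.fromSpecStalk u) (show ↥(Spec (U.presheaf.stalk u)) from P) ∈ F}
  have hne : G.Nonempty := by
    refine ⟨IsLocalRing.closedPoint _, ?_⟩
    change (U.fromSpecStalk u) (IsLocalRing.closedPoint _) ∈ F
    rw [Scheme.fromSpecStalk_closedPoint]
    exact hu
  obtain ⟨P, hPG, hPmin⟩ := WellFounded.has_min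
    (InvImage.wf (fun P : PrimeSpectrum ↑(U.presheaf.stalk u) => P.asIdeal.height) wellFounded_lt)
    G hne
  have hrange := Scheme.range_fromSpecStalk (X := U) (x := u)
  refine ⟨(U.fromSpecStalk u) (show ↥(Spec (U.presheaf.stalk u)) from P), hPG, ?_, ?_⟩
  · have : (U.fromSpecStalk u) (show ↥(Spec (U.presheaf.stalk u)) from P) ∈
        Set.range (U.fromSpecStalk u) := ⟨_, rfl⟩
    rw [hrange] at this
    exact this
  · intro y hyF hye
    have hyu : y ⤳ u := by
      have : (U.fromSpecStalk u) (show ↥(Spec (U.presheaf.stalk u)) from P) ∈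
          Set.range (U.fromSpecStalk u) := ⟨_, rfl⟩
      rw [hrange] at this
      exact hye.trans this
    have hy : y ∈ Set.range (U.fromSpecStalk u) := by rw [hrange]; exact hyu
    obtain ⟨Q, rfl⟩ := hy
    have hQP : (show PrimeSpectrum ↑(U.presheaf.stalk u) from Q) ⤳ P :=
      ((U.fromSpecStalk u).isEmbedding.isInducing.specializes_iff).1 hye
    have hle : (show PrimeSpectrum ↑(U.presheaf.stalk u) from Q) ≤ P :=
      (PrimeSpectrum.le_iff_specializes _ _).2 hQP
    by_contra hne'
    have hlt : (show PrimeSpectrum ↑(U.presheaf.stalk u) from Q) < P :=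
      lt_of_le_of_ne hle (fun h => hne' (by rw [← h]))
    have hlt' : (show PrimeSpectrum ↑(U.presheaf.stalk u) from Q).asIdeal < P.asIdeal := hlt
    exact hPmin Q hyF (Ideal.height_strict_mono_of_isPrime_of_isPrime hlt')

/-- If the fibre of an etale chart over `x` has a member without proper generizations in the fibre, there are no
nontrivial specializations in that fibre. -/
theorem eq_of_specializes_of_exists_minimal {X : Sp S} (x : Points X) {U : Over S}
    (a : (yon S).obj U ⟶ X) (ha : RepWith @Etale a) (e : ↥U.left) (heF : Points.ofPt a e = x)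
    (hmin : ∀ y, Points.ofPt a y = x → y ⤳ e → y = e)
    (u u' : ↥U.left) (hu : Points.ofPt a u = x) (hu' : Points.ofPt a u' = x) (hs : u' ⤳ u) :
    u = u' := by
  obtain ⟨R, t, fst, sq⟩ := ha.1 a
  have ht : Etale t.left := ha.2 _ _ _ sq
  obtain ⟨s, rfl⟩ := (yon S).map_surjective fst
  have hs' : Etale s.left := ha.2 _ _ _ sq.flip
  obtain ⟨r, hr1, hr2⟩ := exists_of_ofPt_eq_ofPt sq u e (hu.trans heF.symm)
  have hgen : GeneralizingMap s.left := Flat.generalizingMap s.left
  obtain ⟨r₂, hr₂r, hr₂s⟩ := hgen (a := r) (b := u') (by rw [hr1]; exact hs)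
  have hte : t.left r₂ = e := by
    apply hmin
    · rw [← ofPt_yon_map_comp, ← sq.w, ofPt_yon_map_comp, hr₂s, hu']
    · rw [← hr2]; exact hr₂r.map t.left.continuous
  have : LocallyQuasiFinite t.left := H50.locallyQuasiFinite_of_unramified t.left
  have hdisc : DiscreteTopology ↥(t.left ⁻¹' {e}) :=
    (t.left.isDiscrete_preimage_singleton e).to_subtype
  have hrr : r₂ = r := by
    have h1 : (⟨r₂, hte⟩ : ↥(t.left ⁻¹' {e})) ⤳ ⟨r, hr2⟩ :=
      Topology.IsInducing.subtypeVal.specializes_iff.1 hr₂r
    exact congrArg Subtype.val h1.eq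
  rw [← hr1, ← hr₂s, hrr]

/-- Every etale chart of a locally Noetherian sheaf is locally Noetherian. -/
theorem isLocallyNoetherian_chart {X : Sp S} (hX : IsLocNoethSp X) {U : Over S}
    (a : (yon S).obj U ⟶ X) (ha : RepWith @Etale a) : IsLocallyNoetherian U.left := by
  obtain ⟨U₀, p, hpe, hps, hU₀⟩ := hX
  have : IsLocallyNoetherian U₀.left := hU₀
  obtain ⟨V, snd, fst, sq⟩ := hpe.1 a
  have h1 : Etale snd.left := hpe.2 _ _ _ sq
  have h2 : Surjective snd.left := hps.2 _ _ _ sq
  obtain ⟨w, rfl⟩ := (yon S).map_surjective fst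
  have h3 : Etale w.left := ha.2 _ _ _ sq.flip
  have hV : IsLocallyNoetherian V.left := LocallyOfFiniteType.isLocallyNoetherian w.left
  exact isLocallyNoetherian_of_flat_surjective_open snd.left snd.left.isOpenMap

/-- No nontrivial specializations in the fibres of etale charts of locally Noetherian sheaves. -/
theorem eq_of_specializes_of_isLocNoethSp {X : Sp S} (hX : IsLocNoethSp X) {U : Over S}
    (a : (yon S).obj U ⟶ X) (ha : RepWith @Etale a) (u u' : ↥U.left)
    (he : Points.ofPt a u = Points.ofPt a u') (hs : u' ⤳ u) : u = u' := by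
  have := isLocallyNoetherian_chart hX a ha
  obtain ⟨e, heF, -, hmin⟩ :=
    exists_minimal_generization (Points.ofPt a ⁻¹' {Points.ofPt a u}) u rfl
  exact eq_of_specializes_of_exists_minimal (Points.ofPt a u) a ha e heF
    (fun y hy hye => hmin y hy hye) u u' rfl he.symm hs

end Groth.Agent.H52
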