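import Mathlib
import Groth.Agent.H52.QC

/-!
# helper52: finitely many quasi-finite points in a fibre (schemes)
-/

universe u

open CategoryTheory CategoryTheory.Limits AlgebraicGeometry Opposite Topology

namespace Groth.Agent.H52

/-- In a Noetherian space only finitely many points are open. -/
theorem finite_setOf_isOpen_singleton (F : Type*) [TopologicalSpace F] [TopologicalSpace.NoetherianSpace F] :
    {p : F | IsOpen ({p} : Set F)}.Finite := by
  have hc : IsCompact {p : F | IsOpen ({p} : Set F)} := TopologicalSpace.NoetherianSpace.isCompact _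
  obtain ⟨t, ht⟩ := hc.elim_finite_subcover (fun p : {p : F | IsOpen ({p} : Set F)} => ({p.1} : Set F))
    (fun p => p.2) (fun p hp => Set.mem_iUnion.2 ⟨⟨p, hp⟩, rfl⟩)
  refine (t.finite_toSet.image Subtype.val).subset ?_
  intro p hp
  obtain ⟨q, hq⟩ := Set.mem_iUnion.1 (ht hp)
  obtain ⟨hqt, hpq⟩ := Set.mem_iUnion.1 hq
  exact ⟨q, hqt, (Set.mem_singleton_iff.1 hpq).symm⟩

/-- For a quasi-compact morphism locally of finite type, only finitely many points of a fibre are points
where the morphism is quasi-finite. -/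
theorem finite_setOf_quasiFiniteAt_fiber {U V : Scheme.{u}} (h : U ⟶ V) [LocallyOfFiniteType h]
    [QuasiCompact h] (v : V) : {x : U | h x = v ∧ h.QuasiFiniteAt x}.Finite := by
  have : IsLocallyNoetherian (h.fiber v) :=
    show IsLocallyNoetherian (pullback h (V.fromSpecResidueField v)) from inferInstance
  have : IsNoetherian (h.fiber v) := {}
  refine ((finite_setOf_isOpen_singleton (h.fiber v)).image (h.fiberι v)).subset ?_
  rintro x ⟨rfl, hx⟩
  exact ⟨h.asFiber x, Scheme.Hom.quasiFiniteAt_iff_isOpen_singleton_asFiber.1 hx, h.fiberι_asFiber x⟩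

/-- The neighbourhood form of quasi-finiteness at a point gives quasi-finiteness of the stalk map. -/
theorem quasiFiniteAt_of_nbhd {U V : Scheme.{u}} (h : U ⟶ V) (x : U)
    (H : ∃ W : U.Opens, x ∈ W ∧ LocallyQuasiFinite (W.ι ≫ h) ∧ LocallyOfFiniteType (W.ι ≫ h)) :
    h.QuasiFiniteAt x := by
  obtain ⟨W, hxW, hq, -⟩ := H
  have := (W.ι ≫ h).quasiFiniteAt ⟨x, hxW⟩
  rwa [Scheme.Hom.quasiFiniteAt_comp_iff_of_isOpenImmersion] at this

theorem finite_setOf_quasiFinite_nbhd_fiber {U V : Scheme.{u}} (h : U ⟶ V) [LocallyOfFiniteType h]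
    [QuasiCompact h] (v : V) :
    {x : U | h x = v ∧ ∃ W : U.Opens, x ∈ W ∧ LocallyQuasiFinite (W.ι ≫ h) ∧
      LocallyOfFiniteType (W.ι ≫ h)}.Finite :=
  (finite_setOf_quasiFiniteAt_fiber h v).subset fun x hx => ⟨hx.1, quasiFiniteAt_of_nbhd h x hx.2⟩

end Groth.Agent.H52
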