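import Groth.Agent.S9334
import Groth.Agent.H52.QFFibre

/-!
# helper52: quasi-finiteness over a point versus codimension zero (schemes)
-/

universe u

open CategoryTheory CategoryTheory.Limits AlgebraicGeometry Opposite Topology

namespace Groth.Agent.H52

/-- The local ring at a point has dimension zero iff the point has no proper generization. -/
theorem ringKrullDim_stalk_eq_zero_iff {X : Scheme.{u}} (x : X) :
    ringKrullDim (X.presheaf.stalk x) = 0 ↔ ∀ ξ : X, ξ ⤳ x → ξ = x := by
  rw [ringKrullDim_stalk_eq_coheight]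
  have h0 : ((Order.coheight x : ℕ∞) : WithBot ℕ∞) = 0 ↔ Order.coheight x = 0 := by
    exact_mod_cast Iff.rfl
  rw [h0, Order.coheight_eq_zero]
  constructor
  · intro hmax ξ hξ
    have h1 : x ≤ ξ := Scheme.le_iff_specializes.mpr hξ
    exact (hξ.antisymm (Scheme.le_iff_specializes.mp (hmax h1))).eq
  · intro h ξ hξ
    rw [h ξ (Scheme.le_iff_specializes.mp hξ)]

/-- Every point is a specialization of a point without proper generizations. -/
theorem exists_specializes_of_no_generization {X : Scheme.{u}} (x : X) :
    ∃ ξ : X, ξ ⤳ x ∧ ∀ ξ' : X, ξ' ⤳ ξ → ξ' = ξ := by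
  have hZ := irreducibleComponent_mem_irreducibleComponents x
  have hirr : IsIrreducible (irreducibleComponent x) := isIrreducible_irreducibleComponent
  have hcl : IsClosed (irreducibleComponent x) := isClosed_irreducibleComponent
  have hgen := hirr.closure_genericPoint hcl
  refine ⟨hirr.genericPoint, ?_, ?_⟩
  · exact specializes_iff_mem_closure.mpr (hgen.symm.subset mem_irreducibleComponent)
  · intro y h
    have hξ : closure ({hirr.genericPoint} : Set X) ∈ irreducibleComponents (X : Type u) := by
      rw [hgen]; exact hZ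
    have h2 : closure ({y} : Set X) ≤ closure ({hirr.genericPoint} : Set X) :=
      hξ.2 isIrreducible_singleton.closure (specializes_iff_closure_subset.mp h)
    exact (h.antisymm (specializes_iff_closure_subset.mpr h2)).eq

/-- If every point of the fibre through `u` has codimension zero, the morphism is quasi-finite at `u`. -/
theorem quasiFiniteAt_of_fibre_codim_zero {U V : Scheme.{u}} (h : U ⟶ V) [LocallyOfFiniteType h]
    (u : U) (H : ∀ u' : U, h u' = h u → ringKrullDim (U.presheaf.stalk u') = 0) :
    h.QuasiFiniteAt u := by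
  rw [Groth.Agent.S9334.result]
  have key : ∀ z z' : h.fiber (h.base u), z' ⤳ z → z' = z := by
    intro z z' hz
    have h1 : h.fiberι (h.base u) z' ⤳ h.fiberι (h.base u) z := hz.map (h.fiberι _).continuous
    have h2 : h (h.fiberι (h.base u) z) = h u := (h.fiberHomeo (h.base u) z).2
    have h3 := (ringKrullDim_stalk_eq_zero_iff _).1 (H _ h2) _ h1
    exact (h.fiberι (h.base u)).isEmbedding.injective h3
  refine ⟨?_, fun x' hx' => key _ _ hx'⟩
  rw [← closure_eq_iff_isClosed]
  ext z
  rw [← specializes_iff_mem_closure, Set.mem_singleton_iff]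
  constructor
  · intro hz; exact (key z _ hz).symm
  · rintro rfl; exact specializes_rfl

/-- Over a point of codimension zero: if the morphism is quasi-finite at the codimension zero points of the
fibre, then every point of the fibre has codimension zero. -/
theorem codim_zero_of_quasiFiniteAt_generic {U V : Scheme.{u}} (h : U ⟶ V) [LocallyOfFiniteType h]
    (u : U) (hv : ringKrullDim (V.presheaf.stalk (h u)) = 0)
    (H : ∀ ξ : U, h ξ = h u → ringKrullDim (U.presheaf.stalk ξ) = 0 → h.QuasiFiniteAt ξ) :
    ringKrullDim (U.presheaf.stalk u) = 0 := by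
  obtain ⟨ξ, hξu, hξgen⟩ := exists_specializes_of_no_generization u
  have hξv : h ξ = h u := (ringKrullDim_stalk_eq_zero_iff _).1 hv _ (hξu.map h.continuous)
  have hq := H ξ hξv ((ringKrullDim_stalk_eq_zero_iff ξ).2 hξgen)
  rw [Groth.Agent.S9334.result] at hq
  have hcl := hq.1
  obtain ⟨uF, huF⟩ : ∃ uF : h.fiber (h.base ξ), h.fiberι (h.base ξ) uF = u :=
    ⟨(h.fiberHomeo (h.base ξ)).symm ⟨u, hξv.symm⟩, h.fiberι_fiberHomeo_symm _ _⟩
  have hsp : h.asFiber ξ ⤳ uF := by
    rw [← (h.fiberι (h.base ξ)).isEmbedding.isInducing.specializes_iff, huF, h.fiberι_asFiber]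
    exact hξu
  have heq : uF = h.asFiber ξ := hsp.mem_closed hcl (Set.mem_singleton _)
  have hu : u = ξ := by
    rw [← huF, heq, h.fiberι_asFiber]
  rw [hu]
  exact (ringKrullDim_stalk_eq_zero_iff ξ).2 hξgen

end Groth.Agent.H52
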