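import Groth.Agent.H52.Charts
import Mathlib.AlgebraicGeometry.Noetherian

/-!
# helper52: locally Noetherian sheaves have locally Noetherian spaces of points
-/

universe u

open CategoryTheory CategoryTheory.Limits AlgebraicGeometry Opposite AlgSp Topology TopologicalSpace

namespace Groth.Agent.H52

variable {S : Scheme.{u}}

/-- subsets of an affine open of a locally Noetherian scheme are compact -/
theorem isCompact_of_subset_affineOpen {U : Scheme.{u}} [IsLocallyNoetherian U] (V : U.Opens)
    (hV : IsAffineOpen V) (t : Set ↥U) (ht : t ⊆ (V : Set ↥U)) : IsCompact t := by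
  refine (noetherianSpace_set_iff (V : Set ↥U)).mp ?_ t ht
  convert! noetherianSpace_of_isAffineOpen V hV
  exact IsLocallyNoetherian.component_noetherian ⟨V, hV⟩

/-- Every point of a locally Noetherian sheaf has an open neighbourhood which is a Noetherian space. -/
theorem exists_noetherianSpace_nhd {F : Sp S} (hF : IsLocNoethSp F) (x : Points F) :
    ∃ W : Set (Points F), IsOpen W ∧ x ∈ W ∧ NoetherianSpace ↥W := by
  obtain ⟨U, p, hpe, hps, hU⟩ := hF
  have : IsLocallyNoetherian U.left := hU
  obtain ⟨u, rfl⟩ := surjective_ofPt_of_surjective p hps x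
  obtain ⟨_, ⟨V, hV, rfl⟩, huV, -⟩ :=
    (U.left.isBasis_affineOpens).exists_subset_of_mem_open (Set.mem_univ u) isOpen_univ
  refine ⟨Points.ofPt p '' (V : Set ↥U.left), isOpenMap_ofPt_of_etale p hpe _ V.2, ⟨u, huV, rfl⟩, ?_⟩
  rw [noetherianSpace_set_iff]
  intro t ht
  have : t = Points.ofPt p '' ((V : Set ↥U.left) ∩ Points.ofPt p ⁻¹' t) := by
    ext y
    constructor
    · intro hy
      obtain ⟨v, hv, rfl⟩ := ht hy
      exact ⟨v, ⟨hv, hy⟩, rfl⟩
    · rintro ⟨v, ⟨-, hv⟩, rfl⟩
      exact hv
  rw [this]
  exact (isCompact_of_subset_affineOpen V hV _ Set.inter_subset_left).image (Points.continuous_ofPt p)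

end Groth.Agent.H52
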