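import Groth.Agent.H52.LocPBC
import Groth.Agent.H50.Fibre
import Groth.Agent.H50.Descent

/-!
# Sections and diagonals of morphisms of algebraic spaces (helper52)

A section of a morphism of algebraic spaces is representable, and in the representable sense a separated
monomorphism locally of finite type and locally quasi-finite; the same holds for (relative) diagonals and for
`X ×_Z Y ⟶ X ×_T Y`.
-/

set_option autoImplicit false
universe u

open CategoryTheory CategoryTheory.Limits AlgebraicGeometry MorphismProperty
open AlgSp

namespace Groth.Agent.H52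

variable {S : Scheme.{u}}

/-- A representable monomorphism is representable by monomorphisms. -/
theorem repWith_monomorphisms_of_mono {A B : Sp S} (j : A ⟶ B) [Mono j] (hj : Representable j) :
    RepWith (MorphismProperty.monomorphisms Scheme.{u}) j := by
  refine ⟨hj, fun U V g fst snd sq => ?_⟩
  have h1 : MorphismProperty.monomorphisms (Sp S) ((yon S).map snd) :=
    MorphismProperty.of_isPullback (P := MorphismProperty.monomorphisms (Sp S)) sq
      (MorphismProperty.monomorphisms.infer_property j)
  have h2 : Mono ((yon S).map snd) := h1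
  have h3 : Mono snd := (yon S).mono_of_mono_map h2
  exact (inferInstance : Mono snd.left)

/-- The terminal sheaf has representable diagonal. -/
theorem representable_diag_terminal : Representable (Limits.diag (⊤_ (Sp S))) := by
  have : IsIso (Limits.diag (⊤_ (Sp S))) := by
    refine ⟨prod.fst, by rw [Limits.diag, prod.lift_fst], ?_⟩
    apply Limits.prod.hom_ext
    · rw [Category.assoc, Limits.diag, prod.lift_fst, Category.comp_id, Category.id_comp]
    · rw [Category.assoc, Limits.diag, prod.lift_snd, Category.comp_id, Category.id_comp]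
      exact Subsingleton.elim _ _
  exact Functor.relativelyRepresentable.of_isIso (yon S) _

/-- A product of algebraic spaces is an algebraic space. -/
theorem isAlgSpace_prod {X Y : Sp S} (hX : IsAlgSpace X) (hY : IsAlgSpace Y) :
    IsAlgSpace (X ⨯ Y) :=
  isAlgSpace_of_isPullback (IsPullback.of_hasBinaryProduct' X Y) representable_diag_terminal hX hY

/-- A section is a base change of the relative diagonal. -/
theorem isPullback_section {C : Type*} [Category C] [HasPullbacks C] {X T : C} (f : X ⟶ T)
    (s : T ⟶ X) (hs : s ≫ f = 𝟙 T) (σ : X ⟶ pullback f f)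
    (hσ₁ : σ ≫ pullback.fst f f = f ≫ s) (hσ₂ : σ ≫ pullback.snd f f = 𝟙 X) :
    IsPullback s s (pullback.diagonal f) σ := by
  refine ⟨⟨?_⟩, ⟨PullbackCone.IsLimit.mk _ (fun c => c.snd ≫ f) ?_ ?_ ?_⟩⟩
  · apply pullback.hom_ext
    · rw [Category.assoc, Category.assoc, pullback.diagonal_fst, hσ₁, Category.comp_id,
        ← Category.assoc, hs, Category.id_comp]
    · rw [Category.assoc, Category.assoc, pullback.diagonal_snd, hσ₂]
  · intro c
    have h1 := congr($(c.condition) ≫ pullback.fst f f)
    simp only [Category.assoc, pullback.diagonal_fst, hσ₁, Category.comp_id] at h1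
    exact (Category.assoc _ _ _).trans h1.symm
  · intro c
    have h1 := congr($(c.condition) ≫ pullback.fst f f)
    have h2 := congr($(c.condition) ≫ pullback.snd f f)
    simp only [Category.assoc, pullback.diagonal_fst, pullback.diagonal_snd, hσ₁, hσ₂,
      Category.comp_id] at h1 h2
    exact (Category.assoc _ _ _).trans (h1.symm.trans h2)
  · intro c m _ h2
    have : m = (m ≫ s) ≫ f := by rw [Category.assoc, hs, Category.comp_id]
    rw [this, h2]

/-- The class of properties of morphisms of schemes that a section (or diagonal) of a morphism of algebraic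
spaces enjoys "for free": `P` is etale local (with fppf descent) and is inherited by first factors. -/
theorem repWith_section_of_goodProp {P : MorphismProperty Scheme.{u}} (hP : H50.GoodProp P)
    (hc : ∀ ⦃A B C : Scheme.{u}⦄ (k : A ⟶ B) (l : B ⟶ C), P (k ≫ l) → P k)
    {X T : Sp S} (hX : IsAlgSpace X) (hT : IsAlgSpace T) (f : X ⟶ T) (s : T ⟶ X)
    (hs : s ≫ f = 𝟙 T) (hrep : Representable s) : RepWith P s := by
  have := hP.bc
  have := hP.mult
  have := AlgSp.repWith_isMultiplicative (S := S) P
  have h1 : LocP P (s ≫ f) := by
    rw [hs]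
    exact H50.locP_of_repWith hP.etale ((RepWith (S := S) P).id_mem T)
  have h2 : LocP P s :=
    H50.locP_of_comp (P := P) (Q := ⊤) (P' := P) hP.desc (fun _ _ _ k l hkl _ => hc k l hkl)
      hT.atlas h1 (fun _ _ _ _ _ _ _ _ => trivial)
  exact H50.repWith_of_locP hP.desc hrep hX.atlas h2

/-- All the properties of a section `s` of a morphism `f : X ⟶ T` of algebraic spaces. -/
theorem section_props {X T : Sp S} (hX : IsAlgSpace X) (hT : IsAlgSpace T) (f : X ⟶ T) (s : T ⟶ X)
    (hs : s ≫ f = 𝟙 T) :
    Representable s ∧
    RepWith @LocallyOfFiniteType s ∧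
    RepWith (@LocallyQuasiFinite ⊓ @LocallyOfFiniteType) s ∧
    RepWith @IsSeparated s ∧
    RepWith (MorphismProperty.monomorphisms Scheme.{u}) s ∧
    (IsSeparatedMor f → RepWith @IsClosedImmersion s) ∧
    (IsQuasiSeparatedMor f → RepWith @QuasiCompact s) := by
  have hrep : Representable s :=
    H50.representable_of_comp s f (H50.representable_diagonal_of_diag f hX.diag)
      (by rw [hs]; exact Functor.relativelyRepresentable.of_isIso (yon S) _)
  have hmono : Mono s := mono_of_mono_fac hs
  have hm : RepWith (MorphismProperty.monomorphisms Scheme.{u}) s :=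
    repWith_monomorphisms_of_mono s hrep
  have sq := isPullback_section f s hs
    (pullback.lift (f ≫ s) (𝟙 X) (by rw [Category.assoc, hs, Category.comp_id, Category.id_comp]))
    (pullback.lift_fst _ _ _) (pullback.lift_snd _ _ _)
  refine ⟨hrep, ?_, ?_, ?_, hm, ?_, ?_⟩
  · exact repWith_section_of_goodProp H50.goodProp_lft
      (fun _ _ _ k l hkl => by have : LocallyOfFiniteType (k ≫ l) := hkl
                               exact locallyOfFiniteType_of_comp k l) hX hT f s hs hrep
  · exact repWith_section_of_goodProp H50.goodProp_lqf
      (fun _ _ _ k l hkl => by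
        have h1 : LocallyQuasiFinite (k ≫ l) := hkl.1
        have h2 : LocallyOfFiniteType (k ≫ l) := hkl.2
        exact ⟨LocallyQuasiFinite.of_comp k l, locallyOfFiniteType_of_comp k l⟩) hX hT f s hs hrep
  · refine H50.repWith_mono (fun A B g hg => ?_) hm
    have : Mono g := hg
    exact (inferInstance : IsSeparated g)
  · intro hf
    exact MorphismProperty.of_isPullback (P := RepWith @IsClosedImmersion) sq hf
  · intro hf
    exact MorphismProperty.of_isPullback (P := RepWith @QuasiCompact) sq hf

/-- All the properties of the relative diagonal of a morphism `f : X ⟶ Y` from an algebraic space to a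
sheaf with representable diagonal. -/
theorem diagonal_props {X Y : Sp S} (hX : IsAlgSpace X) (hY : Representable (Limits.diag Y))
    (f : X ⟶ Y) :
    Representable (pullback.diagonal f) ∧
    RepWith @LocallyOfFiniteType (pullback.diagonal f) ∧
    RepWith (@LocallyQuasiFinite ⊓ @LocallyOfFiniteType) (pullback.diagonal f) ∧
    RepWith @IsSeparated (pullback.diagonal f) ∧
    RepWith (MorphismProperty.monomorphisms Scheme.{u}) (pullback.diagonal f) := by
  have hP : IsAlgSpace (pullback f f) := H50.isAlgSpace_pullback f f hX hX hY
  obtain ⟨h1, h2, h3, h4, h5, -, -⟩ :=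
    section_props hP hX (pullback.fst f f) (pullback.diagonal f) (pullback.diagonal_fst f)
  exact ⟨h1, h2, h3, h4, h5⟩

/-- All the properties of the absolute diagonal of an algebraic space. -/
theorem diag_props {X : Sp S} (hX : IsAlgSpace X) :
    RepWith @LocallyOfFiniteType (Limits.diag X) ∧
    RepWith (@LocallyQuasiFinite ⊓ @LocallyOfFiniteType) (Limits.diag X) ∧
    RepWith @IsSeparated (Limits.diag X) ∧
    RepWith (MorphismProperty.monomorphisms Scheme.{u}) (Limits.diag X) := by
  obtain ⟨-, h2, h3, h4, h5, -, -⟩ :=
    section_props (isAlgSpace_prod hX hX) hX prod.fst (Limits.diag X)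
      (by rw [Limits.diag, prod.lift_fst])
  exact ⟨h2, h3, h4, h5⟩

end Groth.Agent.H52
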