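import Groth.Agent.H52.EtLocalInst

/-!
# Operations on `AlgSp.LocP`: source covers, composition (helper52)
-/

set_option autoImplicit false
universe u

open CategoryTheory CategoryTheory.Limits AlgebraicGeometry MorphismProperty
open AlgSp

namespace Groth.Agent.H52

variable {S : Scheme.{u}}

/-- If `φ ≫ f` has `P` etale locally for one surjective etale chart `φ` of the source, so does `f`. -/
theorem locP_of_source_cover {P : MorphismProperty Scheme.{u}} (hP : EtLocal P) {X Y : Sp S}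
    (hY : IsAlgSpace Y) (f : X ⟶ Y) {U : Over S} (φ : (yon S).obj U ⟶ X)
    (hφ : RepWith @Etale φ) (hφs : RepWith @Surjective φ) (h : LocP P (φ ≫ f)) : LocP P f := by
  obtain ⟨V, b, hbe, hbs⟩ := hY.atlas
  have sq := hbe.rep.isPullback' (φ ≫ f)
  have h2e : Etale (hbe.rep.snd (φ ≫ f)).left := hbe.property_snd _
  have h2s : Surjective (hbe.rep.snd (φ ≫ f)).left := hbs.property_snd _
  have := AlgSp.repWith_isMultiplicative (S := S) @Etale
  have := AlgSp.repWith_isMultiplicative (S := S) @Surjective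
  have hae : RepWith @Etale ((yon S).map (hbe.rep.snd (φ ≫ f)) ≫ φ) :=
    (RepWith @Etale).comp_mem _ _ ((repWith_yon_map_iff _ _).2 h2e) hφ
  have has : RepWith @Surjective ((yon S).map (hbe.rep.snd (φ ≫ f)) ≫ φ) :=
    (RepWith @Surjective).comp_mem _ _ ((repWith_yon_map_iff _ _).2 h2s) hφs
  have hh : P (hbe.rep.fst' (φ ≫ f)).left :=
    h ((yon S).map (hbe.rep.snd (φ ≫ f))) b _ ((repWith_yon_map_iff _ _).2 h2e) hbe sq.w.symm
  exact locP_of_one_chart hP f _ b _ hae has hbe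
    (by rw [Category.assoc]; exact sq.w.symm) hh

/-- `LocP P` is stable under composition. -/
theorem locP_comp {P : MorphismProperty Scheme.{u}} (hP : EtLocal P) {X Y Z : Sp S}
    (hY : IsAlgSpace Y) (f : X ⟶ Y) (g : Y ⟶ Z) (hf : LocP P f) (hg : LocP P g) :
    LocP P (f ≫ g) := by
  intro U W a c k ha hc comm
  obtain ⟨V, b, hbe, hbs⟩ := hY.atlas
  have := AlgSp.repWith_isMultiplicative (S := S) @Etale
  -- U' = V ×_Y U
  have sqU := hbe.rep.isPullback' (a ≫ f)
  have hu₂e : Etale (hbe.rep.snd (a ≫ f)).left := hbe.property_snd _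
  have hu₂s : Surjective (hbe.rep.snd (a ≫ f)).left := hbs.property_snd _
  have hu₁ : P (hbe.rep.fst' (a ≫ f)).left :=
    hf ((yon S).map (hbe.rep.snd (a ≫ f)) ≫ a) b _
      ((RepWith @Etale).comp_mem _ _ ((repWith_yon_map_iff _ _).2 hu₂e) ha) hbe
      (by rw [Category.assoc]; exact sqU.w.symm)
  -- V' = W ×_Z V
  have sqV := hc.rep.isPullback' (b ≫ g)
  have hv₂e : Etale (hc.rep.snd (b ≫ g)).left := hc.property_snd _
  have hv₁ : P (hc.rep.fst' (b ≫ g)).left :=
    hg ((yon S).map (hc.rep.snd (b ≫ g)) ≫ b) c _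
      ((RepWith @Etale).comp_mem _ _ ((repWith_yon_map_iff _ _).2 hv₂e) hbe) hc
      (by rw [Category.assoc]; exact sqV.w.symm)
  -- the map U' ⟶ V'
  have hcomp : (yon S).map (hbe.rep.snd (a ≫ f) ≫ k) ≫ c =
      (yon S).map (hbe.rep.fst' (a ≫ f)) ≫ b ≫ g := by
    calc (yon S).map (hbe.rep.snd (a ≫ f) ≫ k) ≫ c
        = (yon S).map (hbe.rep.snd (a ≫ f)) ≫ ((yon S).map k ≫ c) := by
          rw [Functor.map_comp, Category.assoc]
      _ = (yon S).map (hbe.rep.snd (a ≫ f)) ≫ (a ≫ f ≫ g) := by rw [comm]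
      _ = ((yon S).map (hbe.rep.snd (a ≫ f)) ≫ (a ≫ f)) ≫ g := by simp only [Category.assoc]
      _ = ((yon S).map (hbe.rep.fst' (a ≫ f)) ≫ b) ≫ g := by rw [sqU.w]
      _ = _ := Category.assoc _ _ _
  obtain ⟨m, hm⟩ := (yon S).map_surjective (sqV.lift _ _ hcomp)
  have hm₁ : m ≫ hc.rep.fst' (b ≫ g) = hbe.rep.snd (a ≫ f) ≫ k := by
    apply (yon S).map_injective
    rw [Functor.map_comp, hm, sqV.lift_fst]
  have hm₂ : m ≫ hc.rep.snd (b ≫ g) = hbe.rep.fst' (a ≫ f) := by
    apply (yon S).map_injective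
    rw [Functor.map_comp, hm, sqV.lift_snd]
  have h1 : P (m.left ≫ (hc.rep.snd (b ≫ g)).left) := by
    rw [← Over.comp_left, hm₂]
    exact hu₁
  have h2 : P m.left := hP.of_postcomp _ _ hv₂e h1
  have h3 : P (m.left ≫ (hc.rep.fst' (b ≫ g)).left) :=
    have := hP.mult
    P.comp_mem _ _ h2 hv₁
  have h4 : P ((hbe.rep.snd (a ≫ f)).left ≫ k.left) := by
    rw [← Over.comp_left, ← hm₁, Over.comp_left]
    exact h3
  exact SrcLocal.of_single (P := P) hP.src _ _ hu₂e hu₂s h4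

end Groth.Agent.H52
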