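import Groth.Agent.H52.QCDesc
import Groth.Agent.H50.Basic

/-!
# Operations on quasi-compact morphisms of algebraic spaces (helper52)
-/

set_option autoImplicit false
universe u

open CategoryTheory CategoryTheory.Limits AlgebraicGeometry Opposite AlgSp Topology

namespace Groth.Agent.H52

variable {S : Scheme.{u}}

/-- Quasi-compact morphisms are stable under base change. -/
theorem isQuasiCompactMor_baseChange {F G F' G' : Sp S} {f : F ⟶ G} {g : G' ⟶ G} {fst : F' ⟶ F}
    {snd : F' ⟶ G'} (sq : IsPullback fst snd f g) (hf : IsQuasiCompactMor f) :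
    IsQuasiCompactMor snd := by
  intro Z Z' hZ hZq k a b sqZ
  exact hf hZ hZq (k ≫ g) (a ≫ fst) b (sqZ.paste_horiz sq)

/-- Quasi-compact morphisms are stable under composition (the middle sheaf an algebraic space, the target
with representable diagonal). -/
theorem isQuasiCompactMor_comp {X Y Z : Sp S} (hY : IsAlgSpace Y)
    (hZ : Representable (Limits.diag Z)) {f : X ⟶ Y} {g : Y ⟶ Z} (hf : IsQuasiCompactMor f)
    (hg : IsQuasiCompactMor g) : IsQuasiCompactMor (f ≫ g) := by
  intro W W' hW hWq k a b sqW
  -- middle: Y_W = Y ×_Z W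
  have sqM := IsPullback.of_hasPullback g k
  have hM : IsAlgSpace (pullback g k) := isAlgSpace_of_isPullback sqM hZ hY hW
  have hMq : IsQuasiCompactSp (pullback g k) := hg hW hWq k _ _ sqM
  let m : W' ⟶ pullback g k := sqM.lift (a ≫ f) b (by rw [Category.assoc]; exact sqW.w)
  have sqTop : IsPullback a m f (pullback.fst g k) := by
    refine IsPullback.of_bot ?_ (sqM.lift_fst _ _ _).symm sqM
    rw [sqM.lift_snd]
    exact sqW
  exact hf hM hMq (pullback.fst g k) a m sqTop

end Groth.Agent.H52
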