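import Groth.Agent.H52.Univ
import Groth.Prelude.Def_AlgSpCov
import Mathlib.AlgebraicGeometry.Morphisms.Flat

/-!
# helper52: fpqc coverings of algebraic spaces and properties local on the base
-/

universe u

open CategoryTheory CategoryTheory.Limits AlgebraicGeometry Opposite AlgSp Topology

namespace Groth.Agent.H52

/-- The inclusions into a coproduct of schemes are jointly surjective. -/
theorem exists_sigmaι_eq {σ : Type} [Small.{u} σ] (f : σ → Scheme.{u}) (x : ↥(∐ f)) :
    ∃ i y, Sigma.ι f i y = x := by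
  obtain ⟨i, y, h⟩ := (sigmaOpenCover f).exists_eq x
  exact ⟨i, y, h⟩

/-- Openness in an affine scheme is tested on a finite jointly surjective family of flat morphisms from affine
schemes (a standard fpqc covering). -/
theorem isOpen_of_flat_family {Z : Scheme.{u}} [IsAffine Z] {σ : Type} [Finite σ]
    (W : σ → Scheme.{u}) [∀ j, IsAffine (W j)] (c : ∀ j, W j ⟶ Z) [∀ j, Flat (c j)]
    (hs : ∀ z : ↥Z, ∃ j w, c j w = z) {A : Set ↥Z} (h : ∀ j, IsOpen (c j ⁻¹' A)) : IsOpen A := by
  let p : ∐ W ⟶ Z := Sigma.desc c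
  have : Surjective p := ⟨fun z => by
    obtain ⟨j, w, rfl⟩ := hs z
    exact ⟨Sigma.ι W j w, by rw [← Scheme.Hom.comp_apply, Sigma.ι_desc]⟩⟩
  have : QuasiCompact p := (HasAffineProperty.iff_of_isAffine (P := @QuasiCompact)).mpr inferInstance
  have hq := Flat.isQuotientMap_of_surjective p
  rw [← hq.isOpen_preimage]
  refine isOpen_of_forall_preimage (fun j (w : W j) => Sigma.ι W j w)
    (fun j => (Sigma.ι W j).isOpenEmbedding.isOpenMap) (exists_sigmaι_eq W) fun j => ?_
  have e : (fun w : W j => Sigma.ι W j w) ⁻¹' (p ⁻¹' A) = c j ⁻¹' A := by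
    ext w
    simp only [Set.mem_preimage]
    rw [← Scheme.Hom.comp_apply, Sigma.ι_desc]
  rw [e]
  exact h j

theorem isClosed_of_flat_family {Z : Scheme.{u}} [IsAffine Z] {σ : Type} [Finite σ]
    (W : σ → Scheme.{u}) [∀ j, IsAffine (W j)] (c : ∀ j, W j ⟶ Z) [∀ j, Flat (c j)]
    (hs : ∀ z : ↥Z, ∃ j w, c j w = z) {A : Set ↥Z} (h : ∀ j, IsClosed (c j ⁻¹' A)) : IsClosed A := by
  rw [← isOpen_compl_iff]
  exact isOpen_of_flat_family W c hs fun j => by
    rw [Set.preimage_compl]
    exact (h j).isOpen_compl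

variable {S : Scheme.{u}}

/-- Given base changes `P` of `f` along `p : Y' ⟶ Y` and `Q` along `g : h_Z ⟶ Y`, and a scheme `T` mapping compatibly
to `Z` and `Y'`, the base change of `f` to `T` is a base change of both `P` and `Q`. -/
theorem exists_baseChange_of_lift {X Y Y' : Sp S} {f : X ⟶ Y} {p : Y' ⟶ Y}
    {P : Sp S} {fst : P ⟶ X} {snd : P ⟶ Y'} (sq : IsPullback fst snd f p) {Z : Over S}
    {g : (yon S).obj Z ⟶ Y} {Q : Sp S} {qfst : Q ⟶ X} {qsnd : Q ⟶ (yon S).obj Z}
    (sqQ : IsPullback qfst qsnd f g) {T : Over S} (c : T ⟶ Z) (d : (yon S).obj T ⟶ Y')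
    (hcd : (yon S).map c ≫ g = d ≫ p) :
    ∃ (Qi : Sp S) (li : Qi ⟶ Q) (ki : Qi ⟶ P) (si : Qi ⟶ (yon S).obj T),
      IsPullback li si qsnd ((yon S).map c) ∧ IsPullback ki si snd d := by
  have sqi := IsPullback.of_hasPullback f (d ≫ p)
  refine ⟨pullback f (d ≫ p),
    sqQ.lift (pullback.fst _ _) (pullback.snd _ _ ≫ (yon S).map c)
      (by rw [Category.assoc, hcd]; exact sqi.w),
    sq.lift (pullback.fst _ _) (pullback.snd _ _ ≫ d)
      (by rw [Category.assoc]; exact sqi.w),
    pullback.snd _ _, ?_, ?_⟩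
  · exact isPullback_lift_of_comp_right sqQ (by rw [hcd]; exact sqi) _
      (sqQ.lift_fst _ _ _) (sqQ.lift_snd _ _ _)
  · exact isPullback_lift_of_comp_right sq sqi _ (sq.lift_fst _ _ _) (sq.lift_snd _ _ _)

section Family

variable {Q : Sp S} {Z : Over S} (qsnd : Q ⟶ (yon S).obj Z) {ι : Type*}
  (T : ι → Over S) (c : ∀ i, T i ⟶ Z)

theorem isOpenMap_of_test
    (htest : ∀ A : Set ↥Z.left, (∀ i, IsOpen ((fun t => (c i).left t) ⁻¹' A)) → IsOpen A)
    (H : ∀ i, ∃ (Qi : Sp S) (li : Qi ⟶ Q) (si : Qi ⟶ (yon S).obj (T i)),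
      IsPullback li si qsnd ((yon S).map (c i)) ∧ IsOpenMap (Points.map si)) :
    IsOpenMap (Points.map qsnd) := by
  intro W hW
  have hA : IsOpen (Points.schemeHomeo Z ⁻¹' (Points.map qsnd '' W)) := by
    refine htest _ fun i => ?_
    obtain ⟨Qi, li, si, sq, ho⟩ := H i
    rw [preimage_left_eq qsnd (c i) sq W]
    exact (ho _ (hW.preimage (Points.continuous_map _))).preimage (Points.schemeHomeo _).continuous
  simpa using (Points.schemeHomeo Z).symm.isOpen_preimage.2 hA

theorem isClosedMap_of_test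
    (htest : ∀ A : Set ↥Z.left, (∀ i, IsClosed ((fun t => (c i).left t) ⁻¹' A)) → IsClosed A)
    (H : ∀ i, ∃ (Qi : Sp S) (li : Qi ⟶ Q) (si : Qi ⟶ (yon S).obj (T i)),
      IsPullback li si qsnd ((yon S).map (c i)) ∧ IsClosedMap (Points.map si)) :
    IsClosedMap (Points.map qsnd) := by
  intro W hW
  have hA : IsClosed (Points.schemeHomeo Z ⁻¹' (Points.map qsnd '' W)) := by
    refine htest _ fun i => ?_
    obtain ⟨Qi, li, si, sq, ho⟩ := H i
    rw [preimage_left_eq qsnd (c i) sq W]
    exact (ho _ (hW.preimage (Points.continuous_map _))).preimage (Points.schemeHomeo _).continuous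
  simpa using (Points.schemeHomeo Z).symm.isClosed_preimage.2 hA

theorem surjective_of_family (hcs : ∀ z : ↥Z.left, ∃ i t, (c i).left t = z)
    (H : ∀ i, ∃ (Qi : Sp S) (li : Qi ⟶ Q) (si : Qi ⟶ (yon S).obj (T i)),
      IsPullback li si qsnd ((yon S).map (c i)) ∧ Function.Surjective (Points.map si)) :
    Function.Surjective (Points.map qsnd) := by
  intro z'
  obtain ⟨z, rfl⟩ := (Points.schemeEquiv Z).surjective z'
  obtain ⟨i, t, rfl⟩ := hcs z
  obtain ⟨Qi, li, si, sq, hs⟩ := H i
  obtain ⟨y, hy⟩ := hs (Points.ofScheme (T i) t)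
  refine ⟨Points.map li y, ?_⟩
  rw [← Points.map_comp, sq.w, Points.map_comp, hy, map_yon_map_ofScheme]
  rfl

theorem injective_of_family (hcs : ∀ z : ↥Z.left, ∃ i t, (c i).left t = z)
    (H : ∀ i, ∃ (Qi : Sp S) (li : Qi ⟶ Q) (si : Qi ⟶ (yon S).obj (T i)),
      IsPullback li si qsnd ((yon S).map (c i)) ∧ Function.Injective (Points.map si)) :
    Function.Injective (Points.map qsnd) := by
  intro x x' hxx'
  obtain ⟨z, hz⟩ := (Points.schemeEquiv Z).surjective (Points.map qsnd x)
  obtain ⟨i, t, rfl⟩ := hcs z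
  obtain ⟨Qi, li, si, sq, hs⟩ := H i
  have h1 : Points.map qsnd x = Points.map ((yon S).map (c i)) (Points.ofScheme (T i) t) := by
    rw [map_yon_map_ofScheme]
    exact hz.symm
  obtain ⟨y, hy1, hy2⟩ := exists_point_of_isPullback sq x _ h1
  obtain ⟨y', hy1', hy2'⟩ := exists_point_of_isPullback sq x' _ (hxx' ▸ h1)
  have : y = y' := hs (hy2.trans hy2'.symm)
  rw [← hy1, ← hy1', this]

theorem isQuotientMap_of_test
    (htest : ∀ A : Set ↥Z.left, (∀ i, IsOpen ((fun t => (c i).left t) ⁻¹' A)) → IsOpen A)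
    (hcs : ∀ z : ↥Z.left, ∃ i t, (c i).left t = z)
    (H : ∀ i, ∃ (Qi : Sp S) (li : Qi ⟶ Q) (si : Qi ⟶ (yon S).obj (T i)),
      IsPullback li si qsnd ((yon S).map (c i)) ∧ IsQuotientMap (Points.map si)) :
    IsQuotientMap (Points.map qsnd) := by
  refine (isQuotientMap_iff _).2 ⟨isCoinducing_iff.2 fun A => ⟨fun hA => ?_,
    fun hA => hA.preimage (Points.continuous_map _)⟩, ?_⟩
  · have hA' : IsOpen (Points.schemeHomeo Z ⁻¹' A) := by
      refine htest _ fun i => ?_
      obtain ⟨Qi, li, si, sq, hq⟩ := H i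
      have e : (fun t => (c i).left t) ⁻¹' (Points.schemeHomeo Z ⁻¹' A) =
          Points.schemeHomeo (T i) ⁻¹' (Points.map ((yon S).map (c i)) ⁻¹' A) := by
        ext t
        simp only [Set.mem_preimage, Points.map_yon_map_apply]
      rw [e]
      refine IsOpen.preimage (Points.schemeHomeo (T i)).continuous ?_
      rw [← hq.isOpen_preimage, ← Set.preimage_comp,
        show Points.map ((yon S).map (c i)) ∘ Points.map si = Points.map qsnd ∘ Points.map li from by
          funext x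
          simp only [Function.comp_apply, ← Points.map_comp, sq.w],
        Set.preimage_comp]
      exact hA.preimage (Points.continuous_map _)
    simpa using (Points.schemeHomeo Z).symm.isOpen_preimage.2 hA'
  · exact surjective_of_family qsnd T c hcs fun i => by
      obtain ⟨Qi, li, si, sq, hq⟩ := H i
      exact ⟨Qi, li, si, sq, hq.surjective⟩

end Family

theorem surjective_of_affine_baseChange {P Z : Sp S} (psnd : P ⟶ Z)
    (H : ∀ (T : Over S), IsAffine T.left → ∀ (c : (yon S).obj T ⟶ Z) (Q : Sp S) (qfst : Q ⟶ P)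
      (qsnd : Q ⟶ (yon S).obj T), IsPullback qfst qsnd psnd c → Function.Surjective (Points.map qsnd)) :
    Function.Surjective (Points.map psnd) := by
  intro z
  induction z using Points.ind with
  | h p =>
  have sq := IsPullback.of_hasPullback psnd p.toHom
  have hq := H p.pt (by dsimp; infer_instance) p.toHom _ _ _ sq
  obtain ⟨w, hw⟩ := hq (Points.ofScheme p.pt (IsLocalRing.closedPoint p.K))
  refine ⟨Points.map (pullback.fst psnd p.toHom) w, ?_⟩
  rw [← Points.map_comp, pullback.condition, Points.map_comp, hw, map_toHom_ofScheme]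

theorem injective_of_affine_baseChange {P Z : Sp S} (psnd : P ⟶ Z)
    (H : ∀ (T : Over S), IsAffine T.left → ∀ (c : (yon S).obj T ⟶ Z) (Q : Sp S) (qfst : Q ⟶ P)
      (qsnd : Q ⟶ (yon S).obj T), IsPullback qfst qsnd psnd c → Function.Injective (Points.map qsnd)) :
    Function.Injective (Points.map psnd) := by
  intro x x' hxx'
  obtain ⟨p, hp⟩ := Points.mk_surjective (Points.map psnd x)
  have sq := IsPullback.of_hasPullback psnd p.toHom
  have hq := H p.pt (by dsimp; infer_instance) p.toHom _ _ _ sq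
  have h1 : Points.map psnd x =
      Points.map p.toHom (Points.ofScheme p.pt (IsLocalRing.closedPoint p.K)) := by
    rw [map_toHom_ofScheme, hp]
  obtain ⟨y, hy1, hy2⟩ := exists_point_of_isPullback sq x _ h1
  obtain ⟨y', hy1', hy2'⟩ := exists_point_of_isPullback sq x' _ (hxx' ▸ h1)
  have : y = y' := hq (hy2.trans hy2'.symm)
  rw [← hy1, ← hy1', this]

theorem isHomeomorph_of_affine_baseChange {P Z : Sp S} (psnd : P ⟶ Z)
    (H : ∀ (T : Over S), IsAffine T.left → ∀ (c : (yon S).obj T ⟶ Z) (Q : Sp S) (qfst : Q ⟶ P)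
      (qsnd : Q ⟶ (yon S).obj T), IsPullback qfst qsnd psnd c → IsHomeomorph (Points.map qsnd)) :
    IsHomeomorph (Points.map psnd) :=
  ⟨Points.continuous_map _,
    isOpenMap_of_affine_baseChange psnd fun T hT c Q qfst qsnd sq => (H T hT c Q qfst qsnd sq).isOpenMap,
    injective_of_affine_baseChange psnd fun T hT c Q qfst qsnd sq => (H T hT c Q qfst qsnd sq).injective,
    surjective_of_affine_baseChange psnd fun T hT c Q qfst qsnd sq => (H T hT c Q qfst qsnd sq).surjective⟩

/-- The shape of "can be tested on base changes to affine schemes". -/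
def AffineTestable (Q : MorphismProperty (Sp S)) : Prop :=
  ∀ ⦃P Z : Sp S⦄ (psnd : P ⟶ Z),
    (∀ (T : Over S), IsAffine T.left → ∀ (c : (yon S).obj T ⟶ Z) (Q' : Sp S) (qfst : Q' ⟶ P)
      (qsnd : Q' ⟶ (yon S).obj T), IsPullback qfst qsnd psnd c → Q qsnd) → Q psnd

/-- The shape of "descends along standard fpqc coverings of affine schemes". -/
def FpqcTestable (Q : MorphismProperty (Sp S)) : Prop :=
  ∀ ⦃Q' : Sp S⦄ ⦃Z : Over S⦄ (qsnd : Q' ⟶ (yon S).obj Z), IsAffine Z.left →
    ∀ (m : ℕ) (W : Fin m → Over S) (c : ∀ j, W j ⟶ Z), (∀ j, IsAffine (W j).left) →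
      (∀ j, Flat (c j).left) → (∀ z : ↥Z.left, ∃ j, z ∈ Set.range (c j).left) →
      (∀ j, ∃ (Qi : Sp S) (li : Qi ⟶ Q') (si : Qi ⟶ (yon S).obj (W j)),
        IsPullback li si qsnd ((yon S).map (c j)) ∧ Q si) → Q qsnd

/-- `UnivSp Q` is fpqc local on the base as soon as `Q` can be tested on affine base changes and descends along
standard fpqc coverings of affine schemes. -/
theorem isLocalOnBase_fpqc_univSp (Q : MorphismProperty (Sp S)) (hQ : AffineTestable Q)
    (hQfam : FpqcTestable Q) : IsLocalOnBase (IsFpqcCover (S := S)) (UnivSp Q) := by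
  intro ι Y Yi g hY hYi hcov X f hX Xi p q hXi sq
  constructor
  · intro hf i Z Z' hZ h fst' snd' sq'
    exact hf hZ (h ≫ g i) (fst' ≫ q i) snd' (sq'.paste_horiz (sq i))
  · intro hp
    apply univSp_of_affine Q hQ f
    intro Z hZ h Pz a b sqP
    obtain ⟨m, W, c, hW, hflat, hsurj, hlift⟩ := hcov.2 Z hZ h
    apply hQfam b hZ m W c hW hflat hsurj
    intro j
    obtain ⟨i, l, hl⟩ := hlift j
    obtain ⟨Qi, li, ki, si, sq1, sq2⟩ := exists_baseChange_of_lift (sq i) sqP (c j) l hl.symm
    exact ⟨Qi, li, si, sq1, hp i (IsAlgSpace.yon_obj _) l ki si sq2⟩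

section Testable

variable {Q' : Sp S} {Z : Over S} (hZ : IsAffine Z.left) {m : ℕ} (W : Fin m → Over S)
  (c : ∀ j, W j ⟶ Z) (hW : ∀ j, IsAffine (W j).left) (hflat : ∀ j, Flat (c j).left)
  (hsurj : ∀ z : ↥Z.left, ∃ j, z ∈ Set.range (c j).left)

include hZ hW hflat hsurj

theorem isOpen_of_fpqc {A : Set ↥Z.left} (h : ∀ j, IsOpen ((fun t => (c j).left t) ⁻¹' A)) : IsOpen A := by
  have := hZ
  have := hW
  have := hflat
  exact isOpen_of_flat_family (fun j => (W j).left) (fun j => (c j).left)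
    (fun z => by obtain ⟨j, w, hw⟩ := hsurj z; exact ⟨j, w, hw⟩) h

theorem isClosed_of_fpqc {A : Set ↥Z.left} (h : ∀ j, IsClosed ((fun t => (c j).left t) ⁻¹' A)) :
    IsClosed A := by
  have := hZ
  have := hW
  have := hflat
  exact isClosed_of_flat_family (fun j => (W j).left) (fun j => (c j).left)
    (fun z => by obtain ⟨j, w, hw⟩ := hsurj z; exact ⟨j, w, hw⟩) h

omit hZ hW hflat in
theorem exists_of_mem_range : ∀ z : ↥Z.left, ∃ j t, (c j).left t = z := fun z => by
  obtain ⟨j, w, hw⟩ := hsurj z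
  exact ⟨j, w, hw⟩

end Testable

theorem fpqcTestable_isOpenMor : FpqcTestable (IsOpenMor (S := S)) :=
  fun _ _ qsnd hZ _ W c hW hflat hsurj H =>
    isOpenMap_of_test qsnd W c (fun _ h => isOpen_of_fpqc hZ W c hW hflat hsurj h) H

theorem fpqcTestable_isClosedMor : FpqcTestable (IsClosedMor (S := S)) :=
  fun _ _ qsnd hZ _ W c hW hflat hsurj H =>
    isClosedMap_of_test qsnd W c (fun _ h => isClosed_of_fpqc hZ W c hW hflat hsurj h) H

theorem fpqcTestable_isSubmersiveMor : FpqcTestable (IsSubmersiveMor (S := S)) :=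
  fun _ _ qsnd hZ _ W c hW hflat hsurj H =>
    isQuotientMap_of_test qsnd W c (fun _ h => isOpen_of_fpqc hZ W c hW hflat hsurj h)
      (exists_of_mem_range W c hsurj) H

theorem fpqcTestable_injective :
    FpqcTestable (fun _ _ f => Function.Injective (Points.map f) : MorphismProperty (Sp S)) :=
  fun _ _ qsnd _ _ W c _ _ hsurj H =>
    injective_of_family qsnd W c (exists_of_mem_range W c hsurj) H

theorem fpqcTestable_isHomeomorph :
    FpqcTestable (fun _ _ f => IsHomeomorph (Points.map f) : MorphismProperty (Sp S)) :=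
  fun _ _ qsnd hZ _ W c hW hflat hsurj H =>
    ⟨Points.continuous_map _,
      isOpenMap_of_test qsnd W c (fun _ h => isOpen_of_fpqc hZ W c hW hflat hsurj h) fun j => by
        obtain ⟨Qi, li, si, sq, hq⟩ := H j
        exact ⟨Qi, li, si, sq, hq.isOpenMap⟩,
      injective_of_family qsnd W c (exists_of_mem_range W c hsurj) fun j => by
        obtain ⟨Qi, li, si, sq, hq⟩ := H j
        exact ⟨Qi, li, si, sq, hq.injective⟩,
      surjective_of_family qsnd W c (exists_of_mem_range W c hsurj) fun j => by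
        obtain ⟨Qi, li, si, sq, hq⟩ := H j
        exact ⟨Qi, li, si, sq, hq.surjective⟩⟩

end Groth.Agent.H52
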