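import Groth.Agent.H52.QC
import Groth.Agent.H52.Decent
import Mathlib.AlgebraicGeometry.Morphisms.UniversallyOpen
import Mathlib.AlgebraicGeometry.Morphisms.UniversallyClosed

/-!
# helper52: universally open / closed / ... morphisms of sheaves

Tools for the `AlgSp.UnivSp` properties: the topology of `Points` is tested on affine schemes, base change
description of preimages of images, reduction of `UnivSp Q` to affine base changes, and the passage between
`RepWith (universally (topologically Q))` and `UnivSp`.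
-/

universe u

open CategoryTheory CategoryTheory.Limits AlgebraicGeometry Opposite AlgSp Topology

namespace Groth.Agent.H52

variable {S : Scheme.{u}}

/-- An isomorphism of sheaves induces a homeomorphism on points. -/
noncomputable def homeoOfIso {F G : Sp S} (e : F ≅ G) : Points F ≃ₜ Points G where
  toFun := Points.map e.hom
  invFun := Points.map e.inv
  left_inv x := by rw [← Points.map_comp, e.hom_inv_id, Points.map_id]
  right_inv x := by rw [← Points.map_comp, e.inv_hom_id, Points.map_id]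
  continuous_toFun := Points.continuous_map _
  continuous_invFun := Points.continuous_map _

theorem map_yon_map_eq' {T T' : Over S} (φ : T ⟶ T') :
    (fun t => φ.left t) = (Points.schemeHomeo T').symm ∘ Points.map ((yon S).map φ) ∘ Points.schemeHomeo T := by
  funext t
  simp only [Function.comp_apply, Points.map_yon_map_apply, Homeomorph.symm_apply_apply]

theorem isOpenMap_map_yon_map_iff {T T' : Over S} (φ : T ⟶ T') :
    IsOpenMap (Points.map ((yon S).map φ)) ↔ IsOpenMap (fun t => φ.left t) := by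
  constructor
  · intro h
    rw [map_yon_map_eq']
    exact ((Points.schemeHomeo T').symm.isOpenMap.comp h).comp (Points.schemeHomeo T).isOpenMap
  · intro h
    rw [Points.map_yon_map_eq]
    exact ((Points.schemeHomeo T').isOpenMap.comp h).comp (Points.schemeHomeo T).symm.isOpenMap

theorem isClosedMap_map_yon_map_iff {T T' : Over S} (φ : T ⟶ T') :
    IsClosedMap (Points.map ((yon S).map φ)) ↔ IsClosedMap (fun t => φ.left t) := by
  constructor
  · intro h
    rw [map_yon_map_eq']
    exact ((Points.schemeHomeo T').symm.isClosedMap.comp h).comp (Points.schemeHomeo T).isClosedMap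
  · intro h
    rw [Points.map_yon_map_eq]
    exact ((Points.schemeHomeo T').isClosedMap.comp h).comp (Points.schemeHomeo T).symm.isClosedMap

theorem isQuotientMap_map_yon_map_iff {T T' : Over S} (φ : T ⟶ T') :
    IsQuotientMap (Points.map ((yon S).map φ)) ↔ IsQuotientMap (fun t => φ.left t) := by
  constructor
  · intro h
    rw [map_yon_map_eq']
    exact ((Points.schemeHomeo T').symm.isQuotientMap.comp h).comp (Points.schemeHomeo T).isQuotientMap
  · intro h
    rw [Points.map_yon_map_eq]
    exact ((Points.schemeHomeo T').isQuotientMap.comp h).comp (Points.schemeHomeo T).symm.isQuotientMap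

/-- For a pullback square, the preimage of an image is the image of the preimage. -/
theorem preimage_image_eq_of_isPullback {P Z Q T : Sp S} {psnd : P ⟶ Z} {c : T ⟶ Z} {qfst : Q ⟶ P}
    {qsnd : Q ⟶ T} (sq : IsPullback qfst qsnd psnd c) (W : Set (Points P)) :
    Points.map c ⁻¹' (Points.map psnd '' W) = Points.map qsnd '' (Points.map qfst ⁻¹' W) := by
  ext t
  constructor
  · rintro ⟨w, hw, hwt⟩
    obtain ⟨z, hz1, hz2⟩ := exists_point_of_isPullback sq w t hwt
    exact ⟨z, by simpa [hz1] using hw, hz2⟩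
  · rintro ⟨z, hz, rfl⟩
    exact ⟨Points.map qfst z, hz, by rw [← Points.map_comp, sq.w, Points.map_comp]⟩

/-- Open subsets of the space of points are tested on affine schemes. -/
theorem isOpen_iff_affine {F : Sp S} {W : Set (Points F)} :
    IsOpen W ↔ ∀ (T : Over S), IsAffine T.left → ∀ c : (yon S).obj T ⟶ F,
      IsOpen (Points.ofPt c ⁻¹' W) := by
  constructor
  · intro hW T _ c
    exact hW.preimage (Points.continuous_ofPt c)
  · intro H
    rw [Points.isOpen_iff]
    intro T c
    rw [isOpen_iff_forall_mem_open]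
    intro t ht
    obtain ⟨_, ⟨V₀, hV, rfl⟩, htV, -⟩ :=
      T.left.isBasis_affineOpens.exists_subset_of_mem_open (Set.mem_univ t) isOpen_univ
    obtain ⟨V, rfl⟩ : ∃ V : T.left.Opens, V = V₀ := ⟨V₀, rfl⟩
    have h1 := H (overOpen T V) hV ((yon S).map (overOpenHom T V) ≫ c)
    have h2 : Points.ofPt ((yon S).map (overOpenHom T V) ≫ c) ⁻¹' W =
        V.ι ⁻¹' (Points.ofPt c ⁻¹' W) := by
      ext v
      rw [Set.mem_preimage, ofPt_yon_map_comp]
      rfl
    rw [h2] at h1
    refine ⟨V.ι '' (V.ι ⁻¹' (Points.ofPt c ⁻¹' W)), Set.image_preimage_subset _ _,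
      V.ι.isOpenEmbedding.isOpenMap _ h1, ⟨⟨t, htV⟩, ht, rfl⟩⟩

theorem isClosed_iff_affine {F : Sp S} {W : Set (Points F)} :
    IsClosed W ↔ ∀ (T : Over S), IsAffine T.left → ∀ c : (yon S).obj T ⟶ F,
      IsClosed (Points.ofPt c ⁻¹' W) := by
  simp only [← isOpen_compl_iff, isOpen_iff_affine (W := Wᶜ), Set.preimage_compl]

theorem ofPt_preimage_eq {F : Sp S} {T : Over S} (c : (yon S).obj T ⟶ F) (A : Set (Points F)) :
    Points.ofPt c ⁻¹' A = Points.schemeHomeo T ⁻¹' (Points.map c ⁻¹' A) := by
  ext t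
  rw [Set.mem_preimage, Points.ofPt_eq_map_ofScheme]
  rfl

/-- A morphism of sheaves all of whose base changes to affine schemes are open on points is open on points. -/
theorem isOpenMap_of_affine_baseChange {P Z : Sp S} (psnd : P ⟶ Z)
    (H : ∀ (T : Over S), IsAffine T.left → ∀ (c : (yon S).obj T ⟶ Z) (Q : Sp S) (qfst : Q ⟶ P)
      (qsnd : Q ⟶ (yon S).obj T), IsPullback qfst qsnd psnd c → IsOpenMap (Points.map qsnd)) :
    IsOpenMap (Points.map psnd) := by
  intro W hW
  rw [isOpen_iff_affine]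
  intro T hT c
  have sq := IsPullback.of_hasPullback psnd c
  rw [ofPt_preimage_eq, preimage_image_eq_of_isPullback sq]
  exact (H T hT c _ _ _ sq _ (hW.preimage (Points.continuous_map _))).preimage
    (Points.schemeHomeo T).continuous

theorem isClosedMap_of_affine_baseChange {P Z : Sp S} (psnd : P ⟶ Z)
    (H : ∀ (T : Over S), IsAffine T.left → ∀ (c : (yon S).obj T ⟶ Z) (Q : Sp S) (qfst : Q ⟶ P)
      (qsnd : Q ⟶ (yon S).obj T), IsPullback qfst qsnd psnd c → IsClosedMap (Points.map qsnd)) :
    IsClosedMap (Points.map psnd) := by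
  intro W hW
  rw [isClosed_iff_affine]
  intro T hT c
  have sq := IsPullback.of_hasPullback psnd c
  rw [ofPt_preimage_eq, preimage_image_eq_of_isPullback sq]
  exact (H T hT c _ _ _ sq _ (hW.preimage (Points.continuous_map _))).preimage
    (Points.schemeHomeo T).continuous

/-- Reduction of `UnivSp Q` to base changes to affine schemes, for a property `Q` that can be tested on base changes
to affine schemes. -/
theorem univSp_of_affine (Q : MorphismProperty (Sp S))
    (hQ : ∀ ⦃P Z : Sp S⦄ (psnd : P ⟶ Z),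
      (∀ (T : Over S), IsAffine T.left → ∀ (c : (yon S).obj T ⟶ Z) (Q' : Sp S) (qfst : Q' ⟶ P)
        (qsnd : Q' ⟶ (yon S).obj T), IsPullback qfst qsnd psnd c → Q qsnd) → Q psnd)
    {X Y : Sp S} (f : X ⟶ Y)
    (H : ∀ (Z : Over S), IsAffine Z.left → ∀ (g : (yon S).obj Z ⟶ Y) (P : Sp S)
        (fst : P ⟶ X) (snd : P ⟶ (yon S).obj Z), IsPullback fst snd f g → Q snd) :
    UnivSp Q f := by
  intro Z Z' _ g fst snd sq
  apply hQ snd
  intro T hT c Q' qfst qsnd sqQ
  exact H T hT (c ≫ g) Q' (qfst ≫ fst) qsnd (sqQ.paste_horiz sq)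

theorem isUnivOpenMor_of_affine {X Y : Sp S} (f : X ⟶ Y)
    (H : ∀ (Z : Over S), IsAffine Z.left → ∀ (g : (yon S).obj Z ⟶ Y) (P : Sp S)
        (fst : P ⟶ X) (snd : P ⟶ (yon S).obj Z), IsPullback fst snd f g →
        IsOpenMap (Points.map snd)) : IsUnivOpenMor f :=
  univSp_of_affine IsOpenMor (fun _ _ psnd h => isOpenMap_of_affine_baseChange psnd h) f H

theorem isUnivClosedMor_of_affine {X Y : Sp S} (f : X ⟶ Y)
    (H : ∀ (Z : Over S), IsAffine Z.left → ∀ (g : (yon S).obj Z ⟶ Y) (P : Sp S)
        (fst : P ⟶ X) (snd : P ⟶ (yon S).obj Z), IsPullback fst snd f g →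
        IsClosedMap (Points.map snd)) : IsUnivClosedMor f :=
  univSp_of_affine IsClosedMor (fun _ _ psnd h => isClosedMap_of_affine_baseChange psnd h) f H

/-- A scheme-theoretic base change of the projection of a representing square of `f` is again the projection of a
representing square of `f`. -/
theorem isPullback_of_scheme_baseChange {X Y : Sp S} {f : X ⟶ Y} {T V : Over S}
    {g : (yon S).obj T ⟶ Y} {fst : (yon S).obj V ⟶ X} {snd : V ⟶ T}
    (sq : IsPullback fst ((yon S).map snd) f g) {V' T' : Scheme.{u}} (i₁ : V' ⟶ V.left)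
    (i₂ : T' ⟶ T.left) (f' : V' ⟶ T') (hpb : IsPullback f' i₁ i₂ snd.left)
    (w : f' ≫ i₂ ≫ T.hom = i₁ ≫ V.hom) :
    IsPullback ((yon S).map (Over.homMk i₁ rfl : Over.mk (i₁ ≫ V.hom) ⟶ V) ≫ fst)
      ((yon S).map (Over.homMk f' w : Over.mk (i₁ ≫ V.hom) ⟶ Over.mk (i₂ ≫ T.hom))) f
      ((yon S).map (Over.homMk i₂ rfl : Over.mk (i₂ ≫ T.hom) ⟶ T) ≫ g) := by
  have comm : (Over.homMk f' w : Over.mk (i₁ ≫ V.hom) ⟶ Over.mk (i₂ ≫ T.hom)) ≫
      (Over.homMk i₂ rfl : Over.mk (i₂ ≫ T.hom) ⟶ T) =
      (Over.homMk i₁ rfl : Over.mk (i₁ ≫ V.hom) ⟶ V) ≫ snd := by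
    ext
    exact hpb.w
  have h1 : IsPullback (Over.homMk f' w : Over.mk (i₁ ≫ V.hom) ⟶ Over.mk (i₂ ≫ T.hom))
      (Over.homMk i₁ rfl : Over.mk (i₁ ≫ V.hom) ⟶ V)
      (Over.homMk i₂ rfl : Over.mk (i₂ ≫ T.hom) ⟶ T) snd :=
    IsPullback.of_map (Over.forget S) comm hpb
  exact (h1.map (yon S)).flip.paste_horiz sq

/-- If every representing square of a representable `f` has projection with `Q`, then `f` is representable with
`universally (topologically Q)`. -/
theorem repWith_universally_topologically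
    {Q : ∀ {α β : Type u} [TopologicalSpace α] [TopologicalSpace β], (α → β) → Prop}
    {X Y : Sp S} {f : X ⟶ Y} (hf : Representable f)
    (H : ∀ (T' V' : Over S) (g' : (yon S).obj T' ⟶ Y) (fst' : (yon S).obj V' ⟶ X) (snd' : V' ⟶ T'),
      IsPullback fst' ((yon S).map snd') f g' → Q (fun v => snd'.left v)) :
    RepWith (MorphismProperty.universally (topologically @Q)) f := by
  refine ⟨hf, fun T V g fst snd sq => ?_⟩
  intro V' T' i₁ i₂ f' hpb
  have w : f' ≫ i₂ ≫ T.hom = i₁ ≫ V.hom := by
    rw [← Category.assoc, hpb.w, Category.assoc]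
    exact congrArg (i₁ ≫ ·) (Over.w snd)
  exact H _ _ _ _ _ (isPullback_of_scheme_baseChange sq i₁ i₂ f' hpb w)

theorem isQuotientMap_of_affine_baseChange {P Z : Sp S} (psnd : P ⟶ Z)
    (H : ∀ (T : Over S), IsAffine T.left → ∀ (c : (yon S).obj T ⟶ Z) (Q : Sp S) (qfst : Q ⟶ P)
      (qsnd : Q ⟶ (yon S).obj T), IsPullback qfst qsnd psnd c → IsQuotientMap (Points.map qsnd)) :
    IsQuotientMap (Points.map psnd) := by
  refine (isQuotientMap_iff _).2 ⟨isCoinducing_iff.2 fun A => ⟨fun hA => ?_,
    fun hA => hA.preimage (Points.continuous_map _)⟩, fun z => ?_⟩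
  rotate_left
  · induction z using Points.ind with
    | h p =>
    have sq := IsPullback.of_hasPullback psnd p.toHom
    have hq := H p.pt (by dsimp; infer_instance) p.toHom _ _ _ sq
    obtain ⟨w, hw⟩ := hq.surjective (Points.ofScheme p.pt (IsLocalRing.closedPoint p.K))
    refine ⟨Points.map (pullback.fst psnd p.toHom) w, ?_⟩
    rw [← Points.map_comp, pullback.condition, Points.map_comp, hw, map_toHom_ofScheme]
  · rw [isOpen_iff_affine]
    intro T hT c
    have sq := IsPullback.of_hasPullback psnd c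
    have hq := H T hT c _ _ _ sq
    rw [ofPt_preimage_eq]
    refine IsOpen.preimage (Points.schemeHomeo T).continuous ?_
    rw [← hq.isOpen_preimage, ← Set.preimage_comp,
      show Points.map c ∘ Points.map (pullback.snd psnd c) =
        Points.map psnd ∘ Points.map (pullback.fst psnd c) from by
        funext x
        simp only [Function.comp_apply, ← Points.map_comp, pullback.condition],
      Set.preimage_comp]
    exact hA.preimage (Points.continuous_map _)

theorem isUnivSubmersiveMor_of_affine {X Y : Sp S} (f : X ⟶ Y)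
    (H : ∀ (Z : Over S), IsAffine Z.left → ∀ (g : (yon S).obj Z ⟶ Y) (P : Sp S)
        (fst : P ⟶ X) (snd : P ⟶ (yon S).obj Z), IsPullback fst snd f g →
        IsQuotientMap (Points.map snd)) : IsUnivSubmersiveMor f :=
  univSp_of_affine IsSubmersiveMor (fun _ _ psnd h => isQuotientMap_of_affine_baseChange psnd h) f H

/-- Openness can be tested on a jointly surjective family of open maps. -/
theorem isOpen_of_forall_preimage {α : Type*} [TopologicalSpace α] {ι : Type*} {β : ι → Type*}
    [∀ i, TopologicalSpace (β i)] (c : ∀ i, β i → α) (hc : ∀ i, IsOpenMap (c i))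
    (hs : ∀ a, ∃ i b, c i b = a) {A : Set α} (h : ∀ i, IsOpen (c i ⁻¹' A)) : IsOpen A := by
  have : A = ⋃ i, c i '' (c i ⁻¹' A) := by
    ext a
    constructor
    · intro ha
      obtain ⟨i, b, rfl⟩ := hs a
      exact Set.mem_iUnion.2 ⟨i, b, ha, rfl⟩
    · intro ha
      obtain ⟨i, b, hb, rfl⟩ := Set.mem_iUnion.1 ha
      exact hb
  rw [this]
  exact isOpen_iUnion fun i => hc i _ (h i)

theorem isClosed_of_forall_preimage {α : Type*} [TopologicalSpace α] {ι : Type*} {β : ι → Type*}
    [∀ i, TopologicalSpace (β i)] (c : ∀ i, β i → α) (hc : ∀ i, IsOpenMap (c i))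
    (hs : ∀ a, ∃ i b, c i b = a) {A : Set α} (h : ∀ i, IsClosed (c i ⁻¹' A)) : IsClosed A := by
  rw [← isOpen_compl_iff]
  exact isOpen_of_forall_preimage c hc hs fun i => by
    rw [Set.preimage_compl]
    exact (h i).isOpen_compl

/-- The preimage in `T` of the image of `W` under `qsnd`, computed on a base change. -/
theorem preimage_left_eq {Q : Sp S} {Z T : Over S} (qsnd : Q ⟶ (yon S).obj Z) (c : T ⟶ Z)
    {Qi : Sp S} {li : Qi ⟶ Q} {si : Qi ⟶ (yon S).obj T}
    (sq : IsPullback li si qsnd ((yon S).map c)) (W : Set (Points Q)) :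
    (fun t => c.left t) ⁻¹' (Points.schemeHomeo Z ⁻¹' (Points.map qsnd '' W)) =
      Points.schemeHomeo T ⁻¹' (Points.map si '' (Points.map li ⁻¹' W)) := by
  rw [← preimage_image_eq_of_isPullback sq]
  ext t
  simp only [Set.mem_preimage, Points.map_yon_map_apply]

theorem isOpenMap_of_refinement {Q : Sp S} {Z : Over S} (qsnd : Q ⟶ (yon S).obj Z) {ι : Type*}
    (T : ι → Over S) (c : ∀ i, T i ⟶ Z) (hc : ∀ i, IsOpenMap (fun t => (c i).left t))
    (hcs : ∀ z : ↥Z.left, ∃ i t, (c i).left t = z)
    (H : ∀ i, ∃ (Qi : Sp S) (li : Qi ⟶ Q) (si : Qi ⟶ (yon S).obj (T i)),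
      IsPullback li si qsnd ((yon S).map (c i)) ∧ IsOpenMap (Points.map si)) :
    IsOpenMap (Points.map qsnd) := by
  intro W hW
  have hA : IsOpen (Points.schemeHomeo Z ⁻¹' (Points.map qsnd '' W)) := by
    refine isOpen_of_forall_preimage (fun i t => (c i).left t) hc hcs fun i => ?_
    obtain ⟨Qi, li, si, sq, ho⟩ := H i
    rw [preimage_left_eq qsnd (c i) sq W]
    exact (ho _ (hW.preimage (Points.continuous_map _))).preimage (Points.schemeHomeo _).continuous
  simpa using (Points.schemeHomeo Z).symm.isOpen_preimage.2 hA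

theorem isClosedMap_of_refinement {Q : Sp S} {Z : Over S} (qsnd : Q ⟶ (yon S).obj Z) {ι : Type*}
    (T : ι → Over S) (c : ∀ i, T i ⟶ Z) (hc : ∀ i, IsOpenMap (fun t => (c i).left t))
    (hcs : ∀ z : ↥Z.left, ∃ i t, (c i).left t = z)
    (H : ∀ i, ∃ (Qi : Sp S) (li : Qi ⟶ Q) (si : Qi ⟶ (yon S).obj (T i)),
      IsPullback li si qsnd ((yon S).map (c i)) ∧ IsClosedMap (Points.map si)) :
    IsClosedMap (Points.map qsnd) := by
  intro W hW
  have hA : IsClosed (Points.schemeHomeo Z ⁻¹' (Points.map qsnd '' W)) := by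
    refine isClosed_of_forall_preimage (fun i t => (c i).left t) hc hcs fun i => ?_
    obtain ⟨Qi, li, si, sq, ho⟩ := H i
    rw [preimage_left_eq qsnd (c i) sq W]
    exact (ho _ (hW.preimage (Points.continuous_map _))).preimage (Points.schemeHomeo _).continuous
  simpa using (Points.schemeHomeo Z).symm.isClosed_preimage.2 hA

/-- Given base changes `P` of `f` along a chart `p` and `Q` along `g`, and a scheme `T` mapping compatibly to both
bases, the base change of `f` to `T` is a base change of both `P` and `Q`. -/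
theorem exists_baseChange_of_refinement {X Y : Sp S} {f : X ⟶ Y} {V : Over S} {p : (yon S).obj V ⟶ Y}
    {P : Sp S} {fst : P ⟶ X} {snd : P ⟶ (yon S).obj V} (sq : IsPullback fst snd f p) {Z : Over S}
    {g : (yon S).obj Z ⟶ Y} {Q : Sp S} {qfst : Q ⟶ X} {qsnd : Q ⟶ (yon S).obj Z}
    (sqQ : IsPullback qfst qsnd f g) {T : Over S} (c : T ⟶ Z) (d : T ⟶ V)
    (hcd : (yon S).map c ≫ g = (yon S).map d ≫ p) :
    ∃ (Qi : Sp S) (li : Qi ⟶ Q) (ki : Qi ⟶ P) (si : Qi ⟶ (yon S).obj T),
      IsPullback li si qsnd ((yon S).map c) ∧ IsPullback ki si snd ((yon S).map d) := by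
  have sqi := IsPullback.of_hasPullback f ((yon S).map d ≫ p)
  refine ⟨pullback f ((yon S).map d ≫ p),
    sqQ.lift (pullback.fst _ _) (pullback.snd _ _ ≫ (yon S).map c)
      (by rw [Category.assoc, hcd]; exact sqi.w),
    sq.lift (pullback.fst _ _) (pullback.snd _ _ ≫ (yon S).map d)
      (by rw [Category.assoc]; exact sqi.w),
    pullback.snd _ _, ?_, ?_⟩
  · exact isPullback_lift_of_comp_right sqQ (by rw [hcd]; exact sqi) _
      (sqQ.lift_fst _ _ _) (sqQ.lift_snd _ _ _)
  · exact isPullback_lift_of_comp_right sq sqi _ (sq.lift_fst _ _ _) (sq.lift_snd _ _ _)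

end Groth.Agent.H52
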