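import Groth.Agent.H52.ElemNbhd
import Groth.Agent.H51.DiagOpen
import Groth.Agent.H50.Etale

/-!
# helper52: the category of elementary etale neighbourhoods is cofiltered
-/

universe u

open CategoryTheory CategoryTheory.Limits AlgebraicGeometry Opposite AlgSp Topology

namespace Groth.Agent.H52

variable {S : Scheme.{u}}

/-- A field valued point of a scheme factors through the residue field point of its image. -/
theorem exists_factor_ptIncl {X : Sp S} {U₂ : Over S} (a₂ : (yon S).obj U₂ ⟶ X) (u₂ : ↥U₂.left)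
    {K : Type u} [Field K] (str : Spec (CommRingCat.of K) ⟶ S) (m : Over.mk str ⟶ U₂)
    (hm : m.left (IsLocalRing.closedPoint K) = u₂) :
    ∃ β : Over.mk str ⟶ (FieldPt.ofPt a₂ u₂).pt, β ≫ ptIncl a₂ u₂ = m := by
  subst hm
  obtain ⟨m₀, hm₀⟩ : ∃ m₀ : Spec (CommRingCat.of K) ⟶ U₂.left, m₀ = m.left := ⟨_, rfl⟩
  obtain ⟨β₀, h1⟩ : ∃ β₀ : Spec (CommRingCat.of K) ⟶
      Spec (U₂.left.residueField (m.left (IsLocalRing.closedPoint K))),
      β₀ ≫ U₂.left.fromSpecResidueField (m.left (IsLocalRing.closedPoint K)) = m.left := by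
    rw [← hm₀]
    exact ⟨_, Scheme.descResidueField_stalkClosedPointTo_fromSpecResidueField K U₂.left m₀⟩
  refine ⟨Over.homMk β₀ ?_, ?_⟩
  · change _ ≫ U₂.left.fromSpecResidueField _ ≫ U₂.hom = str
    rw [← Category.assoc, h1]
    exact Over.w m
  · apply Over.OverMorphism.ext
    exact h1

/-- Two elementary etale neighbourhoods are dominated by a third. -/
theorem elemNbhd_dominate {X : Sp S} (hX : IsAlgSpace X) (x : Points X) {U₁ U₂ : Over S}
    (a₁ : (yon S).obj U₁ ⟶ X) (a₂ : (yon S).obj U₂ ⟶ X) (u₁ : ↥U₁.left) (u₂ : ↥U₂.left)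
    (h₁ : IsElemEtaleNbhd a₁ u₁ x) (h₂ : IsElemEtaleNbhd a₂ u₂ x) :
    ∃ (U : Over S) (a : (yon S).obj U ⟶ X) (v : ↥U.left) (k₁ : U ⟶ U₁) (k₂ : U ⟶ U₂),
      IsElemEtaleNbhd a v x ∧ (yon S).map k₁ ≫ a₁ = a ∧ (yon S).map k₂ ≫ a₂ = a ∧
        k₁.left v = u₁ ∧ k₂.left v = u₂ := by
  obtain ⟨W, k₂, fst, sq⟩ := h₁.etale.1 a₂
  obtain ⟨k₁, rfl⟩ := (yon S).map_surjective fst
  have hk₁ : Etale k₁.left := h₂.etale.2 _ _ _ sq.flip
  have hmono := h₂.mono
  have hpts : Points.mk (FieldPt.ofPt a₂ u₂) = Points.mk (FieldPt.ofPt a₁ u₁) :=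
    h₂.ofPt_eq.trans h₁.ofPt_eq.symm
  obtain ⟨c, hc, -⟩ := existsUnique_factor_of_mono hX (FieldPt.ofPt a₂ u₂) (FieldPt.ofPt a₁ u₁) hpts
  have comm : (yon S).map (ptIncl a₁ u₁) ≫ a₁ = (yon S).map (c ≫ ptIncl a₂ u₂) ≫ a₂ := by
    rw [Functor.map_comp, Category.assoc, ← FieldPt.toHom_ofPt, ← FieldPt.toHom_ofPt, hc]
  obtain ⟨σ, hσ⟩ := (yon S).map_surjective (sq.lift _ _ comm)
  have hσ₁ : σ ≫ k₁ = ptIncl a₁ u₁ := by
    apply (yon S).map_injective
    rw [Functor.map_comp, hσ, sq.lift_fst]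
  have hσ₂ : σ ≫ k₂ = c ≫ ptIncl a₂ u₂ := by
    apply (yon S).map_injective
    rw [Functor.map_comp, hσ, sq.lift_snd]
  obtain ⟨w, hw, hk₁w, hσw⟩ := isElemEtaleNbhd_of_lift a₁ u₁ x h₁ k₁ hk₁ σ hσ₁
  refine ⟨W, (yon S).map k₁ ≫ a₁, w, k₁, k₂, hw, rfl, sq.w.symm, hk₁w, ?_⟩
  let s : ↥(FieldPt.ofPt a₁ u₁).pt.left :=
    (IsLocalRing.closedPoint (FieldPt.ofPt a₁ u₁).K : PrimeSpectrum (FieldPt.ofPt a₁ u₁).K)
  rw [← hσw s]
  change (σ ≫ k₂).left s = u₂
  rw [hσ₂]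
  exact ptIncl_left_apply a₂ u₂ _

/-- Two parallel morphisms of elementary etale neighbourhoods are equalized from a third. -/
theorem elemNbhd_equalize {X : Sp S} (hX : IsAlgSpace X) (x : Points X) {U₁ U₂ : Over S}
    (a₁ : (yon S).obj U₁ ⟶ X) (a₂ : (yon S).obj U₂ ⟶ X) (u₁ : ↥U₁.left) (u₂ : ↥U₂.left)
    (b c : U₁ ⟶ U₂) (h₁ : IsElemEtaleNbhd a₁ u₁ x) (h₂ : IsElemEtaleNbhd a₂ u₂ x)
    (hb : (yon S).map b ≫ a₂ = a₁) (hc : (yon S).map c ≫ a₂ = a₁) (hbu : b.left u₁ = u₂)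
    (hcu : c.left u₁ = u₂) :
    ∃ (U : Over S) (a : (yon S).obj U ⟶ X) (v : ↥U.left) (h : U ⟶ U₁),
      IsElemEtaleNbhd a v x ∧ (yon S).map h ≫ a₁ = a ∧ h.left v = u₁ ∧ h ≫ b = h ≫ c := by
  have hmono := h₂.mono
  -- the two composites from the residue field point agree
  have htb : ptIncl a₁ u₁ ≫ b = ptIncl a₁ u₁ ≫ c := by
    let s : ↥(FieldPt.ofPt a₁ u₁).pt.left :=
      (IsLocalRing.closedPoint (FieldPt.ofPt a₁ u₁).K : PrimeSpectrum (FieldPt.ofPt a₁ u₁).K)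
    obtain ⟨β, hβ⟩ := exists_factor_ptIncl a₂ u₂ (FieldPt.ofPt a₁ u₁).str (ptIncl a₁ u₁ ≫ b)
      (by
        change b.left ((ptIncl a₁ u₁).left s) = u₂
        rw [ptIncl_left_apply, hbu])
    obtain ⟨γ, hγ⟩ := exists_factor_ptIncl a₂ u₂ (FieldPt.ofPt a₁ u₁).str (ptIncl a₁ u₁ ≫ c)
      (by
        change c.left ((ptIncl a₁ u₁).left s) = u₂
        rw [ptIncl_left_apply, hcu])
    have hpts : Points.mk (FieldPt.ofPt a₂ u₂) = Points.mk (FieldPt.ofPt a₁ u₁) :=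
      h₂.ofPt_eq.trans h₁.ofPt_eq.symm
    obtain ⟨c₀, -, huniq⟩ :=
      existsUnique_factor_of_mono hX (FieldPt.ofPt a₂ u₂) (FieldPt.ofPt a₁ u₁) hpts
    have e1 : (yon S).map β ≫ (FieldPt.ofPt a₂ u₂).toHom = (FieldPt.ofPt a₁ u₁).toHom := by
      rw [FieldPt.toHom_ofPt, FieldPt.toHom_ofPt, ← Category.assoc, ← Functor.map_comp, hβ,
        Functor.map_comp, Category.assoc, hb]
    have e2 : (yon S).map γ ≫ (FieldPt.ofPt a₂ u₂).toHom = (FieldPt.ofPt a₁ u₁).toHom := by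
      rw [FieldPt.toHom_ofPt, FieldPt.toHom_ofPt, ← Category.assoc, ← Functor.map_comp, hγ,
        Functor.map_comp, Category.assoc, hc]
    rw [← hβ, ← hγ, huniq β e1, huniq γ e2]
  -- the diagonal of `a₂` is an open immersion
  have hunr : LocP (@LocallyOfFiniteType ⊓ @FormallyUnramified) a₂ :=
    Groth.Agent.H50.locP_of_repWith (fun _ _ g hg => by have := hg; exact ⟨inferInstance, inferInstance⟩)
      (Groth.Agent.H50.repWith_mono
        (fun _ _ g hg => by have := hg; exact ⟨inferInstance, inferInstance⟩) h₂.etale)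
  have hΔ := Groth.Agent.H51.repWith_isOpenImmersion_diagonal_of_unramified (IsAlgSpace.yon_obj U₂) hX
    a₂ hunr
  obtain ⟨bc, hbc⟩ : ∃ bc : (yon S).obj U₁ ⟶ pullback a₂ a₂,
      bc = pullback.lift ((yon S).map b) ((yon S).map c) (by rw [hb, hc]) := ⟨_, rfl⟩
  have hbc1 : bc ≫ pullback.fst a₂ a₂ = (yon S).map b := by rw [hbc, pullback.lift_fst]
  have hbc2 : bc ≫ pullback.snd a₂ a₂ = (yon S).map c := by rw [hbc, pullback.lift_snd]
  obtain ⟨V, h, fst, sq⟩ := hΔ.1 bc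
  have hh : IsOpenImmersion h.left := hΔ.2 _ _ _ sq
  have hhe : Etale h.left := inferInstance
  have hfst1 : fst = (yon S).map (h ≫ b) := by
    have := congr($(sq.w) ≫ pullback.fst a₂ a₂)
    simp only [Category.assoc, pullback.diagonal_fst, Category.comp_id, hbc1] at this
    rw [this, Functor.map_comp]
  have hfst2 : fst = (yon S).map (h ≫ c) := by
    have := congr($(sq.w) ≫ pullback.snd a₂ a₂)
    simp only [Category.assoc, pullback.diagonal_snd, Category.comp_id, hbc2] at this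
    rw [this, Functor.map_comp]
  have heq : h ≫ b = h ≫ c := (yon S).map_injective (hfst1.symm.trans hfst2)
  have comm : (yon S).map (ptIncl a₁ u₁ ≫ b) ≫ pullback.diagonal a₂ =
      (yon S).map (ptIncl a₁ u₁) ≫ bc := by
    apply pullback.hom_ext
    · simp only [Category.assoc, pullback.diagonal_fst, Category.comp_id, hbc1, Functor.map_comp]
    · simp only [Category.assoc, pullback.diagonal_snd, Category.comp_id, hbc2]
      rw [htb, Functor.map_comp]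
  obtain ⟨σ, hσ⟩ := (yon S).map_surjective (sq.lift _ _ comm)
  have hσ₁ : σ ≫ h = ptIncl a₁ u₁ := by
    apply (yon S).map_injective
    rw [Functor.map_comp, hσ, sq.lift_snd]
  obtain ⟨v, hv, hhv, -⟩ := isElemEtaleNbhd_of_lift a₁ u₁ x h₁ h hhe σ hσ₁
  exact ⟨V, (yon S).map h ≫ a₁, v, h, hv, rfl, hhv, heq⟩

end Groth.Agent.H52
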