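import Groth.Agent.H52.MonoField
import Groth.Agent.H52.LocPBC

/-!
# fppf morphisms of algebraic spaces are epimorphisms of sheaves (helper52)
-/

set_option autoImplicit false
universe u

open CategoryTheory CategoryTheory.Limits AlgebraicGeometry Opposite AlgSp Topology

namespace Groth.Agent.H52

variable {S : Scheme.{u}}

/-- A morphism of algebraic spaces that is flat, locally of finite presentation and surjective is an epimorphism
of fppf sheaves. -/
theorem epi_of_fppf_mor {X Y : Sp S} (hX : IsAlgSpace X) (hY : IsAlgSpace Y) (p : X ⟶ Y)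
    (h1 : LocP @Flat p) (h2 : LocP @LocallyOfFinitePresentation p) (h3 : IsSurjectiveMor p) :
    Epi p := by
  refine Groth.Agent.S10096.result S X Y p ((repBySpWith_hom_iff _ p).2 ?_)
  intro U ξ F' fst snd sq
  exact ⟨isAlgSpace_of_isPullback sq hY.diag hX (IsAlgSpace.yon_obj U),
    ⟨⟨surjective_map_snd_of_isPullback sq h3,
      locP_baseChange etLocal_flat hX hY (IsAlgSpace.yon_obj U) sq h1⟩,
      locP_baseChange etLocal_lfp hX hY (IsAlgSpace.yon_obj U) sq h2⟩⟩

/-- A morphism representable by schemes, flat, locally of finite presentation and surjective is an epimorphism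
of fppf sheaves. -/
theorem epi_of_repWith_fppf {F G : Sp S} (a : F ⟶ G) (h₁ : RepWith @Flat a)
    (h₂ : RepWith @LocallyOfFinitePresentation a) (h₃ : RepWith @Surjective a) : Epi a := by
  apply H50.epi_of_local_lift
  intro T y
  have hrep : Representable a := h₁.rep
  have sq := hrep.isPullback y
  have : Flat (hrep.snd y).left := h₁.property_snd y
  have : LocallyOfFinitePresentation (hrep.snd y).left := h₂.property_snd y
  have : Surjective (hrep.snd y).left := h₃.property_snd y
  refine ⟨Sieve.generate (Presieve.singleton (hrep.snd y)),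
    Groth.Agent.S10096.generate_singleton_mem_J _, ?_⟩
  rintro T' f ⟨Y, k, g, ⟨⟩, rfl⟩
  refine ⟨(yon S).map k ≫ hrep.fst y, ?_⟩
  rw [Category.assoc, sq.w, Functor.map_comp, Category.assoc]

/-- A monomorphism to an algebraic space that receives an fppf morphism from the spectrum of a field is either
empty or an isomorphism. -/
theorem isIso_of_mono_to_fppf_point {k : Type u} [Field k] (str : Spec (CommRingCat.of k) ⟶ S)
    {Z' Z : Sp S} (hZ' : IsAlgSpace Z') (hZ : IsAlgSpace Z) (f : Z' ⟶ Z) [Mono f]
    (p : (yon S).obj (Over.mk str) ⟶ Z) (h1 : LocP @Flat p)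
    (h2 : LocP @LocallyOfFinitePresentation p) (h3 : IsSurjectiveMor p)
    (hne : Nonempty (Points Z')) : IsIso f := by
  have hp : Epi p := epi_of_fppf_mor (IsAlgSpace.yon_obj _) hZ p h1 h2 h3
  have sq := IsPullback.of_hasPullback f p
  have hP : IsAlgSpace (pullback f p) :=
    isAlgSpace_of_isPullback sq hZ.diag hZ' (IsAlgSpace.yon_obj _)
  obtain ⟨z'⟩ := hne
  obtain ⟨y, hy⟩ := h3 (Points.map f z')
  obtain ⟨w, -, -⟩ := exists_point_of_isPullback sq z' y hy.symm
  have : IsIso (pullback.snd f p) := isIso_of_mono_to_field str hP (pullback.snd f p) ⟨w⟩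
  have h4 : Epi (pullback.snd f p ≫ p) := epi_comp _ _
  rw [← pullback.condition] at h4
  have : Epi f := epi_of_epi (pullback.fst f p) f
  exact isIso_of_mono_of_epi f

end Groth.Agent.H52
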