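import Groth.Agent.H52.Fpqc
import Mathlib.AlgebraicGeometry.Morphisms.IsIso

/-!
# helper52: isomorphisms of sheaves tested on scheme-valued points
-/

universe u

open CategoryTheory CategoryTheory.Limits AlgebraicGeometry Opposite AlgSp Topology

namespace Groth.Agent.H52

variable {S : Scheme.{u}}

/-- A morphism of sheaves that is bijective on `h_T`-valued points for every scheme `T` is an isomorphism. -/
theorem isIso_of_bijective_yon {F G : Sp S} (f : F ⟶ G)
    (h : ∀ T : Over S, Function.Bijective (fun a : (yon S).obj T ⟶ F => a ≫ f)) : IsIso f := by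
  have h1 : ∀ T : (Over S)ᵒᵖ, IsIso (f.hom.app T) := fun T => by
    rw [isIso_iff_bijective]
    have e : f.hom.app T = (J S).uliftYonedaEquiv ∘ (fun a : (yon S).obj T.unop ⟶ F => a ≫ f) ∘
        (J S).uliftYonedaEquiv.symm := by
      funext x
      simp only [Function.comp_apply, GrothendieckTopology.uliftYonedaEquiv_comp,
        Equiv.apply_symm_apply]
    rw [e]
    exact ((J S).uliftYonedaEquiv.bijective.comp (h T.unop)).comp
      (J S).uliftYonedaEquiv.symm.bijective
  have h2 : IsIso f.hom := NatIso.isIso_of_isIso_app _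
  have h3 : IsIso ((sheafToPresheaf (J S) (Type (u + 1))).map f) := h2
  exact isIso_of_reflects_iso f (sheafToPresheaf (J S) (Type (u + 1)))

/-- A representable morphism all of whose base changes to schemes are isomorphisms is an isomorphism. -/
theorem isIso_of_representable_of_forall_isIso {F G : Sp S} (f : F ⟶ G) (hf : Representable f)
    (h : ∀ ⦃T V : Over S⦄ (g : (yon S).obj T ⟶ G) (fst : (yon S).obj V ⟶ F) (snd : V ⟶ T),
      IsPullback fst ((yon S).map snd) f g → IsIso snd) : IsIso f := by
  apply isIso_of_bijective_yon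
  intro T
  constructor
  · intro a b hab
    dsimp only at hab
    obtain ⟨V, snd, fst, sq⟩ := hf (a ≫ f)
    have := h _ _ _ sq
    have e : sq.lift a (𝟙 _) (by simp) = sq.lift b (𝟙 _) (by simp [hab]) := by
      rw [← cancel_mono ((yon S).map snd), sq.lift_snd, sq.lift_snd]
    rw [← sq.lift_fst a (𝟙 _) (by simp), e, sq.lift_fst]
  · intro g
    obtain ⟨V, snd, fst, sq⟩ := hf g
    have := h _ _ _ sq
    refine ⟨inv ((yon S).map snd) ≫ fst, ?_⟩
    dsimp only
    rw [Category.assoc, sq.w, IsIso.inv_hom_id_assoc]

/-- A representable open immersion that is surjective on points is an isomorphism. -/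
theorem isIso_of_repWith_isOpenImmersion_of_surjective {F G : Sp S} (j : F ⟶ G)
    (hj : RepWith @IsOpenImmersion j) (hs : Function.Surjective (Points.map j)) : IsIso j := by
  apply isIso_of_representable_of_forall_isIso j hj.1
  intro T V g fst snd sq
  have h1 : IsOpenImmersion snd.left := hj.2 _ _ _ sq
  have h2 : Surjective snd.left := ⟨fun t => by
    obtain ⟨x, hx⟩ := hs (Points.ofPt g t)
    rw [Points.ofPt_eq_map_ofScheme] at hx
    obtain ⟨z, -, hz⟩ := exists_point_of_isPullback sq x _ hx
    obtain ⟨v, rfl⟩ := (Points.schemeEquiv V).surjective z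
    change Points.map _ (Points.ofScheme V v) = _ at hz
    rw [map_yon_map_ofScheme] at hz
    exact ⟨v, ofScheme_injective T hz⟩⟩
  have h3 : IsIso snd.left := (isIso_iff_isOpenImmersion_and_surjective _).2 ⟨h1, h2⟩
  have h4 : IsIso ((Over.forget S).map snd) := h3
  exact isIso_of_reflects_iso snd (Over.forget S)

end Groth.Agent.H52
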