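import Mathlib

/-!
# Flatness descends on the source along flat surjective morphisms (helper52)
-/

set_option autoImplicit false
universe u

open CategoryTheory AlgebraicGeometry TensorProduct

namespace Groth.Agent.H52

/-- If `A → B → C` with `C` flat over `A` and `C` faithfully flat over `B`, then `B` is flat over `A`. -/
theorem flat_of_flat_comp_of_faithfullyFlat (A B C : Type*) [CommRing A] [CommRing B] [CommRing C]
    [Algebra A B] [Algebra B C] [Algebra A C] [IsScalarTower A B C]
    [Module.Flat A C] [Module.FaithfullyFlat B C] : Module.Flat A B := by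
  rw [Module.Flat.iff_lTensor_preserves_injective_linearMap]
  intro N P _ _ _ _ f hf
  have h1 : Function.Injective (f.lTensor C) :=
    Module.Flat.lTensor_preserves_injective_linearMap f hf
  suffices h : Function.Injective (f.baseChange B) from h
  rw [← Module.FaithfullyFlat.lTensor_injective_iff_injective B C]
  have key : ∀ x : C ⊗[B] (B ⊗[A] N),
      AlgebraTensorModule.cancelBaseChange A B C C P (((f.baseChange B).lTensor C) x) =
        (f.lTensor C) (AlgebraTensorModule.cancelBaseChange A B C C N x) := by
    intro x
    induction x with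
    | zero => simp
    | add x y hx hy => simp only [map_add, hx, hy]
    | tmul c y =>
      induction y with
      | zero => simp
      | add y z hy hz => simp only [tmul_add, map_add, hy, hz]
      | tmul b n => simp
  intro x y hxy
  apply (AlgebraTensorModule.cancelBaseChange A B C C N).injective
  apply h1
  rw [← key, ← key, hxy]

/-- Ring hom version. -/
theorem _root_.RingHom.Flat.of_comp_of_faithfullyFlat {A B C : Type*} [CommRing A] [CommRing B]
    [CommRing C] (f : A →+* B) (g : B →+* C) (hg : g.FaithfullyFlat) (hgf : (g.comp f).Flat) :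
    f.Flat := by
  algebraize [f, g, g.comp f]
  have : Module.FaithfullyFlat B C := hg
  have : Module.Flat A C := hgf
  exact flat_of_flat_comp_of_faithfullyFlat A B C

/-- Flatness descends on the source along flat surjective morphisms. -/
theorem flat_of_comp_of_flat_of_surjective {X Y Z : Scheme.{u}} (e : X ⟶ Y) (h : Y ⟶ Z)
    [Flat e] [Surjective e] (H : Flat (e ≫ h)) : Flat h := by
  rw [Flat.iff_flat_stalkMap]
  intro y
  obtain ⟨x, rfl⟩ := e.surjective y
  have h1 : ((e ≫ h).stalkMap x).hom.Flat := Flat.stalkMap _ x
  rw [Scheme.Hom.stalkMap_comp] at h1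
  have h2 : (e.stalkMap x).hom.Flat := Flat.stalkMap e x
  refine RingHom.Flat.of_comp_of_faithfullyFlat (h.stalkMap (e x)).hom (e.stalkMap x).hom ?_ h1
  algebraize [(e.stalkMap x).hom]
  have : Module.Flat (Y.presheaf.stalk (e x)) (X.presheaf.stalk x) := h2
  have : IsLocalHom (algebraMap (Y.presheaf.stalk (e x)) (X.presheaf.stalk x)) :=
    inferInstanceAs (IsLocalHom (e.stalkMap x).hom)
  exact Module.FaithfullyFlat.of_flat_of_isLocalHom

/-- Family version: flatness descends on the source along jointly surjective flat families. -/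
theorem flat_of_comp_of_flat_family {ι : Type*} {X : ι → Scheme.{u}} {Y Z : Scheme.{u}}
    (e : ∀ i, X i ⟶ Y) (h : Y ⟶ Z) (he : ∀ i, Flat (e i))
    (hs : ∀ y : Y, ∃ i, y ∈ Set.range (e i)) (H : ∀ i, Flat (e i ≫ h)) : Flat h := by
  rw [Flat.iff_flat_stalkMap]
  intro y
  obtain ⟨i, x, rfl⟩ := hs y
  have := H i
  have := he i
  have h1 : ((e i ≫ h).stalkMap x).hom.Flat := Flat.stalkMap _ x
  rw [Scheme.Hom.stalkMap_comp] at h1
  have h2 : ((e i).stalkMap x).hom.Flat := Flat.stalkMap _ x
  refine RingHom.Flat.of_comp_of_faithfullyFlat (h.stalkMap (e i x)).hom ((e i).stalkMap x).hom ?_ h1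
  algebraize [((e i).stalkMap x).hom]
  have : Module.Flat (Y.presheaf.stalk (e i x)) ((X i).presheaf.stalk x) := h2
  have : IsLocalHom (algebraMap (Y.presheaf.stalk (e i x)) ((X i).presheaf.stalk x)) :=
    inferInstanceAs (IsLocalHom ((e i).stalkMap x).hom)
  exact Module.FaithfullyFlat.of_flat_of_isLocalHom

end Groth.Agent.H52
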