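import Groth.Agent.H52.EpiFppf
import Groth.Agent.H52.FieldPts
import Groth.Agent.H52.Decent

/-!
# Residual spaces and monomorphisms from spectra of fields (helper52)
-/

set_option autoImplicit false
universe u

open CategoryTheory CategoryTheory.Limits AlgebraicGeometry Opposite AlgSp Topology

namespace Groth.Agent.H52

variable {S : Scheme.{u}}

/-- The field valued point defined by a morphism from the spectrum of a field. -/
noncomputable def fieldPtOfHom {X : Sp S} {k : Type u} [Field k] (str : Spec (CommRingCat.of k) ⟶ S)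
    (g : (yon S).obj (Over.mk str) ⟶ X) : FieldPt X where
  K := k
  str := str
  val := (J S).uliftYonedaEquiv g

theorem fieldPtOfHom_toHom {X : Sp S} {k : Type u} [Field k] (str : Spec (CommRingCat.of k) ⟶ S)
    (g : (yon S).obj (Over.mk str) ⟶ X) : (fieldPtOfHom str g).toHom = g :=
  Equiv.symm_apply_apply _ _

theorem mk_fieldPtOfHom {X : Sp S} {k : Type u} [Field k] (str : Spec (CommRingCat.of k) ⟶ S)
    (g : (yon S).obj (Over.mk str) ⟶ X) (y : Points ((yon S).obj (Over.mk str))) :
    Points.mk (fieldPtOfHom str g) = Points.map g y := by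
  have hsub := subsingleton_points_spec_field str
  let s₀ : ↥(fieldPtOfHom str g).pt.left := (IsLocalRing.closedPoint k : PrimeSpectrum k)
  rw [← map_toHom_ofScheme (fieldPtOfHom str g) s₀, fieldPtOfHom_toHom]
  congr 1
  exact hsub.elim _ _

/-- A residual space (a monomorphism with image `{x}` whose source has an fppf field point) is the spectrum of a
field exactly when `x` is represented by a monomorphism from the spectrum of a field. -/
theorem residual_iso_field_iff {X Z : Sp S} (hX : IsAlgSpace X) (hZa : IsAlgSpace Z) (x : Points X)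
    (i : Z ⟶ X) [Mono i] (hi : Set.range (Points.map i) = {x})
    (hZ : ∃ (k : Type u) (_ : Field k) (str : Spec (CommRingCat.of k) ⟶ S)
        (p : (yon S).obj (Over.mk str) ⟶ Z),
        LocP @LocallyOfFinitePresentation p ∧ LocP @Flat p ∧ IsSurjectiveMor p) :
    (∃ (k : Type u) (_ : Field k) (str : Spec (CommRingCat.of k) ⟶ S),
        Nonempty (Z ≅ (yon S).obj (Over.mk str))) ↔
      ∃ p : FieldPt X, Points.mk p = x ∧ Mono p.toHom := by
  constructor
  · rintro ⟨k', _, str', ⟨e⟩⟩
    refine ⟨fieldPtOfHom str' (e.inv ≫ i), ?_, ?_⟩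
    · obtain ⟨y₀⟩ := nonempty_points_spec_field str'
      rw [mk_fieldPtOfHom str' _ y₀, Points.map_comp]
      have : Points.map i (Points.map e.inv y₀) ∈ Set.range (Points.map i) := ⟨_, rfl⟩
      rw [hi] at this
      exact this
    · rw [fieldPtOfHom_toHom]
      exact mono_comp _ _
  · rintro ⟨q, hq, hm⟩
    obtain ⟨k, _, str, p, h2, h1, h3⟩ := hZ
    have sq := IsPullback.of_hasPullback i q.toHom
    have hW : IsAlgSpace (pullback i q.toHom) :=
      isAlgSpace_of_isPullback sq hX.diag hZa (IsAlgSpace.yon_obj _)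
    obtain ⟨z, hz⟩ : x ∈ Set.range (Points.map i) := by rw [hi]; rfl
    let s₀ : ↥q.pt.left := (IsLocalRing.closedPoint q.K : PrimeSpectrum q.K)
    have hy : Points.map q.toHom (Points.ofScheme q.pt s₀) = x := by
      rw [map_toHom_ofScheme, hq]
    obtain ⟨w, -, -⟩ := exists_point_of_isPullback sq z _ (hz.trans hy.symm)
    have e1 : IsIso (pullback.fst i q.toHom) :=
      isIso_of_mono_to_fppf_point str hW hZa _ p h1 h2 h3 ⟨w⟩
    have e2 : IsIso (pullback.snd i q.toHom) :=
      isIso_of_mono_to_field q.str hW (pullback.snd i q.toHom) ⟨w⟩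
    exact ⟨q.K, inferInstance, q.str,
      ⟨(asIso (pullback.fst i q.toHom)).symm ≪≫ asIso (pullback.snd i q.toHom)⟩⟩

end Groth.Agent.H52
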