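import Mathlib
import Groth.Agent.H60.FibreDimBC
import Groth.Agent.H9.Equidim

/-!
# Base change invariance of the fibre dimension for arbitrary pullback squares (helper52)
-/

set_option autoImplicit false
universe u
open CategoryTheory CategoryTheory.Limits AlgebraicGeometry

namespace Groth.Agent.H52

theorem fibreDimAt_eq_of_isPullback {X Y Y' X' : Scheme.{u}} (f : X ⟶ Y) [LocallyOfFiniteType f]
    (g : Y' ⟶ Y) (fst : X' ⟶ X) (snd : X' ⟶ Y') (sq : IsPullback fst snd f g) (x' : X') :
    FlatMor.fibreDimAt snd x' = FlatMor.fibreDimAt f (fst x') := by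
  have h1 : sq.isoPullback.hom ≫ pullback.snd f g = snd := sq.isoPullback_hom_snd
  have h2 : sq.isoPullback.hom ≫ pullback.fst f g = fst := sq.isoPullback_hom_fst
  calc FlatMor.fibreDimAt snd x'
      = FlatMor.fibreDimAt (sq.isoPullback.hom ≫ pullback.snd f g) x' := by
        congr 1
        exact h1.symm
    _ = FlatMor.fibreDimAt (pullback.snd f g) (sq.isoPullback.hom x') :=
        Groth.Agent.H9.Equidim.fibreDimAt_comp_of_isOpenImmersion _ _ x'
    _ = FlatMor.fibreDimAt f ((pullback.fst f g) (sq.isoPullback.hom x')) :=
        Groth.Agent.H60.FibreDimBC.fibreDimAt_baseChange f g _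
    _ = FlatMor.fibreDimAt f (fst x') := by
        congr 1
        have := congrArg (fun k : X' ⟶ X => k x') h2
        simp only [Scheme.Hom.comp_apply] at this
        exact this

end Groth.Agent.H52
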