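import Mathlib
import Groth.Prelude.Def_AlgSpDec
import Groth.Agent.H52.Topology
import Groth.Agent.H52.Points
import Groth.Agent.H52.FibProd
import Groth.Agent.H52.FQDecent

/-!
# Chart diagrams of a base change (helper52)

Given a base change square `X' = X ×_Y Y'` of algebraic spaces, a point `x'` of `X'` and a chart diagram
`(U, V, a, b, h, u)` of `f : X ⟶ Y` through the image of `x'`, there is a chart diagram of `f' : X' ⟶ Y'`
through `x'` whose top arrow is the scheme theoretic base change of `h` along a morphism `V' ⟶ V`.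
-/

set_option autoImplicit false
universe u
open CategoryTheory CategoryTheory.Limits AlgebraicGeometry
open AlgSp

namespace Groth.Agent.H52

variable {S : Scheme.{u}}

set_option backward.isDefEq.respectTransparency.types false in
theorem exists_chart_diagram_baseChange {X Y Y' X' : Sp S} (hY : IsAlgSpace Y)
    (hY' : IsAlgSpace Y') {f : X ⟶ Y} {g : Y' ⟶ Y} {g' : X' ⟶ X} {f' : X' ⟶ Y'}
    (sq : IsPullback g' f' f g) (x' : Points X') {U V : Over S} (a : (yon S).obj U ⟶ X)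
    (b : (yon S).obj V ⟶ Y) (h : U ⟶ V) (ha : RepWith @Etale a) (hb : RepWith @Etale b)
    (comm : a ≫ f = (yon S).map h ≫ b) (u : ↥U.left) (hu : Points.ofPt a u = Points.map g' x') :
    ∃ (U' V' : Over S) (a' : (yon S).obj U' ⟶ X') (b' : (yon S).obj V' ⟶ Y') (h' : U' ⟶ V')
      (π : U' ⟶ U) (gV : V' ⟶ V) (u' : ↥U'.left),
      RepWith @Etale a' ∧ RepWith @Etale b' ∧ a' ≫ f' = (yon S).map h' ≫ b' ∧
      Points.ofPt a' u' = x' ∧ π.left u' = u ∧ IsPullback π.left h'.left h.left gV.left ∧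
      a' ≫ g' = (yon S).map π ≫ a ∧ b' ≫ g = (yon S).map gV ≫ b := by
  classical
  have instE1 := AlgSp.repWith_isStableUnderBaseChange (S := S) @Etale
  have instE2 := AlgSp.repWith_isMultiplicative (S := S) @Etale
  -- `YV = Y' ×_Y V`
  obtain ⟨YV, r₁, r₂, sqYV⟩ : ∃ (YV : Sp S) (r₁ : YV ⟶ Y') (r₂ : YV ⟶ (yon S).obj V),
      IsPullback r₁ r₂ g b := ⟨_, _, _, IsPullback.of_hasPullback g b⟩
  have hYV : IsAlgSpace YV := isAlgSpace_of_isPullback sqYV hY.diag hY' (IsAlgSpace.yon_obj V)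
  have hr₁ : RepWith @Etale r₁ := (RepWith @Etale).of_isPullback sqYV.flip hb
  -- `XU' = X' ×_X U`
  obtain ⟨XU', p₁, p₂, sqA⟩ : ∃ (XU' : Sp S) (p₁ : XU' ⟶ X') (p₂ : XU' ⟶ (yon S).obj U),
      IsPullback p₁ p₂ g' a := ⟨_, _, _, IsPullback.of_hasPullback g' a⟩
  have hp₁ : RepWith @Etale p₁ := (RepWith @Etale).of_isPullback sqA.flip ha
  have sqD : IsPullback (p₁ ≫ f') p₂ g ((yon S).map h ≫ b) := by
    rw [← comm]
    exact sqA.paste_horiz sq.flip
  have hm : (p₁ ≫ f') ≫ g = (p₂ ≫ (yon S).map h) ≫ b := by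
    rw [Category.assoc, Category.assoc]
    exact sqD.w
  obtain ⟨m, hm1, hm2⟩ : ∃ m : XU' ⟶ YV, m ≫ r₁ = p₁ ≫ f' ∧ m ≫ r₂ = p₂ ≫ (yon S).map h :=
    ⟨sqYV.lift _ _ hm, sqYV.lift_fst _ _ _, sqYV.lift_snd _ _ _⟩
  have sqC : IsPullback m p₂ r₂ ((yon S).map h) := by
    refine IsPullback.of_right ?_ hm2 sqYV
    rw [hm1]
    exact sqD
  -- the point `ξ` of `XU'`
  obtain ⟨ξ, hξ1, hξ2⟩ := exists_point_of_isPullback sqA x' (Points.ofScheme U u)
    (by rw [← hu, Points.ofPt_eq_map_ofScheme])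
  -- the chart `V'` of `YV`
  obtain ⟨V', c, v', -, hce, hv'⟩ := exists_affine_chart_at hYV (Points.map m ξ)
  have hb' : RepWith @Etale (c ≫ r₁) := (RepWith @Etale).comp_mem _ _ hce hr₁
  obtain ⟨gV, hgV⟩ := (yon S).map_surjective (c ≫ r₂)
  -- `U' = U ×_V V'`
  have hw : pullback.snd h.left gV.left ≫ V'.hom = pullback.fst h.left gV.left ≫ U.hom := by
    rw [← Over.w gV, ← Over.w h, ← Category.assoc, ← Category.assoc, pullback.condition]
  let U' : Over S := Over.mk (pullback.fst h.left gV.left ≫ U.hom)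
  let π : U' ⟶ U := Over.homMk (pullback.fst h.left gV.left) rfl
  let h' : U' ⟶ V' := Over.homMk (pullback.snd h.left gV.left) hw
  have hpb : IsPullback π.left h'.left h.left gV.left := IsPullback.of_hasPullback h.left gV.left
  have commO : π ≫ h = h' ≫ gV := by
    ext
    exact pullback.condition
  have sqO : IsPullback π h' h gV := IsPullback.of_map (Over.forget S) commO hpb
  have sqU' : IsPullback ((yon S).map π) ((yon S).map h') ((yon S).map h) ((yon S).map gV) :=
    sqO.map (yon S)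
  -- the map `k : U' ⟶ XU'`
  have hk : (yon S).map π ≫ (yon S).map h = ((yon S).map h' ≫ c) ≫ r₂ := by
    rw [Category.assoc, ← hgV]
    exact sqU'.w
  obtain ⟨k, hk1, hk2⟩ : ∃ k : (yon S).obj U' ⟶ XU', k ≫ m = (yon S).map h' ≫ c ∧
      k ≫ p₂ = (yon S).map π :=
    ⟨sqC.lift _ _ hk.symm, sqC.lift_fst _ _ _, sqC.lift_snd _ _ _⟩
  have sqE : IsPullback k ((yon S).map h') m c := by
    refine IsPullback.of_right ?_ hk1 sqC.flip
    rw [hk2, ← hgV]
    exact sqU'
  have hke : RepWith @Etale k := (RepWith @Etale).of_isPullback sqE.flip hce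
  have ha' : RepWith @Etale (k ≫ p₁) := (RepWith @Etale).comp_mem _ _ hke hp₁
  -- the point `u'`
  obtain ⟨ω, hω1, hω2⟩ := exists_point_of_isPullback sqE ξ (Points.ofScheme V' v')
    (by rw [← hv', Points.ofPt_eq_map_ofScheme])
  obtain ⟨u', rfl⟩ := (Points.schemeEquiv U').surjective ω
  change Points.map k (Points.ofScheme U' u') = ξ at hω1
  refine ⟨U', V', k ≫ p₁, c ≫ r₁, h', π, gV, u', ha', hb', ?_, ?_, ?_, hpb, ?_, ?_⟩
  · rw [Category.assoc, ← hm1, ← Category.assoc, hk1, Category.assoc]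
  · rw [Points.ofPt_eq_map_ofScheme, Points.map_comp, hω1, hξ1]
  · apply ofScheme_injective U
    change Points.ofScheme U (π.left u') = _
    rw [← map_yon_map_ofScheme, ← hk2, Points.map_comp, hω1, hξ2]
  · rw [Category.assoc, sqA.w, ← Category.assoc, hk2]
  · rw [Category.assoc, sqYV.w, ← Category.assoc, hgV]

end Groth.Agent.H52
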