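import Mathlib
import Groth.Prelude.Def_AlgSpDec
import Groth.Agent.H52.Topology
import Groth.Agent.H52.Points

/-!
# Chart diagrams of the restriction of a morphism to an open subspace (helper52)
-/

set_option autoImplicit false
universe u
open CategoryTheory CategoryTheory.Limits AlgebraicGeometry
open AlgSp

namespace Groth.Agent.H52

variable {S : Scheme.{u}}

/-- A pointed property of chart diagrams that is inherited by open subschemes of the source passes from `f` at
the image of a point of an open subspace to the restriction of `f`. -/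
theorem hasAtMor_comp_of_isOpenImmersion {Q : ∀ (U V : Scheme.{u}), (U ⟶ V) → ↥U → Prop}
    (hQ : ∀ {U' U V : Scheme.{u}} (ι : U' ⟶ U) [IsOpenImmersion ι] (h : U ⟶ V) (w : ↥U'),
      Q U V h (ι w) → Q U' V (ι ≫ h) w)
    {X' X Y : Sp S} (j : X' ⟶ X) (hj : RepWith @IsOpenImmersion j) (f : X ⟶ Y) (x' : Points X')
    (H : HasAtMor Q f (Points.map j x')) : HasAtMor Q (j ≫ f) x' := by
  have instE1 := AlgSp.repWith_isStableUnderBaseChange (S := S) @Etale
  obtain ⟨U, V, a, b, h, u, ha, hb, comm, hu, hq⟩ := H
  obtain ⟨W, ψ, fst, sqW⟩ := hj.1 a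
  have hψ : IsOpenImmersion ψ.left := hj.2 _ _ _ sqW
  have hfst : RepWith @Etale fst := (RepWith @Etale).of_isPullback sqW.flip ha
  obtain ⟨ω, hω1, hω2⟩ := exists_point_of_isPullback sqW x' (Points.ofScheme U u)
    (by rw [← hu, Points.ofPt_eq_map_ofScheme])
  obtain ⟨w, rfl⟩ := (Points.schemeEquiv W).surjective ω
  change Points.map fst (Points.ofScheme W w) = x' at hω1
  change Points.map ((yon S).map ψ) (Points.ofScheme W w) = _ at hω2
  rw [map_yon_map_ofScheme] at hω2
  have hψw : ψ.left w = u := ofScheme_injective U hω2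
  refine ⟨W, V, fst, b, ψ ≫ h, w, hfst, hb, ?_, ?_, ?_⟩
  · rw [← Category.assoc, sqW.w, Category.assoc, comm, Functor.map_comp, Category.assoc]
  · rw [Points.ofPt_eq_map_ofScheme, hω1]
  · have := hQ ψ.left h.left w (by rw [hψw]; exact hq)
    exact this

end Groth.Agent.H52
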