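import Groth.Agent.H52.Codim0QfSp
import Groth.Agent.H52.LocPBC
import Groth.Agent.H52.Decent
import Groth.Agent.H52.FieldPts
import Groth.Agent.S10313

/-!
# helper52: locally quasi-finite iff discrete fibres over field points
-/

universe u

open CategoryTheory CategoryTheory.Limits AlgebraicGeometry Opposite AlgSp Topology

namespace Groth.Agent.H52

variable {S : Scheme.{u}}

/-- On a sheaf with a discrete space of points, every point admitting an etale chart has codimension zero. -/
theorem hasAt_codim_zero_of_discrete {P : Sp S} [DiscreteTopology (Points P)] {W : Over S}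
    (c : (yon S).obj W ⟶ P) (hc : RepWith @Etale c) (w : ↥W.left) :
    HasAt (fun U u => ringKrullDim ↥(U.presheaf.stalk u) = 0) P (Points.ofPt c w) := by
  obtain ⟨ξ, hξw, hξgen⟩ := exists_specializes_of_no_generization w
  have h1 : Points.ofPt c ξ ⤳ Points.ofPt c w := hξw.map (Points.continuous_ofPt c)
  refine ⟨W, c, ξ, hc, h1.eq, (ringKrullDim_stalk_eq_zero_iff ξ).2 hξgen⟩

/-- A scheme locally quasi-finite over the spectrum of a field is discrete. -/
theorem discreteTopology_of_lqf_field {k : Type u} [Field k] {U : Scheme.{u}}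
    (h : U ⟶ Spec (CommRingCat.of k)) [LocallyQuasiFinite h] : DiscreteTopology ↥U := by
  have hsub : Subsingleton ↥(Spec (CommRingCat.of k)) :=
    inferInstanceAs (Subsingleton (PrimeSpectrum k))
  obtain ⟨y⟩ : Nonempty ↥(Spec (CommRingCat.of k)) :=
    ⟨(IsLocalRing.closedPoint k : PrimeSpectrum k)⟩
  have h1 := h.isDiscrete_preimage_singleton y
  have h2 : h ⁻¹' {y} = Set.univ := by
    ext x
    simp only [Set.mem_preimage, Set.mem_univ, iff_true]
    exact Subsingleton.elim _ _
  rw [h2] at h1
  exact isDiscrete_univ_iff.mp h1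

/-- The space of points of a sheaf with an etale surjective chart from a discrete scheme is discrete. -/
theorem discreteTopology_points_of_chart {P : Sp S} {U : Over S} (p : (yon S).obj U ⟶ P)
    (hpe : RepWith @Etale p) (hps : RepWith @Surjective p) [DiscreteTopology ↥U.left] :
    DiscreteTopology (Points P) := by
  rw [discreteTopology_iff_isOpen_singleton]
  intro z
  obtain ⟨u, rfl⟩ := surjective_ofPt_of_surjective p hps z
  have := isOpenMap_ofPt_of_etale p hpe {u} (isOpen_discrete _)
  rwa [Set.image_singleton] at this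

theorem discrete_fibres_of_lqf {X Y : Sp S} (hX : IsAlgSpace X) (hY : IsAlgSpace Y) (f : X ⟶ Y)
    (H : LocP ((@LocallyQuasiFinite : MorphismProperty Scheme.{u}) ⊓ @LocallyOfFiniteType) f)
    (k : Type u) [Field k] (str : Spec (CommRingCat.of k) ⟶ S) (y : (yon S).obj (Over.mk str) ⟶ Y)
    (P : Sp S) (fst : P ⟶ X) (snd : P ⟶ (yon S).obj (Over.mk str)) (sq : IsPullback fst snd f y) :
    DiscreteTopology (Points P) := by
  have hsnd := locP_baseChange etLocal_lqf hX hY (IsAlgSpace.yon_obj _) sq H
  have hP : IsAlgSpace P := isAlgSpace_of_isPullback sq hY.diag hX (IsAlgSpace.yon_obj _)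
  obtain ⟨U, p, hpe, hps⟩ := hP.atlas
  obtain ⟨h, hh⟩ := (yon S).map_surjective (p ≫ snd)
  have hl := hsnd p (𝟙 _) h hpe (repWith_id _ _) (by rw [Category.comp_id, hh])
  have : LocallyQuasiFinite h.left := hl.1
  have : DiscreteTopology ↥U.left := discreteTopology_of_lqf_field (k := k) h.left
  exact discreteTopology_points_of_chart p hpe hps

theorem lqf_of_discrete_fibres {X Y : Space S} (f : X ⟶ Y)
    (hf : LocP @LocallyOfFiniteType f.hom)
    (H : ∀ (k : Type u) [Field k] (str : Spec (CommRingCat.of k) ⟶ S)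
      (y : (yon S).obj (Over.mk str) ⟶ Y.obj) (P : Sp S) (fst : P ⟶ X.obj)
      (snd : P ⟶ (yon S).obj (Over.mk str)), IsPullback fst snd f.hom y →
        DiscreteTopology (Points P)) :
    LocP ((@LocallyQuasiFinite : MorphismProperty Scheme.{u}) ⊓ @LocallyOfFiniteType) f.hom := by
  obtain ⟨X', j, -, -, -, hbc⟩ := Groth.Agent.S10313.result f hf
  refine Groth.Agent.H50.locP_of_forall_hasAtMor_nbhd etLocal_lqf f.hom fun x => ?_
  obtain ⟨r, hr⟩ := Points.mk_surjective (Points.map f.hom x)
  have sq : IsPullback (pullback.fst f.hom r.toHom) (pullback.snd f.hom r.toHom) f.hom r.toHom :=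
    IsPullback.of_hasPullback _ _
  have hdisc := H r.K r.str r.toHom _ _ _ sq
  have hP : IsAlgSpace (pullback f.hom r.toHom) :=
    isAlgSpace_of_isPullback sq Y.property.diag X.property (IsAlgSpace.yon_obj _)
  obtain ⟨z, hz1, hz2⟩ := exists_point_of_isPullback sq x
    (Points.ofScheme r.pt (IsLocalRing.closedPoint r.K : PrimeSpectrum r.K))
    (by rw [map_toHom_ofScheme, hr])
  have hsndlft : LocP @LocallyOfFiniteType (pullback.snd f.hom r.toHom) :=
    locP_baseChange etLocal_lft X.property Y.property (IsAlgSpace.yon_obj _) sq hf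
  have hz : HasAtMor (fun U _ h u => ∃ W : U.Opens, u ∈ W ∧ LocallyQuasiFinite (W.ι ≫ h) ∧
      LocallyOfFiniteType (W.ι ≫ h)) (pullback.snd f.hom r.toHom) z := by
    refine hasAtMor_lqf_of_fibre_codim_zero hP (IsAlgSpace.yon_obj _) _ hsndlft z fun z' _ => ?_
    obtain ⟨W, c, w, -, hce, rfl⟩ := exists_affine_chart_at hP z'
    exact hasAt_codim_zero_of_discrete c hce w
  have h1 := hbc ⟨(yon S).obj r.pt, IsAlgSpace.yon_obj _⟩ ⟨pullback f.hom r.toHom, hP⟩
    (ObjectProperty.homMk r.toHom) (ObjectProperty.homMk (pullback.fst f.hom r.toHom))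
    (ObjectProperty.homMk (pullback.snd f.hom r.toHom)) sq z
  have h2 := hbc Y X (𝟙 Y) (𝟙 X) f (IsPullback.id_horiz f.hom) x
  have h3 : Points.map (𝟙 X : X ⟶ X).hom x = x := Points.map_id x
  rw [h3] at h2
  refine h2.1 ?_
  have h4 := h1.2 hz
  change Points.map (pullback.fst f.hom r.toHom) z ∈ _ at h4
  rwa [hz1] at h4

end Groth.Agent.H52
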