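import Groth.Agent.H52.FQGeom
import Groth.Agent.H52.Residual
import Groth.Agent.H50.Descent
import Mathlib.AlgebraicGeometry.Morphisms.QuasiFinite

/-!
# Applications of the field quotient theorem (helper52)
-/

set_option autoImplicit false
universe u

open CategoryTheory CategoryTheory.Limits AlgebraicGeometry Opposite AlgSp

namespace Groth.Agent.H52

variable {S : Scheme.{u}}

/-- A field point through which another field point factors defines the same point. -/
theorem mk_eq_mk_of_factor {X : Sp S} (p q : FieldPt X) (c : q.pt ⟶ p.pt)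
    (h : (yon S).map c ≫ p.toHom = q.toHom) : Points.mk p = Points.mk q := by
  let s₀ : ↥(Spec (CommRingCat.of q.K)) := (IsLocalRing.closedPoint q.K : PrimeSpectrum q.K)
  let s₁ : ↥(Spec (CommRingCat.of p.K)) := (IsLocalRing.closedPoint p.K : PrimeSpectrum p.K)
  rw [← map_toHom_ofScheme q s₀, ← map_toHom_ofScheme p s₁, ← h, Points.map_comp]
  congr 1
  exact (subsingleton_points_spec_field p.str).elim _ _

/-- The field quotient theorem for field points: if the kernel pair of a field point is a scheme finite over
the field, the point is represented by a monomorphism from the spectrum of a subfield of finite index. -/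
theorem exists_mono_fieldPt_of_finite {X : Sp S} (q : FieldPt X) {R : Over S} (s t : R ⟶ q.pt)
    (sq : IsPullback ((yon S).map t) ((yon S).map s) q.toHom q.toHom) [IsFinite s.left] :
    ∃ (p : FieldPt X) (c : q.pt ⟶ p.pt), Mono p.toHom ∧ (yon S).map c ≫ p.toHom = q.toHom ∧
      IsFinite c.left ∧ Points.mk p = Points.mk q := by
  obtain ⟨k', _, ι, hι, str', hstr, p, hp, hfac⟩ :=
    exists_mono_factor_of_finite q.str q.toHom s t sq
  refine ⟨fieldPtOfHom str' p, Over.homMk (Spec.map (CommRingCat.ofHom ι)) hstr, ?_, ?_, ?_, ?_⟩
  · rw [fieldPtOfHom_toHom]; exact hp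
  · rw [fieldPtOfHom_toHom]; exact hfac
  · exact (IsFinite.SpecMap_iff (CommRingCat.ofHom ι)).2 hι
  · exact mk_eq_mk_of_factor _ q (Over.homMk (Spec.map (CommRingCat.ofHom ι)) hstr)
      (by rw [fieldPtOfHom_toHom]; exact hfac)

/-- A quasi-compact etale morphism to the spectrum of a field is finite. -/
theorem isFinite_of_etale_quasiCompact_field {k : Type u} [Field k] {T : Scheme.{u}}
    (f : T ⟶ Spec (CommRingCat.of k)) [Etale f] [QuasiCompact f] : IsFinite f := by
  have : LocallyQuasiFinite f := H50.locallyQuasiFinite_of_unramified f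
  exact IsFinite.of_locallyQuasiFinite f

/-- The field quotient theorem for field points, etale quasi-compact version. -/
theorem exists_mono_fieldPt_of_etale_quasiCompact {X : Sp S} (q : FieldPt X) {R : Over S}
    (s t : R ⟶ q.pt)
    (sq : IsPullback ((yon S).map t) ((yon S).map s) q.toHom q.toHom) [Etale s.left]
    [QuasiCompact s.left] :
    ∃ (p : FieldPt X) (c : q.pt ⟶ p.pt), Mono p.toHom ∧ (yon S).map c ≫ p.toHom = q.toHom ∧
      IsFinite c.left ∧ Points.mk p = Points.mk q := by
  have : IsFinite s.left := isFinite_of_etale_quasiCompact_field (k := q.K) s.left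
  exact exists_mono_fieldPt_of_finite q s t sq

end Groth.Agent.H52
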