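import Groth.Agent.H52.FQDecent
import Groth.Agent.H52.Univ
import Groth.Agent.H52.DescCI
import Mathlib.AlgebraicGeometry.Morphisms.UniversallyInjective

/-!
# Finite fibres and quasi-compactness of monomorphic field points (helper52)
-/

set_option autoImplicit false
universe u

open CategoryTheory CategoryTheory.Limits AlgebraicGeometry Opposite AlgSp

namespace Groth.Agent.H52

variable {S : Scheme.{u}}

/-- The projection of a pullback along a monomorphism of sheaves is a monomorphism of schemes. -/
theorem mono_left_of_isPullback_of_mono {F G : Sp S} {f : F ⟶ G} [Mono f] {T V : Over S}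
    {g : (yon S).obj T ⟶ G} {fst : (yon S).obj V ⟶ F} {snd : V ⟶ T}
    (sq : IsPullback fst ((yon S).map snd) f g) : Mono snd.left := by
  have h1 : Mono ((yon S).map snd) := by
    have : MorphismProperty.monomorphisms (Sp S) ((yon S).map snd) :=
      MorphismProperty.of_isPullback (P := MorphismProperty.monomorphisms (Sp S)) sq
        (MorphismProperty.monomorphisms.infer_property f)
    exact this
  have h2 : Mono snd := (yon S).mono_of_mono_map h1
  exact inferInstance

/-- If all affine etale charts have finite fibre over the point of a monomorphic field point, the field point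
is representable quasi-compact. -/
theorem repWith_quasiCompact_of_finite_fibres {X : Sp S} (hX : IsAlgSpace X) (p : FieldPt X)
    [Mono p.toHom]
    (hfin : ∀ (V : Over S) (b : (yon S).obj V ⟶ X), IsAffine V.left → RepWith @Etale b →
      (Points.ofPt b ⁻¹' {Points.mk p}).Finite) :
    RepWith @QuasiCompact p.toHom := by
  obtain ⟨V, b, hbe, hbs⟩ := hX.atlas
  have hrep := hX.representable_from_yon p.toHom
  obtain ⟨P, σ, fst, sq⟩ := hrep b
  refine H50.repWith_of_isPullback_atlas quasiCompact_descendsAlong_fppf hrep hbe hbs sq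
    ((repWith_yon_map_iff _ σ).2 ?_)
  obtain ⟨φ, rfl⟩ := (yon S).map_surjective fst
  have hmono : Mono σ.left := mono_left_of_isPullback_of_mono sq
  have hinj : Function.Injective σ.left := σ.left.injective
  rw [quasiCompact_iff_forall_isAffineOpen]
  intro V' hV'
  have hpb := isPullback_morphismRestrict σ.left V'
  have sq' := isPullback_of_scheme_baseChange sq (σ.left ⁻¹ᵁ V').ι V'.ι (σ.left ∣_ V') hpb
    (by rw [← Category.assoc, hpb.w, Category.assoc, Over.w σ])
  rw [← Functor.map_comp] at sq'
  have hbe' : RepWith @Etale ((yon S).map (Over.homMk V'.ι rfl : Over.mk (V'.ι ≫ V.hom) ⟶ V) ≫ b) :=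
    repWith_yon_map_comp @Etale _ (show Etale V'.ι from inferInstance) b hbe
  have hf := hfin _ _ (show IsAffine (Over.mk (V'.ι ≫ V.hom)).left from hV') hbe'
  rw [fibre_eq_range_of_isPullback p _ sq'] at hf
  have hinj' : Function.Injective (σ.left ∣_ V') := by
    intro x y hxy
    apply (σ.left ⁻¹ᵁ V').ι.injective
    apply hinj
    have := congrArg V'.ι hxy
    rw [← Scheme.Hom.comp_apply, ← Scheme.Hom.comp_apply, hpb.w] at this
    exact this
  have : Finite ↥(σ.left ⁻¹ᵁ V') := by
    have : Finite (Set.range (σ.left ∣_ V')) := hf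
    exact Finite.of_injective (Set.rangeFactorization (σ.left ∣_ V'))
      (fun x y hxy => hinj' (congrArg Subtype.val hxy))
  exact isCompact_iff_compactSpace.2 inferInstance

end Groth.Agent.H52

namespace Groth.Agent.H52

variable {S : Scheme.{u}}

/-- The fibre of `|U ×_X U| → |X|` over a point represented by a representable quasi-compact field point is
finite, for `U` a quasi-compact scheme etale over `X`. -/
theorem finite_fibre_kernelPair_of_quasiCompact {X : Sp S} (p : FieldPt X)
    (hq : RepWith @QuasiCompact p.toHom) {U R : Over S} [CompactSpace ↥U.left]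
    (a : (yon S).obj U ⟶ X) (ha : RepWith @Etale a) (s t : R ⟶ U)
    (hR : IsPullback ((yon S).map t) ((yon S).map s) a a) :
    (Points.ofPt ((yon S).map t ≫ a) ⁻¹' {Points.mk p}).Finite := by
  obtain ⟨F, fU, fst, sqF⟩ := hq.1 a
  have hfU : QuasiCompact fU.left := hq.2 _ _ _ sqF
  obtain ⟨fk, rfl⟩ := (yon S).map_surjective fst
  have hFc : CompactSpace ↥F.left := QuasiCompact.compactSpace_of_compactSpace fU.left
  have haffk : IsAffine p.pt.left := inferInstanceAs (IsAffine (Spec (CommRingCat.of p.K)))
  have hfkq : QuasiCompact fk.left := inferInstance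
  have hte : Etale t.left := ha.2 _ _ _ hR.flip
  have hta : RepWith @Etale ((yon S).map t ≫ a) :=
    (RepWith @Etale).comp_mem _ _ ((repWith_yon_map_iff _ t).2 hte) ha
  obtain ⟨T, gR, fst', sqT⟩ := hq.1 ((yon S).map t ≫ a)
  obtain ⟨gk, rfl⟩ := (yon S).map_surjective fst'
  have hgke : Etale gk.left := hta.2 _ _ _ sqT.flip
  rw [fibre_eq_range_of_isPullback p _ sqT]
  -- the two maps `T ⟶ F`
  have c1 : (yon S).map gk ≫ p.toHom = (yon S).map (gR ≫ t) ≫ a := by
    rw [Functor.map_comp, Category.assoc]; exact sqT.w
  have c2 : (yon S).map gk ≫ p.toHom = (yon S).map (gR ≫ s) ≫ a := by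
    rw [Functor.map_comp, Category.assoc, ← hR.w]; exact sqT.w
  obtain ⟨η, hη⟩ := (yon S).map_surjective (sqF.lift _ _ c1)
  obtain ⟨η', hη'⟩ := (yon S).map_surjective (sqF.lift _ _ c2)
  have hη1 : (yon S).map η ≫ (yon S).map fk = (yon S).map gk := by rw [hη, sqF.lift_fst]
  have hη2 : (yon S).map η ≫ (yon S).map fU = (yon S).map gR ≫ (yon S).map t := by
    rw [hη, sqF.lift_snd, Functor.map_comp]
  have hη'1 : (yon S).map η' ≫ (yon S).map fk = (yon S).map gk := by rw [hη', sqF.lift_fst]
  have hη'2 : (yon S).map η' ≫ (yon S).map fU = (yon S).map gR ≫ (yon S).map s := by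
    rw [hη', sqF.lift_snd, Functor.map_comp]
  have left1 : IsPullback ((yon S).map η) ((yon S).map gR) ((yon S).map fU) ((yon S).map t) := by
    refine IsPullback.of_right ?_ hη2 sqF
    rw [hη1]; exact sqT
  have outer2 := left1.flip.paste_horiz hR.flip
  have left2 : IsPullback ((yon S).map η') ((yon S).map η) ((yon S).map fk) ((yon S).map fk) := by
    refine IsPullback.of_right ?_ (hη'1.trans hη1.symm) sqF.flip
    rw [hη'2, sqF.w]
    exact outer2
  have hηq : QuasiCompact η.left :=
    ((repWith_yon_map_iff @QuasiCompact fk).2 hfkq).2 _ _ _ left2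
  have hTc : CompactSpace ↥T.left := QuasiCompact.compactSpace_of_compactSpace η.left
  have : Finite ↥T.left := finite_of_etale_field_of_compact (K := p.K) gk.left
  exact Set.finite_range _

end Groth.Agent.H52

namespace Groth.Agent.H52

variable {S : Scheme.{u}}

/-- If the fibre of `|U ×_X U| → |X|` over the image of `u ∈ U` is finite (`U` etale over `X`), the image of `u` is
represented by a monomorphism from the spectrum of a field. -/
theorem exists_mono_fieldPt_of_finite_fibre_kernelPair {X : Sp S} {U : Over S}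
    (a : (yon S).obj U ⟶ X) (ha : RepWith @Etale a) (u : ↥U.left) {R : Over S} (s t : R ⟶ U)
    (hR : IsPullback ((yon S).map t) ((yon S).map s) a a)
    (hfinR : (Points.ofPt ((yon S).map t ≫ a) ⁻¹' {Points.ofPt a u}).Finite) :
    ∃ (p : FieldPt X) (c : (FieldPt.ofPt a u).pt ⟶ p.pt), Mono p.toHom ∧
      (yon S).map c ≫ p.toHom = (FieldPt.ofPt a u).toHom ∧ IsFinite c.left ∧
      Points.mk p = Points.ofPt a u := by
  let i : (FieldPt.ofPt a u).pt ⟶ U := Over.homMk (U.left.fromSpecResidueField u) rfl
  have hz : (FieldPt.ofPt a u).toHom = (yon S).map i ≫ a := FieldPt.toHom_ofPt a u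
  obtain ⟨W, wZ, fst, sqW⟩ := ha.1 (FieldPt.ofPt a u).toHom
  obtain ⟨wU, rfl⟩ := (yon S).map_surjective fst
  have comm : (yon S).map wU ≫ a = (yon S).map (wZ ≫ i) ≫ a := by
    rw [Functor.map_comp, Category.assoc, ← hz]; exact sqW.w
  obtain ⟨j, hj⟩ := (yon S).map_surjective (hR.lift _ _ comm)
  have hjt : j ≫ t = wU := by
    apply (yon S).map_injective; rw [Functor.map_comp, hj, hR.lift_fst]
  have hjs : j ≫ s = wZ ≫ i := by
    apply (yon S).map_injective; rw [Functor.map_comp, hj, hR.lift_snd]
  have himono : Mono i := by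
    have : Mono i.left := inferInstanceAs (Mono (U.left.fromSpecResidueField u))
    exact (Over.forget S).mono_of_mono_map this
  have hjmono : Mono j := by
    refine ⟨fun {T} α β hαβ => ?_⟩
    have h1 : α ≫ wU = β ≫ wU := by rw [← hjt, ← Category.assoc, hαβ, Category.assoc]
    have h2 : α ≫ wZ = β ≫ wZ := by
      rw [← cancel_mono i, Category.assoc, Category.assoc, ← hjs, ← Category.assoc, hαβ,
        Category.assoc]
    apply (yon S).map_injective
    apply sqW.hom_ext
    · rw [← Functor.map_comp, h1, Functor.map_comp]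
    · rw [← Functor.map_comp, h2, Functor.map_comp]
  have hjl : Mono j.left := inferInstance
  have hinj : Function.Injective j.left := j.left.injective
  have himg : ∀ w : ↥W.left, j.left w ∈
      Points.ofPt ((yon S).map t ≫ a) ⁻¹' {Points.ofPt a u} := by
    intro w
    rw [Set.mem_preimage, Set.mem_singleton_iff, ← ofPt_yon_map_comp, ← Category.assoc,
      ← Functor.map_comp, hjt, sqW.w, ofPt_yon_map_comp, Points.ofPt_toHom]
    rfl
  have hWfin : Finite ↥W.left := by
    have : Finite ↥(Points.ofPt ((yon S).map t ≫ a) ⁻¹' {Points.ofPt a u}) := hfinR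
    exact Finite.of_injective (fun w => (⟨j.left w, himg w⟩ :
      ↥(Points.ofPt ((yon S).map t ≫ a) ⁻¹' {Points.ofPt a u})))
      (fun w w' h => hinj (congrArg Subtype.val h))
  exact exists_mono_fieldPt_of_compact_fibre a ha u wU wZ sqW

end Groth.Agent.H52
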