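import Groth.Agent.H52.FQDecent
import Groth.Agent.H52.FQApp
import Groth.Agent.H52.FQFibres
import Groth.Agent.H52.Residual
import Groth.Agent.S0084

/-!
# helper52: field points of decent spaces finite over closed points of the base
-/

set_option autoImplicit false
universe u

open CategoryTheory CategoryTheory.Limits AlgebraicGeometry Opposite AlgSp Topology TopologicalSpace

namespace Groth.Agent.H52

variable {S : Scheme.{u}}

/-- Finiteness satisfies fppf descent. -/
theorem isFinite_descendsAlong_fppf :
    MorphismProperty.DescendsAlong (@IsFinite : MorphismProperty Scheme.{u}) H50.fppfProp := by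
  have := Groth.Agent.S0084.result.{u}
  infer_instance

/-- A sheaf represented by a scheme over `S` whose structure morphism is a monomorphism is subterminal. -/
theorem subsingleton_hom_yon_of_mono (T₀ : Over S) [Mono T₀.hom] (G : Sp S) :
    Subsingleton (G ⟶ (yon S).obj T₀) := by
  refine ⟨fun a b => ?_⟩
  apply ObjectProperty.hom_ext
  ext T x
  apply ULift.ext
  apply Over.OverMorphism.ext
  rw [← cancel_mono T₀.hom, Over.w, Over.w]

/-- A field point of a decent algebraic space whose field is finite over the base is finite. -/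
theorem repWith_isFinite_of_finite_over_base {X : Sp S} (hXa : IsAlgSpace X) (hX : IsDecent X)
    {k : Type u} [Field k] (str : Spec (CommRingCat.of k) ⟶ S) [IsFinite str]
    (p : (yon S).obj (Over.mk str) ⟶ X) : RepWith @IsFinite p := by
  have hrep : Representable p := hXa.representable_from_yon p
  let q : FieldPt X := fieldPtOfHom str p
  obtain ⟨p₀, hp₀, -, hq₀⟩ := hX (Points.mk q)
  have hqc : RepWith @QuasiCompact p := by
    have := repWith_quasiCompact_of_mk_eq hXa.diag (p := q) (q := p₀) hp₀.symm hq₀
    rwa [fieldPtOfHom_toHom] at this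
  obtain ⟨V, b, hbe, hbs⟩ := hXa.atlas
  obtain ⟨W, w, fst, sq⟩ := hrep b
  obtain ⟨ψ, rfl⟩ := (yon S).map_surjective fst
  have hwq : QuasiCompact w.left := hqc.2 _ _ _ sq
  have hψ : Etale ψ.left := hbe.2 _ _ _ sq.flip
  have hfin : IsFinite w.left := by
    rw [IsZariskiLocalAtTarget.iff_of_iSup_eq_top (P := @IsFinite) _
      (iSup_affineOpens_eq_top V.left)]
    intro O
    have hOaff : IsAffine (O.1 : Scheme.{u}) := O.2
    have : CompactSpace ↥(w.left ⁻¹ᵁ O.1 : Scheme.{u}) :=
      QuasiCompact.compactSpace_of_compactSpace (w.left ∣_ O.1)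
    let ψO : (w.left ⁻¹ᵁ O.1 : Scheme.{u}) ⟶ Spec (CommRingCat.of k) :=
      (w.left ⁻¹ᵁ O.1).ι ≫ ψ.left
    have h1 : Etale ψO := inferInstance
    have h2 : QuasiCompact ψO := inferInstance
    have h3 : IsFinite ψO := isFinite_of_etale_quasiCompact_field ψO
    have hcomp : (w.left ∣_ O.1) ≫ (O.1.ι ≫ V.hom) = ψO ≫ str := by
      rw [← Category.assoc, morphismRestrict_ι, Category.assoc, Over.w w, Category.assoc]
      congr 1
      exact (Over.w ψ).symm
    have : IsFinite ((w.left ∣_ O.1) ≫ (O.1.ι ≫ V.hom)) := by rw [hcomp]; infer_instance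
    exact IsFinite.of_comp (w.left ∣_ O.1) (O.1.ι ≫ V.hom)
  exact H50.repWith_of_isPullback_atlas isFinite_descendsAlong_fppf hrep hbe hbs sq
    ((repWith_yon_map_iff @IsFinite w).2 hfin)

/-- A finite monomorphism of sheaves is a closed immersion. -/
theorem repWith_isClosedImmersion_of_isFinite_of_mono {F G : Sp S} (f : F ⟶ G) [Mono f]
    (hf : RepWith @IsFinite f) : RepWith @IsClosedImmersion f := by
  refine (repWith_iff _ _).2 ⟨hf.1, fun U V g fst snd sq => ?_⟩
  have h1 : IsFinite snd.left := hf.2 _ _ _ sq
  have h2 : Mono snd.left := mono_left_of_isPullback_of_mono sq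
  exact (IsClosedImmersion.iff_isFinite_and_mono snd.left).2 ⟨h1, h2⟩

end Groth.Agent.H52
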