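import Groth.Agent.H52.RedPoint
import Groth.Agent.H52.FQDecent
import Groth.Agent.H52.Residual
import Groth.Agent.H52.EpiBC
import Groth.Agent.H52.MonoPt
import Groth.Agent.H51.Reduced
import Groth.Agent.H50.Fppf

/-!
# helper52: morphisms from reduced spaces with one-point image factor through monomorphic field points
-/

set_option autoImplicit false
universe u

open CategoryTheory CategoryTheory.Limits AlgebraicGeometry Opposite AlgSp Topology TopologicalSpace

namespace Groth.Agent.H52

variable {S : Scheme.{u}}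

/-- Factorization through a monomorphism of sheaves can be checked after precomposing with an epimorphism. -/
theorem exists_factor_of_epi {Z X F G : Sp S} (p : Z ⟶ X) [Mono p] (f : F ⟶ X) (q : G ⟶ F) [Epi q]
    (h : ∃ g : G ⟶ Z, g ≫ p = q ≫ f) : ∃ g : F ⟶ Z, g ≫ p = f := by
  obtain ⟨g, hg⟩ := h
  let ℓ : G ⟶ pullback f p := pullback.lift q g hg.symm
  have hℓ : ℓ ≫ pullback.fst f p = q := pullback.lift_fst _ _ _
  have : Epi (pullback.fst f p) := by
    have : Epi (ℓ ≫ pullback.fst f p) := by rw [hℓ]; infer_instance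
    exact epi_of_epi ℓ _
  have : IsIso (pullback.fst f p) := isIso_of_mono_of_epi _
  exact ⟨inv (pullback.fst f p) ≫ pullback.snd f p, by
    rw [Category.assoc, ← pullback.condition, IsIso.inv_hom_id_assoc]⟩

/-- Factorization of a section over a scheme through a monomorphism of sheaves can be checked on a jointly
surjective family of flat morphisms locally of finite presentation. -/
theorem exists_factor_of_fppf_family {Z X : Sp S} (p : Z ⟶ X) [Mono p] {T : Over S}
    (c : (yon S).obj T ⟶ X) {A : Type*} (Y : A → Over S) (g : ∀ a, Y a ⟶ T)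
    (hsurj : ∀ τ : T.left, ∃ (a : A) (y : (Y a).left), (g a).left y = τ)
    (hfl : ∀ a, Flat (g a).left) (hfp : ∀ a, LocallyOfFinitePresentation (g a).left)
    (h : ∀ a, ∃ d : (yon S).obj (Y a) ⟶ Z, d ≫ p = (yon S).map (g a) ≫ c) :
    ∃ d : (yon S).obj T ⟶ Z, d ≫ p = c := by
  let Zs : Sieve T :=
    { arrows := fun T' f => ∃ d : (yon S).obj T' ⟶ Z, d ≫ p = (yon S).map f ≫ c
      downward_closed := by
        rintro T₁ T₂ f ⟨d, hd⟩ k
        exact ⟨(yon S).map k ≫ d, by rw [Category.assoc, hd, Functor.map_comp, Category.assoc]⟩ }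
  have hZs : Zs ∈ J S T := H50.mem_J_of_fppf_family Y g hsurj hfl hfp Zs h
  have : Epi (pullback.fst c p) := by
    apply H50.epi_of_local_lift
    intro T' y
    obtain ⟨y₀, rfl⟩ := (yon S).map_surjective y
    refine ⟨Zs.pullback y₀, (J S).pullback_stable y₀ hZs, fun T'' f hf => ?_⟩
    obtain ⟨d, hd⟩ := hf
    refine ⟨pullback.lift ((yon S).map (f ≫ y₀)) d hd.symm, ?_⟩
    rw [pullback.lift_fst, Functor.map_comp]
  have : IsIso (pullback.fst c p) := isIso_of_mono_of_epi _
  exact ⟨inv (pullback.fst c p) ≫ pullback.snd c p, by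
    rw [Category.assoc, ← pullback.condition, IsIso.inv_hom_id_assoc]⟩

/-- In a finite fibre of an etale chart every point has an open neighbourhood meeting the fibre only in that
point. -/
theorem exists_open_isolating {X : Sp S} (x : Points X) {U : Over S} (a : (yon S).obj U ⟶ X)
    (ha : RepWith @Etale a) (hfin : (Points.ofPt a ⁻¹' {x}).Finite) (u : ↥U.left)
    (hu : Points.ofPt a u = x) :
    ∃ O : U.left.Opens, u ∈ O ∧ ∀ u' ∈ O, Points.ofPt a u' = x → u' = u := by
  let F : Set ↥U.left := Points.ofPt a ⁻¹' {x}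
  have hFu : (F \ {u}).Finite := hfin.subset Set.sdiff_subset
  refine ⟨⟨(closure (F \ {u}))ᶜ, isClosed_closure.isOpen_compl⟩, ?_, ?_⟩
  · change u ∉ closure (F \ {u})
    intro hmem
    have h1 : closure (F \ {u}) = ⋃ y ∈ F \ {u}, closure {y} := by
      conv_lhs => rw [← Set.biUnion_of_singleton (F \ {u})]
      exact hFu.closure_biUnion _
    rw [h1] at hmem
    simp only [Set.mem_iUnion] at hmem
    obtain ⟨y, hy, hyu⟩ := hmem
    have hs : y ⤳ u := specializes_iff_mem_closure.2 hyu
    have := eq_of_specializes_of_finite_fibre x a ha hfin u y hu hy.1 hs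
    exact hy.2 this.symm
  · intro u' hu' hx
    by_contra hne
    exact hu' (subset_closure ⟨hx, hne⟩)

/-- A section of `X` over a reduced scheme all of whose points map to the point of a monomorphic, representable
quasi-compact field point `p` factors through `p`. -/
theorem exists_factor_of_reduced_scheme {X : Sp S} (hX : IsAlgSpace X) (p : FieldPt X)
    (hm : Mono p.toHom) (hq : RepWith @QuasiCompact p.toHom) {V : Over S} [IsReduced V.left]
    (c : (yon S).obj V ⟶ X) (hc : ∀ v : V.left, Points.ofPt c v = Points.mk p) :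
    ∃ g : (yon S).obj V ⟶ (yon S).obj p.pt, g ≫ p.toHom = c := by
  obtain ⟨U, a, u₀, hU, hae, hu₀⟩ := exists_affine_chart_at hX (Points.mk p)
  have := hU
  obtain ⟨V', ψ, fst, sq⟩ := hae.1 c
  obtain ⟨h, rfl⟩ := (yon S).map_surjective fst
  have hψe : Etale ψ.left := hae.2 _ _ _ sq
  have hV'red : IsReduced V'.left := Groth.Agent.H51.isReduced_of_smooth ψ.left
  have hfin : (Points.ofPt a ⁻¹' {Points.mk p}).Finite := finite_fibre_of_quasiCompact p hq a hae
  have hF : ∀ v' : V'.left, Points.ofPt a (h.left v') = Points.mk p := by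
    intro v'
    rw [← ofPt_yon_map_comp, sq.w, ofPt_yon_map_comp, hc]
  choose O hOmem hOiso using fun v' : V'.left =>
    exists_open_isolating (Points.mk p) a hae hfin (h.left v') (hF v')
  let N : V'.left → V'.left.Opens := fun v' => h.left ⁻¹ᵁ O v'
  refine exists_factor_of_fppf_family p.toHom c (fun v' : V'.left => overOpen V' (N v'))
    (fun v' => overOpenHom V' (N v') ≫ ψ) ?_ ?_ ?_ ?_
  · intro τ
    obtain ⟨v', -, hv'⟩ := exists_of_ofPt_eq_ofPt sq u₀ τ (hu₀.trans (hc τ).symm)
    exact ⟨v', ⟨v', hOmem v'⟩, hv'⟩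
  · intro v'
    change Flat ((N v').ι ≫ ψ.left)
    infer_instance
  · intro v'
    change LocallyOfFinitePresentation ((N v').ι ≫ ψ.left)
    infer_instance
  · intro v'
    let Nv : V'.left.Opens := N v'
    let hN : (Nv : Scheme.{u}) ⟶ U.left := Nv.ι ≫ h.left
    have hNconst : ∀ n : ↥(Nv : Scheme.{u}), hN n = h.left v' := by
      intro n
      have h1 : h.left (Nv.ι n) ∈ O v' := n.2
      exact hOiso v' _ h1 (hF _)
    obtain ⟨K, _, e, g, hge⟩ := exists_factor_field_of_reduced_of_const (hN ≫ U.left.isoSpec.hom)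
      (U.left.isoSpec.hom (h.left v')) (fun n => by rw [Scheme.Hom.comp_apply, hNconst])
    let e' : Spec (CommRingCat.of K) ⟶ U.left := e ≫ U.left.isoSpec.inv
    have hge' : g ≫ e' = hN := by
      rw [← Category.assoc, hge, Category.assoc, Iso.hom_inv_id, Category.comp_id]
    let str : Spec (CommRingCat.of K) ⟶ S := e' ≫ U.hom
    let eO : Over.mk str ⟶ U := Over.homMk e' rfl
    let gO : overOpen V' Nv ⟶ Over.mk str := Over.homMk g (by
      change g ≫ e' ≫ U.hom = Nv.ι ≫ V'.hom
      rw [← Category.assoc, hge', Category.assoc, Over.w h])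
    let q' : FieldPt X := fieldPtOfHom str ((yon S).map eO ≫ a)
    have hq' : Points.mk q' = Points.mk p := by
      let n₀ : ↥(Nv : Scheme.{u}) := ⟨v', hOmem v'⟩
      rw [← Points.ofPt_toHom q' (g n₀), fieldPtOfHom_toHom]
      have h3 := ofPt_yon_map_comp eO a (g n₀)
      have h2 : e' (g n₀) = h.left v' := by rw [← Scheme.Hom.comp_apply, hge', hNconst]
      refine h3.trans ?_
      change Points.ofPt a (e' (g n₀)) = _
      rw [h2, hF]
    obtain ⟨c', hc'⟩ := exists_factor_of_mk_eq p q' hm hq hq'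
    have hc'' : (yon S).map c' ≫ p.toHom = (yon S).map eO ≫ a :=
      hc'.trans (fieldPtOfHom_toHom str _)
    have h4 : gO ≫ eO = overOpenHom V' Nv ≫ h := by
      ext
      exact hge'
    refine ⟨(yon S).map gO ≫ (yon S).map c', ?_⟩
    calc ((yon S).map gO ≫ (yon S).map c') ≫ p.toHom
        = (yon S).map gO ≫ ((yon S).map c' ≫ p.toHom) := Category.assoc _ _ _
      _ = (yon S).map gO ≫ ((yon S).map eO ≫ a) := congrArg (fun t => (yon S).map gO ≫ t) hc''
      _ = (yon S).map (gO ≫ eO) ≫ a := by rw [Functor.map_comp, Category.assoc]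
      _ = (yon S).map (overOpenHom V' Nv ≫ h) ≫ a := by rw [h4]
      _ = (yon S).map (overOpenHom V' Nv) ≫ ((yon S).map h ≫ a) := by
        rw [Functor.map_comp, Category.assoc]
      _ = (yon S).map (overOpenHom V' Nv) ≫ ((yon S).map ψ ≫ c) := by rw [sq.w]
      _ = (yon S).map (overOpenHom V' (N v') ≫ ψ) ≫ c := by rw [Functor.map_comp, Category.assoc]

end Groth.Agent.H52
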