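import Groth.Agent.H52.DecentTop
import Groth.Agent.H52.EpiFppf
import Groth.Agent.H52.FieldPts
import Groth.Agent.H52.RedField
import Mathlib.AlgebraicGeometry.Morphisms.FlatMono
import Mathlib.RingTheory.Unramified.Finite
import Mathlib.AlgebraicGeometry.Morphisms.Finite

/-!
# Decent spaces with an etale surjective field point (helper52)
-/

set_option autoImplicit false
universe u

open CategoryTheory CategoryTheory.Limits AlgebraicGeometry Opposite AlgSp Topology

namespace Groth.Agent.H52

/-- An etale morphism between spectra of fields is finite. -/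
theorem isFinite_of_etale_fields {k k' : Type u} [Field k] [Field k']
    (g : Spec (CommRingCat.of k) ⟶ Spec (CommRingCat.of k')) [Etale g] : IsFinite g := by
  obtain ⟨φ, rfl⟩ := Spec.map_surjective g
  have h : φ.hom.Etale := (HasRingHomProperty.Spec_iff (P := @Etale)).1 ‹_›
  rw [IsFinite.SpecMap_iff]
  algebraize [φ.hom]
  have : Algebra.Etale k' k := h
  have : Module.Finite k' k := Algebra.FormallyUnramified.finite_of_free k' k
  exact RingHom.finite_algebraMap.2 this

variable {S : Scheme.{u}}

/-- A representable surjective morphism from a scheme is surjective on points. -/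
theorem isSurjectiveMor_of_repWith_surjective {F : Sp S} {U : Over S} (a : (yon S).obj U ⟶ F)
    (hs : RepWith @Surjective a) : IsSurjectiveMor a := by
  intro x
  obtain ⟨u, rfl⟩ := surjective_ofPt_of_surjective a hs x
  exact ⟨Points.ofScheme U u, (Points.ofPt_eq_map_ofScheme a u).symm⟩

/-- A decent algebraic space with an etale surjective morphism from the spectrum of a field is the spectrum
of a field. -/
theorem exists_iso_field_of_isDecent {X : Sp S} (hXa : IsAlgSpace X) (hX : IsDecent X)
    (k : Type u) [Field k] (str : Spec (CommRingCat.of k) ⟶ S)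
    (p : (yon S).obj (Over.mk str) ⟶ X) (hp : RepWith @Etale p) (hs : RepWith @Surjective p) :
    ∃ (k' : Type u) (_ : Field k') (str' : Spec (CommRingCat.of k') ⟶ S)
      (e : (yon S).obj (Over.mk str') ≅ X) (c : Over.mk str ⟶ Over.mk str'),
      (yon S).map c ≫ e.hom = p ∧ IsFinite c.left ∧ Etale c.left := by
  have hpf : LocP @Flat p :=
    H50.locP_of_repWith (fun _ _ g hg => by have := hg; infer_instance)
      (H50.repWith_mono (fun _ _ g hg => by have := hg; infer_instance) hp)
  have hpp : LocP @LocallyOfFinitePresentation p :=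
    H50.locP_of_repWith (fun _ _ g hg => by have := hg; infer_instance)
      (H50.repWith_mono (fun _ _ g hg => by have := hg; infer_instance) hp)
  have hps : IsSurjectiveMor p := isSurjectiveMor_of_repWith_surjective p hs
  obtain ⟨y₀⟩ := nonempty_points_spec_field str
  obtain ⟨q, hq, hm, -⟩ := hX (Points.map p y₀)
  have hne : Nonempty (Points ((yon S).obj q.pt)) := nonempty_points_spec_field q.str
  have hiso : IsIso q.toHom :=
    isIso_of_mono_to_fppf_point str (IsAlgSpace.yon_obj _) hXa q.toHom p hpf hpp hps hne
  let c : Over.mk str ⟶ q.pt := (yon S).preimage (p ≫ inv q.toHom)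
  have hc : (yon S).map c ≫ q.toHom = p := by
    rw [Functor.map_preimage, Category.assoc, IsIso.inv_hom_id, Category.comp_id]
  have hce : Etale c.left := by
    rw [← repWith_yon_map_iff @Etale c, Functor.map_preimage]
    exact MorphismProperty.RespectsIso.postcomp _ _ _ hp
  refine ⟨q.K, inferInstance, q.str, asIso q.toHom, c, hc, ?_, hce⟩
  exact isFinite_of_etale_fields (k := k) (k' := q.K) c.left

/-- A morphism to a scheme all of whose local rings are fields is flat. -/
theorem flat_of_isField_stalk {X Y : Scheme.{u}} (f : X ⟶ Y)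
    (h : ∀ y : Y, IsField (Y.presheaf.stalk y)) : Flat f := by
  apply Flat.of_stalkMap
  intro x
  let _ := (h (f x)).toField
  algebraize [(f.stalkMap x).hom]
  change Module.Flat (Y.presheaf.stalk (f x)) (X.presheaf.stalk x)
  infer_instance

/-- On a reduced one point algebraic space, a field valued point which is a representable quasi-compact
monomorphism is an isomorphism. -/
theorem isIso_mono_fieldPt_of_reduced_singleton {X : Sp S} {U : Over S}
    (a : (yon S).obj U ⟶ X) (hae : RepWith @Etale a) (has : RepWith @Surjective a)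
    (hred : IsReduced U.left) (hsub : Subsingleton (Points X)) (q : FieldPt X)
    (hm : Mono q.toHom) (hq : RepWith @QuasiCompact q.toHom) : IsIso q.toHom := by
  obtain ⟨k₀, _, str₀, p₀, hpf₀, hps₀⟩ :=
    exists_flat_surjective_field_of_reduced a hae has hred (Points.mk q) hsub
  have hfield : ∀ u : ↥U.left, IsField (U.left.presheaf.stalk u) := fun u =>
    isField_stalk_chart_of_flat_surjective_field str₀ p₀ hpf₀ hps₀ a hae u
  obtain ⟨T, ψ, fst, sq⟩ := hq.1 a
  have hψq : QuasiCompact ψ.left := hq.2 _ _ _ sq
  obtain ⟨φ, rfl⟩ := (yon S).map_surjective fst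
  have hψflat : Flat ψ.left := flat_of_isField_stalk ψ.left hfield
  obtain ⟨y₀⟩ := nonempty_points_spec_field q.str
  have hqs : IsSurjectiveMor q.toHom := fun z => ⟨y₀, Subsingleton.elim _ _⟩
  have hψs : Surjective ψ.left :=
    surjective_left_of_isSurjectiveMor ψ (surjective_map_snd_of_isPullback sq hqs)
  have hψm' : Mono ((yon S).map ψ) := sq.mono_snd_of_mono
  have hψm'' : Mono ψ := (yon S).mono_of_mono_map hψm'
  have hψm : Mono ψ.left := (Over.forget S).map_mono ψ
  have hiso : IsIso ψ.left := Flat.isIso_of_surjective_of_mono ψ.left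
  have hisoO : IsIso ψ := by
    have : IsIso ((Over.forget S).map ψ) := hiso
    exact isIso_of_reflects_iso ψ (Over.forget S)
  have hepi_a : Epi a := epi_of_repWith_fppf a
    (H50.repWith_mono (fun _ _ g hg => by have := hg; infer_instance) hae)
    (H50.repWith_mono (fun _ _ g hg => by have := hg; infer_instance) hae) has
  have h1 : Epi ((yon S).map φ ≫ q.toHom) := by
    rw [sq.w]; exact epi_comp _ _
  have h2 : Epi q.toHom := epi_of_epi ((yon S).map φ) q.toHom
  exact isIso_of_mono_of_epi q.toHom

/-- A reduced decent one point algebraic space is the spectrum of a field. -/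
theorem exists_iso_field_of_reduced_isDecent {X : Sp S} (hX : IsDecent X)
    (hr : EtaleLocally (fun U => IsReduced U) X) (x₀ : Points X) (hsub : Subsingleton (Points X)) :
    ∃ (k : Type u) (_ : Field k) (str : Spec (CommRingCat.of k) ⟶ S),
      Nonempty ((yon S).obj (Over.mk str) ≅ X) := by
  obtain ⟨U, a, hae, has, hred⟩ := hr
  obtain ⟨q, -, hm, hq⟩ := hX x₀
  have := isIso_mono_fieldPt_of_reduced_singleton a hae has hred hsub q hm hq
  exact ⟨q.K, inferInstance, q.str, ⟨asIso q.toHom⟩⟩

end Groth.Agent.H52
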