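import Groth.Agent.H52.GlueDisjoint
import Groth.Agent.H52.FQDecent
import Groth.Agent.H52.FQFibres
import Groth.Agent.H52.DecentField
import Groth.Agent.H52.RedField
import Mathlib.AlgebraicGeometry.Morphisms.FlatMono

/-!
# helper52: algebraic spaces etale over a field are schemes
-/

set_option autoImplicit false
universe u

open CategoryTheory CategoryTheory.Limits AlgebraicGeometry Opposite AlgSp Topology TopologicalSpace
open MorphismProperty

namespace Groth.Agent.H52

variable {S : Scheme.{u}}

/-- A flat monomorphism to a scheme with discrete underlying space is an open immersion. -/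
theorem isOpenImmersion_of_flat_mono_discrete {X Y : Scheme.{u}} (f : X ⟶ Y) [Flat f] [Mono f]
    [DiscreteTopology ↥Y] : IsOpenImmersion f := by
  let U : Y.Opens := ⟨Set.range f, isOpen_discrete _⟩
  have hU : IsOpenImmersion U.ι := inferInstance
  let f' := IsOpenImmersion.lift U.ι f (by simp [U])
  have heq : f = f' ≫ U.ι := by simp [f']
  have hflat : Flat f' := MorphismProperty.of_postcomp (W := @Flat) f' U.ι hU (by rwa [← heq])
  have hmono : Mono f' := mono_of_mono_fac heq.symm
  have hsurj : Surjective f' := ⟨fun ⟨x, ⟨y, hy⟩⟩ ↦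
    ⟨y, by apply U.ι.injective; simp [← Scheme.Hom.comp_apply, f', hy]⟩⟩
  have hdX : DiscreteTopology ↥X :=
    DiscreteTopology.of_continuous_injective f.continuous f.injective
  have hqc : QuasiCompact f' := ⟨fun V hV hc => by
    have hdU : DiscreteTopology ↥(U : Scheme.{u}) := U.ι.isOpenEmbedding.isEmbedding.discreteTopology
    have hfin : (V : Set ↥(U : Scheme.{u})).Finite := hc.finite_of_discrete
    exact (hfin.preimage (f'.injective.injOn)).isCompact⟩
  have := Flat.isIso_of_surjective_of_mono f'
  rw [heq]
  infer_instance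

/-- The stalks of a reduced scheme with discrete underlying space are fields. -/
theorem isField_stalk_of_discrete_reduced {V : Scheme.{u}} [DiscreteTopology ↥V] [IsReduced V]
    (y : ↥V) : IsField (V.presheaf.stalk y) := by
  apply isField_stalk_of_closure_mem_irreducibleComponents (x := y)
  rw [closure_discrete]
  refine ⟨isIrreducible_singleton, fun t ht hyt => ?_⟩
  intro z hz
  exact ht.isPreirreducible.subsingleton hz (hyt rfl)

/-- A scheme etale over a field is discrete and reduced. -/
theorem discrete_reduced_of_etale_field {k : Type u} [Field k] {V : Scheme.{u}}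
    (g : V ⟶ Spec (CommRingCat.of k)) [Etale g] : DiscreteTopology ↥V ∧ IsReduced V := by
  have : LocallyQuasiFinite g := H50.locallyQuasiFinite_of_unramified g
  have : IsLocallyArtinian V := IsLocallyArtinian.of_locallyQuasiFinite g
  exact ⟨inferInstance, isReduced_of_etale_field g⟩

/-- For a sheaf etale over a field, the fibre product of an affine etale chart with one of its residue field points
is a finite scheme. -/
theorem compactSpace_fibre_of_etale_field {X : Sp S} {k : Type u} [Field k]
    (str : Spec (CommRingCat.of k) ⟶ S) (f : X ⟶ (yon S).obj (Over.mk str)) (hf : IsEtaleMor f)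
    {U : Over S} [IsAffine U.left] (a : (yon S).obj U ⟶ X) (ha : RepWith @Etale a) (u : ↥U.left)
    {W : Over S} (wU : W ⟶ U) (wZ : W ⟶ (FieldPt.ofPt a u).pt)
    (sqW : IsPullback ((yon S).map wU) ((yon S).map wZ) a (FieldPt.ofPt a u).toHom) :
    CompactSpace ↥W.left := by
  obtain ⟨gU, hgU⟩ := (yon S).map_surjective (a ≫ f)
  have hgUe : Etale gU.left := (repWith_yon_map_iff _ gU).1 (hgU ▸ hf a ha)
  have hz : (FieldPt.ofPt a u).toHom = (yon S).map (ptIncl a u) ≫ a := FieldPt.toHom_ofPt a u
  have hcomm : wU ≫ gU = wZ ≫ ptIncl a u ≫ gU := by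
    apply (yon S).map_injective
    rw [Functor.map_comp, Functor.map_comp, Functor.map_comp, hgU, ← Category.assoc, sqW.w, hz]
    simp only [Category.assoc]
  have hcommL : wU.left ≫ gU.left = wZ.left ≫ (ptIncl a u ≫ gU).left := by
    have := congrArg (fun f => f.left) hcomm
    simpa using this
  have hm : Mono (pullback.lift wU.left wZ.left hcommL) := by
    refine ⟨fun {T} α β hαβ => ?_⟩
    have h1 : α ≫ wU.left = β ≫ wU.left := by
      have := congrArg (· ≫ pullback.fst _ _) hαβ
      simp only [Category.assoc, pullback.lift_fst] at this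
      exact this
    have h2 : α ≫ wZ.left = β ≫ wZ.left := by
      have := congrArg (· ≫ pullback.snd _ _) hαβ
      simp only [Category.assoc, pullback.lift_snd] at this
      exact this
    have hβ : β ≫ W.hom = α ≫ W.hom := by
      rw [← Over.w wU, ← Category.assoc, ← h1, Category.assoc]
    have key : (CategoryTheory.Over.homMk α rfl : Over.mk (α ≫ W.hom) ⟶ W) = CategoryTheory.Over.homMk β hβ := by
      apply (yon S).map_injective
      apply sqW.hom_ext
      · rw [← Functor.map_comp, ← Functor.map_comp]
        congr 1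
        ext1
        exact h1
      · rw [← Functor.map_comp, ← Functor.map_comp]
        congr 1
        ext1
        exact h2
    exact congrArg (fun f => f.left) key
  have haffk : IsAffine (Over.mk str).left := inferInstanceAs (IsAffine (Spec (CommRingCat.of k)))
  have hQq : QuasiCompact (pullback.snd gU.left (ptIncl a u ≫ gU).left) := inferInstance
  have hQe : Etale (pullback.snd gU.left (ptIncl a u ≫ gU).left) := inferInstance
  have hcs : CompactSpace ↥(FieldPt.ofPt a u).pt.left :=
    inferInstanceAs (CompactSpace ↥(Spec (CommRingCat.of (FieldPt.ofPt a u).K)))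
  have : CompactSpace ↥(pullback gU.left (ptIncl a u ≫ gU).left) :=
    QuasiCompact.compactSpace_of_compactSpace (pullback.snd gU.left (ptIncl a u ≫ gU).left)
  have : Finite ↥(pullback gU.left (ptIncl a u ≫ gU).left) :=
    finite_of_etale_field_of_compact (K := (FieldPt.ofPt a u).K)
      (pullback.snd gU.left (ptIncl a u ≫ gU).left)
  have : Finite ↥W.left :=
    Finite.of_injective _ (pullback.lift wU.left wZ.left hcommL).injective
  infer_instance

/-- For an algebraic space etale over a field, monomorphic field points are open immersions. -/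
theorem repWith_isOpenImmersion_of_mono_fieldPt_of_etale_field {X : Sp S} (hX : IsAlgSpace X)
    {k : Type u} [Field k] (str : Spec (CommRingCat.of k) ⟶ S)
    (f : X ⟶ (yon S).obj (Over.mk str)) (hf : IsEtaleMor f) (p : FieldPt X) [Mono p.toHom] :
    RepWith @IsOpenImmersion p.toHom := by
  obtain ⟨V, b, hbe, hbs⟩ := hX.atlas
  have hrep := hX.representable_from_yon p.toHom
  obtain ⟨P, σ, fst, sq⟩ := hrep b
  have hdesc : DescendsAlong (@IsOpenImmersion : MorphismProperty Scheme.{u}) H50.fppfProp := by
    infer_instance
  refine H50.repWith_of_isPullback_atlas hdesc hrep hbe hbs sq ((repWith_yon_map_iff _ σ).2 ?_)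
  have hmono : Mono σ.left := mono_left_of_isPullback_of_mono sq
  obtain ⟨gV, hgV⟩ := (yon S).map_surjective (b ≫ f)
  have hgVe : Etale gV.left := (repWith_yon_map_iff _ gV).1 (hgV ▸ hf b hbe)
  obtain ⟨hd, hr⟩ := discrete_reduced_of_etale_field (k := k) gV.left
  have hflat : Flat σ.left :=
    flat_of_isField_stalk σ.left (fun y => isField_stalk_of_discrete_reduced y)
  exact isOpenImmersion_of_flat_mono_discrete σ.left

/-- Every point of an algebraic space etale over a field is represented by a field point which is an open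
immersion. -/
theorem exists_open_fieldPt_of_etale_field {X : Sp S} (hX : IsAlgSpace X)
    {k : Type u} [Field k] (str : Spec (CommRingCat.of k) ⟶ S)
    (f : X ⟶ (yon S).obj (Over.mk str)) (hf : IsEtaleMor f) (x : Points X) :
    ∃ p : FieldPt X, Points.mk p = x ∧ RepWith @IsOpenImmersion p.toHom := by
  obtain ⟨U, a, u, hU, hae, hu⟩ := exists_affine_chart_at hX x
  obtain ⟨W, wZ, fst, sqW⟩ := hae.1 (FieldPt.ofPt a u).toHom
  obtain ⟨wU, rfl⟩ := (yon S).map_surjective fst
  have := compactSpace_fibre_of_etale_field str f hf a hae u wU wZ sqW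
  obtain ⟨p, c, hm, -, -, hp⟩ := exists_mono_fieldPt_of_compact_fibre a hae u wU wZ sqW
  exact ⟨p, hp.trans hu, repWith_isOpenImmersion_of_mono_fieldPt_of_etale_field hX str f hf p⟩

/-- An algebraic space etale over a field is (represented by) a disjoint union of spectra of fields. -/
theorem exists_iso_yon_of_etale_field {X : Sp S} (hX : IsAlgSpace X)
    {k : Type u} [Field k] (str : Spec (CommRingCat.of k) ⟶ S)
    (f : X ⟶ (yon S).obj (Over.mk str)) (hf : IsEtaleMor f) :
    ∃ Z : Over S, Nonempty ((yon S).obj Z ≅ X) := by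
  obtain ⟨U₀, a₀, hae, has⟩ := hX.atlas
  have hsurj₀ := surjective_ofPt_of_surjective a₀ has
  have hr : ∀ x, Points.ofPt a₀ (Function.surjInv hsurj₀ x) = x := Function.surjInv_eq hsurj₀
  have key : ∀ i : {u₀ : ↥U₀.left // Function.surjInv hsurj₀ (Points.ofPt a₀ u₀) = u₀},
      ∃ p : FieldPt X, Points.mk p = Points.ofPt a₀ i.1 ∧ RepWith @IsOpenImmersion p.toHom :=
    fun i => exists_open_fieldPt_of_etale_field hX str f hf _
  choose p hp hoi using key
  have hdisj : ∀ i k (zi : ↥(p i).pt.left) (zk : ↥(p k).pt.left),
      Points.ofPt (p i).toHom zi = Points.ofPt (p k).toHom zk → i = k := by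
    intro i k zi zk h
    have h1 := Points.ofPt_toHom (p i) zi
    have h2 := Points.ofPt_toHom (p k) zk
    rw [h1, h2, hp, hp] at h
    apply Subtype.ext
    rw [← i.2, ← k.2, h]
  have hsurj : ∀ x : Points X, ∃ (i : {u₀ : ↥U₀.left //
      Function.surjInv hsurj₀ (Points.ofPt a₀ u₀) = u₀}) (z : ↥(p i).pt.left),
      Points.ofPt (p i).toHom z = x := by
    intro x
    refine ⟨⟨Function.surjInv hsurj₀ x, by rw [hr]⟩,
      (IsLocalRing.closedPoint _ : PrimeSpectrum _), ?_⟩
    have h1 := Points.ofPt_toHom (p ⟨Function.surjInv hsurj₀ x, by rw [hr]⟩)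
      (IsLocalRing.closedPoint _ : PrimeSpectrum _)
    exact (h1.trans (hp _)).trans (hr x)
  obtain ⟨e, -⟩ := exists_iso_yon_of_disjoint_open_cover (fun i => (p i).pt) hX
    (fun i => (p i).toHom) hoi hdisj hsurj
  exact ⟨_, ⟨e⟩⟩

end Groth.Agent.H52
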