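import Groth.Agent.H52.FQFibres

/-!
# More on finite fibres over points with monomorphic representatives (helper52)
-/

set_option autoImplicit false
universe u

open CategoryTheory CategoryTheory.Limits AlgebraicGeometry Opposite AlgSp

namespace Groth.Agent.H52

variable {S : Scheme.{u}}

/-- A scheme finite over the spectrum of a field has finitely many points. -/
theorem finite_of_isFinite_field {K : Type u} [Field K] {T : Scheme.{u}}
    (φ : T ⟶ Spec (CommRingCat.of K)) [IsFinite φ] : Finite ↥T := by
  have h := φ.finite_preimage_singleton (IsLocalRing.closedPoint K : PrimeSpectrum K)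
  refine Set.finite_univ_iff.1 (h.subset fun t _ => ?_)
  exact Subsingleton.elim (α := PrimeSpectrum K) _ _

/-- The fibre of `|U ×_X U| → |X|` over the point of a field point `p` is finite as soon as `U ×_X Spec k` is
quasi-compact. -/
theorem finite_fibre_kernelPair_of_compact {X : Sp S} (hX : Representable (Limits.diag X))
    (p : FieldPt X) {U R F : Over S} (a : (yon S).obj U ⟶ X) (ha : RepWith @Etale a) (s t : R ⟶ U)
    (hR : IsPullback ((yon S).map t) ((yon S).map s) a a) (fk : F ⟶ p.pt) (fU : F ⟶ U)
    (sqF : IsPullback ((yon S).map fk) ((yon S).map fU) p.toHom a) [CompactSpace ↥F.left] :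
    (Points.ofPt ((yon S).map t ≫ a) ⁻¹' {Points.mk p}).Finite := by
  have hrep : Representable p.toHom := Functor.relativelyRepresentable.of_diag hX p.toHom
  have haffk : IsAffine p.pt.left := inferInstanceAs (IsAffine (Spec (CommRingCat.of p.K)))
  have hfkq : QuasiCompact fk.left := inferInstance
  have hte : Etale t.left := ha.2 _ _ _ hR.flip
  have hta : RepWith @Etale ((yon S).map t ≫ a) :=
    (RepWith @Etale).comp_mem _ _ ((repWith_yon_map_iff _ t).2 hte) ha
  obtain ⟨T, gR, fst', sqT⟩ := hrep ((yon S).map t ≫ a)
  obtain ⟨gk, rfl⟩ := (yon S).map_surjective fst'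
  have hgke : Etale gk.left := hta.2 _ _ _ sqT.flip
  rw [fibre_eq_range_of_isPullback p _ sqT]
  have c1 : (yon S).map gk ≫ p.toHom = (yon S).map (gR ≫ t) ≫ a := by
    rw [Functor.map_comp, Category.assoc]; exact sqT.w
  have c2 : (yon S).map gk ≫ p.toHom = (yon S).map (gR ≫ s) ≫ a := by
    rw [Functor.map_comp, Category.assoc, ← hR.w]; exact sqT.w
  obtain ⟨η, hη⟩ := (yon S).map_surjective (sqF.lift _ _ c1)
  obtain ⟨η', hη'⟩ := (yon S).map_surjective (sqF.lift _ _ c2)
  have hη1 : (yon S).map η ≫ (yon S).map fk = (yon S).map gk := by rw [hη, sqF.lift_fst]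
  have hη2 : (yon S).map η ≫ (yon S).map fU = (yon S).map gR ≫ (yon S).map t := by
    rw [hη, sqF.lift_snd, Functor.map_comp]
  have hη'1 : (yon S).map η' ≫ (yon S).map fk = (yon S).map gk := by rw [hη', sqF.lift_fst]
  have hη'2 : (yon S).map η' ≫ (yon S).map fU = (yon S).map gR ≫ (yon S).map s := by
    rw [hη', sqF.lift_snd, Functor.map_comp]
  have left1 : IsPullback ((yon S).map η) ((yon S).map gR) ((yon S).map fU) ((yon S).map t) := by
    refine IsPullback.of_right ?_ hη2 sqF
    rw [hη1]; exact sqT
  have outer2 := left1.flip.paste_horiz hR.flip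
  have left2 : IsPullback ((yon S).map η') ((yon S).map η) ((yon S).map fk) ((yon S).map fk) := by
    refine IsPullback.of_right ?_ (hη'1.trans hη1.symm) sqF.flip
    rw [hη'2, sqF.w]
    exact outer2
  have hηq : QuasiCompact η.left :=
    ((repWith_yon_map_iff @QuasiCompact fk).2 hfkq).2 _ _ _ left2
  have hTc : CompactSpace ↥T.left := QuasiCompact.compactSpace_of_compactSpace η.left
  have : Finite ↥T.left := finite_of_etale_field_of_compact (K := p.K) gk.left
  exact Set.finite_range _

end Groth.Agent.H52
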