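import Groth.Agent.H52.FQDecent
import Groth.Agent.H52.FQFibres2
import Groth.Agent.H52.Residual

/-!
# Fibres of `R = U ×_X U` over pairs of points (helper52)
-/

set_option autoImplicit false
universe u

open CategoryTheory CategoryTheory.Limits AlgebraicGeometry Opposite AlgSp

namespace Groth.Agent.H52

variable {S : Scheme.{u}}

/-- The inclusion of the residue field point of a chart, over `S`. -/
noncomputable abbrev ptIncl {X : Sp S} {U : Over S} (φ : (yon S).obj U ⟶ X) (u : ↥U.left) :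
    (FieldPt.ofPt φ u).pt ⟶ U :=
  Over.homMk (U.left.fromSpecResidueField u) rfl

theorem ptIncl_left_apply {X : Sp S} {U : Over S} (φ : (yon S).obj U ⟶ X) (u : ↥U.left)
    (x : ↥(FieldPt.ofPt φ u).pt.left) : (ptIncl φ u).left x = u := by
  change (U.left.fromSpecResidueField u) x = u
  exact (Set.range_subset_iff.1 (U.left.range_fromSpecResidueField u).le) x

/-- The projection `Spec κ(u) ×_X Spec κ(u') ⟶ Spec κ(u)` is locally quasi-finite, for `u, u'` points of an etale
chart. -/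
theorem locallyQuasiFinite_fst_of_pairFibre {X : Sp S} {U : Over S} (φ : (yon S).obj U ⟶ X)
    (hφ : RepWith @Etale φ) (u u' : ↥U.left) {Y : Over S} (y₁ : Y ⟶ (FieldPt.ofPt φ u).pt)
    (y₂ : Y ⟶ (FieldPt.ofPt φ u').pt)
    (sqY : IsPullback ((yon S).map y₁) ((yon S).map y₂) (FieldPt.ofPt φ u).toHom
      (FieldPt.ofPt φ u').toHom) : LocallyQuasiFinite y₁.left := by
  have hz' : (FieldPt.ofPt φ u').toHom = (yon S).map (ptIncl φ u') ≫ φ := FieldPt.toHom_ofPt φ u'
  obtain ⟨W, wZ, fst, sqW⟩ := hφ.1 (FieldPt.ofPt φ u).toHom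
  obtain ⟨wU, rfl⟩ := (yon S).map_surjective fst
  have hwZe : Etale wZ.left := hφ.2 _ _ _ sqW
  have comm : (yon S).map (y₂ ≫ ptIncl φ u') ≫ φ =
      (yon S).map y₁ ≫ (FieldPt.ofPt φ u).toHom := by
    rw [Functor.map_comp, Category.assoc, ← hz']; exact sqY.w.symm
  obtain ⟨e, he⟩ := (yon S).map_surjective (sqW.lift _ _ comm)
  have he1 : e ≫ wU = y₂ ≫ ptIncl φ u' :=
    (yon S).map_injective (by rw [Functor.map_comp, he, sqW.lift_fst])
  have he2 : e ≫ wZ = y₁ :=
    (yon S).map_injective (by rw [Functor.map_comp, he, sqW.lift_snd])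
  have sqY' : IsPullback ((yon S).map e ≫ (yon S).map wZ) ((yon S).map y₂)
      (FieldPt.ofPt φ u).toHom ((yon S).map (ptIncl φ u') ≫ φ) := by
    rw [← Functor.map_comp, he2, ← hz']; exact sqY
  have sqL : IsPullback ((yon S).map e) ((yon S).map y₂) ((yon S).map wU)
      ((yon S).map (ptIncl φ u')) :=
    IsPullback.of_right sqY' (by rw [← Functor.map_comp, ← Functor.map_comp, he1]) sqW.flip
  have sqO : IsPullback e y₂ wU (ptIncl φ u') := IsPullback.of_map (yon S) he1 sqL
  have sqS : IsPullback e.left y₂.left wU.left (ptIncl φ u').left := sqO.map (Over.forget S)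
  have hpre : IsPreimmersion (ptIncl φ u').left :=
    inferInstanceAs (IsPreimmersion (U.left.fromSpecResidueField u'))
  have hpre' : IsPreimmersion e.left :=
    MorphismProperty.of_isPullback (P := @IsPreimmersion) sqS.flip hpre
  have hlqf : LocallyQuasiFinite wZ.left := H50.locallyQuasiFinite_of_unramified wZ.left
  have hartZ : IsLocallyArtinian (FieldPt.ofPt φ u).pt.left :=
    inferInstanceAs (IsLocallyArtinian (Spec (CommRingCat.of (FieldPt.ofPt φ u).K)))
  have hart : IsLocallyArtinian W.left := IsLocallyArtinian.of_locallyQuasiFinite wZ.left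
  have hci : IsClosedImmersion e.left :=
    IsClosedImmersion.of_isPreimmersion _ (isClosed_discrete _)
  rw [← he2, Over.comp_left]
  infer_instance

/-- The scheme `Spec κ(u) ×_X Spec κ(u')` maps injectively into the fibre of `R = U ×_X U` over `(u, u')`. -/
theorem exists_injective_pairFibre {X : Sp S} {U : Over S} (φ : (yon S).obj U ⟶ X) (u u' : ↥U.left)
    {Y : Over S} (y₁ : Y ⟶ (FieldPt.ofPt φ u).pt) (y₂ : Y ⟶ (FieldPt.ofPt φ u').pt)
    (sqY : IsPullback ((yon S).map y₁) ((yon S).map y₂) (FieldPt.ofPt φ u).toHom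
      (FieldPt.ofPt φ u').toHom) {R : Over S} (s t : R ⟶ U)
    (hR : IsPullback ((yon S).map t) ((yon S).map s) φ φ) :
    ∃ ρ : Y ⟶ R, ρ ≫ s = y₁ ≫ ptIncl φ u ∧ ρ ≫ t = y₂ ≫ ptIncl φ u' ∧
      Function.Injective ρ.left ∧ ∀ y : ↥Y.left, s.left (ρ.left y) = u ∧ t.left (ρ.left y) = u' := by
  have hz : (FieldPt.ofPt φ u).toHom = (yon S).map (ptIncl φ u) ≫ φ := FieldPt.toHom_ofPt φ u
  have hz' : (FieldPt.ofPt φ u').toHom = (yon S).map (ptIncl φ u') ≫ φ := FieldPt.toHom_ofPt φ u'
  have comm : (yon S).map (y₂ ≫ ptIncl φ u') ≫ φ = (yon S).map (y₁ ≫ ptIncl φ u) ≫ φ := by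
    rw [Functor.map_comp, Functor.map_comp, Category.assoc, Category.assoc, ← hz, ← hz']
    exact sqY.w.symm
  obtain ⟨ρ, hρ⟩ := (yon S).map_surjective (hR.lift _ _ comm)
  have hρt : ρ ≫ t = y₂ ≫ ptIncl φ u' :=
    (yon S).map_injective (by rw [Functor.map_comp, hρ, hR.lift_fst])
  have hρs : ρ ≫ s = y₁ ≫ ptIncl φ u :=
    (yon S).map_injective (by rw [Functor.map_comp, hρ, hR.lift_snd])
  have him : Mono (ptIncl φ u) := by
    have : Mono (ptIncl φ u).left := inferInstanceAs (Mono (U.left.fromSpecResidueField u))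
    exact (Over.forget S).mono_of_mono_map this
  have him' : Mono (ptIncl φ u') := by
    have : Mono (ptIncl φ u').left := inferInstanceAs (Mono (U.left.fromSpecResidueField u'))
    exact (Over.forget S).mono_of_mono_map this
  have hmono : Mono ρ := by
    refine ⟨fun {T} a b hab => ?_⟩
    have h1 : a ≫ y₁ = b ≫ y₁ := by
      rw [← cancel_mono (ptIncl φ u), Category.assoc, Category.assoc, ← hρs, ← Category.assoc,
        ← Category.assoc, hab]
    have h2 : a ≫ y₂ = b ≫ y₂ := by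
      rw [← cancel_mono (ptIncl φ u'), Category.assoc, Category.assoc, ← hρt, ← Category.assoc,
        ← Category.assoc, hab]
    apply (yon S).map_injective
    apply sqY.hom_ext
    · rw [← Functor.map_comp, ← Functor.map_comp, h1]
    · rw [← Functor.map_comp, ← Functor.map_comp, h2]
  have hmono' : Mono ρ.left := inferInstance
  refine ⟨ρ, hρs, hρt, ρ.left.injective, fun y => ⟨?_, ?_⟩⟩
  · have : s.left (ρ.left y) = (ρ ≫ s).left y := rfl
    rw [this, hρs]
    exact ptIncl_left_apply φ u _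
  · have : t.left (ρ.left y) = (ρ ≫ t).left y := rfl
    rw [this, hρt]
    exact ptIncl_left_apply φ u' _

/-- If the fibre of `R = U ×_X U` over a pair `(u, u')` of points of an etale chart with the same image `x` is finite,
then `x` is represented by a monomorphism from the spectrum of a field. -/
theorem exists_mono_fieldPt_of_finite_pairFibre {X : Sp S} (hX : IsAlgSpace X) {U : Over S}
    (φ : (yon S).obj U ⟶ X) (hφ : RepWith @Etale φ) (u u' : ↥U.left)
    (he : Points.ofPt φ u = Points.ofPt φ u')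
    (hfin : ∀ (R : Over S) (s t : R ⟶ U), IsPullback ((yon S).map t) ((yon S).map s) φ φ →
      {r : ↥R.left | s.left r = u ∧ t.left r = u'}.Finite) :
    ∃ p : FieldPt X, Points.mk p = Points.ofPt φ u ∧ Mono p.toHom := by
  -- the scheme `Y = Spec κ(u) ×_X Spec κ(u')`
  obtain ⟨Y, y₁, fst, sq0⟩ := (hX.representable_from_yon (FieldPt.ofPt φ u').toHom)
    (FieldPt.ofPt φ u).toHom
  obtain ⟨y₂, rfl⟩ := (yon S).map_surjective fst
  have sqY : IsPullback ((yon S).map y₁) ((yon S).map y₂) (FieldPt.ofPt φ u).toHom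
      (FieldPt.ofPt φ u').toHom := sq0.flip
  -- the kernel pair of the chart
  obtain ⟨R, s, fst, hR⟩ := hφ.1 φ
  obtain ⟨t, rfl⟩ := (yon S).map_surjective fst
  obtain ⟨ρ, -, -, hρinj, hρ⟩ := exists_injective_pairFibre φ u u' y₁ y₂ sqY s t hR
  have hF := hfin R s t hR
  have hYfin : Finite ↥Y.left := by
    have : Finite ↥{r : ↥R.left | s.left r = u ∧ t.left r = u'} := hF.to_subtype
    exact Finite.of_injective (fun y => (⟨ρ.left y, hρ y⟩ : {r : ↥R.left | s.left r = u ∧ t.left r = u'}))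
      (fun a b hab => hρinj (congrArg Subtype.val hab))
  have hYc : CompactSpace ↥Y.left := Finite.compactSpace
  have hl₁ : LocallyQuasiFinite y₁.left := locallyQuasiFinite_fst_of_pairFibre φ hφ u u' y₁ y₂ sqY
  have hl₂ : LocallyQuasiFinite y₂.left :=
    locallyQuasiFinite_fst_of_pairFibre φ hφ u' u y₂ y₁ sqY.flip
  have haff₁ : IsAffine (FieldPt.ofPt φ u).pt.left :=
    inferInstanceAs (IsAffine (Spec (CommRingCat.of (FieldPt.ofPt φ u).K)))
  have haff₂ : IsAffine (FieldPt.ofPt φ u').pt.left :=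
    inferInstanceAs (IsAffine (Spec (CommRingCat.of (FieldPt.ofPt φ u').K)))
  have hq₁ : QuasiCompact y₁.left := inferInstance
  have hq₂ : QuasiCompact y₂.left := inferInstance
  have hartZ : IsLocallyArtinian (FieldPt.ofPt φ u).pt.left :=
    inferInstanceAs (IsLocallyArtinian (Spec (CommRingCat.of (FieldPt.ofPt φ u).K)))
  have hartZ' : IsLocallyArtinian (FieldPt.ofPt φ u').pt.left :=
    inferInstanceAs (IsLocallyArtinian (Spec (CommRingCat.of (FieldPt.ofPt φ u').K)))
  have hf₁ : IsFinite y₁.left := IsFinite.of_locallyQuasiFinite y₁.left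
  have hf₂ : IsFinite y₂.left := IsFinite.of_locallyQuasiFinite y₂.left
  -- a point of `Y`
  let s₁ : ↥(FieldPt.ofPt φ u).pt.left :=
    (IsLocalRing.closedPoint (FieldPt.ofPt φ u).K : PrimeSpectrum (FieldPt.ofPt φ u).K)
  let s₂ : ↥(FieldPt.ofPt φ u').pt.left :=
    (IsLocalRing.closedPoint (FieldPt.ofPt φ u').K : PrimeSpectrum (FieldPt.ofPt φ u').K)
  have hpts : Points.ofPt (FieldPt.ofPt φ u).toHom s₁ = Points.ofPt (FieldPt.ofPt φ u').toHom s₂ := by
    rw [Points.ofPt_toHom, Points.ofPt_toHom]; exact he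
  obtain ⟨y₀, -, -⟩ := exists_of_ofPt_eq_ofPt sqY s₁ s₂ hpts
  -- the residue field point of `y₀`
  have hartY : IsLocallyArtinian Y.left := IsLocallyArtinian.of_locallyQuasiFinite y₁.left
  have hj₀ : IsClosedImmersion (Y.left.fromSpecResidueField y₀) :=
    IsClosedImmersion.of_isPreimmersion _ (isClosed_discrete _)
  let O'' : Over S := Over.mk (Y.left.fromSpecResidueField y₀ ≫ Y.hom)
  let J₀ : O'' ⟶ Y := Over.homMk (Y.left.fromSpecResidueField y₀) rfl
  let c₁ : O'' ⟶ (FieldPt.ofPt φ u).pt := J₀ ≫ y₁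
  let c₂ : O'' ⟶ (FieldPt.ofPt φ u').pt := J₀ ≫ y₂
  have hc₂ : IsFinite c₂.left := by
    change IsFinite (Y.left.fromSpecResidueField y₀ ≫ y₂.left)
    infer_instance
  have hz12 : (yon S).map c₂ ≫ (FieldPt.ofPt φ u').toHom =
      (yon S).map c₁ ≫ (FieldPt.ofPt φ u).toHom := by
    simp only [c₁, c₂, Functor.map_comp, Category.assoc]
    rw [sqY.w]
  -- the kernel pair of `z`
  have sq1 := (IsPullback.of_hasPullback c₁ y₁).map (yon S)
  have bot := sq1.flip.paste_horiz sqY.flip
  have sq2 := (IsPullback.of_hasPullback (pullback.snd c₁ y₁ ≫ y₂) c₂).map (yon S)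
  rw [Functor.map_comp] at sq2
  have big := sq2.flip.paste_vert bot
  rw [hz12, ← Functor.map_comp] at big
  let z : FieldPt X := fieldPtOfHom (Y.left.fromSpecResidueField y₀ ≫ Y.hom)
    ((yon S).map c₁ ≫ (FieldPt.ofPt φ u).toHom)
  have hzH : z.toHom = (yon S).map c₁ ≫ (FieldPt.ofPt φ u).toHom := fieldPtOfHom_toHom _ _
  rw [← hzH] at big
  have hA : IsFinite (pullback.fst c₁ y₁).left :=
    MorphismProperty.of_isPullback (P := @IsFinite)
      ((IsPullback.of_hasPullback c₁ y₁).map (Over.forget S)).flip hf₁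
  have hK : IsFinite (pullback.fst (pullback.snd c₁ y₁ ≫ y₂) c₂).left :=
    MorphismProperty.of_isPullback (P := @IsFinite)
      ((IsPullback.of_hasPullback (pullback.snd c₁ y₁ ≫ y₂) c₂).map (Over.forget S)).flip hc₂
  have hfinK : IsFinite (pullback.fst (pullback.snd c₁ y₁ ≫ y₂) c₂ ≫ pullback.fst c₁ y₁).left := by
    rw [Over.comp_left]; infer_instance
  obtain ⟨p, c, hm, hfac, -, hp⟩ := @exists_mono_fieldPt_of_finite _ _ z _
    (pullback.fst (pullback.snd c₁ y₁ ≫ y₂) c₂ ≫ pullback.fst c₁ y₁)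
    (pullback.snd (pullback.snd c₁ y₁ ≫ y₂) c₂) big hfinK
  refine ⟨p, hp.trans ?_, hm⟩
  exact (mk_eq_mk_of_factor (FieldPt.ofPt φ u) z c₁ hzH.symm).symm

end Groth.Agent.H52
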