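import Groth.Agent.H52.EtaleField
import Groth.Agent.H52.DecentField

/-!
# helper52: a quasi-compact monomorphism from a reduced scheme with closed discrete image is a closed immersion
-/

set_option autoImplicit false
universe u

open CategoryTheory CategoryTheory.Limits AlgebraicGeometry Opposite Topology TopologicalSpace

namespace Groth.Agent.H52

/-- The scheme-theoretic image of a quasi-compact morphism from a reduced scheme is reduced. -/
theorem isReduced_image {X Y : Scheme.{u}} (f : X ⟶ Y) [QuasiCompact f] [IsReduced X] :
    IsReduced f.image := by
  have h : ∀ U : Y.affineOpens, IsReduced (Spec (f.ker.subschemeCover.X U)) := by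
    intro U
    have : _root_.IsReduced (Γ(Y, U) ⧸ f.ker.ideal U) := by
      rw [Scheme.Hom.ker_apply]
      exact isReduced_of_injective (RingHom.kerLift (f.app U).hom) (RingHom.kerLift_injective _)
    exact inferInstanceAs (IsReduced (Spec (CommRingCat.of (Γ(Y, U) ⧸ f.ker.ideal U))))
  have h' : ∀ i, IsReduced (f.ker.subschemeCover.openCover.X i) := h
  exact IsReduced.of_openCover (X := f.image) f.ker.subschemeCover.openCover

/-- A quasi-compact monomorphism from a reduced scheme whose image is closed and discrete is a closed immersion. -/
theorem isClosedImmersion_of_mono_of_discrete_closed_range {W V : Scheme.{u}} (w : W ⟶ V) [Mono w]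
    [QuasiCompact w] [IsReduced W] (hcl : IsClosed (Set.range w))
    (hdisc : DiscreteTopology (Set.range w)) : IsClosedImmersion w := by
  have hZred : IsReduced w.image := isReduced_image w
  have hrange : Set.range w.imageι = Set.range w := by
    rw [Scheme.IdealSheafData.range_subschemeι, Scheme.Hom.support_ker, hcl.closure_eq]
  have hZdisc : DiscreteTopology ↥w.image := by
    have : DiscreteTopology (Set.range w.imageι) := by rw [hrange]; exact hdisc
    exact (w.imageι.isEmbedding.toHomeomorph).isEmbedding.discreteTopology
  have hsurj : Surjective w.toImage := by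
    refine ⟨fun z => ?_⟩
    have hz : w.imageι z ∈ Set.range w := by rw [← hrange]; exact ⟨z, rfl⟩
    obtain ⟨x, hx⟩ := hz
    refine ⟨x, w.imageι.isEmbedding.injective ?_⟩
    rw [← Scheme.Hom.comp_apply, w.toImage_imageι, hx]
  have hmono : Mono w.toImage := mono_of_mono_fac w.toImage_imageι
  have hflat : Flat w.toImage :=
    flat_of_isField_stalk _ (fun y => isField_stalk_of_discrete_reduced y)
  have : IsIso w.toImage := Flat.isIso_of_surjective_of_mono _
  rw [← w.toImage_imageι]
  infer_instance

end Groth.Agent.H52
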