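import Groth.Agent.H52.FQDecent
import Groth.Agent.H52.Residual
import Mathlib.AlgebraicGeometry.Morphisms.Integral

/-!
# helper52: points of decent spaces algebraic over closed points of the base are closed
-/

set_option autoImplicit false
universe u

open CategoryTheory CategoryTheory.Limits AlgebraicGeometry Opposite AlgSp Topology TopologicalSpace

namespace Groth.Agent.H52

variable {S : Scheme.{u}}

/-- A point of an affine etale chart lying over a field point which is integral over a closed point of the base is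
closed. -/
theorem isClosed_singleton_chart_of_integral {X : Sp S} (s : ↥S) (hs : IsClosed ({s} : Set ↥S))
    (k : Type u) [Field k] (φ : S.residueField s ⟶ CommRingCat.of k) (hφ : φ.hom.IsIntegral)
    (p : (yon S).obj (Over.mk (Spec.map φ ≫ S.fromSpecResidueField s)) ⟶ X)
    {V : Over S} [IsAffine V.left] (b : (yon S).obj V ⟶ X) (hb : RepWith @Etale b) (v : ↥V.left)
    (hv : Points.ofPt b v =
      Points.mk (fieldPtOfHom (Spec.map φ ≫ S.fromSpecResidueField s) p)) :
    IsClosed ({v} : Set ↥V.left) := by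
  obtain ⟨W, wk, fst, sqW⟩ := hb.1 p
  have hwk : Etale wk.left := hb.2 _ _ _ sqW
  obtain ⟨wV, rfl⟩ := (yon S).map_surjective fst
  have sq' : IsPullback ((yon S).map wk) ((yon S).map wV)
      (fieldPtOfHom (Spec.map φ ≫ S.fromSpecResidueField s) p).toHom b := by
    rw [fieldPtOfHom_toHom]; exact sqW.flip
  have hfib := fibre_eq_range_of_isPullback
    (fieldPtOfHom (Spec.map φ ≫ S.fromSpecResidueField s) p) b sq'
  have hvmem : v ∈ Points.ofPt b ⁻¹'
      {Points.mk (fieldPtOfHom (Spec.map φ ≫ S.fromSpecResidueField s) p)} := hv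
  rw [hfib] at hvmem
  obtain ⟨w, rfl⟩ := hvmem
  -- the discrete scheme `W`
  have hlqf : LocallyQuasiFinite wk.left := H50.locallyQuasiFinite_of_unramified wk.left
  have hartk : IsLocallyArtinian (Over.mk (Spec.map φ ≫ S.fromSpecResidueField s)).left :=
    inferInstanceAs (IsLocallyArtinian (Spec (CommRingCat.of k)))
  have hart : IsLocallyArtinian W.left := IsLocallyArtinian.of_locallyQuasiFinite wk.left
  have hci : IsClosedImmersion (W.left.fromSpecResidueField w) :=
    IsClosedImmersion.of_isPreimmersion _ (isClosed_discrete _)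
  have hl : LocallyQuasiFinite (W.left.fromSpecResidueField w ≫ wk.left) := inferInstance
  have hq : QuasiCompact (W.left.fromSpecResidueField w ≫ wk.left) :=
    quasiCompact_of_field (k := ↑(W.left.residueField w))
      (W.left.fromSpecResidueField w ≫ wk.left)
  have hfin : IsFinite (W.left.fromSpecResidueField w ≫ wk.left) :=
    IsFinite.of_locallyQuasiFinite _
  have hint1 : IsIntegralHom (Spec.map φ) := IsIntegralHom.SpecMap_iff.2 hφ
  have hci2 : IsClosedImmersion (S.fromSpecResidueField s) :=
    isClosed_singleton_iff_isClosedImmersion.1 hs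
  have hcomp : (W.left.fromSpecResidueField w ≫ wV.left) ≫ V.hom =
      (W.left.fromSpecResidueField w ≫ wk.left) ≫ Spec.map φ ≫ S.fromSpecResidueField s := by
    rw [Category.assoc, Category.assoc, Over.w wV]
    exact congrArg (W.left.fromSpecResidueField w ≫ ·) (Over.w wk).symm
  have hint : IsIntegralHom ((W.left.fromSpecResidueField w ≫ wV.left) ≫ V.hom) := by
    rw [hcomp]; infer_instance
  have hint' : IsIntegralHom (W.left.fromSpecResidueField w ≫ wV.left) :=
    IsIntegralHom.of_comp _ V.hom
  have hcl := (W.left.fromSpecResidueField w ≫ wV.left).isClosedMap.isClosed_range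
  convert hcl using 1
  ext y
  simp only [Set.mem_singleton_iff, Set.mem_range]
  constructor
  · rintro rfl
    exact ⟨IsLocalRing.closedPoint _, by
      rw [Scheme.Hom.comp_apply, Scheme.fromSpecResidueField_apply]⟩
  · rintro ⟨z, rfl⟩
    rw [Scheme.Hom.comp_apply, Scheme.fromSpecResidueField_apply]

/-- On a decent algebraic space, a point represented by a field valued point which is integral over a closed point of
the base is closed. -/
theorem isClosed_singleton_of_integral_over_closedPoint {X : Sp S} (hXa : IsAlgSpace X)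
    (hX : IsDecent X) (s : ↥S) (hs : IsClosed ({s} : Set ↥S)) (k : Type u) [Field k]
    (φ : S.residueField s ⟶ CommRingCat.of k) (hφ : φ.hom.IsIntegral)
    (p : (yon S).obj (Over.mk (Spec.map φ ≫ S.fromSpecResidueField s)) ⟶ X) :
    IsClosed ({Points.mk (fieldPtOfHom (Spec.map φ ≫ S.fromSpecResidueField s) p)} :
      Set (Points X)) := by
  obtain ⟨pd, hpd, hm, hqd⟩ :=
    hX (Points.mk (fieldPtOfHom (Spec.map φ ≫ S.fromSpecResidueField s) p))
  obtain ⟨U₀, a₀, hae, has⟩ := hXa.atlas
  rw [← isOpen_compl_iff]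
  have himg : ({Points.mk (fieldPtOfHom (Spec.map φ ≫ S.fromSpecResidueField s) p)} :
      Set (Points X))ᶜ = Points.ofPt a₀ '' (Points.ofPt a₀ ⁻¹'
        ({Points.mk (fieldPtOfHom (Spec.map φ ≫ S.fromSpecResidueField s) p)} :
          Set (Points X))ᶜ) :=
    (Set.image_preimage_eq _ (surjective_ofPt_of_surjective a₀ has)).symm
  rw [himg]
  refine isOpenMap_ofPt_of_etale a₀ hae _ ?_
  rw [isOpen_iff_forall_mem_open]
  intro u₀ hu₀
  obtain ⟨V, hV, v₀, hv₀, hVe, -⟩ := exists_affine_restriction a₀ hae u₀
  have hVaff : IsAffine (overOpen U₀ V).left := hV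
  have : CompactSpace ↥(overOpen U₀ V).left := inferInstance
  have hfin := finite_fibre_of_quasiCompact pd hqd ((yon S).map (overOpenHom U₀ V) ≫ a₀) hVe
  rw [hpd] at hfin
  have hclosed : IsClosed (Points.ofPt ((yon S).map (overOpenHom U₀ V) ≫ a₀) ⁻¹'
      {Points.mk (fieldPtOfHom (Spec.map φ ≫ S.fromSpecResidueField s) p)}) := by
    rw [← Set.biUnion_of_singleton (Points.ofPt ((yon S).map (overOpenHom U₀ V) ≫ a₀) ⁻¹'
      {Points.mk (fieldPtOfHom (Spec.map φ ≫ S.fromSpecResidueField s) p)})]
    refine hfin.isClosed_biUnion (fun v hv => ?_)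
    exact isClosed_singleton_chart_of_integral s hs k φ hφ p _ hVe v hv
  refine ⟨(overOpenHom U₀ V).left '' (Points.ofPt ((yon S).map (overOpenHom U₀ V) ≫ a₀) ⁻¹'
      {Points.mk (fieldPtOfHom (Spec.map φ ≫ S.fromSpecResidueField s) p)})ᶜ, ?_, ?_, ?_⟩
  · rintro _ ⟨v, hv, rfl⟩
    simp only [Set.mem_preimage, Set.mem_compl_iff, Set.mem_singleton_iff] at hv ⊢
    rwa [ofPt_yon_map_comp] at hv
  · have hoi : IsOpenImmersion (overOpenHom U₀ V).left :=
      inferInstanceAs (IsOpenImmersion (Scheme.Opens.ι V))
    exact (overOpenHom U₀ V).left.isOpenEmbedding.isOpenMap _ hclosed.isOpen_compl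
  · refine ⟨v₀, ?_, hv₀⟩
    simp only [Set.mem_preimage, Set.mem_compl_iff, Set.mem_singleton_iff] at hu₀ ⊢
    rwa [ofPt_yon_map_comp, hv₀]

end Groth.Agent.H52
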