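import Mathlib

/-!
# helper52: images of affine schemes in Noetherian affine schemes without internal specializations are finite
-/

set_option autoImplicit false
universe u

open CategoryTheory CategoryTheory.Limits AlgebraicGeometry Opposite Topology TopologicalSpace

namespace Groth.Agent.H52

/-- The image of `Spec B → Spec A` for Noetherian `A` is finite as soon as it lies in a set without nontrivial
internal specializations. -/
theorem finite_range_comap_of_no_specialization {A B : Type u} [CommRing A] [CommRing B]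
    [IsNoetherianRing A] (φ : A →+* B) (F : Set (PrimeSpectrum A))
    (hF : ∀ a ∈ F, ∀ b ∈ F, a ⤳ b → a = b)
    (hr : Set.range (PrimeSpectrum.comap φ) ⊆ F) : (Set.range (PrimeSpectrum.comap φ)).Finite := by
  have hfin : (RingHom.ker φ).minimalPrimes.Finite :=
    Ideal.finite_minimalPrimes_of_isNoetherianRing A _
  have hinj : Set.InjOn (PrimeSpectrum.asIdeal (R := A))
      (PrimeSpectrum.asIdeal ⁻¹' (RingHom.ker φ).minimalPrimes) :=
    fun a _ b _ hab => PrimeSpectrum.ext hab
  refine (hfin.preimage hinj).subset ?_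
  rintro _ ⟨y, rfl⟩
  have hx : RingHom.ker φ ≤ (PrimeSpectrum.comap φ y).asIdeal := by
    intro a ha
    change φ a ∈ y.asIdeal
    rw [RingHom.mem_ker.1 ha]
    exact zero_mem _
  obtain ⟨q, hq₁, hq₂⟩ := Ideal.exists_minimalPrimes_le hx
  obtain ⟨p', hp', -, hpq⟩ := Ideal.exists_comap_eq_of_mem_minimalPrimes φ (I := ⊥) q hq₁
  have hsp : PrimeSpectrum.comap φ ⟨p', hp'⟩ ⤳ PrimeSpectrum.comap φ y := by
    rw [← PrimeSpectrum.le_iff_specializes]
    change p'.comap φ ≤ _
    rw [hpq]
    exact hq₂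
  have heq := hF _ (hr ⟨_, rfl⟩) _ (hr ⟨_, rfl⟩) hsp
  change (PrimeSpectrum.comap φ y).asIdeal ∈ (RingHom.ker φ).minimalPrimes
  rw [← heq]
  change p'.comap φ ∈ _
  rw [hpq]
  exact hq₁

/-- The image of a morphism from an affine scheme to a Noetherian affine scheme is finite as soon as it lies in
a set without nontrivial internal specializations. -/
theorem finite_range_of_no_specialization {N U : Scheme.{u}} [IsAffine N] [IsAffine U]
    [IsLocallyNoetherian U] (h : N ⟶ U) (F : Set ↥U) (hF : ∀ a ∈ F, ∀ b ∈ F, a ⤳ b → a = b)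
    (hr : Set.range h ⊆ F) : (Set.range h).Finite := by
  have hA : IsNoetherianRing Γ(U, ⊤) :=
    IsLocallyNoetherian.component_noetherian ⟨⊤, isAffineOpen_top U⟩
  have hnat : N.isoSpec.hom ≫ Spec.map h.appTop = h ≫ U.isoSpec.hom :=
    Scheme.isoSpec_hom_naturality h
  let e : ↥U → PrimeSpectrum Γ(U, ⊤) := fun u => U.isoSpec.hom u
  have he_inj : Function.Injective e := U.isoSpec.hom.homeomorph.injective
  have he_spec : ∀ a b : ↥U, e a ⤳ e b → a ⤳ b := by
    intro a b hab
    exact (U.isoSpec.hom.homeomorph.isInducing.specializes_iff).1 hab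
  have hsub : e '' Set.range h ⊆ Set.range (PrimeSpectrum.comap h.appTop.hom) := by
    rintro _ ⟨_, ⟨n, rfl⟩, rfl⟩
    refine ⟨N.isoSpec.hom n, ?_⟩
    change (N.isoSpec.hom ≫ Spec.map h.appTop) n = (h ≫ U.isoSpec.hom) n
    rw [hnat]
  have hrange : Set.range (PrimeSpectrum.comap h.appTop.hom) ⊆ e '' F := by
    rintro _ ⟨y, rfl⟩
    obtain ⟨n, rfl⟩ := N.isoSpec.hom.homeomorph.surjective y
    refine ⟨h n, hr ⟨n, rfl⟩, ?_⟩
    change (h ≫ U.isoSpec.hom) n = (N.isoSpec.hom ≫ Spec.map h.appTop) n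
    rw [hnat]
  have hF' : ∀ a ∈ e '' F, ∀ b ∈ e '' F, a ⤳ b → a = b := by
    rintro _ ⟨a, ha, rfl⟩ _ ⟨b, hb, rfl⟩ hab
    rw [hF a ha b hb (he_spec a b hab)]
  have hfin := finite_range_comap_of_no_specialization h.appTop.hom (e '' F) hF' hrange
  exact (hfin.subset hsub).of_finite_image he_inj.injOn

end Groth.Agent.H52
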