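import Groth.Agent.H52.RedFactor
import Groth.Agent.H52.RedNoeth
import Groth.Agent.H52.NoethSpec

/-!
# helper52: morphisms from reduced spaces with one-point image into locally Noetherian spaces factor through
the residual space
-/

set_option autoImplicit false
universe u

open CategoryTheory CategoryTheory.Limits AlgebraicGeometry Opposite AlgSp Topology TopologicalSpace

namespace Groth.Agent.H52

variable {S : Scheme.{u}}

/-- A point with no proper generization inside a finite set has an open neighbourhood meeting the set at most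
in that point. -/
theorem exists_open_isolating_of_finite {T : Type*} [TopologicalSpace T] (E : Set T) (hE : E.Finite)
    (u : T) (hu : ∀ y ∈ E, y ⤳ u → y = u) :
    ∃ O : Opens T, u ∈ O ∧ ∀ u' ∈ O, u' ∈ E → u' = u := by
  have hEu : (E \ {u}).Finite := hE.subset Set.sdiff_subset
  refine ⟨⟨(closure (E \ {u}))ᶜ, isClosed_closure.isOpen_compl⟩, ?_, ?_⟩
  · change u ∉ closure (E \ {u})
    intro hmem
    have h1 : closure (E \ {u}) = ⋃ y ∈ E \ {u}, closure {y} := by
      conv_lhs => rw [← Set.biUnion_of_singleton (E \ {u})]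
      exact hEu.closure_biUnion _
    rw [h1] at hmem
    simp only [Set.mem_iUnion] at hmem
    obtain ⟨y, hy, hyu⟩ := hmem
    exact hy.2 (hu y hy.1 (specializes_iff_mem_closure.2 hyu))
  · intro u' hu' hx
    by_contra hne
    exact hu' (subset_closure ⟨hx, hne⟩)

/-- A field-valued point of `X` lying over the unique point of the image of a monomorphism `Z ⟶ X` of algebraic
spaces factors through `Z`. -/
theorem exists_factor_field_of_mono {X Z : Sp S} (hX : IsAlgSpace X) (hZ : IsAlgSpace Z)
    (i : Z ⟶ X) [Mono i] {K : Type u} [Field K] (str : Spec (CommRingCat.of K) ⟶ S)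
    (t : (yon S).obj (Over.mk str) ⟶ X) (y : Points ((yon S).obj (Over.mk str)))
    (hy : Points.map t y ∈ Set.range (Points.map i)) :
    ∃ t' : (yon S).obj (Over.mk str) ⟶ Z, t' ≫ i = t := by
  obtain ⟨z, hz⟩ := hy
  have sq := IsPullback.of_hasPullback t i
  have hP : IsAlgSpace (pullback t i) :=
    isAlgSpace_of_isPullback sq hX.diag (IsAlgSpace.yon_obj _) hZ
  obtain ⟨w, -, -⟩ := exists_point_of_isPullback sq y z hz.symm
  have : IsIso (pullback.fst t i) := isIso_of_mono_to_field str hP (pullback.fst t i) ⟨w⟩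
  exact ⟨inv (pullback.fst t i) ≫ pullback.snd t i, by
    rw [Category.assoc, ← pullback.condition, IsIso.inv_hom_id_assoc]⟩

/-- A section of a locally Noetherian algebraic space `X` over a reduced scheme all of whose points map to `x`
factors through any monomorphism `Z ⟶ X` of algebraic spaces whose image contains `x`. -/
theorem exists_factor_of_reduced_scheme_locNoeth {X Z : Sp S} (hX : IsAlgSpace X)
    (hN : IsLocNoethSp X) (hZ : IsAlgSpace Z) (x : Points X) (i : Z ⟶ X) [Mono i]
    (hi : x ∈ Set.range (Points.map i)) {V : Over S} [IsReduced V.left]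
    (c : (yon S).obj V ⟶ X) (hc : ∀ v : V.left, Points.ofPt c v = x) :
    ∃ g : (yon S).obj V ⟶ Z, g ≫ i = c := by
  obtain ⟨U, a, u₀, hU, hae, hu₀⟩ := exists_affine_chart_at hX x
  have := hU
  have hUN : IsLocallyNoetherian U.left := isLocallyNoetherian_chart hN a hae
  obtain ⟨V', ψ, fst, sq⟩ := hae.1 c
  obtain ⟨h, rfl⟩ := (yon S).map_surjective fst
  have hψe : Etale ψ.left := hae.2 _ _ _ sq
  have hV'red : IsReduced V'.left := Groth.Agent.H51.isReduced_of_smooth ψ.left
  let F : Set ↥U.left := Points.ofPt a ⁻¹' {x}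
  have hFspec : ∀ u ∈ F, ∀ u' ∈ F, u ⤳ u' → u = u' := by
    intro u hu u' hu' hs
    exact (eq_of_specializes_of_isLocNoethSp hN a hae u' u (hu'.trans hu.symm) hs).symm
  have hF : ∀ v' : V'.left, h.left v' ∈ F := by
    intro v'
    change Points.ofPt a (h.left v') = x
    rw [← ofPt_yon_map_comp, sq.w, ofPt_yon_map_comp, hc]
  have key : ∀ v' : V'.left, ∃ N : V'.left.Opens, v' ∈ N ∧
      ∀ n ∈ N, h.left n = h.left v' := by
    intro v'
    obtain ⟨_, ⟨(N₀ : V'.left.Opens), hN₀, rfl⟩, hvN₀, -⟩ :=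
      V'.left.isBasis_affineOpens.exists_subset_of_mem_open (Set.mem_univ v') isOpen_univ
    have : IsAffine (N₀ : Scheme.{u}) := hN₀
    have hfin : (Set.range (N₀.ι ≫ h.left)).Finite :=
      finite_range_of_no_specialization (N₀.ι ≫ h.left) F hFspec (by
        rintro _ ⟨n, rfl⟩
        exact hF _)
    obtain ⟨O, hOmem, hOiso⟩ := exists_open_isolating_of_finite _ hfin (h.left v')
      (fun y hy hs => hFspec y (by obtain ⟨n, rfl⟩ := hy; exact hF _) _ (hF v') hs)
    refine ⟨N₀ ⊓ h.left ⁻¹ᵁ O, ⟨hvN₀, hOmem⟩, ?_⟩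
    rintro n ⟨hn₀, hnO⟩
    exact hOiso _ hnO ⟨⟨n, hn₀⟩, rfl⟩
  choose N hNmem hNconst' using key
  refine exists_factor_of_fppf_family i c (fun v' : V'.left => overOpen V' (N v'))
    (fun v' => overOpenHom V' (N v') ≫ ψ) ?_ ?_ ?_ ?_
  · intro τ
    obtain ⟨v', -, hv'⟩ := exists_of_ofPt_eq_ofPt sq u₀ τ (hu₀.trans (hc τ).symm)
    exact ⟨v', ⟨v', hNmem v'⟩, hv'⟩
  · intro v'
    change Flat ((N v').ι ≫ ψ.left)
    infer_instance
  · intro v'
    change LocallyOfFinitePresentation ((N v').ι ≫ ψ.left)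
    infer_instance
  · intro v'
    let Nv : V'.left.Opens := N v'
    let hNv : (Nv : Scheme.{u}) ⟶ U.left := Nv.ι ≫ h.left
    have hNconst : ∀ n : ↥(Nv : Scheme.{u}), hNv n = h.left v' := fun n => hNconst' v' _ n.2
    obtain ⟨K, _, e, g, hge⟩ := exists_factor_field_of_reduced_of_const (hNv ≫ U.left.isoSpec.hom)
      (U.left.isoSpec.hom (h.left v')) (fun n => by rw [Scheme.Hom.comp_apply, hNconst])
    let e' : Spec (CommRingCat.of K) ⟶ U.left := e ≫ U.left.isoSpec.inv
    have hge' : g ≫ e' = hNv := by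
      rw [← Category.assoc, hge, Category.assoc, Iso.hom_inv_id, Category.comp_id]
    let str : Spec (CommRingCat.of K) ⟶ S := e' ≫ U.hom
    let eO : Over.mk str ⟶ U := Over.homMk e' rfl
    let gO : overOpen V' Nv ⟶ Over.mk str := Over.homMk g (by
      change g ≫ e' ≫ U.hom = Nv.ι ≫ V'.hom
      rw [← Category.assoc, hge', Category.assoc, Over.w h])
    let n₀ : ↥(Nv : Scheme.{u}) := ⟨v', hNmem v'⟩
    have h2 : e' (g n₀) = h.left v' := by rw [← Scheme.Hom.comp_apply, hge', hNconst]
    have hpt : Points.map ((yon S).map eO ≫ a) (Points.ofScheme (Over.mk str) (g n₀)) = x := by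
      rw [← Points.ofPt_eq_map_ofScheme]
      refine (ofPt_yon_map_comp eO a (g n₀)).trans ?_
      change Points.ofPt a (e' (g n₀)) = _
      rw [h2]
      exact hF v'
    obtain ⟨t', ht'⟩ := exists_factor_field_of_mono hX hZ i str ((yon S).map eO ≫ a)
      (Points.ofScheme (Over.mk str) (g n₀)) (by rw [hpt]; exact hi)
    have h4 : gO ≫ eO = overOpenHom V' Nv ≫ h := by
      ext
      exact hge'
    refine ⟨(yon S).map gO ≫ t', ?_⟩
    calc ((yon S).map gO ≫ t') ≫ i
        = (yon S).map gO ≫ ((yon S).map eO ≫ a) := by rw [Category.assoc, ht']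
      _ = (yon S).map (gO ≫ eO) ≫ a := by rw [Functor.map_comp, Category.assoc]
      _ = (yon S).map (overOpenHom V' Nv ≫ h) ≫ a := by rw [h4]
      _ = (yon S).map (overOpenHom V' Nv) ≫ ((yon S).map h ≫ a) := by
        rw [Functor.map_comp, Category.assoc]
      _ = (yon S).map (overOpenHom V' Nv) ≫ ((yon S).map ψ ≫ c) := by rw [sq.w]
      _ = (yon S).map (overOpenHom V' (N v') ≫ ψ) ≫ c := by rw [Functor.map_comp, Category.assoc]

end Groth.Agent.H52
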