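import Groth.Agent.H52.ClosedImm
import Groth.Agent.H52.RedResidual
import Groth.Agent.H52.DescCI
import Groth.Agent.H52.FQFibres

/-!
# helper52: closed points of decent spaces are represented by closed immersions
-/

set_option autoImplicit false
universe u

open CategoryTheory CategoryTheory.Limits AlgebraicGeometry Opposite AlgSp Topology TopologicalSpace

namespace Groth.Agent.H52

variable {S : Scheme.{u}}

/-- The fibres of etale charts of a decent space are discrete. -/
theorem discreteTopology_fibre_of_isDecent {X : Sp S} (hX : IsDecent X) (x : Points X) {V : Over S}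
    (b : (yon S).obj V ⟶ X) (hb : RepWith @Etale b) :
    DiscreteTopology ↥(Points.ofPt b ⁻¹' {x}) := by
  rw [discreteTopology_subtype_iff']
  intro v hv
  obtain ⟨_, ⟨(O : V.left.Opens), hO, rfl⟩, hvO, -⟩ :=
    V.left.isBasis_affineOpens.exists_subset_of_mem_open (Set.mem_univ v) isOpen_univ
  have hb' : RepWith @Etale ((yon S).map (overOpenHom V O) ≫ b) :=
    repWith_yon_map_comp @Etale _ (show Etale (Scheme.Opens.ι O) from inferInstance) b hb
  have hfin' := finite_fibre_of_isDecent hX x (overOpen V O) _
    (show IsAffine (O : Scheme.{u}) from hO) hb'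
  let E : Set ↥V.left := O.ι '' (Points.ofPt ((yon S).map (overOpenHom V O) ≫ b) ⁻¹' {x})
  have hE : E.Finite := hfin'.image _
  have hEF : ∀ y ∈ E, Points.ofPt b y = x := by
    rintro _ ⟨y, hy, rfl⟩
    rw [← hy]
    exact (ofPt_yon_map_comp (overOpenHom V O) b y).symm
  obtain ⟨O', hvO', hO'⟩ := exists_open_isolating_of_finite E hE v (fun y hy hs =>
    (eq_of_specializes_of_isDecent hX b hb v y (hv.trans (hEF y hy).symm) hs).symm)
  refine ⟨(O ⊓ O' : V.left.Opens), (O ⊓ O').isOpen, ?_⟩
  ext u
  simp only [Set.mem_inter_iff, Set.mem_singleton_iff]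
  constructor
  · rintro ⟨⟨huO, huO'⟩, huF⟩
    refine hO' u huO' ⟨⟨u, huO⟩, ?_, rfl⟩
    change Points.ofPt _ _ = x
    rw [ofPt_yon_map_comp]
    exact huF
  · rintro rfl
    exact ⟨⟨hvO, hvO'⟩, hv⟩

/-- A monomorphic, representable quasi-compact field point of a decent space lying over a closed point is a
closed immersion. -/
theorem repWith_isClosedImmersion_of_isClosed {X : Sp S} (hXa : IsAlgSpace X) (hX : IsDecent X)
    (p : FieldPt X) (hm : Mono p.toHom) (hq : RepWith @QuasiCompact p.toHom)
    (hx : IsClosed ({Points.mk p} : Set (Points X))) : RepWith @IsClosedImmersion p.toHom := by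
  have := hm
  obtain ⟨V, b, hbe, hbs⟩ := hXa.atlas
  obtain ⟨W, w, fst, sq⟩ := hq.1 b
  have hwq : QuasiCompact w.left := hq.2 _ _ _ sq
  obtain ⟨φ, rfl⟩ := (yon S).map_surjective fst
  have hφ : Etale φ.left := hbe.2 _ _ _ sq.flip
  have hWred : IsReduced W.left := isReduced_of_etale_field (k := p.K) φ.left
  have hwm : Mono w.left := mono_left_of_isPullback_of_mono sq
  have hrange : Set.range w.left = Points.ofPt b ⁻¹' {Points.mk p} :=
    (fibre_eq_range_of_isPullback p b sq).symm
  have hcl : IsClosed (Set.range w.left) := by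
    rw [hrange]
    exact hx.preimage (Points.continuous_ofPt b)
  have hdisc : DiscreteTopology (Set.range w.left) := by
    rw [hrange]
    exact discreteTopology_fibre_of_isDecent hX _ b hbe
  have hci : IsClosedImmersion w.left :=
    isClosedImmersion_of_mono_of_discrete_closed_range w.left hcl hdisc
  exact H50.repWith_of_isPullback_atlas isClosedImmersion_descendsAlong_fppf hq.1 hbe hbs sq
    ((repWith_yon_map_iff @IsClosedImmersion w).2 hci)

end Groth.Agent.H52
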