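import Groth.Agent.H17.ProCons

/-!
# helper52: descent of constructibility along surjective spectral maps (via the constructible topology)
-/

set_option autoImplicit false
open Topology Set

namespace Groth.Agent.H52

variable {A B : Type*} [TopologicalSpace A] [TopologicalSpace B]

/-- A spectral map is continuous for the constructible topologies. -/
theorem continuous_constructibleTopology {f : A → B} (hf : Continuous f)
    (hspec : ∀ V : Set B, IsOpen V → IsCompact V → IsCompact (f ⁻¹' V)) :
    Continuous[constructibleTopology A, constructibleTopology B] f := by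
  rw [continuous_generateFrom_iff]
  rintro s (⟨hso, hsc⟩ | ⟨hscl, hsc⟩)
  · exact (hspec s hso hsc).isOpen_constructibleTopology_of_isOpen (hso.preimage hf)
  · apply IsCompact.isOpen_constructibleTopology_of_isClosed
    · rw [← preimage_compl]
      exact hspec _ hscl.isOpen_compl hsc
    · exact hscl.preimage hf

/-- In a T0 prespectral quasi-separated space two distinct points are separated by a constructible set which is
clopen in the constructible topology. -/
theorem exists_isConstructible_separating [T0Space B] [PrespectralSpace B] [QuasiSeparatedSpace B]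
    {x y : B} (hxy : x ≠ y) :
    ∃ C : Set B, IsConstructible C ∧ IsOpen[constructibleTopology B] C ∧
      IsOpen[constructibleTopology B] Cᶜ ∧ x ∈ C ∧ y ∉ C := by
  have key : ∀ (a b : B) (O : Set B), IsOpen O → a ∈ O → b ∉ O →
      ∃ V : Set B, IsOpen V ∧ IsCompact V ∧ a ∈ V ∧ b ∉ V := by
    intro a b O hO ha hb
    obtain ⟨V, ⟨hVo, hVc⟩, haV, hVO⟩ :=
      (PrespectralSpace.isTopologicalBasis (X := B)).exists_subset_of_mem_open ha hO
    exact ⟨V, hVo, hVc, haV, fun h => hb (hVO h)⟩
  obtain ⟨O, hO, hx⟩ := exists_isOpen_xor_mem hxy
  rcases hx with ⟨hxO, hyO⟩ | ⟨hyO, hxO⟩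
  · obtain ⟨V, hVo, hVc, hxV, hyV⟩ := key x y O hO hxO hyO
    refine ⟨V, hVc.isConstructible hVo, hVc.isOpen_constructibleTopology_of_isOpen hVo, ?_, hxV, hyV⟩
    apply IsCompact.isOpen_constructibleTopology_of_isClosed
    · rw [compl_compl]; exact hVc
    · exact hVo.isClosed_compl
  · obtain ⟨V, hVo, hVc, hyV, hxV⟩ := key y x O hO hyO hxO
    refine ⟨Vᶜ, (hVc.isConstructible hVo).compl, ?_, ?_, hxV, fun h => h hyV⟩
    · apply IsCompact.isOpen_constructibleTopology_of_isClosed
      · rw [compl_compl]; exact hVc
      · exact hVo.isClosed_compl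
    · rw [compl_compl]
      exact hVc.isOpen_constructibleTopology_of_isOpen hVo

/-- A subset of a T0 prespectral quasi-separated space which is compact together with its complement for the
constructible topology is constructible. -/
theorem isConstructible_of_isCompact_constructibleTopology [T0Space B] [PrespectralSpace B]
    [QuasiSeparatedSpace B] {E : Set B} (hE : @IsCompact B (constructibleTopology B) E)
    (hEc : @IsCompact B (constructibleTopology B) Eᶜ) : IsConstructible E := by
  -- for every `x ∈ E` a constructible, cons-open `D ∋ x` contained in `E`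
  have step : ∀ x ∈ E, ∃ D : Set B, IsConstructible D ∧ IsOpen[constructibleTopology B] D ∧
      x ∈ D ∧ D ⊆ E := by
    intro x hx
    have hsep : ∀ y : ↥Eᶜ, ∃ C : Set B, IsConstructible C ∧ IsOpen[constructibleTopology B] C ∧
        IsOpen[constructibleTopology B] Cᶜ ∧ x ∈ C ∧ y.1 ∉ C := fun y =>
      exists_isConstructible_separating (fun h => y.2 (h ▸ hx))
    choose C hC hCo hCco hxC hyC using hsep
    obtain ⟨F, hF⟩ := @IsCompact.elim_finite_subcover B (constructibleTopology B) Eᶜ _ hEc
      (fun y => (C y)ᶜ) hCco (fun y hy => mem_iUnion.2 ⟨⟨y, hy⟩, hyC ⟨y, hy⟩⟩)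
    refine ⟨⋂ y ∈ F, C y, IsConstructible.biInter F.finite_toSet (fun y _ => hC y), ?_, ?_, ?_⟩
    · exact @Set.Finite.isOpen_biInter B _ (constructibleTopology B) _ _ F.finite_toSet
        (fun y _ => hCo y)
    · exact mem_iInter₂.2 (fun y _ => hxC y)
    · intro z hz
      by_contra hzE
      have := hF hzE
      simp only [mem_iUnion] at this
      obtain ⟨y, hyF, hzy⟩ := this
      exact hzy (mem_iInter₂.1 hz y hyF)
  choose D hD hDo hxD hDE using step
  obtain ⟨F, hF⟩ := @IsCompact.elim_finite_subcover B (constructibleTopology B) E _ hE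
    (fun x : ↥E => D x.1 x.2) (fun x => hDo x.1 x.2)
    (fun x hx => mem_iUnion.2 ⟨⟨x, hx⟩, hxD x hx⟩)
  have heq : E = ⋃ x ∈ F, D x.1 x.2 := by
    apply Subset.antisymm
    · intro z hz
      have := hF hz
      simp only [mem_iUnion] at this ⊢
      exact this
    · intro z hz
      simp only [mem_iUnion] at hz
      obtain ⟨x, _, hzx⟩ := hz
      exact hDE x.1 x.2 hzx
  rw [heq]
  exact IsConstructible.biUnion F.finite_toSet (fun x _ => hD x.1 x.2)

/-- Constructibility descends along a surjective spectral map of spectral spaces. -/
theorem isConstructible_of_preimage_of_spectral_surjective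
    [CompactSpace A] [QuasiSober A] [PrespectralSpace A] [QuasiSeparatedSpace A]
    [T0Space B] [PrespectralSpace B] [QuasiSeparatedSpace B] {f : A → B} (hf : Continuous f)
    (hsurj : Function.Surjective f)
    (hspec : ∀ V : Set B, IsOpen V → IsCompact V → IsCompact (f ⁻¹' V))
    {E : Set B} (hE : IsConstructible (f ⁻¹' E)) : IsConstructible E := by
  have hcont := continuous_constructibleTopology hf hspec
  have hcA : @CompactSpace A (constructibleTopology A) := H17.compactSpace_constructibleTopology
  have hcl := H17.isClopen_constructibleTopology_of_isConstructible hE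
  have h1 : @IsCompact A (constructibleTopology A) (f ⁻¹' E) :=
    @IsClosed.isCompact A (constructibleTopology A) _ hcA (H17.gen_isClosed_of_compl _ hcl.2)
  have h2 : @IsCompact A (constructibleTopology A) (f ⁻¹' E)ᶜ :=
    @IsClosed.isCompact A (constructibleTopology A) _ hcA
      (H17.gen_isClosed_of_compl _ (by rw [compl_compl]; exact hcl.1))
  have h1' := @IsCompact.image A B (constructibleTopology A) (constructibleTopology B) _ f h1 hcont
  have h2' := @IsCompact.image A B (constructibleTopology A) (constructibleTopology B) _ f h2 hcont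
  rw [image_preimage_eq _ hsurj] at h1'
  rw [← preimage_compl, image_preimage_eq _ hsurj] at h2'
  exact isConstructible_of_isCompact_constructibleTopology h1' h2'

end Groth.Agent.H52
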