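import Groth.Agent.H52.Sober
import Groth.Agent.H52.DescCI
import Groth.Agent.H50.OpenSubChart
import Groth.Agent.S10182

/-!
# helper52: Zariski locally quasi-separated algebraic spaces and quasi-compact affine charts
-/

set_option autoImplicit false
universe u

open CategoryTheory CategoryTheory.Limits AlgebraicGeometry Opposite AlgSp Topology TopologicalSpace

namespace Groth.Agent.H52

variable {S : Scheme.{u}}

/-- Every point of a quasi-separated algebraic space has an open neighbourhood admitting a quasi-compact etale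
surjective chart from an affine scheme. -/
theorem exists_qc_chart_openSub {Xi : Sp S} (hXi : IsAlgSpace Xi) (hqs : IsQuasiSeparatedSp Xi)
    (x : Points Xi) :
    ∃ (W : Set (Points Xi)) (_ : IsOpen W) (U : Over S) (p : (yon S).obj U ⟶ H50.openSub Xi W),
      x ∈ W ∧ IsAffine U.left ∧ RepWith @QuasiCompact p ∧ RepWith @Etale p ∧
        RepWith @Surjective p := by
  obtain ⟨U, a, u, hU, hae, hu, hc⟩ := exists_affine_chart_at_compact_prod hXi x
  have hUa : IsAffine U.left := hU
  have hW : IsOpen (Set.range (Points.ofPt a)) := (isOpenMap_ofPt_of_etale a hae).isOpen_range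
  obtain ⟨a₁, ha₁⟩ :=
    (H50.factors_openSubι_iff Xi (Set.range (Points.ofPt a)) a).2 (fun t => ⟨t, rfl⟩)
  have ha₁e : RepWith @Etale a₁ := H50.repWith_of_comp_mono a₁ _ (by rw [ha₁]; exact hae)
  have ha₁s : RepWith @Surjective a₁ :=
    H50.repWith_surjective_of_comp_openSubι a₁ ha₁e.1 (by rw [ha₁])
  refine ⟨_, hW, U, a₁, ⟨u, hu⟩, hU, ?_, ha₁e, ha₁s⟩
  obtain ⟨R, t', fst, sq⟩ := ha₁e.1 a₁
  obtain ⟨s', rfl⟩ := (yon S).map_surjective fst
  have sq' := isPullback_comp_mono sq (H50.openSubι Xi (Set.range (Points.ofPt a)))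
  rw [ha₁] at sq'
  have hqc : QuasiCompact t'.left := quasiCompact_kernelPair_of_compact_prod hqs a t' s' sq'
  exact H50.repWith_of_isPullback_atlas quasiCompact_descendsAlong_fppf ha₁e.1 ha₁e ha₁s sq
    ((repWith_yon_map_iff _ t').2 hqc)

/-- A Zariski covering by quasi-separated open subspaces can be refined to one by open subspaces with quasi-compact
etale surjective affine charts. -/
theorem exists_zarCover_qc_charts {X : Sp S} {ι : Type u} (Xi : ι → Sp S)
    (hXi : ∀ i, IsAlgSpace (Xi i)) (j : ∀ i, Xi i ⟶ X) (hj : IsZarCover Xi j)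
    (hqs : ∀ i, IsQuasiSeparatedSp (Xi i)) :
    ∃ (ι' : Type u) (Xi' : ι' → Sp S) (_ : ∀ k, IsAlgSpace (Xi' k)) (j' : ∀ k, Xi' k ⟶ X),
      IsZarCover Xi' j' ∧ ∀ k, ∃ (U : Over S) (p : (yon S).obj U ⟶ Xi' k), IsAffine U.left ∧
        RepWith @QuasiCompact p ∧ RepWith @Etale p ∧ RepWith @Surjective p := by
  have hat : ∀ i, ∃ (U : Over S) (p : (yon S).obj U ⟶ Xi i),
      RepWith @Etale p ∧ RepWith @Surjective p := fun i => (hXi i).atlas
  choose At pAt hpe hps using hat
  have key : ∀ k : (Σ i, ↥(At i).left), ∃ (W : Set (Points (Xi k.1))) (_ : IsOpen W) (U : Over S)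
      (p : (yon S).obj U ⟶ H50.openSub (Xi k.1) W), Points.ofPt (pAt k.1) k.2 ∈ W ∧
      IsAffine U.left ∧ RepWith @QuasiCompact p ∧ RepWith @Etale p ∧ RepWith @Surjective p :=
    fun k => exists_qc_chart_openSub (hXi k.1) (hqs k.1) _
  choose W hW U p hmem hU hpq hpe' hps' using key
  have h4 := AlgSp.repWith_isMultiplicative (S := S) @IsOpenImmersion
  refine ⟨Σ i, ↥(At i).left, fun k => H50.openSub (Xi k.1) (W k),
    fun k => H50.isAlgSpace_openSub (hW k) (hXi k.1),
    fun k => H50.openSubι (Xi k.1) (W k) ≫ j k.1, ⟨?_, ?_⟩,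
    fun k => ⟨U k, p k, hU k, hpq k, hpe' k, hps' k⟩⟩
  · intro k
    exact (RepWith @IsOpenImmersion).comp_mem _ _ (H50.repWith_isOpenImmersion_openSubι (hW k))
      (hj.1 k.1)
  · intro x
    obtain ⟨i, xi, rfl⟩ := hj.2 x
    obtain ⟨u₀, rfl⟩ := surjective_ofPt_of_surjective (pAt i) (hps i) xi
    refine ⟨⟨i, u₀⟩, ?_⟩
    have hmem' : Points.ofPt (pAt i) u₀ ∈
        Set.range (Points.map (H50.openSubι (Xi i) (W ⟨i, u₀⟩))) := by
      rw [H50.range_map_openSubι]; exact hmem ⟨i, u₀⟩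
    obtain ⟨z, hz⟩ := hmem'
    exact ⟨z, by rw [Points.map_comp, hz]⟩

/-- An algebraic space with a quasi-compact etale surjective chart from an affine scheme is quasi-separated. -/
theorem isQuasiSeparatedSp_of_qc_chart {Xi : Sp S} (hXi : IsAlgSpace Xi) {U : Over S}
    (hU : IsAffine U.left) (p : (yon S).obj U ⟶ Xi) (hpq : RepWith @QuasiCompact p)
    (hpe : RepWith @Etale p) (hps : RepWith @Surjective p) : IsQuasiSeparatedSp Xi := by
  have := hU
  obtain ⟨R, t, fst, sq⟩ := hpe.1 p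
  obtain ⟨s, rfl⟩ := (yon S).map_surjective fst
  have hqs : QuasiCompact s.left := hpq.2 _ _ _ sq.flip
  exact Groth.Agent.S10182.result ⟨Xi, hXi⟩ p hpe hps t s sq

end Groth.Agent.H52
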