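import Groth.Agent.H52.ConsDescent
import Groth.Agent.H52.ZarQs
import Groth.Agent.H50.Constructible

/-!
# helper52: constructible sets of points of quasi-separated algebraic spaces and etale charts
-/

set_option autoImplicit false
universe u

open CategoryTheory CategoryTheory.Limits AlgebraicGeometry Opposite AlgSp Topology TopologicalSpace

namespace Groth.Agent.H52

variable {S : Scheme.{u}}

/-- The inclusion of an open subspace is an open embedding on points. -/
theorem isOpenEmbedding_map_openSubι {X : Sp S} (hX : IsAlgSpace X) {W : Set (Points X)}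
    (hW : IsOpen W) : IsOpenEmbedding (Points.map (H50.openSubι X W)) := by
  have hY := H50.isAlgSpace_openSub hW hX
  obtain ⟨U, p, hpe, hps⟩ := hY.atlas
  have hje : RepWith @Etale (H50.openSubι X W) :=
    H50.repWith_mono (fun _ _ g hg => by have : IsOpenImmersion g := hg; infer_instance)
      (H50.repWith_isOpenImmersion_openSubι hW)
  have h1 := AlgSp.repWith_isMultiplicative (S := S) @Etale
  have hc : RepWith @Etale (p ≫ H50.openSubι X W) := (RepWith @Etale).comp_mem _ _ hpe hje
  refine IsOpenEmbedding.of_continuous_injective_isOpenMap (Points.continuous_map _)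
    (H50.injective_map_of_mono _) ?_
  intro V hV
  have heq : Points.map (H50.openSubι X W) '' V =
      Points.ofPt (p ≫ H50.openSubι X W) '' (Points.ofPt p ⁻¹' V) := by
    ext x
    constructor
    · rintro ⟨y, hy, rfl⟩
      obtain ⟨u, rfl⟩ := surjective_ofPt_of_surjective p hps y
      exact ⟨u, hy, (Points.map_ofPt _ _ _).symm⟩
    · rintro ⟨u, hu, rfl⟩
      exact ⟨Points.ofPt p u, hu, Points.map_ofPt _ _ _⟩
  rw [heq]
  exact isOpenMap_ofPt_of_etale _ hc _ (hV.preimage (Points.continuous_ofPt p))

/-- A quasi-compact etale surjective chart induces a spectral map on points. -/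
theorem isCompact_preimage_ofPt_of_qc_chart {Y : Sp S} {U : Over S} (p : (yon S).obj U ⟶ Y)
    (hpq : RepWith @QuasiCompact p) (hpe : RepWith @Etale p) (hps : RepWith @Surjective p)
    (O : Set (Points Y)) (hOo : IsOpen O) (hOc : IsCompact O) :
    IsCompact (Points.ofPt p ⁻¹' O) := by
  have hsurj := surjective_ofPt_of_surjective p hps
  have hcont := Points.continuous_ofPt p
  have hopen := isOpenMap_ofPt_of_etale p hpe
  obtain ⟨R, t', fst, sq⟩ := hpe.1 p
  obtain ⟨s', rfl⟩ := (yon S).map_surjective fst
  have hqc' : QuasiCompact t'.left := hpq.2 _ _ _ sq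
  have hpreo : IsOpen (Points.ofPt p ⁻¹' O) := hOo.preimage hcont
  have hB : ∀ v : ↥(Points.ofPt p ⁻¹' O), ∃ B : Set ↥U.left, IsOpen B ∧ IsCompact B ∧
      v.1 ∈ B ∧ B ⊆ Points.ofPt p ⁻¹' O := fun v => by
    obtain ⟨B, ⟨hBo, hBc⟩, hvB, hBsub⟩ :=
      (PrespectralSpace.isTopologicalBasis (X := ↥U.left)).exists_subset_of_mem_open v.2 hpreo
    exact ⟨B, hBo, hBc, hvB, hBsub⟩
  choose B hBo hBc hvB hBsub using hB
  obtain ⟨F, hF⟩ := hOc.elim_finite_subcover (fun v => Points.ofPt p '' B v)
    (fun v => hopen _ (hBo v)) (by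
      intro x hx
      obtain ⟨v, rfl⟩ := hsurj x
      exact Set.mem_iUnion.2 ⟨⟨v, hx⟩, v, hvB _, rfl⟩)
  have heq : Points.ofPt p ⁻¹' O =
      ⋃ v ∈ F, Points.ofPt p ⁻¹' (Points.ofPt p '' B v) := by
    apply Set.Subset.antisymm
    · intro v hv
      have := hF hv
      simp only [Set.mem_iUnion] at this ⊢
      obtain ⟨w, hwF, h⟩ := this
      exact ⟨w, hwF, h⟩
    · intro v hv
      simp only [Set.mem_iUnion] at hv
      obtain ⟨w, hwF, b, hb, hbe⟩ := hv
      change Points.ofPt p v ∈ O
      rw [← hbe]
      exact hBsub w hb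
  rw [heq]
  exact F.isCompact_biUnion
    (fun v _ => isCompact_preimage_image_ofPt p t' s' sq _ (hBo v) (hBc v))

/-- On an algebraic space with a quasi-compact etale surjective chart from an affine scheme over a quasi-separated
base, a set of points is constructible as soon as its preimage in the chart is. -/
theorem isConstructible_iff_preimage_ofPt_of_qc_chart [QuasiSeparatedSpace ↥S] {Y : Sp S}
    (hY : IsAlgSpace Y) {U : Over S} (hU : IsAffine U.left) (p : (yon S).obj U ⟶ Y)
    (hpq : RepWith @QuasiCompact p) (hpe : RepWith @Etale p) (hps : RepWith @Surjective p)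
    (E : Set (Points Y)) :
    IsConstructible (Points.ofPt p ⁻¹' E) ↔ IsConstructible E := by
  have := hU
  have hqs : IsQuasiSeparatedSp Y := isQuasiSeparatedSp_of_qc_chart hY hU p hpq hpe hps
  have hqc : IsQuasiCompactSp Y := ⟨U, p, hpe, hps, inferInstance⟩
  have : SpectralSpace (Points Y) := spectralSpace_points hY hqc hqs
  constructor
  · intro h
    exact isConstructible_of_preimage_of_spectral_surjective (Points.continuous_ofPt p)
      (surjective_ofPt_of_surjective p hps)
      (isCompact_preimage_ofPt_of_qc_chart p hpq hpe hps) h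
  · intro h
    refine h.preimage (Points.continuous_ofPt p) (fun s hso hsr => ?_)
    have hsc : IsCompact s := hsr.isCompact
    exact (isCompact_preimage_ofPt_of_qc_chart p hpq hpe hps s hso hsc).isRetrocompact
      (hso.preimage (Points.continuous_ofPt p))

end Groth.Agent.H52
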