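import Groth.Agent.H52.FQFibres
import Groth.Agent.H52.FQFibres2
import Groth.Agent.H52.FQDecent

/-!
# A criterion for decency: finite fibre products with field points (helper52)
-/

set_option autoImplicit false
universe u

open CategoryTheory CategoryTheory.Limits AlgebraicGeometry Opposite AlgSp

namespace Groth.Agent.H52

variable {S : Scheme.{u}}

/-- If for every affine etale chart `U ⟶ X` and every field point `Spec K ⟶ X` the scheme `U ×_X Spec K` has
finitely many points, the algebraic space `X` is decent. -/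
theorem isDecent_of_finite_fibreProducts {X : Sp S} (hX : IsAlgSpace X)
    (h : ∀ (U : Over S) (a : (yon S).obj U ⟶ X), IsAffine U.left → RepWith @Etale a →
      ∀ (q : FieldPt X) (W : Over S) (wU : W ⟶ U) (wZ : W ⟶ q.pt),
        IsPullback ((yon S).map wU) ((yon S).map wZ) a q.toHom → Finite ↥W.left) :
    IsDecent X := by
  intro x
  obtain ⟨U, a, u, hU, hae, hu⟩ := exists_affine_chart_at hX x
  obtain ⟨W, wZ, fst, sqW⟩ := hae.1 (FieldPt.ofPt a u).toHom
  obtain ⟨wU, rfl⟩ := (yon S).map_surjective fst
  have hfin : Finite ↥W.left := h U a hU hae _ W wU wZ sqW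
  have : CompactSpace ↥W.left := Finite.compactSpace
  obtain ⟨p, c, hm, hfac, hfinc, hp⟩ := exists_mono_fieldPt_of_compact_fibre a hae u wU wZ sqW
  refine ⟨p, hp.trans hu, hm, ?_⟩
  have := hm
  refine repWith_quasiCompact_of_finite_fibres hX p ?_
  intro V b hV hb
  obtain ⟨T, tZ, fst', sqT⟩ := hb.1 p.toHom
  obtain ⟨tV, rfl⟩ := (yon S).map_surjective fst'
  have hfinT : Finite ↥T.left := h V b hV hb p T tV tZ sqT
  rw [fibre_eq_range_of_isPullback p b sqT.flip]
  exact Set.finite_range _

end Groth.Agent.H52
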