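import Groth.Agent.H52.QcEtDescent
import Groth.Agent.H52.FQZar
import Groth.Agent.H52.QCOps
import Groth.Agent.S9912

/-!
# helper52: decent morphisms can be tested on affine schemes and after etale covers of the base
-/

set_option autoImplicit false
universe u

open CategoryTheory CategoryTheory.Limits AlgebraicGeometry Opposite AlgSp Topology TopologicalSpace

namespace Groth.Agent.H52

variable {S : Scheme.{u}}

/-- A morphism of algebraic spaces is decent as soon as its base changes to affine schemes are decent spaces. -/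
theorem isDecentMor_of_affine {X Y : Sp S} (hXa : IsAlgSpace X) (hYa : IsAlgSpace Y) (f : X ⟶ Y)
    (h : ∀ (Z : Over S) (g : (yon S).obj Z ⟶ Y) (P : Sp S) (fst : P ⟶ X)
      (snd : P ⟶ (yon S).obj Z), IsAffine Z.left → IsPullback fst snd f g → IsDecent P) :
    IsDecentMor f := by
  intro T F' g fst snd sq
  have hF' : IsAlgSpace F' := isAlgSpace_of_isPullback sq hYa.diag hXa (IsAlgSpace.yon_obj _)
  have h3 := AlgSp.repWith_isStableUnderBaseChange (S := S) @IsOpenImmersion
  refine isDecent_of_zarCover hF' (ι := T.left.affineOpens)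
    (fun i => pullback snd ((yon S).map (overOpenHom T i.1))) ?_ (fun i => pullback.fst _ _)
    ⟨?_, ?_⟩ ?_
  · intro i
    exact isAlgSpace_of_isPullback (IsPullback.of_hasPullback _ _) (IsAlgSpace.yon_obj _).diag hF'
      (IsAlgSpace.yon_obj _)
  · intro i
    exact MorphismProperty.of_isPullback (P := RepWith @IsOpenImmersion)
      (IsPullback.of_hasPullback snd ((yon S).map (overOpenHom T i.1))).flip
      ((repWith_yon_map_iff _ _).2 (inferInstanceAs (IsOpenImmersion (Scheme.Opens.ι i.1))))
  · intro x'
    obtain ⟨t, ht⟩ : ∃ t : ↥T.left, Points.map snd x' = Points.ofScheme T t :=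
      ⟨(Points.schemeEquiv T).symm (Points.map snd x'),
        ((Points.schemeEquiv T).apply_symm_apply _).symm⟩
    obtain ⟨_, ⟨V, hV, rfl⟩, htV, -⟩ :=
      T.left.isBasis_affineOpens.exists_subset_of_mem_open (Set.mem_univ t) isOpen_univ
    refine ⟨⟨V, hV⟩, ?_⟩
    have hpt : Points.map snd x' = Points.map ((yon S).map (overOpenHom T V))
        (Points.ofScheme (overOpen T V) (⟨t, htV⟩ : ↥V)) := by
      rw [ht, map_yon_map_ofScheme]; rfl
    obtain ⟨z, hz, -⟩ := H50.exists_point_of_isPullback
      (IsPullback.of_hasPullback snd ((yon S).map (overOpenHom T V))) x' _ hpt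
    exact ⟨z, hz⟩
  · intro i
    have sqi := IsPullback.of_hasPullback snd ((yon S).map (overOpenHom T i.1))
    exact h (overOpen T i.1) ((yon S).map (overOpenHom T i.1) ≫ g) _ _ _ i.2 (sqi.paste_horiz sq)

/-- A representable etale morphism is etale in the chart-composition sense. -/
theorem isEtaleMor_of_repWith_etale {F G : Sp S} (l : F ⟶ G) (hl : RepWith @Etale l) :
    IsEtaleMor l := by
  have h4 := AlgSp.repWith_isMultiplicative (S := S) @Etale
  exact fun U φ hφ => (RepWith @Etale).comp_mem _ _ hφ hl

/-- `h_c` is a quasi-compact morphism of sheaves when `c` is a quasi-compact morphism of schemes. -/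
theorem isQuasiCompactMor_yon_map {T Z : Over S} (c : T ⟶ Z) (hc : QuasiCompact c.left) :
    IsQuasiCompactMor ((yon S).map c) :=
  (Groth.Agent.S9912.result (X := ⟨(yon S).obj T, IsAlgSpace.yon_obj T⟩)
    (Y := ⟨(yon S).obj Z, IsAlgSpace.yon_obj Z⟩) (ObjectProperty.homMk ((yon S).map c))
    (representable_of_yon _)).1 ((repWith_yon_map_iff _ c).2 hc)

/-- A morphism of algebraic spaces is decent if its base change along an etale surjective chart of the target is. -/
theorem isDecentMor_of_etale_cover {X Y : Sp S} (hXa : IsAlgSpace X) (hYa : IsAlgSpace Y)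
    (f : X ⟶ Y) {V : Over S} (p : (yon S).obj V ⟶ Y) (hp : RepWith @Etale p)
    (hps : RepWith @Surjective p) (X' : Sp S) (fst : X' ⟶ X) (snd : X' ⟶ (yon S).obj V)
    (hsq : IsPullback fst snd f p) (h : IsDecentMor snd) : IsDecentMor f := by
  refine isDecentMor_of_affine hXa hYa f ?_
  intro Z g P fstP sndP hZ sqP
  have hcZ : CompactSpace ↥Z.left := inferInstance
  have hP : IsAlgSpace P := isAlgSpace_of_isPullback sqP hYa.diag hXa (IsAlgSpace.yon_obj _)
  obtain ⟨ι, _, T, c, d, hT, hce, hcomm, hcov⟩ :=
    exists_finite_affine_refinement g p hp (surjective_ofPt_of_surjective p hps)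
  have h3 := AlgSp.repWith_isStableUnderBaseChange (S := S) @Etale
  intro x'
  obtain ⟨z, hz⟩ : ∃ z : ↥Z.left, Points.map sndP x' = Points.ofScheme Z z :=
    ⟨(Points.schemeEquiv Z).symm (Points.map sndP x'),
      ((Points.schemeEquiv Z).apply_symm_apply _).symm⟩
  obtain ⟨i, t, ht⟩ := hcov z
  have sqi := IsPullback.of_hasPullback sndP ((yon S).map (c i))
  have hPi : IsAlgSpace (pullback sndP ((yon S).map (c i))) :=
    isAlgSpace_of_isPullback sqi (IsAlgSpace.yon_obj _).diag hP (IsAlgSpace.yon_obj _)
  have hPid : IsDecent (pullback sndP ((yon S).map (c i))) := by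
    have big := sqi.paste_horiz sqP
    rw [hcomm i] at big
    have hw : (pullback.fst sndP ((yon S).map (c i)) ≫ fstP) ≫ f =
        (pullback.snd sndP ((yon S).map (c i)) ≫ (yon S).map (d i)) ≫ p := by
      rw [Category.assoc (f := pullback.snd _ _)]; exact big.w
    have sqL : IsPullback (hsq.lift _ _ hw) (pullback.snd sndP ((yon S).map (c i))) snd
        ((yon S).map (d i)) := by
      refine IsPullback.of_right ?_ (hsq.lift_snd _ _ hw) hsq
      rw [hsq.lift_fst]; exact big
    exact h ((yon S).map (d i)) _ _ sqL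
  have hl_et : RepWith @Etale (pullback.fst sndP ((yon S).map (c i))) :=
    MorphismProperty.of_isPullback (P := RepWith @Etale) sqi.flip
      ((repWith_yon_map_iff _ _).2 (hce i))
  have hl_em := isEtaleMor_of_repWith_etale _ hl_et
  have hTi : IsAffine (T i).left := hT i
  have hZa : IsAffine Z.left := hZ
  have hl_qc : IsQuasiCompactMor (pullback.fst sndP ((yon S).map (c i))) :=
    isQuasiCompactMor_baseChange sqi.flip (isQuasiCompactMor_yon_map (c i) inferInstance)
  have hpt : Points.map sndP x' =
      Points.map ((yon S).map (c i)) (Points.ofScheme (T i) t) := by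
    rw [hz, map_yon_map_ofScheme, ht]
  obtain ⟨xi, hxi, -⟩ := H50.exists_point_of_isPullback sqi x' _ hpt
  obtain ⟨q, hq1, hq2, hq3⟩ := exists_decent_rep_of_qc_etale hPi hP _ hl_qc hl_em hPid xi
  exact ⟨q, hq1.trans hxi, hq2, hq3⟩

end Groth.Agent.H52
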