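import Mathlib
import Groth.Prelude.Def_DefoConn
import Groth.Prelude.Def_DefoSh2
import Groth.Agent.H42.EV_A1

/-!
# (T2) for helper16's S17436 squad: `0 → E → D → E → 0` of a first-order deformation is short exact
-/

set_option autoImplicit false
universe u
open CategoryTheory CategoryTheory.Limits AlgebraicGeometry TopologicalSpace Opposite

namespace Groth.Agent.H52.DefoConnT2

section Algebra

variable {k : Type u} [Field k]

/-- In the dual numbers, the annihilator of `ε` is `(ε)`. -/
theorem eq_eps_mul_of_eps_mul_eq_zero (a : DualNumber k)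
    (h : (DualNumber.eps : DualNumber k) * a = 0) :
    a = (DualNumber.eps : DualNumber k) * TrivSqZeroExt.inl (TrivSqZeroExt.snd a) := by
  have h1 : TrivSqZeroExt.fst a = 0 := by
    have := congrArg TrivSqZeroExt.snd h
    simpa only [TrivSqZeroExt.snd_mul, DualNumber.fst_eps, DualNumber.snd_eps, zero_smul, zero_add,
      TrivSqZeroExt.snd_zero, MulOpposite.smul_eq_mul_unop, MulOpposite.unop_op, one_mul] using this
  apply TrivSqZeroExt.ext
  · simp only [h1, TrivSqZeroExt.fst_mul, DualNumber.fst_eps, zero_mul]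
  · simp only [TrivSqZeroExt.snd_mul, DualNumber.fst_eps, DualNumber.snd_eps, zero_smul, zero_add,
      TrivSqZeroExt.fst_inl, MulOpposite.smul_eq_mul_unop, MulOpposite.unop_op, one_mul]

/-- Non-units of the dual numbers are multiples of `ε`. -/
theorem eq_eps_mul_of_not_isUnit (a : DualNumber k) (h : ¬ IsUnit a) :
    a = (DualNumber.eps : DualNumber k) * TrivSqZeroExt.inl (TrivSqZeroExt.snd a) := by
  apply eq_eps_mul_of_eps_mul_eq_zero
  have h1 : TrivSqZeroExt.fst a = 0 := by
    by_contra hne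
    exact h (TrivSqZeroExt.isUnit_iff_isUnit_fst.2 (isUnit_iff_ne_zero.2 hne))
  apply TrivSqZeroExt.ext
  · simp only [TrivSqZeroExt.fst_mul, DualNumber.fst_eps, zero_mul, TrivSqZeroExt.fst_zero]
  · simp only [h1, TrivSqZeroExt.snd_mul, DualNumber.fst_eps, DualNumber.snd_eps, zero_smul, zero_add,
      TrivSqZeroExt.snd_zero, MulOpposite.smul_eq_mul_unop, MulOpposite.unop_op, one_mul]

variable {M : Type u} [AddCommGroup M] [Module (DualNumber k) M]

/-- Flat module over the dual numbers: `ε m = 0 ⇒ m ∈ ε M`. -/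
theorem exists_eps_smul_of_flat [Module.Flat (DualNumber k) M] (m : M)
    (h : (DualNumber.eps : DualNumber k) • m = 0) :
    ∃ m' : M, m = (DualNumber.eps : DualNumber k) • m' := by
  have h0 : ∑ i : Fin 1, (fun _ => (DualNumber.eps : DualNumber k)) i • (fun _ => m) i = 0 := by
    simpa using h
  obtain ⟨κ, a, y, hx, ha⟩ := Module.Flat.isTrivialRelation_of_sum_smul_eq_zero h0
  refine ⟨∑ j, (TrivSqZeroExt.inl (TrivSqZeroExt.snd (a 0 j)) : DualNumber k) • y j, ?_⟩
  have hx0 : m = ∑ j, a 0 j • y j := hx 0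
  conv_lhs => rw [hx0]
  rw [Finset.smul_sum]
  refine Finset.sum_congr rfl (fun j _ => ?_)
  rw [smul_smul]
  congr 1
  apply eq_eps_mul_of_eps_mul_eq_zero
  simpa using ha j

/-- Elements of `𝔪 • ⊤` are multiples of `ε`. -/
theorem exists_eps_smul_of_mem [IsLocalRing (DualNumber k)] (v : M)
    (h : v ∈ IsLocalRing.maximalIdeal (DualNumber k) • (⊤ : Submodule (DualNumber k) M)) :
    ∃ m' : M, v = (DualNumber.eps : DualNumber k) • m' := by
  refine Submodule.smul_induction_on h ?_ ?_
  · intro r hr n _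
    refine ⟨(TrivSqZeroExt.inl (TrivSqZeroExt.snd r) : DualNumber k) • n, ?_⟩
    rw [smul_smul]
    congr 1
    exact eq_eps_mul_of_not_isUnit r ((IsLocalRing.mem_maximalIdeal r).1 hr)
  · rintro x y ⟨x', rfl⟩ ⟨y', rfl⟩
    exact ⟨x' + y', (smul_add _ _ _).symm⟩

end Algebra

open Groth.Agent.H8 Groth.Agent.H42.EV

set_option backward.isDefEq.respectTransparency false in
/-- (T2) -/
theorem shortExact_of_defo {k : Type u} [Field k] {X : Scheme.{u}}
    [X.Over (Spec (CommRingCat.of k))] {E : X.Modules} (D : DefoSh.Defo E (ArtFun.Art.dual k k))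
    (ι : E ⟶ D.sheaf) (hι : D.π ≫ ι = D.act (DualNumber.eps : DualNumber k)) :
    ∃ w : ι ≫ D.π = 0, (ShortComplex.mk ι D.π w).ShortExact := by
  have hπepi : Epi D.π := epi_of_stalks D.π (fun x => D.surj x)
  have hres : (ArtFun.Art.dual k k).res (DualNumber.eps : DualNumber k) = 0 := by
    change TrivSqZeroExt.fst (DualNumber.eps : DualNumber k) = 0
    exact DualNumber.fst_eps
  have hactπ : D.act (DualNumber.eps : DualNumber k) ≫ D.π = 0 := D.act_π _ hres
  have w : ι ≫ D.π = 0 := by
    rw [← cancel_epi D.π, ← Category.assoc, hι, hactπ, comp_zero]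
  refine ⟨w, ?_⟩
  -- stalkwise facts
  have ha : ∀ (p : X) (m : ↑(D.sheaf.presheaf.stalk p)),
      RefHull.stalkMapₗ ι p (RefHull.stalkMapₗ D.π p m) =
        RefHull.stalkMapₗ (D.act (DualNumber.eps : DualNumber k)) p m := by
    intro p m
    rw [← DefoSh.stalkMapₗ_comp_apply, hι]
  have hb : ∀ (p : X) (m : ↑(D.sheaf.presheaf.stalk p)),
      RefHull.stalkMapₗ D.π p (RefHull.stalkMapₗ (D.act (DualNumber.eps : DualNumber k)) p m) = 0 := by
    intro p m
    rw [← DefoSh.stalkMapₗ_comp_apply, hactπ, DefoSh.stalkMapₗ_zero_apply]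
  have hc : ∀ (p : X) (e : ↑(E.presheaf.stalk p)),
      RefHull.stalkMapₗ D.π p (RefHull.stalkMapₗ ι p e) = 0 := by
    intro p e
    rw [← DefoSh.stalkMapₗ_comp_apply, w, DefoSh.stalkMapₗ_zero_apply]
  -- flatness consequence
  have hflat : ∀ (p : X) (m : ↑(D.sheaf.presheaf.stalk p)),
      RefHull.stalkMapₗ (D.act (DualNumber.eps : DualNumber k)) p m = 0 →
      ∃ m' : ↑(D.sheaf.presheaf.stalk p),
        m = RefHull.stalkMapₗ (D.act (DualNumber.eps : DualNumber k)) p m' := by
    intro p m hm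
    have key := @exists_eps_smul_of_flat k _ ↑(D.sheaf.presheaf.stalk p) _ (D.stalkMod p) (D.flat p) m
    exact key hm
  have hker : ∀ (p : X) (v : ↑(D.sheaf.presheaf.stalk p)), RefHull.stalkMapₗ D.π p v = 0 →
      ∃ m' : ↑(D.sheaf.presheaf.stalk p),
        v = RefHull.stalkMapₗ (D.act (DualNumber.eps : DualNumber k)) p m' := by
    intro p v hv
    letI : Module (DualNumber k) ↑(D.sheaf.presheaf.stalk p) := D.stalkMod p
    haveI : IsLocalRing (DualNumber k) := (ArtFun.Art.dual k k).isLocalRing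
    exact exists_eps_smul_of_mem v (D.ker_le p v hv)
  refine shortExact_of_stalks _ ?_ ?_ ?_
  · -- injectivity of ι_p
    intro p
    show Function.Injective (RefHull.stalkMapₗ ι p)
    rw [injective_iff_map_eq_zero]
    intro e he
    obtain ⟨m, rfl⟩ := D.surj p e
    rw [ha] at he
    obtain ⟨m', rfl⟩ := hflat p m he
    exact hb p m'
  · -- exactness
    intro p v
    show RefHull.stalkMapₗ D.π p v = 0 ↔ v ∈ Set.range (RefHull.stalkMapₗ ι p)
    constructor
    · intro hv
      obtain ⟨m', rfl⟩ := hker p v hv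
      exact ⟨RefHull.stalkMapₗ D.π p m', ha p m'⟩
    · rintro ⟨e, rfl⟩
      exact hc p e
  · intro p
    exact D.surj p

end Groth.Agent.H52.DefoConnT2
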