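import Mathlib

/-!
# Schemes of dimension zero locally of finite type over a field (helper52)
-/

set_option autoImplicit false
universe u
open CategoryTheory CategoryTheory.Limits AlgebraicGeometry

namespace Groth.Agent.H52.DimZero

theorem isLocallyArtinian_of_lft_field {k : Type u} [Field k] {U : Scheme.{u}}
    (g : U ⟶ Spec (CommRingCat.of k)) [LocallyOfFiniteType g] (h : topologicalKrullDim ↥U ≤ 0) :
    IsLocallyArtinian U := by
  haveI : IsLocallyNoetherian U := LocallyOfFiniteType.isLocallyNoetherian g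
  exact .of_topologicalKrullDim_le_zero h

theorem lqf_of_discrete {A B : Scheme.{u}} (f : A ⟶ B) [LocallyOfFiniteType f] [DiscreteTopology ↥A] :
    LocallyQuasiFinite f := by
  rw [locallyQuasiFinite_iff_isDiscrete_preimage_singleton]
  intro x
  rw [isDiscrete_iff_discreteTopology]
  infer_instance

theorem discrete_of_lqf {A B : Scheme.{u}} (f : A ⟶ B) [LocallyQuasiFinite f] [DiscreteTopology ↥B] :
    DiscreteTopology ↥A := by
  rw [discreteTopology_iff_isOpen_singleton]
  intro x
  have h1 : IsOpen (f ⁻¹' {f x}) := (isOpen_discrete _).preimage f.continuous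
  have h2 : _root_.IsDiscrete (f ⁻¹' {f x}) := f.isDiscrete_preimage_singleton (f x)
  obtain ⟨u, hu, hux⟩ := isDiscrete_iff_forall_mem_exists_isOpen.1 h2 x rfl
  have h3 : ({x} : Set ↥A) = u ∩ (f ⁻¹' {f x}) := hux.symm
  rw [h3]
  exact hu.inter h1

theorem isAffineOpen_of_isCompact_discrete (W : Scheme.{u}) [DiscreteTopology ↥W] (V : W.Opens)
    (hV : IsCompact (V : Set ↥W)) : IsAffineOpen V := by
  have hfin : (V : Set ↥W).Finite := hV.finite_of_discrete
  haveI : Finite ↥(V.toScheme) := hfin.to_subtype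
  haveI : DiscreteTopology ↥(V.toScheme) := V.ι.isOpenEmbedding.isEmbedding.discreteTopology
  show IsAffine V.toScheme
  infer_instance


set_option backward.isDefEq.respectTransparency.types false in
set_option maxHeartbeats 800000 in
theorem isFinite_of_mono_lft {R T : Scheme.{u}} (ι : R ⟶ T) [Mono ι] [LocallyOfFiniteType ι]
    [IsLocallyArtinian T] : IsFinite ι := by
  haveI : DiscreteTopology ↥T := inferInstance
  haveI : LocallyQuasiFinite ι := inferInstance
  haveI : DiscreteTopology ↥R := discrete_of_lqf ι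
  have hinj : Function.Injective ι := ι.injective
  let U : ↥T → T.Opens := fun t => ⟨{t}, isOpen_discrete _⟩
  have hU : iSup U = ⊤ := by
    rw [eq_top_iff]
    intro t _
    exact TopologicalSpace.Opens.mem_iSup.2 ⟨t, rfl⟩
  have hUaff : ∀ t, IsAffineOpen (U t) := fun t => by
    haveI hsubT : Subsingleton ↥((U t).toScheme) := by
      constructor
      rintro ⟨a, ha⟩ ⟨b, hb⟩
      apply Subtype.ext
      exact (ha : a = t).trans (hb : b = t).symm
    haveI : Finite ↥((U t).toScheme) := Finite.of_subsingleton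
    haveI : DiscreteTopology ↥((U t).toScheme) := (U t).ι.isOpenEmbedding.isEmbedding.discreteTopology
    show IsAffine ((U t).toScheme)
    infer_instance
  refine HasAffineProperty.of_iSup_eq_top (P := @IsFinite) (fun t => ⟨U t, hUaff t⟩) hU fun t => ?_
  haveI hA1 : IsAffine ((U t).toScheme) := hUaff t
  haveI hsubR : Subsingleton ↥((ι ⁻¹ᵁ U t).toScheme) := by
    constructor
    rintro ⟨a, ha⟩ ⟨b, hb⟩
    apply Subtype.ext
    exact hinj ((ha : ι a = t).trans (hb : ι b = t).symm)
  haveI : Finite ↥((ι ⁻¹ᵁ U t).toScheme) := Finite.of_subsingleton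
  haveI : DiscreteTopology ↥((ι ⁻¹ᵁ U t).toScheme) :=
    (ι ⁻¹ᵁ U t).ι.isOpenEmbedding.isEmbedding.discreteTopology
  haveI hA2 : IsAffine ((ι ⁻¹ᵁ U t).toScheme) := inferInstance
  refine ⟨hA2, ?_⟩
  haveI : LocallyQuasiFinite (ι ∣_ U t) := inferInstance
  have hqf : RingHom.QuasiFinite (ι ∣_ U t).appTop.hom :=
    (HasRingHomProperty.iff_of_isAffine (P := @LocallyQuasiFinite)).1 inferInstance
  haveI : IsArtinianRing Γ((U t).toScheme, ⊤) := inferInstance
  algebraize [(ι ∣_ U t).appTop.hom]
  have : Module.Finite Γ((U t).toScheme, ⊤) Γ((ι ⁻¹ᵁ U t).toScheme, ⊤) := Module.Finite.of_quasiFinite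
  exact RingHom.finite_algebraMap.2 this

theorem isClosedImmersion_of_mono_lft {R T : Scheme.{u}} (ι : R ⟶ T) [Mono ι] [LocallyOfFiniteType ι]
    [IsLocallyArtinian T] : IsClosedImmersion ι := by
  haveI := isFinite_of_mono_lft ι
  exact (IsClosedImmersion.iff_isProper_and_mono ι).2 ⟨inferInstance, inferInstance⟩

end Groth.Agent.H52.DimZero
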