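import Groth.Agent.H52.DimZero

/-!
# More on locally Artinian schemes (helper52)
-/

set_option autoImplicit false
universe u
open CategoryTheory CategoryTheory.Limits AlgebraicGeometry

namespace Groth.Agent.H52.DimZero

set_option backward.isDefEq.respectTransparency.types false in
/-- A locally quasi-finite morphism between affine schemes with Artinian target is finite. -/
theorem isFinite_of_lqf_of_affine {A T : Scheme.{u}} (f : A ⟶ T) [IsAffine A] [IsAffine T]
    [IsLocallyArtinian T] [LocallyQuasiFinite f] : IsFinite f := by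
  rw [HasAffineProperty.iff_of_isAffine (P := @IsFinite)]
  refine ⟨inferInstance, ?_⟩
  have hqf : RingHom.QuasiFinite f.appTop.hom :=
    (HasRingHomProperty.iff_of_isAffine (P := @LocallyQuasiFinite)).1 inferInstance
  haveI : IsArtinianRing Γ(T, ⊤) := inferInstance
  algebraize [f.appTop.hom]
  have : Module.Finite Γ(T, ⊤) Γ(A, ⊤) := Module.Finite.of_quasiFinite
  exact RingHom.finite_algebraMap.2 this

/-- The coordinate ring of a one-point affine scheme is local. -/
theorem isLocalRing_of_subsingleton {V : Scheme.{u}} [IsAffine V] [Subsingleton ↥V] [Nonempty ↥V] :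
    IsLocalRing Γ(V, ⊤) := by
  have e : ↥V ≃ₜ PrimeSpectrum Γ(V, ⊤) := V.isoSpec.hom.homeomorph
  haveI : Subsingleton (PrimeSpectrum Γ(V, ⊤)) := e.symm.injective.subsingleton
  obtain ⟨x⟩ : Nonempty (PrimeSpectrum Γ(V, ⊤)) := ⟨e (Classical.arbitrary _)⟩
  haveI : Nontrivial Γ(V, ⊤) := PrimeSpectrum.nonempty_iff_nontrivial.1 ⟨x⟩
  obtain ⟨m, hm⟩ := Ideal.exists_maximal Γ(V, ⊤)
  refine IsLocalRing.of_unique_max_ideal ⟨m, hm, fun m' hm' => ?_⟩
  have := Subsingleton.elim (⟨m', hm'.isPrime⟩ : PrimeSpectrum Γ(V, ⊤)) ⟨m, hm.isPrime⟩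
  exact congrArg PrimeSpectrum.asIdeal this

end Groth.Agent.H52.DimZero
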