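import Groth.Agent.H52.DiscreteFibre

/-!
# helper52: locally quasi-finite over a field iff locally of finite type of dimension ≤ 0
-/

universe u

open CategoryTheory CategoryTheory.Limits AlgebraicGeometry Opposite AlgSp Topology

namespace Groth.Agent.H52

variable {S : Scheme.{u}}

attribute [local instance] specializationOrder in
theorem ringKrullDim_stalk_le_topologicalKrullDim {X : Scheme.{u}} (x : X) :
    ringKrullDim (X.presheaf.stalk x) ≤ topologicalKrullDim X := by
  rw [ringKrullDim_stalk_eq_coheight, topologicalKrullDim_eq_krullDim_specializationOrder]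
  exact Order.coheight_le_krullDim x

theorem ringKrullDim_stalk_eq_zero_of_topologicalKrullDim_le {X : Scheme.{u}} (x : X)
    (h : topologicalKrullDim X ≤ 0) : ringKrullDim (X.presheaf.stalk x) = 0 := by
  apply le_antisymm ((ringKrullDim_stalk_le_topologicalKrullDim x).trans h)
  rw [ringKrullDim_stalk_eq_coheight]
  exact_mod_cast bot_le

theorem lqf_field_iff (k : Type u) [Field k] {X : Sp (Spec (CommRingCat.of k))} (hX : IsAlgSpace X)
    (p : X ⟶ (yon (Spec (CommRingCat.of k))).obj (Over.mk (𝟙 _))) :
    LocP (@LocallyQuasiFinite ⊓ @LocallyOfFiniteType : MorphismProperty Scheme.{u}) p ↔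
      LocP @LocallyOfFiniteType p ∧ AlgSp.dim X ≤ 0 := by
  constructor
  · intro H
    refine ⟨fun U V a b h ha hb comm => (H a b h ha hb comm).2, ?_⟩
    unfold AlgSp.dim
    refine iSup_le fun U => iSup_le fun a => iSup_le fun ha => ?_
    obtain ⟨h, hh⟩ := (yon _).map_surjective (a ≫ p)
    have hl := H a (𝟙 _) h ha (repWith_id _ _) (by rw [Category.comp_id, hh])
    have : LocallyQuasiFinite h.left := hl.1
    have : DiscreteTopology ↥U.left := discreteTopology_of_lqf_field (k := k) h.left
    exact topologicalKrullDim_zero_of_discreteTopology _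
  · rintro ⟨hlft, hdim⟩
    refine Groth.Agent.H50.locP_of_forall_hasAtMor_nbhd etLocal_lqf p fun x => ?_
    refine hasAtMor_lqf_of_fibre_codim_zero hX (IsAlgSpace.yon_obj _) p hlft x fun x' _ => ?_
    obtain ⟨W, c, w, -, hce, rfl⟩ := exists_affine_chart_at hX x'
    refine ⟨W, c, w, hce, rfl, ringKrullDim_stalk_eq_zero_of_topologicalKrullDim_le w ?_⟩
    refine le_trans ?_ hdim
    unfold AlgSp.dim
    exact le_iSup_of_le W (le_iSup_of_le c (le_iSup_of_le hce le_rfl))

end Groth.Agent.H52
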