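import Groth.Agent.H52.IsolatedPt3

/-!
# helper52: discreteness of spaces locally of finite type over a field
-/

universe u

open CategoryTheory CategoryTheory.Limits AlgebraicGeometry Opposite AlgSp Topology

namespace Groth.Agent.H52

theorem topologicalKrullDim_nonneg_of_nonempty (T : Type*) [TopologicalSpace T] [Nonempty T] :
    0 ≤ topologicalKrullDim T := by
  obtain ⟨x⟩ := ‹Nonempty T›
  have : Nonempty (TopologicalSpace.IrreducibleCloseds T) :=
    ⟨⟨closure {x}, isIrreducible_singleton.closure, isClosed_closure⟩⟩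
  exact Order.krullDim_nonneg

variable {k : Type u} [Field k]

theorem discreteTopology_points_iff_lqf {X : Sp (Spec (CommRingCat.of k))} (hX : IsAlgSpace X)
    (p : X ⟶ (yon (Spec (CommRingCat.of k))).obj (Over.mk (𝟙 _))) (hp : LocP @LocallyOfFiniteType p) :
    DiscreteTopology (Points X) ↔
      LocP (@LocallyQuasiFinite ⊓ @LocallyOfFiniteType : MorphismProperty Scheme.{u}) p := by
  constructor
  · intro hd
    refine Groth.Agent.H50.locP_of_forall_hasAtMor_nbhd etLocal_lqf p fun x => ?_
    refine hasAtMor_lqf_of_fibre_codim_zero hX (IsAlgSpace.yon_obj _) p hp x fun x' _ => ?_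
    obtain ⟨W, c, w, -, hce, rfl⟩ := exists_affine_chart_at hX x'
    exact hasAt_codim_zero_of_discrete c hce w
  · intro H
    obtain ⟨U, a, hae, has⟩ := hX.atlas
    obtain ⟨h, hh⟩ := (yon _).map_surjective (a ≫ p)
    have hl := H a (𝟙 _) h hae (repWith_id _ _) (by rw [Category.comp_id, hh])
    have : LocallyQuasiFinite h.left := hl.1
    have : DiscreteTopology ↥U.left := discreteTopology_of_lqf_field (k := k) h.left
    exact discreteTopology_points_of_chart a hae has

theorem zero_le_dim_of_nonempty {X : Sp (Spec (CommRingCat.of k))} (hX : IsAlgSpace X)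
    [Nonempty (Points X)] : 0 ≤ AlgSp.dim X := by
  obtain ⟨x⟩ := ‹Nonempty (Points X)›
  obtain ⟨U, a, u, -, ha, -⟩ := exists_affine_chart_at hX x
  have : Nonempty ↥U.left := ⟨u⟩
  refine le_trans (topologicalKrullDim_nonneg_of_nonempty ↥U.left) ?_
  unfold AlgSp.dim
  exact le_iSup_of_le U (le_iSup_of_le a (le_iSup_of_le ha le_rfl))

theorem discreteTopology_points_iff_dim {X : Sp (Spec (CommRingCat.of k))} (hX : IsAlgSpace X)
    (p : X ⟶ (yon (Spec (CommRingCat.of k))).obj (Over.mk (𝟙 _))) (hp : LocP @LocallyOfFiniteType p)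
    [Nonempty (Points X)] : DiscreteTopology (Points X) ↔ AlgSp.dim X = 0 := by
  rw [discreteTopology_points_iff_lqf hX p hp, lqf_field_iff k hX p]
  constructor
  · rintro ⟨-, h⟩
    exact le_antisymm h (zero_le_dim_of_nonempty hX)
  · intro h
    exact ⟨hp, h.le⟩

open Groth.Agent.H9.FibDim in
theorem discreteTopology_points_of_dim_zero_of_decent {X : Sp (Spec (CommRingCat.of k))} (hX : IsAlgSpace X)
    (p : X ⟶ (yon (Spec (CommRingCat.of k))).obj (Over.mk (𝟙 _))) (hp : LocP @LocallyOfFiniteType p)
    (hd : IsDecent X) (h : topologicalKrullDim (Points X) = 0) : DiscreteTopology (Points X) := by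
  rw [discreteTopology_iff_isOpen_singleton]
  intro x
  rw [← localDim_points_eq_zero_iff hX p hp hd x]
  apply le_antisymm
  · rw [← h]; exact localDim_le_dim _ x
  · have hne := localDim_ne_bot (Points X) x
    obtain ⟨a, ha⟩ := WithBot.ne_bot_iff_exists.mp hne
    rw [← ha]
    exact WithBot.coe_le_coe.mpr zero_le

theorem discreteTopology_points_of_finite_of_decent {X : Sp (Spec (CommRingCat.of k))} (hX : IsAlgSpace X)
    (p : X ⟶ (yon (Spec (CommRingCat.of k))).obj (Over.mk (𝟙 _))) (hp : LocP @LocallyOfFiniteType p)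
    (hd : IsDecent X) [Finite (Points X)] : DiscreteTopology (Points X) := by
  rw [discreteTopology_iff_isOpen_singleton]
  intro x
  obtain ⟨U, a, u, hU, ha, rfl⟩ := exists_affine_chart_at hX x
  obtain ⟨s, hs⟩ := exists_chart_lft p hp a ha
  have hUj : JacobsonSpace U.left := LocallyOfFiniteType.jacobsonSpace s
  have hfin : (Points.ofPt a ⁻¹' (Set.univ : Set (Points X))).Finite :=
    Set.finite_univ.preimage' fun x _ => finite_fibre_of_isDecent hd x U a hU ha
  rw [Set.preimage_univ] at hfin
  have : Finite ↥U.left := Set.finite_univ_iff.mp hfin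
  have h1 : IsOpen ({u} : Set ↥U.left) := isOpen_discrete _
  have h2 := isOpenMap_ofPt_of_etale a ha _ h1
  rwa [Set.image_singleton] at h2

end Groth.Agent.H52
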