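import Groth.Agent.H52.Residual
import Groth.Agent.H52.DecentTop

/-!
# Factoring field points through monomorphic field points; finite fibres for quasi-compact projections (helper52)
-/

set_option autoImplicit false
universe u

open CategoryTheory CategoryTheory.Limits AlgebraicGeometry Opposite AlgSp Topology

namespace Groth.Agent.H52

variable {S : Scheme.{u}}

/-- A field point of an algebraic space factors uniquely through a monomorphic field point with the same image. -/
theorem existsUnique_factor_of_mono {X : Sp S} (hX : IsAlgSpace X) (p q : FieldPt X)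
    (h : Points.mk p = Points.mk q) [Mono p.toHom] :
    ∃! c : q.pt ⟶ p.pt, (yon S).map c ≫ p.toHom = q.toHom := by
  have sq := IsPullback.of_hasPullback p.toHom q.toHom
  have hW : IsAlgSpace (pullback p.toHom q.toHom) :=
    isAlgSpace_of_isPullback sq hX.diag (IsAlgSpace.yon_obj _) (IsAlgSpace.yon_obj _)
  let s₀ : ↥p.pt.left := (IsLocalRing.closedPoint p.K : PrimeSpectrum p.K)
  let t₀ : ↥q.pt.left := (IsLocalRing.closedPoint q.K : PrimeSpectrum q.K)
  have hy : Points.map p.toHom (Points.ofScheme p.pt s₀) =
      Points.map q.toHom (Points.ofScheme q.pt t₀) := by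
    rw [map_toHom_ofScheme, map_toHom_ofScheme, h]
  obtain ⟨w, -, -⟩ := exists_point_of_isPullback sq _ _ hy
  have e2 : IsIso (pullback.snd p.toHom q.toHom) :=
    isIso_of_mono_to_field q.str hW (pullback.snd p.toHom q.toHom) ⟨w⟩
  let c : q.pt ⟶ p.pt :=
    (yon S).preimage (inv (pullback.snd p.toHom q.toHom) ≫ pullback.fst p.toHom q.toHom)
  refine ⟨c, ?_, ?_⟩
  · change (yon S).map c ≫ p.toHom = q.toHom
    rw [Functor.map_preimage, Category.assoc, pullback.condition, IsIso.inv_hom_id_assoc]
  · intro c' hc'
    apply (yon S).map_injective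
    rw [← cancel_mono p.toHom, hc', Functor.map_preimage, Category.assoc, pullback.condition,
      IsIso.inv_hom_id_assoc]

/-- If both projections of `R = U ×_X U` are quasi-compact, the fibres of `|U| → |X|` and `|R| → |X|` are
finite. -/
theorem finite_fibres_of_quasiCompact_projections {X : Sp S} {R U : Over S}
    (a : (yon S).obj U ⟶ X) (ha : RepWith @Etale a) (s t : R ⟶ U)
    (hR : IsPullback ((yon S).map t) ((yon S).map s) a a)
    [QuasiCompact s.left] [QuasiCompact t.left] (x : Points X) :
    (Points.ofPt a ⁻¹' {x}).Finite ∧ (Points.ofPt ((yon S).map t ≫ a) ⁻¹' {x}).Finite := by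
  have hte : Etale t.left := ha.2 _ _ _ hR.flip
  have hse : Etale s.left := ha.2 _ _ _ hR
  have : LocallyQuasiFinite t.left := H50.locallyQuasiFinite_of_unramified t.left
  have : LocallyQuasiFinite s.left := H50.locallyQuasiFinite_of_unramified s.left
  have h1 : (Points.ofPt a ⁻¹' {x}).Finite := by
    by_cases hne : (Points.ofPt a ⁻¹' {x}).Nonempty
    · obtain ⟨u, hu⟩ := hne
      have hfin := s.left.finite_preimage_singleton u
      refine (hfin.image t.left).subset ?_
      intro e he
      obtain ⟨r, hr1, hr2⟩ := exists_of_ofPt_eq_ofPt hR e u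
        ((Set.mem_preimage.1 he).trans (Set.mem_preimage.1 hu).symm)
      exact ⟨r, hr2, hr1⟩
    · rw [Set.not_nonempty_iff_eq_empty.1 hne]
      exact Set.finite_empty
  refine ⟨h1, ?_⟩
  have : Points.ofPt ((yon S).map t ≫ a) ⁻¹' {x} = ⋃ e ∈ Points.ofPt a ⁻¹' {x}, t.left ⁻¹' {e} := by
    ext r
    simp only [Set.mem_preimage, Set.mem_singleton_iff, Set.mem_iUnion, exists_prop,
      ofPt_yon_map_comp]
    constructor
    · intro h
      exact ⟨t.left r, h, rfl⟩
    · rintro ⟨e, he, hre⟩
      rw [hre]; exact he
  rw [this]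
  exact h1.biUnion (fun e _ => t.left.finite_preimage_singleton e)

end Groth.Agent.H52
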