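import Groth.Agent.H52.PairFibre
import Groth.Agent.H52.MonoFactor

/-!
# helper52: elementary etale neighbourhoods — transfer of the monomorphism condition
-/

universe u

open CategoryTheory CategoryTheory.Limits AlgebraicGeometry Opposite AlgSp Topology

namespace Groth.Agent.H52

/-- Scheme level: if a field point of `U₁` at `u₁` with trivial residue field extension lifts along `g : W ⟶ U₁`
to `σ`, then at the image point `w` of `σ` the residue field point of `w` is isomorphic over `U₁` to that of `u₁`. -/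
theorem exists_iso_residueField_of_lift {K : Type u} [Field K] {W U₁ : Scheme.{u}} (g : W ⟶ U₁) (u₁ : U₁)
    (φ : U₁.residueField u₁ ⟶ CommRingCat.of K) [IsIso φ]
    (σ : Spec (CommRingCat.of K) ⟶ W) (hσ : σ ≫ g = Spec.map φ ≫ U₁.fromSpecResidueField u₁) :
    ∃ (w : W) (ρ : Spec (W.residueField w) ⟶ Spec (U₁.residueField u₁)), IsIso ρ ∧ g w = u₁ ∧
      (∀ s, σ s = w) ∧ ρ ≫ U₁.fromSpecResidueField u₁ = W.fromSpecResidueField w ≫ g := by
  have hgw : g (σ (IsLocalRing.closedPoint K)) = u₁ := by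
    have h1 : (σ ≫ g) (IsLocalRing.closedPoint K) = u₁ := by
      rw [hσ]
      exact U₁.fromSpecResidueField_apply u₁ _
    exact h1
  obtain ⟨w, hw⟩ : ∃ w : W, w = σ (IsLocalRing.closedPoint K) := ⟨_, rfl⟩
  obtain ⟨t, hτ⟩ : ∃ t : W.residueField w ⟶ CommRingCat.of K,
      Spec.map t ≫ W.fromSpecResidueField w = σ := by
    subst hw
    exact ⟨_, Scheme.descResidueField_stalkClosedPointTo_fromSpecResidueField K W σ⟩
  rw [← hw] at hgw
  obtain ⟨r, hr⟩ : ∃ r : U₁.residueField u₁ ⟶ W.residueField w,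
      r = (U₁.residueFieldCongr hgw.symm).hom ≫ g.residueFieldMap w := ⟨_, rfl⟩
  have hρ : Spec.map r ≫ U₁.fromSpecResidueField u₁ = W.fromSpecResidueField w ≫ g := by
    rw [hr, Spec.map_comp, Category.assoc, Scheme.residueFieldCongr_fromSpecResidueField,
      Scheme.Hom.SpecMap_residueFieldMap_fromSpecResidueField]
  have h1 : Spec.map t ≫ Spec.map r = Spec.map φ := by
    rw [← cancel_mono (U₁.fromSpecResidueField u₁), Category.assoc, hρ, ← Category.assoc, hτ, hσ]
  have h2 : r ≫ t = φ := by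
    apply Spec.map_injective
    rw [Spec.map_comp, h1]
  have hφ : Function.Bijective φ.hom := (ConcreteCategory.isIso_iff_bijective φ).mp inferInstance
  have ht : Function.Bijective t.hom := by
    refine ⟨t.hom.injective, fun y => ?_⟩
    obtain ⟨z, hz⟩ := hφ.2 y
    refine ⟨r.hom z, ?_⟩
    rw [← hz, ← h2]
    rfl
  have htiso : IsIso t := (ConcreteCategory.isIso_iff_bijective t).mpr ht
  have hriso : IsIso r := by
    have h3 : r = φ ≫ inv t := by
      rw [← cancel_mono t, Category.assoc, IsIso.inv_hom_id, Category.comp_id, h2]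
    rw [h3]
    infer_instance
  refine ⟨w, Spec.map r, inferInstance, hgw, fun s => ?_, hρ⟩
  rw [hw]
  congr 1
  exact Subsingleton.elim _ _

end Groth.Agent.H52

namespace Groth.Agent.H52

variable {S : Scheme.{u}}

/-- Transfer of an elementary etale neighbourhood along an etale map through which the residue field point lifts. -/
theorem isElemEtaleNbhd_of_lift {X : Sp S} {U₁ W : Over S} (a₁ : (yon S).obj U₁ ⟶ X) (u₁ : ↥U₁.left)
    (x : Points X) (h₁ : IsElemEtaleNbhd a₁ u₁ x) (g : W ⟶ U₁) (hg : Etale g.left)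
    (σ : (FieldPt.ofPt a₁ u₁).pt ⟶ W) (hσ : σ ≫ g = ptIncl a₁ u₁) :
    ∃ w : ↥W.left, IsElemEtaleNbhd ((yon S).map g ≫ a₁) w x ∧ g.left w = u₁ ∧ ∀ s, σ.left s = w := by
  have hσl : σ.left ≫ g.left = Spec.map (𝟙 (U₁.left.residueField u₁)) ≫
      U₁.left.fromSpecResidueField u₁ := by
    rw [Spec.map_id, Category.id_comp]
    exact congrArg (fun φ => φ.left) hσ
  obtain ⟨w, ρ, hρiso, hgw, hσw, hρ⟩ := exists_iso_residueField_of_lift
    (K := ↥(U₁.left.residueField u₁)) g.left u₁ (𝟙 _) σ.left hσl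
  refine ⟨w, ⟨repWith_yon_map_comp @Etale _ hg a₁ h₁.etale, ?_, ?_⟩, hgw, hσw⟩
  · rw [ofPt_yon_map_comp, hgw]
    exact h₁.ofPt_eq
  · let ρo : (FieldPt.ofPt ((yon S).map g ≫ a₁) w).pt ⟶ (FieldPt.ofPt a₁ u₁).pt :=
      Over.homMk ρ (by
        change ρ ≫ U₁.left.fromSpecResidueField u₁ ≫ U₁.hom = W.left.fromSpecResidueField w ≫ W.hom
        rw [← Category.assoc, hρ, Category.assoc, Over.w g])
    have hρo : ptIncl ((yon S).map g ≫ a₁) w ≫ g = ρo ≫ ptIncl a₁ u₁ := by
      apply Over.OverMorphism.ext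
      exact hρ.symm
    have hiso : IsIso ρo := by
      have : IsIso ((Over.forget S).map ρo) := hρiso
      exact isIso_of_reflects_iso ρo (Over.forget S)
    have hto : (FieldPt.ofPt ((yon S).map g ≫ a₁) w).toHom =
        (yon S).map ρo ≫ (FieldPt.ofPt a₁ u₁).toHom := by
      rw [FieldPt.toHom_ofPt, FieldPt.toHom_ofPt, ← Category.assoc, ← Functor.map_comp, hρo,
        Functor.map_comp, Category.assoc]
    rw [hto]
    have := h₁.mono
    exact mono_comp _ _

end Groth.Agent.H52
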