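import Mathlib

/-!
# The quotient of a field by a finite equivalence relation: algebra (helper52)

Let `k` be a field, `A` a `k`-algebra (structure map `σ`) with a second ring map `τ : k →+* A`
such that `(τ, σ)` is "transitive" (`HasComp`): whenever `l, r : A → C` satisfy `l ∘ σ = r ∘ τ` there is
`c : A → C` with `c ∘ τ = l ∘ τ` and `c ∘ σ = r ∘ σ`.  Let `k' = {a | σ a = τ a}`.  Then families of `k`
linearly independent over `k'` are mapped by `τ` to families linearly independent over `k` (via `σ`).
If moreover `A` is finite over `k` and `(τ, σ)` is jointly epimorphic, then `A = k ⊗[k'] k`, i.e.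
the square `k' → k ⇉ A` is a pushout of commutative rings, and `k / k'` is finite.
-/

set_option autoImplicit false
universe u

open TensorProduct CategoryTheory CategoryTheory.Limits

namespace Groth.Agent.H52.FQ

variable {k A : Type u} [Field k] [CommRing A] [Algebra k A]

/-- `A` with the `k`-algebra structure through `τ`. -/
structure Twist (_τ : k →+* A) : Type u where
  /-- the underlying element -/
  val : A

/-- The underlying bijection. -/
def Twist.equiv (τ : k →+* A) : Twist τ ≃ A := ⟨Twist.val, Twist.mk, fun _ => rfl, fun _ => rfl⟩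

instance (τ : k →+* A) : CommRing (Twist τ) := (Twist.equiv τ).commRing

/-- The underlying ring isomorphism. -/
def Twist.ringEquiv (τ : k →+* A) : Twist τ ≃+* A := (Twist.equiv τ).ringEquiv

/-- The inclusion of `A`. -/
def tw (τ : k →+* A) : A →+* Twist τ := (Twist.ringEquiv τ).symm.toRingHom

theorem tw_injective (τ : k →+* A) : Function.Injective (tw τ) := (Twist.ringEquiv τ).symm.injective

instance (τ : k →+* A) : Algebra k (Twist τ) := RingHom.toAlgebra ((tw τ).comp τ)

theorem algebraMap_twist (τ : k →+* A) (a : k) : algebraMap k (Twist τ) a = tw τ (τ a) := rfl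

/-- Transitivity of the relation defined by `(τ, σ)`. -/
def HasComp (τ : k →+* A) : Prop :=
  ∀ (C : Type u) [CommRing C] (l r : A →+* C), l.comp (algebraMap k A) = r.comp τ →
    ∃ c : A →+* C, c.comp τ = l.comp τ ∧ c.comp (algebraMap k A) = r.comp (algebraMap k A)

/-- The subfield on which `σ` and `τ` agree. -/
def eqField (τ : k →+* A) : Subfield k :=
  { RingHom.eqLocus (algebraMap k A) τ with
    inv_mem' := by
      intro a ha
      have ha' : algebraMap k A a = τ a := ha
      change algebraMap k A a⁻¹ = τ a⁻¹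
      by_cases h0 : a = 0
      · subst h0; simp
      have h1 : τ a * τ a⁻¹ = 1 := by rw [← map_mul, mul_inv_cancel₀ h0, map_one]
      have h2 : algebraMap k A a⁻¹ * algebraMap k A a = 1 := by
        rw [← map_mul, inv_mul_cancel₀ h0, map_one]
      calc algebraMap k A a⁻¹ = algebraMap k A a⁻¹ * (τ a * τ a⁻¹) := by rw [h1, mul_one]
        _ = (algebraMap k A a⁻¹ * algebraMap k A a) * τ a⁻¹ := by rw [← ha', mul_assoc]
        _ = τ a⁻¹ := by rw [h2, one_mul] }

theorem mem_eqField {τ : k →+* A} {a : k} : a ∈ eqField τ ↔ algebraMap k A a = τ a := Iff.rfl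

theorem linearIndepOn_finset [Nontrivial A] {τ : k →+* A} (h : HasComp τ) {ι : Type*} (b : ι → k)
    (s : Finset ι) (hs : LinearIndepOn (eqField τ) b (s : Set ι)) :
    LinearIndepOn k (fun i => τ (b i)) (s : Set ι) := by
  classical
  induction s using Finset.induction_on with
  | empty => simp
  | insert a s has ih =>
    rw [Finset.coe_insert] at hs ⊢
    rw [linearIndepOn_insert (mt Finset.mem_coe.1 has)] at hs ⊢
    refine ⟨ih hs.1, fun ha => ?_⟩
    rw [Finsupp.mem_span_image_iff_linearCombination] at ha
    obtain ⟨l, hl, hla⟩ := ha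
    rw [Finsupp.linearCombination_apply_of_mem_supported k hl] at hla
    have key : ∀ i ∈ s, l i ∈ eqField τ := by
      intro i hi
      obtain ⟨lam, hlam⟩ : ∃ lam : A →+* Twist τ ⊗[k] A, ∀ v : A, lam v = (1 : Twist τ) ⊗ₜ[k] v :=
        ⟨(Algebra.TensorProduct.includeRight : A →ₐ[k] Twist τ ⊗[k] A).toRingHom, fun _ => rfl⟩
      obtain ⟨rho, hrho⟩ : ∃ rho : A →+* Twist τ ⊗[k] A, ∀ x : A, rho x = (tw τ x) ⊗ₜ[k] (1 : A) :=
        ⟨(Algebra.TensorProduct.includeLeftRingHom : Twist τ →+* Twist τ ⊗[k] A).comp (tw τ),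
          fun _ => rfl⟩
      have hlr : lam.comp (algebraMap k A) = rho.comp τ := by
        ext x
        rw [RingHom.comp_apply, RingHom.comp_apply, hlam, hrho, Algebra.algebraMap_eq_smul_one,
          TensorProduct.tmul_smul, TensorProduct.smul_tmul', Algebra.smul_def, mul_one,
          algebraMap_twist]
      obtain ⟨c, hc1, hc2⟩ := h (Twist τ ⊗[k] A) lam rho hlr
      have hcτ : ∀ x, c (τ x) = lam (τ x) := fun x => RingHom.congr_fun hc1 x
      have hcσ : ∀ x, c (algebraMap k A x) = rho (algebraMap k A x) :=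
        fun x => RingHom.congr_fun hc2 x
      have hlσ : ∀ x, lam (algebraMap k A x) = rho (τ x) := fun x => RingHom.congr_fun hlr x
      have hmul : ∀ x v : A, rho x * lam v = (tw τ x) ⊗ₜ[k] v := by
        intro x v
        rw [hlam, hrho, Algebra.TensorProduct.tmul_mul_tmul, mul_one, one_mul]
      have e1 : ∑ j ∈ s, (tw τ (algebraMap k A (l j))) ⊗ₜ[k] (τ (b j)) =
          (1 : Twist τ) ⊗ₜ[k] (τ (b a)) := by
        have h0 := congrArg c hla
        rw [map_sum, hcτ, hlam] at h0
        rw [← h0]
        refine Finset.sum_congr rfl fun j _ => ?_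
        rw [Algebra.smul_def, map_mul, hcσ, hcτ, hmul]
      have e2 : ∑ j ∈ s, (tw τ (τ (l j))) ⊗ₜ[k] (τ (b j)) =
          (1 : Twist τ) ⊗ₜ[k] (τ (b a)) := by
        have h0 := congrArg lam hla
        rw [map_sum, hlam (τ (b a))] at h0
        rw [← h0]
        refine Finset.sum_congr rfl fun j _ => ?_
        rw [Algebra.smul_def, map_mul, hlσ, hmul]
      have hli : LinearIndependent (Twist τ)
          (fun j : (s : Set ι) => (1 : Twist τ) ⊗ₜ[k] (τ (b j))) :=
        Module.Flat.linearIndependent_one_tmul (ih hs.1)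
      have hsum : ∑ j ∈ s.attach, (tw τ (algebraMap k A (l j)) - tw τ (τ (l j))) •
          ((1 : Twist τ) ⊗ₜ[k] (τ (b j))) = 0 := by
        rw [Finset.sum_attach s (fun j => (tw τ (algebraMap k A (l j)) - tw τ (τ (l j))) •
          ((1 : Twist τ) ⊗ₜ[k] (τ (b j))))]
        have : ∀ j, (tw τ (algebraMap k A (l j)) - tw τ (τ (l j))) •
            ((1 : Twist τ) ⊗ₜ[k] (τ (b j))) =
            (tw τ (algebraMap k A (l j))) ⊗ₜ[k] (τ (b j)) - (tw τ (τ (l j))) ⊗ₜ[k] (τ (b j)) := by
          intro j
          rw [TensorProduct.smul_tmul', smul_eq_mul, mul_one, TensorProduct.sub_tmul]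
        simp_rw [this]
        rw [Finset.sum_sub_distrib, e1, e2, sub_self]
      have := linearIndependent_iff'.1 hli s.attach
        (fun j => tw τ (algebraMap k A (l j)) - tw τ (τ (l j))) hsum
        ⟨i, hi⟩ (Finset.mem_attach _ _)
      exact tw_injective τ (sub_eq_zero.1 this)
    apply hs.2
    have hτ : Function.Injective τ := τ.injective
    have hba : b a = ∑ i ∈ s, l i * b i := by
      apply hτ
      rw [← hla, map_sum]
      refine Finset.sum_congr rfl fun i hi => ?_
      rw [map_mul, Algebra.smul_def, mem_eqField.1 (key i hi)]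
    rw [hba]
    refine Submodule.sum_mem _ fun i hi => ?_
    have : l i * b i = (⟨l i, key i hi⟩ : eqField τ) • b i := rfl
    rw [this]
    exact Submodule.smul_mem _ _ (Submodule.subset_span ⟨i, hi, rfl⟩)

theorem linearIndependent_of_hasComp [Nontrivial A] {τ : k →+* A} (h : HasComp τ) {ι : Type*}
    (b : ι → k) (hb : LinearIndependent (eqField τ) b) :
    LinearIndependent k (fun i => τ (b i)) := by
  rw [linearIndependent_iff_finset_linearIndependent] at hb ⊢
  intro s
  exact linearIndepOn_finset h b s (hb s)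

variable (τ : k →+* A)

/-- `τ` as an algebra map over `eqField τ`. -/
def tauAlgHom : k →ₐ[eqField τ] A :=
  { τ with commutes' := fun a => (mem_eqField.1 a.2).symm }

@[simp] theorem tauAlgHom_apply (a : k) : tauAlgHom τ a = τ a := rfl

/-- The canonical map `k ⊗[k'] k ⟶ A`, `c ⊗ b ↦ σ c * τ b`. -/
noncomputable def phi : k ⊗[eqField τ] k →ₐ[k] A :=
  Algebra.TensorProduct.lift (Algebra.ofId k A) (tauAlgHom τ) (fun _ _ => Commute.all _ _)

theorem phi_tmul (c b : k) : phi τ (c ⊗ₜ b) = algebraMap k A c * τ b := by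
  simp [phi]

theorem phi_injective [Nontrivial A] {τ : k →+* A} (h : HasComp τ) :
    Function.Injective (phi τ) := by
  let bs := Module.Basis.ofVectorSpace (eqField τ) k
  let B := Algebra.TensorProduct.basis k bs
  have hli : LinearIndependent k (fun i => τ (bs i)) :=
    linearIndependent_of_hasComp h _ bs.linearIndependent
  have hcomp : (fun i => τ (bs i)) = (phi τ).toLinearMap ∘ B := by
    funext i
    simp [B, phi_tmul]
  rw [hcomp] at hli
  rw [injective_iff_map_eq_zero]
  intro x hx
  have h1 : (phi τ).toLinearMap (Finsupp.linearCombination k B (B.repr x)) = 0 := by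
    rw [B.linearCombination_repr]; exact hx
  rw [Finsupp.apply_linearCombination] at h1
  have h2 := linearIndependent_iff.1 hli (B.repr x) h1
  exact B.repr.map_eq_zero_iff.1 h2

/-- Joint epimorphy of `(τ, σ)`. -/
def JointEpi (τ : k →+* A) : Prop :=
  ∀ (C : Type u) [CommRing C] (f g : A →+* C), f.comp τ = g.comp τ →
    f.comp (algebraMap k A) = g.comp (algebraMap k A) → f = g

theorem phi_surjective [Module.Finite k A] {τ : k →+* A} (hepi : JointEpi τ) :
    Function.Surjective (phi τ) := by
  let f : CommRingCat.of (k ⊗[eqField τ] k) ⟶ CommRingCat.of A :=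
    CommRingCat.ofHom (phi τ).toRingHom
  have hepi' : Epi f := by
    refine ⟨fun {Z} g g' hgg' => ?_⟩
    have hh : ∀ x, g.hom (phi τ x) = g'.hom (phi τ x) := fun x =>
      congr($(hgg').hom x)
    have := hepi Z g.hom g'.hom ?_ ?_
    · ext x; exact RingHom.congr_fun this x
    · ext b
      have := hh ((1 : k) ⊗ₜ b)
      rw [phi_tmul, map_one, one_mul] at this
      exact this
    · ext c
      have := hh (c ⊗ₜ (1 : k))
      rw [phi_tmul, map_one, mul_one] at this
      exact this
  have hfin : f.hom.Finite := by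
    refine RingHom.Finite.of_comp_finite (f := algebraMap k (k ⊗[eqField τ] k)) ?_
    have : f.hom.comp (algebraMap k (k ⊗[eqField τ] k)) = algebraMap k A :=
      (phi τ).comp_algebraMap
    rw [this]
    exact RingHom.finite_algebraMap.2 inferInstance
  exact RingHom.surjective_of_epi_of_finite f hfin

/-- `k` is finite over `k'`. -/
theorem finite_eqField [Nontrivial A] [Module.Finite k A] {τ : k →+* A} (h : HasComp τ) :
    Module.Finite (eqField τ) k := by
  let bs := Module.Basis.ofVectorSpace (eqField τ) k
  let B := Algebra.TensorProduct.basis k bs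
  have : Module.Finite k (k ⊗[eqField τ] k) :=
    Module.Finite.of_injective (phi τ).toLinearMap (phi_injective h)
  have : Finite (Module.Basis.ofVectorSpaceIndex (eqField τ) k) := Module.Finite.finite_basis B
  exact Module.Finite.of_basis bs

/-- The main theorem: `A` is the pushout of `k ← k' → k`. -/
theorem isPushout [Nontrivial A] [Module.Finite k A] {τ : k →+* A} (h : HasComp τ)
    (hepi : JointEpi τ) :
    IsPushout (CommRingCat.ofHom (eqField τ).subtype) (CommRingCat.ofHom (eqField τ).subtype)
      (CommRingCat.ofHom τ) (CommRingCat.ofHom (algebraMap k A)) := by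
  let e : (k ⊗[eqField τ] k) ≃+* A :=
    (AlgEquiv.ofBijective (phi τ) ⟨phi_injective h, phi_surjective hepi⟩).toRingEquiv
  have he : ∀ x, e x = phi τ x := fun _ => rfl
  refine ((CommRingCat.isPushout_tensorProduct (eqField τ) k k).of_iso (Iso.refl _) (Iso.refl _)
    (Iso.refl _) e.toCommRingCatIso ?_ ?_ ?_ ?_).flip
  · simp; rfl
  · simp; rfl
  · ext c
    simp only [Iso.refl_hom, Category.id_comp]
    change e (c ⊗ₜ 1) = algebraMap k A c
    rw [he, phi_tmul, map_one, mul_one]
  · ext b
    simp only [Iso.refl_hom, Category.id_comp]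
    change e (1 ⊗ₜ b) = τ b
    rw [he, phi_tmul, map_one, one_mul]

end Groth.Agent.H52.FQ
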