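import Groth.Agent.H52.FQFibres2
import Mathlib.AlgebraicGeometry.Morphisms.UniversallyOpen

/-!
# Finiteness of fibres of etale charts can be checked on a covering family (helper52)
-/

set_option autoImplicit false
universe u

open CategoryTheory CategoryTheory.Limits AlgebraicGeometry Opposite AlgSp

namespace Groth.Agent.H52

variable {S : Scheme.{u}}

/-- If a jointly surjective family of etale charts from affine schemes has finite fibres over `x`, then every
etale chart from a quasi-compact scheme has finite fibre over `x`. -/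
theorem finite_fibre_of_affine_cover {X : Sp S} (x : Points X) {ι : Type*} (U : ι → Over S)
    (φ : ∀ i, (yon S).obj (U i) ⟶ X) (hφ : ∀ i, RepWith @Etale (φ i))
    (hU : ∀ i, IsAffine (U i).left)
    (hsurj : ∀ y : Points X, ∃ (i : ι) (v : ↥(U i).left), Points.ofPt (φ i) v = y)
    (hfin : ∀ i, (Points.ofPt (φ i) ⁻¹' {x}).Finite)
    {V : Over S} [CompactSpace ↥V.left] (ψ : (yon S).obj V ⟶ X) (hψ : RepWith @Etale ψ) :
    (Points.ofPt ψ ⁻¹' {x}).Finite := by
  choose i w hw using fun v : ↥V.left => hsurj (Points.ofPt ψ v)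
  choose P π fst sq using fun v : ↥V.left => (hφ (i v)).1 ψ
  choose β hβ using fun v : ↥V.left => (yon S).map_surjective (fst v)
  have sq' : ∀ v, IsPullback ((yon S).map (β v)) ((yon S).map (π v)) (φ (i v)) ψ := by
    intro v; rw [hβ v]; exact sq v
  have hπe : ∀ v, Etale (π v).left := fun v => (hφ (i v)).2 _ _ _ (sq' v)
  have hβe : ∀ v, Etale (β v).left := fun v => hψ.2 _ _ _ (sq' v).flip
  choose r hr1 hr2 using fun v : ↥V.left => exists_of_ofPt_eq_ofPt (sq' v) (w v) v (hw v)
  have hAex : ∀ v : ↥V.left, ∃ A : (P v).left.Opens, IsAffineOpen A ∧ r v ∈ A := by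
    intro v
    obtain ⟨_, ⟨A, hA, rfl⟩, hrA, -⟩ :=
      (P v).left.isBasis_affineOpens.exists_subset_of_mem_open (Set.mem_univ (r v)) isOpen_univ
    exact ⟨A, hA, hrA⟩
  choose A hA hrA using hAex
  have hOopen : ∀ v, IsOpen ((π v).left '' (A v : Set ↥(P v).left)) := fun v =>
    (π v).left.isOpenMap _ (A v).isOpen
  have hOmem : ∀ v, v ∈ (π v).left '' (A v : Set ↥(P v).left) := fun v => ⟨r v, hrA v, hr2 v⟩
  obtain ⟨t, ht⟩ := isCompact_univ.elim_finite_subcover
    (fun v => (π v).left '' (A v : Set ↥(P v).left)) hOopen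
    (fun v _ => Set.mem_iUnion.2 ⟨v, hOmem v⟩)
  have hfinA : ∀ v, ((A v : Set ↥(P v).left) ∩ (β v).left ⁻¹'
      (Points.ofPt (φ (i v)) ⁻¹' {x})).Finite := by
    intro v
    have : IsAffine (A v).toScheme := hA v
    have : IsAffine (U (i v)).left := hU (i v)
    have he : Etale ((A v).ι ≫ (β v).left) := inferInstance
    have : LocallyQuasiFinite ((A v).ι ≫ (β v).left) :=
      H50.locallyQuasiFinite_of_unramified _
    have hqc : QuasiCompact ((A v).ι ≫ (β v).left) := inferInstance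
    have h1 := ((A v).ι ≫ (β v).left).finite_preimage (hfin (i v))
    refine (h1.image (A v).ι).subset ?_
    rintro a ⟨haA, haF⟩
    exact ⟨⟨a, haA⟩, by simpa using haF, rfl⟩
  refine (t.finite_toSet.biUnion (fun v _ => (hfinA v).image (π v).left)).subset ?_
  intro v₀ hv₀
  have := ht (Set.mem_univ v₀)
  rw [Set.mem_iUnion₂] at this
  obtain ⟨v, hvt, a, haA, rfl⟩ := this
  refine Set.mem_biUnion hvt ⟨a, ⟨haA, ?_⟩, rfl⟩
  have hv₀' : Points.ofPt ψ ((π v).left a) = x := hv₀
  change Points.ofPt (φ (i v)) ((β v).left a) = x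
  rw [← ofPt_yon_map_comp, (sq' v).w, ofPt_yon_map_comp]
  exact hv₀'

end Groth.Agent.H52

namespace Groth.Agent.H52

variable {S : Scheme.{u}}

/-- If a jointly surjective family of etale charts has finite fibres over `x`, then every etale chart from a
quasi-compact scheme has finite fibre over `x`. -/
theorem finite_fibre_of_cover {X : Sp S} (x : Points X) {ι : Type*} (U : ι → Over S)
    (φ : ∀ i, (yon S).obj (U i) ⟶ X) (hφ : ∀ i, RepWith @Etale (φ i))
    (hsurj : ∀ y : Points X, ∃ (i : ι) (v : ↥(U i).left), Points.ofPt (φ i) v = y)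
    (hfin : ∀ i, (Points.ofPt (φ i) ⁻¹' {x}).Finite)
    {V : Over S} [CompactSpace ↥V.left] (ψ : (yon S).obj V ⟶ X) (hψ : RepWith @Etale ψ) :
    (Points.ofPt ψ ⁻¹' {x}).Finite := by
  refine finite_fibre_of_affine_cover x
    (fun k : Σ i, (U i).left.affineOpens => overOpen (U k.1) k.2.1)
    (fun k => (yon S).map (overOpenHom (U k.1) k.2.1) ≫ φ k.1)
    (fun k => repWith_yon_map_comp @Etale _
      (show Etale (Scheme.Opens.ι k.2.1) from inferInstance) (φ k.1) (hφ k.1))
    (fun k => k.2.2) ?_ ?_ ψ hψ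
  · intro y
    obtain ⟨i, v, hv⟩ := hsurj y
    obtain ⟨_, ⟨O, hO, rfl⟩, hvO, -⟩ :=
      (U i).left.isBasis_affineOpens.exists_subset_of_mem_open (Set.mem_univ v) isOpen_univ
    refine ⟨⟨i, ⟨O, hO⟩⟩, (⟨v, hvO⟩ : ↥O), ?_⟩
    rw [ofPt_yon_map_comp]
    exact hv
  · intro k
    have h1 : Points.ofPt ((yon S).map (overOpenHom (U k.1) k.2.1) ≫ φ k.1) ⁻¹' {x} =
        (overOpenHom (U k.1) k.2.1).left ⁻¹' (Points.ofPt (φ k.1) ⁻¹' {x}) := by
      ext v
      simp only [Set.mem_preimage, Set.mem_singleton_iff, ofPt_yon_map_comp]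
    rw [h1]
    exact (hfin k.1).preimage (Scheme.Opens.ι k.2.1).injective.injOn

end Groth.Agent.H52
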