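import Groth.Agent.H52.FQFibres2

/-!
# Decency and etale morphisms (helper52)
-/

set_option autoImplicit false
universe u

open CategoryTheory CategoryTheory.Limits AlgebraicGeometry Opposite AlgSp

namespace Groth.Agent.H52

variable {S : Scheme.{u}}

/-- Let `f : X ⟶ Y` be an etale morphism of algebraic spaces and `x` a point of `X` whose image is represented by
a representable quasi-compact field point.  Then `x` is represented by a representable quasi-compact
monomorphism from the spectrum of a field. -/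
theorem exists_mono_quasiCompact_of_etale {X Y : Sp S} (hX : IsAlgSpace X) (hY : IsAlgSpace Y)
    (f : X ⟶ Y) (hf : IsEtaleMor f) (x : Points X) (q : FieldPt Y)
    (hqx : Points.mk q = Points.map f x) (hq : RepWith @QuasiCompact q.toHom) :
    ∃ p : FieldPt X, Points.mk p = x ∧ Mono p.toHom ∧ RepWith @QuasiCompact p.toHom := by
  obtain ⟨U, a, u, hU, hae, hu⟩ := exists_affine_chart_at hX x
  have hbe : RepWith @Etale (a ≫ f) := hf a hae
  have hmk : Points.mk ((FieldPt.ofPt a u).map f) = Points.mk q := by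
    rw [hqx, ← hu]; rfl
  have hzYq0 : RepWith @QuasiCompact ((FieldPt.ofPt a u).map f).toHom :=
    repWith_quasiCompact_of_mk_eq hY.diag hmk hq
  have hzYq : RepWith @QuasiCompact ((FieldPt.ofPt a u).toHom ≫ f) := by
    rw [← FieldPt.toHom_map]; exact hzYq0
  obtain ⟨WY, vU, fst, sqY⟩ := hzYq.1 (a ≫ f)
  have hvU : QuasiCompact vU.left := hzYq.2 _ _ _ sqY
  obtain ⟨vZ, rfl⟩ := (yon S).map_surjective fst
  have : CompactSpace ↥U.left := inferInstance
  have hWYc : CompactSpace ↥WY.left := QuasiCompact.compactSpace_of_compactSpace vU.left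
  have hvZe : Etale vZ.left := hbe.2 _ _ _ sqY.flip
  have hWYf : Finite ↥WY.left :=
    finite_of_etale_field_of_compact (K := (FieldPt.ofPt a u).K) vZ.left
  obtain ⟨WX, wZ, fst', sqX⟩ := hae.1 (FieldPt.ofPt a u).toHom
  obtain ⟨wU, rfl⟩ := (yon S).map_surjective fst'
  have comm : (yon S).map wZ ≫ ((FieldPt.ofPt a u).toHom ≫ f) = (yon S).map wU ≫ (a ≫ f) := by
    rw [← Category.assoc, ← sqX.w, Category.assoc]
  obtain ⟨j, hj⟩ := (yon S).map_surjective (sqY.lift _ _ comm)
  have hjZ : j ≫ vZ = wZ := by
    apply (yon S).map_injective; rw [Functor.map_comp, hj, sqY.lift_fst]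
  have hjU : j ≫ vU = wU := by
    apply (yon S).map_injective; rw [Functor.map_comp, hj, sqY.lift_snd]
  have hjmono : Mono j := by
    refine ⟨fun {T} α β hαβ => ?_⟩
    have h1 : α ≫ wU = β ≫ wU := by rw [← hjU, ← Category.assoc, hαβ, Category.assoc]
    have h2 : α ≫ wZ = β ≫ wZ := by rw [← hjZ, ← Category.assoc, hαβ, Category.assoc]
    apply (yon S).map_injective
    apply sqX.hom_ext
    · rw [← Functor.map_comp, h1, Functor.map_comp]
    · rw [← Functor.map_comp, h2, Functor.map_comp]
  have hjl : Mono j.left := inferInstance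
  have hWXf : Finite ↥WX.left := Finite.of_injective j.left j.left.injective
  obtain ⟨p, c, hm, hfac, hfin, hp⟩ := exists_mono_fieldPt_of_compact_fibre a hae u wU wZ sqX
  refine ⟨p, hp.trans hu, hm, ?_⟩
  have : Mono p.toHom := hm
  refine repWith_quasiCompact_of_finite_fibres hX p (fun V b hV hbe' => ?_)
  have : IsAffine V.left := hV
  have h1 := finite_fibre_of_quasiCompact q hq (b ≫ f) (hf b hbe')
  refine h1.subset (fun v hv => ?_)
  rw [Set.mem_preimage, Set.mem_singleton_iff] at hv ⊢
  rw [hqx, ← hu, ← hp, ← hv]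
  rfl

end Groth.Agent.H52
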