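import Groth.Agent.H50.Kernel
import Groth.Agent.H50.Quot

/-!
# Descending a map along an epimorphism with the same kernel pair (helper52)
-/

set_option autoImplicit false
universe u

open CategoryTheory CategoryTheory.Limits AlgebraicGeometry Opposite AlgSp

namespace Groth.Agent.H52

variable {S : Scheme.{u}}

/-- If `π : h_U ⟶ h_M` is an epimorphism and `z : h_U ⟶ X` has the same kernel pair as `π`, then `z` factors
through a monomorphism `h_M ⟶ X`. -/
theorem exists_mono_factor_of_isPullback {X : Sp S} {R U M : Over S} {t s : R ⟶ U} {π : U ⟶ M}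
    {z : (yon S).obj U ⟶ X} (sqX : IsPullback ((yon S).map t) ((yon S).map s) z z)
    (sqM : IsPullback ((yon S).map t) ((yon S).map s) ((yon S).map π) ((yon S).map π))
    [Epi ((yon S).map π)] : ∃ p : (yon S).obj M ⟶ X, Mono p ∧ (yon S).map π ≫ p = z := by
  have := H50.effectiveEpi_of_epi ((yon S).map π)
  have hz : ∀ {Z : Sp S} (g₁ g₂ : Z ⟶ (yon S).obj U), g₁ ≫ (yon S).map π = g₂ ≫ (yon S).map π →
      g₁ ≫ z = g₂ ≫ z := by
    intro Z g₁ g₂ h
    have h1 : g₁ = sqM.lift g₁ g₂ h ≫ (yon S).map t := (sqM.lift_fst _ _ _).symm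
    have h2 : g₂ = sqM.lift g₁ g₂ h ≫ (yon S).map s := (sqM.lift_snd _ _ _).symm
    rw [h1, Category.assoc, sqX.w, ← Category.assoc, ← h2]
  refine ⟨EffectiveEpi.desc ((yon S).map π) z hz, ?_, EffectiveEpi.fac _ _ _⟩
  have hfac : (yon S).map π ≫ EffectiveEpi.desc ((yon S).map π) z hz = z := EffectiveEpi.fac _ _ _
  apply H50.mono_of_forall_yon
  intro T a b hab
  obtain ⟨Sa, hSa, ha⟩ := H50.exists_local_lift ((yon S).map π) a
  obtain ⟨Sb, hSb, hb⟩ := H50.exists_local_lift ((yon S).map π) b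
  refine H50.hom_ext_of_local a b ((J S).intersection_covering hSa hSb) ?_
  intro T' f hf
  obtain ⟨x₁, hx₁⟩ := ha f hf.1
  obtain ⟨x₂, hx₂⟩ := hb f hf.2
  have hx : x₁ ≫ z = x₂ ≫ z := by
    rw [← hfac, ← Category.assoc, ← Category.assoc, hx₁, hx₂, Category.assoc, Category.assoc, hab]
  have h1 : x₁ = sqX.lift x₁ x₂ hx ≫ (yon S).map t := (sqX.lift_fst _ _ _).symm
  have h2 : x₂ = sqX.lift x₁ x₂ hx ≫ (yon S).map s := (sqX.lift_snd _ _ _).symm
  rw [← hx₁, ← hx₂, h1, Category.assoc, sqM.w, ← Category.assoc, ← h2]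

end Groth.Agent.H52
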