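import Groth.Agent.H52.FQAlg
import Groth.Agent.H52.FQSheaf
import Groth.Agent.H52.EpiFppf
import Groth.Agent.H52.FieldPts

/-!
# The quotient of the spectrum of a field by a finite equivalence relation (helper52)
-/

set_option autoImplicit false
universe u

open CategoryTheory CategoryTheory.Limits AlgebraicGeometry Opposite AlgSp

namespace Groth.Agent.H52

variable {S : Scheme.{u}}

theorem spec_comp_eq {k A C : Type u} [CommRing k] [CommRing A] [CommRing C] {f g : A →+* C}
    {x : k →+* A} (h : f.comp x = g.comp x) :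
    Spec.map (CommRingCat.ofHom f) ≫ Spec.map (CommRingCat.ofHom x) =
      Spec.map (CommRingCat.ofHom g) ≫ Spec.map (CommRingCat.ofHom x) := by
  rw [← Spec.map_comp, ← Spec.map_comp, ← CommRingCat.ofHom_comp, ← CommRingCat.ofHom_comp, h]

theorem ringHom_comp_eq_of_spec {k A C : Type u} [CommRing k] [CommRing A] [CommRing C]
    {f g : A →+* C} {x : k →+* A}
    (h : Spec.map (CommRingCat.ofHom f) ≫ Spec.map (CommRingCat.ofHom x) =
      Spec.map (CommRingCat.ofHom g) ≫ Spec.map (CommRingCat.ofHom x)) : f.comp x = g.comp x := by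
  rw [← Spec.map_comp, ← Spec.map_comp] at h
  have := Spec.map_injective h
  rw [← CommRingCat.ofHom_comp, ← CommRingCat.ofHom_comp] at this
  exact congrArg (·.hom) this

section SpecForm

variable {k A : Type u} [Field k] [CommRing A] [Algebra k A] (τ : k →+* A)
  (str : Spec (CommRingCat.of k) ⟶ S)
  (hστ : Spec.map (CommRingCat.ofHom τ) ≫ str =
    Spec.map (CommRingCat.ofHom (algebraMap k A)) ≫ str)

/-- The relation scheme. -/
noncomputable abbrev specR (A : Type u) [CommRing A] [Algebra k A] (str : Spec (CommRingCat.of k) ⟶ S) : Over S :=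
  Over.mk (Spec.map (CommRingCat.ofHom (algebraMap k A)) ≫ str)

/-- The source map. -/
noncomputable abbrev specS (A : Type u) [CommRing A] [Algebra k A] (str : Spec (CommRingCat.of k) ⟶ S) :
    specR A str ⟶ Over.mk str :=
  Over.homMk (Spec.map (CommRingCat.ofHom (algebraMap k A))) rfl

/-- The target map. -/
noncomputable abbrev specT : specR A str ⟶ Over.mk str :=
  Over.homMk (Spec.map (CommRingCat.ofHom τ)) hστ

variable {τ str hστ} {X : Sp S} {z : (yon S).obj (Over.mk str) ⟶ X}

theorem jointEpi_of_isPullback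
    (sq : IsPullback ((yon S).map (specT τ str hστ)) ((yon S).map (specS A str)) z z) :
    FQ.JointEpi τ := by
  intro C _ f g hτ hσ
  let T : Over S := Over.mk (Spec.map (CommRingCat.ofHom f) ≫ (specR A str).hom)
  let rf : T ⟶ specR A str := Over.homMk (Spec.map (CommRingCat.ofHom f)) rfl
  have hg : Spec.map (CommRingCat.ofHom g) ≫ (specR A str).hom = T.hom := by
    change Spec.map (CommRingCat.ofHom g) ≫ Spec.map (CommRingCat.ofHom (algebraMap k A)) ≫ str =
      Spec.map (CommRingCat.ofHom f) ≫ Spec.map (CommRingCat.ofHom (algebraMap k A)) ≫ str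
    rw [← Category.assoc, ← Category.assoc, spec_comp_eq hσ]
  let rg : T ⟶ specR A str := Over.homMk (Spec.map (CommRingCat.ofHom g)) hg
  have h1 : rf ≫ specT τ str hστ = rg ≫ specT τ str hστ := by
    ext
    exact spec_comp_eq hτ
  have h2 : rf ≫ specS A str = rg ≫ specS A str := by
    ext
    exact spec_comp_eq hσ
  have h3 : (yon S).map rf = (yon S).map rg := by
    apply sq.hom_ext
    · rw [← Functor.map_comp, h1, Functor.map_comp]
    · rw [← Functor.map_comp, h2, Functor.map_comp]
  have h4 : rf = rg := (yon S).map_injective h3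
  have h5 : Spec.map (CommRingCat.ofHom f) = Spec.map (CommRingCat.ofHom g) :=
    congrArg (·.left) h4
  exact congrArg (·.hom) (Spec.map_injective h5)

theorem hasComp_of_isPullback
    (sq : IsPullback ((yon S).map (specT τ str hστ)) ((yon S).map (specS A str)) z z) :
    FQ.HasComp τ := by
  intro C _ l r hlr
  let T : Over S := Over.mk (Spec.map (CommRingCat.ofHom l) ≫ (specR A str).hom)
  let rl : T ⟶ specR A str := Over.homMk (Spec.map (CommRingCat.ofHom l)) rfl
  have hr : Spec.map (CommRingCat.ofHom r) ≫ (specR A str).hom = T.hom := by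
    change Spec.map (CommRingCat.ofHom r) ≫ Spec.map (CommRingCat.ofHom (algebraMap k A)) ≫ str =
      Spec.map (CommRingCat.ofHom l) ≫ Spec.map (CommRingCat.ofHom (algebraMap k A)) ≫ str
    calc Spec.map (CommRingCat.ofHom r) ≫ Spec.map (CommRingCat.ofHom (algebraMap k A)) ≫ str
        = Spec.map (CommRingCat.ofHom r) ≫ Spec.map (CommRingCat.ofHom τ) ≫ str := by rw [hστ]
      _ = Spec.map (CommRingCat.ofHom l) ≫ Spec.map (CommRingCat.ofHom (algebraMap k A)) ≫ str := by
        rw [← Category.assoc, ← Category.assoc, ← Spec.map_comp, ← Spec.map_comp,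
          ← CommRingCat.ofHom_comp, ← CommRingCat.ofHom_comp, hlr]
  let rr : T ⟶ specR A str := Over.homMk (Spec.map (CommRingCat.ofHom r)) hr
  have hmid : rl ≫ specS A str = rr ≫ specT τ str hστ := by
    ext
    change Spec.map (CommRingCat.ofHom l) ≫ Spec.map (CommRingCat.ofHom (algebraMap k A)) =
      Spec.map (CommRingCat.ofHom r) ≫ Spec.map (CommRingCat.ofHom τ)
    rw [← Spec.map_comp, ← Spec.map_comp, ← CommRingCat.ofHom_comp, ← CommRingCat.ofHom_comp, hlr]
  have hw : (yon S).map (rl ≫ specT τ str hστ) ≫ z = (yon S).map (rr ≫ specS A str) ≫ z := by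
    rw [Functor.map_comp, Category.assoc, sq.w, ← Category.assoc, ← Functor.map_comp, hmid,
      Functor.map_comp, Category.assoc, sq.w, ← Category.assoc, ← Functor.map_comp]
  obtain ⟨rc, hrc⟩ := (yon S).map_surjective (sq.lift _ _ hw)
  have hc1 : rc ≫ specT τ str hστ = rl ≫ specT τ str hστ := by
    apply (yon S).map_injective
    rw [Functor.map_comp, hrc, sq.lift_fst]
  have hc2 : rc ≫ specS A str = rr ≫ specS A str := by
    apply (yon S).map_injective
    rw [Functor.map_comp, hrc, sq.lift_snd]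
  have hc : Spec.map (CommRingCat.ofHom (Spec.preimage rc.left).hom) = rc.left :=
    Spec.map_preimage _
  refine ⟨(Spec.preimage rc.left).hom, ?_, ?_⟩
  · apply ringHom_comp_eq_of_spec
    rw [hc]
    exact congrArg (·.left) hc1
  · apply ringHom_comp_eq_of_spec
    rw [hc]
    exact congrArg (·.left) hc2

end SpecForm

/-- A morphism from the spectrum of a field to `S` coequalizing `Spec σ, Spec τ` factors through the
spectrum of any subfield containing the equalizer of `σ, τ`. -/
theorem exists_str_of_subfield {k A : Type u} [Field k] [CommRing A] (σ τ : k →+* A) (K' : Subfield k)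
    (hK : ∀ a, σ a = τ a → a ∈ K') (str : Spec (CommRingCat.of k) ⟶ S)
    (hστ : Spec.map (CommRingCat.ofHom τ) ≫ str = Spec.map (CommRingCat.ofHom σ) ≫ str) :
    ∃ str' : Spec (CommRingCat.of K') ⟶ S,
      Spec.map (CommRingCat.ofHom K'.subtype) ≫ str' = str := by
  have hsub : Subsingleton ↥(Spec (CommRingCat.of k)) :=
    inferInstanceAs (Subsingleton (PrimeSpectrum k))
  let x₀ : ↥(Spec (CommRingCat.of k)) := (IsLocalRing.closedPoint k : PrimeSpectrum k)
  let 𝒰 := S.affineOpenCover
  let i := 𝒰.idx (str.base x₀)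
  have hrange : Set.range str.base ⊆ Set.range (𝒰.f i).base := by
    rintro _ ⟨x, rfl⟩
    rw [hsub.elim x x₀]
    exact 𝒰.covers (str.base x₀)
  let lift := IsOpenImmersion.lift (𝒰.f i) str hrange
  have hlift : lift ≫ 𝒰.f i = str := IsOpenImmersion.lift_fac _ _ _
  have hβ : Spec.map (Spec.preimage lift) = lift := Spec.map_preimage _
  have h1 : Spec.map (CommRingCat.ofHom τ) ≫ Spec.map (Spec.preimage lift) =
      Spec.map (CommRingCat.ofHom σ) ≫ Spec.map (Spec.preimage lift) := by
    rw [← cancel_mono (𝒰.f i), Category.assoc, Category.assoc, hβ, hlift, hστ]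
  rw [← Spec.map_comp, ← Spec.map_comp] at h1
  have h2 := Spec.map_injective h1
  have h3 : ∀ b, σ ((Spec.preimage lift).hom b) = τ ((Spec.preimage lift).hom b) := fun b =>
    (congr($(h2).hom b)).symm
  let β' : 𝒰.X i →+* K' := (Spec.preimage lift).hom.codRestrict K' (fun b => hK _ (h3 b))
  refine ⟨Spec.map (CommRingCat.ofHom β') ≫ 𝒰.f i, ?_⟩
  rw [← Category.assoc, ← Spec.map_comp, ← hlift, ← hβ]
  rfl


/-- A finite field extension gives an epimorphism of fppf sheaves. -/
theorem epi_yon_map_of_finite_field {k k' : Type u} [Field k] [Field k'] (ι : k' →+* k) (hι : ι.Finite)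
    (str : Spec (CommRingCat.of k) ⟶ S) (str' : Spec (CommRingCat.of k') ⟶ S)
    (hstr : Spec.map (CommRingCat.ofHom ι) ≫ str' = str) :
    Epi ((yon S).map (Over.homMk (Spec.map (CommRingCat.ofHom ι)) hstr :
      Over.mk str ⟶ Over.mk str')) := by
  have hne : Nonempty ↥(Spec (CommRingCat.of k)) :=
    ⟨(IsLocalRing.closedPoint k : PrimeSpectrum k)⟩
  obtain ⟨h1, h3⟩ := flat_surjective_to_field (Spec.map (CommRingCat.ofHom ι))
  have h2 : LocallyOfFinitePresentation (Spec.map (CommRingCat.ofHom ι)) := by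
    rw [LocallyOfFinitePresentation.SpecMap_iff]
    exact RingHom.FinitePresentation.of_finiteType.1 (RingHom.FiniteType.of_finite hι)
  exact epi_of_repWith_fppf _ ((repWith_yon_map_iff @Flat _).2 h1)
    ((repWith_yon_map_iff @LocallyOfFinitePresentation _).2 h2)
    ((repWith_yon_map_iff @Surjective _).2 h3)

section SpecForm

variable {k A : Type u} [Field k] [CommRing A] [Algebra k A] {τ : k →+* A}
  {str : Spec (CommRingCat.of k) ⟶ S}
  {hστ : Spec.map (CommRingCat.ofHom τ) ≫ str =
    Spec.map (CommRingCat.ofHom (algebraMap k A)) ≫ str}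
  {X : Sp S} {z : (yon S).obj (Over.mk str) ⟶ X}

/-- The field quotient theorem, in `Spec` form. -/
theorem exists_mono_factor_specForm [Module.Finite k A] [Nontrivial A]
    (sq : IsPullback ((yon S).map (specT τ str hστ)) ((yon S).map (specS A str)) z z) :
    ∃ (k' : Type u) (_ : Field k') (ι : k' →+* k) (_ : ι.Finite)
      (str' : Spec (CommRingCat.of k') ⟶ S)
      (hstr : Spec.map (CommRingCat.ofHom ι) ≫ str' = str) (p : (yon S).obj (Over.mk str') ⟶ X),
      Mono p ∧ (yon S).map (Over.homMk (Spec.map (CommRingCat.ofHom ι)) hstr :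
        Over.mk str ⟶ Over.mk str') ≫ p = z := by
  have hcomp := hasComp_of_isPullback sq
  have hepi := jointEpi_of_isPullback sq
  have hfin : Module.Finite (FQ.eqField τ) k := FQ.finite_eqField hcomp
  have hι : (FQ.eqField τ).subtype.Finite := RingHom.finite_algebraMap.2 hfin
  have po := FQ.isPushout hcomp hepi
  have pbS := isPullback_SpecMap_of_isPushout _ _ _ _ po
  obtain ⟨str', hstr⟩ := exists_str_of_subfield (algebraMap k A) τ (FQ.eqField τ) (fun a h => h) str hστ
  let π : Over.mk str ⟶ Over.mk str' :=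
    Over.homMk (Spec.map (CommRingCat.ofHom (FQ.eqField τ).subtype)) hstr
  have comm : specT τ str hστ ≫ π = specS A str ≫ π := by
    ext
    exact pbS.w
  have pbO : IsPullback (specT τ str hστ) (specS A str) π π :=
    IsPullback.of_map (Over.forget S) comm pbS
  have pbY := pbO.map (yon S)
  have hepiπ : Epi ((yon S).map π) := epi_yon_map_of_finite_field _ hι str str' hstr
  obtain ⟨p, hp, hfac⟩ := exists_mono_factor_of_isPullback sq pbY
  exact ⟨FQ.eqField τ, inferInstance, (FQ.eqField τ).subtype, hι, str', hstr, p, hp, hfac⟩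

end SpecForm

theorem eq_isoSpec_hom_comp_specMap {Y : Scheme.{u}} [IsAffine Y] {B : CommRingCat.{u}}
    (f : Y ⟶ Spec B) : f = Y.isoSpec.hom ≫ Spec.map ((Scheme.ΓSpecIso B).inv ≫ f.appTop) := by
  rw [Spec.map_comp, Scheme.isoSpec_hom_naturality_assoc, Scheme.isoSpec_Spec_hom, ← Spec.map_comp,
    Iso.inv_hom_id, Spec.map_id, Category.comp_id]

/-- **The field quotient theorem.**  Let `z : Spec k ⟶ X` be a morphism from the spectrum of a field to an fppf
sheaf whose kernel pair `Spec k ×_X Spec k` is a scheme finite over `Spec k` (via one projection).  Then `z`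
factors as `Spec k ⟶ Spec k' ⟶ X` with `k / k'` a finite field extension and `Spec k' ⟶ X` a
monomorphism. -/
theorem exists_mono_factor_of_finite {X : Sp S} {k : Type u} [Field k]
    (str : Spec (CommRingCat.of k) ⟶ S) (z : (yon S).obj (Over.mk str) ⟶ X) {R : Over S}
    (s t : R ⟶ Over.mk str) (sq : IsPullback ((yon S).map t) ((yon S).map s) z z)
    [IsFinite s.left] :
    ∃ (k' : Type u) (_ : Field k') (ι : k' →+* k) (_ : ι.Finite)
      (str' : Spec (CommRingCat.of k') ⟶ S)
      (hstr : Spec.map (CommRingCat.ofHom ι) ≫ str' = str) (p : (yon S).obj (Over.mk str') ⟶ X),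
      Mono p ∧ (yon S).map (Over.homMk (Spec.map (CommRingCat.ofHom ι)) hstr :
        Over.mk str ⟶ Over.mk str') ≫ p = z := by
  have haff0 : IsAffine (Over.mk str).left := inferInstanceAs (IsAffine (Spec (CommRingCat.of k)))
  have haff : IsAffine R.left := isAffine_of_isAffineHom s.left
  -- the diagonal point
  obtain ⟨δ, hδ⟩ := (yon S).map_surjective (sq.lift (𝟙 _) (𝟙 _) rfl)
  have hne : Nonempty ↥R.left :=
    ⟨δ.left.base (IsLocalRing.closedPoint k : PrimeSpectrum k)⟩
  have hnt : Nontrivial Γ(R.left, ⊤) :=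
    @Scheme.component_nontrivial R.left ⊤ ⟨⟨hne.some, trivial⟩⟩
  let σ₀ : CommRingCat.of k ⟶ Γ(R.left, ⊤) := (Scheme.ΓSpecIso (CommRingCat.of k)).inv ≫ s.left.appTop
  let τ₀ : CommRingCat.of k ⟶ Γ(R.left, ⊤) := (Scheme.ΓSpecIso (CommRingCat.of k)).inv ≫ t.left.appTop
  have hs : s.left = R.left.isoSpec.hom ≫ Spec.map σ₀ := eq_isoSpec_hom_comp_specMap s.left
  have ht : t.left = R.left.isoSpec.hom ≫ Spec.map τ₀ := eq_isoSpec_hom_comp_specMap t.left
  let _ : Algebra k Γ(R.left, ⊤) := σ₀.hom.toAlgebra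
  have hσ₀ : CommRingCat.ofHom (algebraMap k Γ(R.left, ⊤)) = σ₀ := rfl
  have hfinσ : IsFinite (Spec.map σ₀) := by
    have : IsFinite (R.left.isoSpec.hom ≫ Spec.map σ₀) := by rw [← hs]; infer_instance
    exact (MorphismProperty.cancel_left_of_respectsIso @IsFinite R.left.isoSpec.hom _).1 this
  have hmf : Module.Finite k Γ(R.left, ⊤) :=
    RingHom.finite_algebraMap.1 ((IsFinite.SpecMap_iff σ₀).1 hfinσ)
  have hRs : R.hom = R.left.isoSpec.hom ≫ Spec.map σ₀ ≫ str := by
    rw [← Category.assoc, ← hs]; exact (Over.w s).symm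
  have hRt : R.hom = R.left.isoSpec.hom ≫ Spec.map τ₀ ≫ str := by
    rw [← Category.assoc, ← ht]; exact (Over.w t).symm
  have hστ : Spec.map (CommRingCat.ofHom τ₀.hom) ≫ str =
      Spec.map (CommRingCat.ofHom (algebraMap k Γ(R.left, ⊤))) ≫ str := by
    rw [hσ₀]
    change Spec.map τ₀ ≫ str = Spec.map σ₀ ≫ str
    rw [← cancel_epi R.left.isoSpec.hom, ← hRs, ← hRt]
  let e : specR Γ(R.left, ⊤) str ≅ R := Over.isoMk R.left.isoSpec.symm (by
    change R.left.isoSpec.inv ≫ R.hom = Spec.map σ₀ ≫ str
    rw [hRs, Iso.inv_hom_id_assoc])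
  have hes : e.hom ≫ s = specS Γ(R.left, ⊤) str := by
    ext
    change R.left.isoSpec.inv ≫ s.left = Spec.map σ₀
    rw [hs, Iso.inv_hom_id_assoc]
  have het : e.hom ≫ t = specT τ₀.hom str hστ := by
    ext
    change R.left.isoSpec.inv ≫ t.left = Spec.map τ₀
    rw [ht, Iso.inv_hom_id_assoc]
  have sq' : IsPullback ((yon S).map (specT τ₀.hom str hστ))
      ((yon S).map (specS Γ(R.left, ⊤) str)) z z := by
    refine IsPullback.of_iso sq ((yon S).mapIso e).symm (Iso.refl _) (Iso.refl _) (Iso.refl _)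
      ?_ ?_ (by simp) (by simp)
    · rw [Iso.refl_hom, Category.comp_id, Iso.symm_hom, Functor.mapIso_inv, ← het, Functor.map_comp,
        ← Functor.map_comp_assoc, Iso.inv_hom_id, (yon S).map_id, Category.id_comp]
    · rw [Iso.refl_hom, Category.comp_id, Iso.symm_hom, Functor.mapIso_inv, ← hes, Functor.map_comp,
        ← Functor.map_comp_assoc, Iso.inv_hom_id, (yon S).map_id, Category.id_comp]
  exact exists_mono_factor_specForm sq'

end Groth.Agent.H52
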