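import Mathlib
import Groth.Prelude.Def_AlgSpDec
import Groth.Agent.H52.Topology
import Groth.Agent.H52.Points
import Groth.Agent.H52.DecentTop
import Groth.Agent.H52.RedResidual
import Groth.Agent.H52.FQDecent
import Groth.Agent.H52.FQFibres
import Groth.Agent.H52.FibProd
import Groth.Agent.H52.Decent
import Groth.Agent.H52.QC
import Groth.Agent.H52.Charts

/-! The fibre `|X_k| → |X|` over a point represented by a quasi-compact monomorphism is an embedding. -/

set_option autoImplicit false
universe u
open CategoryTheory CategoryTheory.Limits AlgebraicGeometry Opposite AlgSp Topology TopologicalSpace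

namespace Groth.Agent.H52

/-- If `g ∘ e` is an embedding with `e` continuous surjective and `g` continuous, then `g` is an
embedding. -/
theorem isEmbedding_of_comp_surjective {A B C : Type*} [TopologicalSpace A] [TopologicalSpace B]
    [TopologicalSpace C] (e : A → B) (g : B → C) (he : Continuous e) (hg : Continuous g)
    (hs : Function.Surjective e) (h : IsEmbedding (g ∘ e)) : IsEmbedding g := by
  have hinj : Function.Injective g := by
    intro b b' hbb
    obtain ⟨a, rfl⟩ := hs b
    obtain ⟨a', rfl⟩ := hs b'
    rw [h.injective hbb]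
  refine ⟨⟨le_antisymm hg.le_induced ?_⟩, hinj⟩
  intro O hO
  have h1 : IsOpen (e ⁻¹' O) := hO.preimage he
  rw [h.isInducing.isOpen_iff] at h1
  obtain ⟨O', hO', hOO'⟩ := h1
  refine ⟨O', hO', ?_⟩
  ext b
  obtain ⟨a, rfl⟩ := hs b
  have := Set.ext_iff.1 hOO' a
  simpa using this

set_option backward.isDefEq.respectTransparency.types false in
/-- If `Spec κ(v) ⟶ V` factors through a morphism `ψ : T ⟶ V` from a scheme with at most one point, every
base change of `ψ` is a topological embedding. -/
theorem isEmbedding_of_isPullback_of_factor {T U V TU : Scheme.{u}} {ψ : T ⟶ V} {h : U ⟶ V}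
    {p₁ : TU ⟶ T} {p₂ : TU ⟶ U} (sq : IsPullback p₁ p₂ ψ h) (v : V)
    (e : Spec (V.residueField v) ⟶ T) (he : e ≫ ψ = V.fromSpecResidueField v)
    [Subsingleton ↥T] : IsEmbedding p₂ := by
  have hes : Surjective e := ⟨fun t => ⟨IsLocalRing.closedPoint _, Subsingleton.elim _ _⟩⟩
  let eU : h.fiber v ⟶ TU := sq.lift (h.fiberToSpecResidueField v ≫ e) (h.fiberι v) (by
    rw [Category.assoc, he, ← Scheme.Hom.fiber_fac])
  have h1 : eU ≫ p₁ = h.fiberToSpecResidueField v ≫ e := sq.lift_fst _ _ _
  have h2 : eU ≫ p₂ = h.fiberι v := sq.lift_snd _ _ _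
  have big : IsPullback (h.fiberι v) (h.fiberToSpecResidueField v) h (V.fromSpecResidueField v) :=
    IsPullback.of_hasPullback h (V.fromSpecResidueField v)
  have sqL : IsPullback eU (h.fiberToSpecResidueField v) p₁ e := by
    refine IsPullback.of_right (h₁₂ := p₂) (h₂₂ := ψ) (v₁₃ := h) ?_ h1 sq.flip
    rw [h2, he]
    exact big
  have heUs : Surjective eU := MorphismProperty.of_isPullback (P := @Surjective) sqL.flip hes
  have hemb : IsEmbedding (h.fiberι v) := (h.fiberι v).isEmbedding
  refine isEmbedding_of_comp_surjective eU p₂ eU.continuous p₂.continuous heUs.surj ?_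
  have : (p₂ : TU → U) ∘ (eU : h.fiber v → TU) = (h.fiberι v : h.fiber v → U) := by
    funext c
    change (eU ≫ p₂) c = _
    rw [h2]
  rw [this]
  exact hemb

variable {S : Scheme.{u}}

/-- A monomorphism of sheaves is injective on points. -/
theorem injective_points_map_of_mono {F G : Sp S} (f : F ⟶ G) [Mono f] :
    Function.Injective (Points.map f) := by
  have h1 : Mono ((sheafToPresheaf (J S) (Type (u + 1))).map f) := inferInstance
  have h2 : ∀ T, Function.Injective (f.hom.app T) := fun T => by
    have : Mono (f.hom.app T) := (NatTrans.mono_iff_mono_app f.hom).1 h1 T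
    exact (mono_iff_injective _).1 this
  intro x y
  induction x using Points.ind with
  | h p =>
  induction y using Points.ind with
  | h q =>
  rw [Points.map_mk, Points.map_mk, Points.mk_eq_mk_iff, Points.mk_eq_mk_iff]
  rintro ⟨Ω, _, w, a, b, h⟩
  refine ⟨Ω, inferInstance, w, a, b, h2 _ ?_⟩
  change G.obj.map a.op (f.hom.app _ p.val) = G.obj.map b.op (f.hom.app _ q.val) at h
  rw [← NatTrans.naturality_apply, ← NatTrans.naturality_apply] at h
  exact h

/-- In an etale chart, a point over the class of a representable quasi-compact field point has an open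
neighbourhood containing no other point of the fibre. -/
theorem exists_open_isolating_of_quasiCompact {X : Sp S} (p : FieldPt X)
    (hq : RepWith @QuasiCompact p.toHom) {V : Over S} (b : (yon S).obj V ⟶ X)
    (hb : RepWith @Etale b) (v : ↥V.left) (hv : Points.ofPt b v = Points.mk p) :
    ∃ O : V.left.Opens, v ∈ O ∧ ∀ v' ∈ O, Points.ofPt b v' = Points.mk p → v' = v := by
  obtain ⟨_, ⟨(O : V.left.Opens), hO, rfl⟩, hvO, -⟩ :=
    V.left.isBasis_affineOpens.exists_subset_of_mem_open (Set.mem_univ v) isOpen_univ
  have hb' : RepWith @Etale ((yon S).map (overOpenHom V O) ≫ b) :=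
    repWith_yon_map_comp @Etale _ (show Etale (Scheme.Opens.ι O) from inferInstance) b hb
  have hOc : CompactSpace ↥(overOpen V O).left :=
    isCompact_iff_compactSpace.1 hO.isCompact
  have hfin' := finite_fibre_of_quasiCompact p hq ((yon S).map (overOpenHom V O) ≫ b) hb'
  let E : Set ↥V.left := O.ι '' (Points.ofPt ((yon S).map (overOpenHom V O) ≫ b) ⁻¹' {Points.mk p})
  have hE : E.Finite := hfin'.image _
  have hEF : ∀ y ∈ E, Points.ofPt b y = Points.mk p := by
    rintro _ ⟨y, hy, rfl⟩
    rw [← hy]
    exact (ofPt_yon_map_comp (overOpenHom V O) b y).symm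
  have hfinall : ∀ (V' : Over S) (b' : (yon S).obj V' ⟶ X), IsAffine V'.left → RepWith @Etale b' →
      (Points.ofPt b' ⁻¹' {Points.mk p}).Finite := fun V' b' hV' hb' => by
    have : CompactSpace ↥V'.left := inferInstance
    exact finite_fibre_of_quasiCompact p hq b' hb'
  obtain ⟨O', hvO', hO'⟩ := exists_open_isolating_of_finite E hE v (fun y hy hs =>
    (eq_of_specializes_of_affine_finite_fibre (Points.mk p) hfinall b hb v y hv (hEF y hy) hs).symm)
  refine ⟨O ⊓ O', ⟨hvO, hvO'⟩, ?_⟩
  rintro u ⟨huO, huO'⟩ huF
  refine hO' u huO' ⟨⟨u, huO⟩, ?_, rfl⟩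
  change Points.ofPt _ _ = Points.mk p
  rw [ofPt_yon_map_comp]
  exact huF

set_option backward.isDefEq.respectTransparency.types false in
/-- The fibre of a morphism of algebraic spaces over a point represented by a representable quasi-compact
monomorphism from the spectrum of a field: `|X_k| → |X|` is an embedding onto the fibre. -/
theorem isEmbedding_fibre {X Y : Sp S} (hX : IsAlgSpace X) (hY : IsAlgSpace Y) (f : X ⟶ Y)
    (r : FieldPt Y) (hm : Mono r.toHom) (hq : RepWith @QuasiCompact r.toHom)
    {Xk : Sp S} (fst : Xk ⟶ X) (snd : Xk ⟶ (yon S).obj r.pt) (hsq : IsPullback fst snd f r.toHom) :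
    IsEmbedding (Points.map fst) ∧ Set.range (Points.map fst) = Points.map f ⁻¹' {Points.mk r} := by
  have := hm
  let pt : ↥r.pt.left := (IsLocalRing.closedPoint r.K : PrimeSpectrum r.K)
  have hsub : Subsingleton (Points ((yon S).obj r.pt)) := by
    refine ⟨fun a b => ?_⟩
    obtain ⟨a', rfl⟩ := (Points.schemeEquiv r.pt).surjective a
    obtain ⟨b', rfl⟩ := (Points.schemeEquiv r.pt).surjective b
    congr 1
    exact Subsingleton.elim (α := PrimeSpectrum r.K) _ _
  have hrange : Set.range (Points.map fst) = Points.map f ⁻¹' {Points.mk r} := by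
    ext x
    constructor
    · rintro ⟨z, rfl⟩
      change Points.map f (Points.map fst z) = Points.mk r
      rw [← Points.map_comp, hsq.w, Points.map_comp,
        Subsingleton.elim (Points.map snd z) (Points.ofScheme r.pt pt), map_toHom_ofScheme]
    · intro hx
      obtain ⟨z, hz, -⟩ := exists_point_of_isPullback hsq x (Points.ofScheme r.pt pt)
        (by rw [hx, map_toHom_ofScheme])
      exact ⟨z, hz⟩
  refine ⟨?_, hrange⟩
  have hmono : Mono fst := by
    have : MorphismProperty.monomorphisms (Sp S) fst :=
      MorphismProperty.of_isPullback (P := MorphismProperty.monomorphisms (Sp S)) hsq.flip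
        (MorphismProperty.monomorphisms.infer_property r.toHom)
    exact this
  refine ⟨⟨le_antisymm (Points.continuous_map fst).le_induced ?_⟩,
    injective_points_map_of_mono fst⟩
  intro O hO
  rw [isOpen_induced_iff]
  -- local statement
  have key : ∀ z ∈ O, ∃ O' : Set (Points X), IsOpen O' ∧ Points.map fst z ∈ O' ∧
      Points.map fst ⁻¹' O' ⊆ O := by
    intro z hz
    have hy : Points.map f (Points.map fst z) = Points.mk r := by
      have : Points.map fst z ∈ Set.range (Points.map fst) := ⟨z, rfl⟩
      rw [hrange] at this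
      exact this
    obtain ⟨V, b, v, -, hbe, hv⟩ := exists_affine_chart_at hY (Points.mk r)
    obtain ⟨N, hvN, hN⟩ := exists_open_isolating_of_quasiCompact r hq b hbe v hv
    let V' : Over S := overOpen V N
    let b' : (yon S).obj V' ⟶ Y := (yon S).map (overOpenHom V N) ≫ b
    have hb'e : RepWith @Etale b' :=
      repWith_yon_map_comp @Etale _ (show Etale (Scheme.Opens.ι N) from inferInstance) b hbe
    let v' : ↥V'.left := (⟨v, hvN⟩ : ↥N)
    have hv' : Points.ofPt b' v' = Points.mk r := by
      change Points.ofPt ((yon S).map (overOpenHom V N) ≫ b) v' = _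
      rw [ofPt_yon_map_comp]
      exact hv
    have hfib : ∀ w : ↥V'.left, Points.ofPt b' w = Points.mk r → w = v' := by
      intro w hw
      have h1 : Points.ofPt b ((overOpenHom V N).left w) = Points.mk r := by
        rw [← ofPt_yon_map_comp]; exact hw
      have h2 := hN ((overOpenHom V N).left w) (show (N.ι w) ∈ N from (w : ↥N).2) h1
      exact Subtype.ext h2
    -- the base change of `r` to the chart
    have hrep := hY.representable_from_yon r.toHom
    obtain ⟨T, ψ, φT, sqT⟩ := hrep b'
    obtain ⟨φ, rfl⟩ := (yon S).map_surjective φT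
    have hψm : Mono ψ.left := mono_left_of_isPullback_of_mono sqT
    have hfibre : Points.ofPt b' ⁻¹' {Points.mk r} = Set.range ψ.left :=
      fibre_eq_range_of_isPullback r b' sqT
    have hψpt : ∀ t : ↥T.left, ψ.left t = v' := fun t =>
      hfib _ (by
        have : ψ.left t ∈ Points.ofPt b' ⁻¹' {Points.mk r} := by rw [hfibre]; exact ⟨t, rfl⟩
        exact this)
    have hTsub : Subsingleton ↥T.left :=
      ⟨fun t t' => ψ.left.injective ((hψpt t).trans (hψpt t').symm)⟩
    obtain ⟨t₀, ht₀⟩ : ∃ t₀ : ↥T.left, ψ.left t₀ = v' := by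
      have : v' ∈ Points.ofPt b' ⁻¹' {Points.mk r} := hv'
      rw [hfibre] at this
      exact this
    -- the residue field point of the chart factors through `T`
    let strκ : Spec (V'.left.residueField v') ⟶ S := V'.left.fromSpecResidueField v' ≫ V'.hom
    let tκ : Over.mk strκ ⟶ V' := Over.homMk (V'.left.fromSpecResidueField v') rfl
    have hmonoψ : Mono ((yon S).map ψ) := by
      have : MorphismProperty.monomorphisms (Sp S) ((yon S).map ψ) :=
        MorphismProperty.of_isPullback (P := MorphismProperty.monomorphisms (Sp S)) sqT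
          (MorphismProperty.monomorphisms.infer_property r.toHom)
      exact this
    let ptκ : ↥(Over.mk strκ).left :=
      (IsLocalRing.closedPoint (V'.left.residueField v') : PrimeSpectrum (V'.left.residueField v'))
    obtain ⟨e', he'⟩ := exists_factor_field_of_mono (IsAlgSpace.yon_obj V') (IsAlgSpace.yon_obj T)
      ((yon S).map ψ) strκ ((yon S).map tκ) (Points.ofScheme _ ptκ) (by
        refine ⟨Points.ofScheme T t₀, ?_⟩
        rw [map_yon_map_ofScheme, map_yon_map_ofScheme, ht₀]
        congr 1
        exact (Scheme.fromSpecResidueField_apply _ _).symm)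
    obtain ⟨e, rfl⟩ := (yon S).map_surjective e'
    have he : e.left ≫ ψ.left = V'.left.fromSpecResidueField v' := by
      have : e ≫ ψ = tκ := (yon S).map_injective (by rw [Functor.map_comp]; exact he')
      exact congrArg (fun k => k.left) this
    -- a chart of `X` mapping to the chart of `Y`
    have sqP := IsPullback.of_hasPullback f b'
    have hP : IsAlgSpace (pullback f b') :=
      isAlgSpace_of_isPullback sqP hY.diag hX (IsAlgSpace.yon_obj V')
    obtain ⟨w, hw1, hw2⟩ := exists_point_of_isPullback sqP (Points.map fst z)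
      (Points.ofScheme V' v') (by rw [hy, ← Points.ofPt_eq_map_ofScheme, hv'])
    obtain ⟨U, a, u, -, hae, hu⟩ := exists_affine_chart_at hP w
    let aX : (yon S).obj U ⟶ X := a ≫ pullback.fst f b'
    have haXe : RepWith @Etale aX := by
      have i1 := AlgSp.repWith_isMultiplicative (S := S) @Etale
      have i2 := AlgSp.repWith_isStableUnderBaseChange (S := S) @Etale
      exact (RepWith @Etale).comp_mem _ _ hae (MorphismProperty.of_isPullback sqP.flip hb'e)
    obtain ⟨h, hh⟩ := (yon S).map_surjective (a ≫ pullback.snd f b')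
    have comm : aX ≫ f = (yon S).map h ≫ b' := by
      rw [Category.assoc, sqP.w, ← Category.assoc, hh]
    have hux : Points.ofPt aX u = Points.map fst z := by
      rw [← Points.map_ofPt, hu, hw1]
    -- the base change of `T` to the chart of `X`
    have sqTU := IsPullback.of_hasPullback ψ h
    have sqTUs : IsPullback (pullback.fst ψ h).left (pullback.snd ψ h).left ψ.left h.left :=
      sqTU.map (Over.forget S)
    have hemb : IsEmbedding (pullback.snd ψ h).left :=
      isEmbedding_of_isPullback_of_factor sqTUs v' e.left he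
    have big : IsPullback ((yon S).map (pullback.fst ψ h) ≫ (yon S).map φ)
        ((yon S).map (pullback.snd ψ h)) r.toHom ((yon S).map h ≫ b') :=
      (sqTU.map (yon S)).paste_horiz sqT
    let ak : (yon S).obj (pullback ψ h) ⟶ Xk :=
      hsq.lift ((yon S).map (pullback.snd ψ h) ≫ aX)
        ((yon S).map (pullback.fst ψ h) ≫ (yon S).map φ) (by
          rw [Category.assoc, comm]; exact big.w.symm)
    have hak1 : ak ≫ fst = (yon S).map (pullback.snd ψ h) ≫ aX := hsq.lift_fst _ _ _
    have hak2 : ak ≫ snd = (yon S).map (pullback.fst ψ h) ≫ (yon S).map φ := hsq.lift_snd _ _ _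
    have sqL : IsPullback ak ((yon S).map (pullback.snd ψ h)) fst aX := by
      refine IsPullback.of_right (h₁₂ := snd) (h₂₂ := f) (v₁₃ := r.toHom) ?_ hak1 hsq.flip
      rw [hak2, comm]
      exact big
    -- points of the pullback
    have hpts : ∀ (z' : Points Xk) (u' : ↥U.left), Points.map fst z' = Points.ofPt aX u' →
        ∃ t' : ↥(pullback ψ h).left, Points.ofPt ak t' = z' ∧ (pullback.snd ψ h).left t' = u' := by
      intro z' u' hzu
      obtain ⟨τ, hτ1, hτ2⟩ := exists_point_of_isPullback sqL z' (Points.ofScheme U u')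
        (by rw [hzu, Points.ofPt_eq_map_ofScheme])
      obtain ⟨t', rfl⟩ := (Points.schemeEquiv (pullback ψ h)).surjective τ
      refine ⟨t', ?_, ?_⟩
      · rw [Points.ofPt_eq_map_ofScheme]; exact hτ1
      · apply ofScheme_injective U
        rw [← map_yon_map_ofScheme]; exact hτ2
    obtain ⟨tu, htu1, htu2⟩ := hpts z u hux.symm
    have hOk : IsOpen (Points.ofPt ak ⁻¹' O) := hO.preimage (Points.continuous_ofPt ak)
    rw [hemb.isInducing.isOpen_iff] at hOk
    obtain ⟨OU, hOU, hOUeq⟩ := hOk
    refine ⟨Points.ofPt aX '' OU, isOpenMap_ofPt_of_etale aX haXe OU hOU, ?_, ?_⟩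
    · refine ⟨u, ?_, hux⟩
      have : tu ∈ (pullback.snd ψ h).left ⁻¹' OU := by
        rw [hOUeq]; change Points.ofPt ak tu ∈ O; rw [htu1]; exact hz
      rw [Set.mem_preimage, htu2] at this
      exact this
    · rintro z' ⟨u', hu', hzu'⟩
      obtain ⟨t', ht'1, ht'2⟩ := hpts z' u' hzu'.symm
      have : t' ∈ (pullback.snd ψ h).left ⁻¹' OU := by
        rw [Set.mem_preimage, ht'2]; exact hu'
      rw [hOUeq] at this
      change Points.ofPt ak t' ∈ O at this
      rw [ht'1] at this
      exact this
  choose! O' hO'1 hO'2 hO'3 using key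
  refine ⟨⋃ z ∈ O, O' z, isOpen_biUnion hO'1, ?_⟩
  ext z'
  simp only [Set.mem_preimage, Set.mem_iUnion, exists_prop]
  constructor
  · rintro ⟨z, hz, hz'⟩
    exact hO'3 z hz hz'
  · intro hz'
    exact ⟨z', hz', hO'2 z' hz'⟩

end Groth.Agent.H52
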