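import Groth.Agent.H52.FieldCharts
import Groth.Agent.H52.FibreEmb
import Groth.Agent.H52.MonoFactor
import Groth.Agent.S10313

/-!
# helper52: quasi-finiteness at a point, base change and fibres over field points
-/

universe u

open CategoryTheory CategoryTheory.Limits AlgebraicGeometry Opposite AlgSp Topology

namespace Groth.Agent.H52

variable {S : Scheme.{u}}

/-- quasi-finite at a point -/
abbrev LqfAt {X Y : Sp S} (f : X ⟶ Y) (x : Points X) : Prop :=
  HasAtMor (fun U _ h u => ∃ W : U.Opens, u ∈ W ∧ LocallyQuasiFinite (W.ι ≫ h) ∧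
    LocallyOfFiniteType (W.ι ≫ h)) f x

/-- Quasi-finiteness at a point is compatible with base change. -/
theorem lqfAt_baseChange_iff {X Y Y' X' : Sp S} (hX : IsAlgSpace X) (hY : IsAlgSpace Y)
    (hY' : IsAlgSpace Y') (hX' : IsAlgSpace X') (f : X ⟶ Y) (hf : LocP @LocallyOfFiniteType f)
    (g : Y' ⟶ Y) (b : X' ⟶ X) (f' : X' ⟶ Y') (sq : IsPullback b f' f g) (x' : Points X') :
    LqfAt f' x' ↔ LqfAt f (Points.map b x') := by
  obtain ⟨X₀, j, -, -, -, hbc⟩ := Groth.Agent.S10313.result
    (X := ⟨X, hX⟩) (Y := ⟨Y, hY⟩) (ObjectProperty.homMk f) hf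
  have h1 := hbc ⟨Y', hY'⟩ ⟨X', hX'⟩ (ObjectProperty.homMk g) (ObjectProperty.homMk b)
    (ObjectProperty.homMk f') sq x'
  have h2 := hbc ⟨Y, hY⟩ ⟨X, hX⟩ (𝟙 _) (𝟙 _) (ObjectProperty.homMk f) (IsPullback.id_horiz f)
    (Points.map b x')
  have h3 : Points.map (𝟙 (⟨X, hX⟩ : Space S) : (⟨X, hX⟩ : Space S) ⟶ ⟨X, hX⟩).hom (Points.map b x') =
      Points.map b x' := Points.map_id _
  rw [h3] at h2
  exact h1.symm.trans h2

/-- A locally quasi-finite morphism is quasi-finite at every point. -/
theorem lqfAt_of_locP {X Y : Sp S} (hX : IsAlgSpace X) (hY : IsAlgSpace Y) (f : X ⟶ Y)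
    (H : LocP ((@LocallyQuasiFinite : MorphismProperty Scheme.{u}) ⊓ @LocallyOfFiniteType) f)
    (x : Points X) : LqfAt f x := by
  obtain ⟨U, V, a, b, h, u, ha, hb, comm, rfl⟩ := exists_chart_diagram_at hX hY f x
  have hl := H a b h ha hb comm
  have h1 : LocallyQuasiFinite h.left := hl.1
  have h2 : LocallyOfFiniteType h.left := hl.2
  exact ⟨U, V, a, b, h, u, ha, hb, comm, rfl, ⊤, trivial, inferInstance, inferInstance⟩

/-- Over a field, quasi-finite at `x` iff `x` is an open point. -/
theorem lqfAt_field_iff_isOpen_singleton {k : Type u} [Field k] (str : Spec (CommRingCat.of k) ⟶ S)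
    {X : Sp S} (hX : IsAlgSpace X) (p : X ⟶ (yon S).obj (Over.mk str))
    (hp : LocP @LocallyOfFiniteType p) (x : Points X) :
    LqfAt p x ↔ IsOpen ({x} : Set (Points X)) := by
  constructor
  · rintro ⟨U, V, a, b, h, u, ha, hb, comm, rfl, W, huW, hq, hlft⟩
    obtain ⟨b₀, rfl⟩ := (yon S).map_surjective b
    have hb₀ : Etale b₀.left := (repWith_yon_map_iff @Etale _).1 hb
    have : LocallyQuasiFinite b₀.left := H50.locallyQuasiFinite_of_unramified b₀.left
    have hq' : LocallyQuasiFinite ((W.ι ≫ h.left) ≫ b₀.left) := inferInstance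
    have hd : DiscreteTopology ↥W.toScheme :=
      discreteTopology_of_lqf_field (k := k) ((W.ι ≫ h.left) ≫ b₀.left)
    have h1 : IsOpen ({(⟨u, huW⟩ : ↥W.toScheme)} : Set ↥W.toScheme) := isOpen_discrete _
    have h2 : IsOpen ({u} : Set ↥U.left) := by
      have h2' := W.ι.isOpenEmbedding.isOpenMap _ h1
      have e : (W.ι : ↥W.toScheme → ↥U.left) '' {(⟨u, huW⟩ : ↥W.toScheme)} = {u} := by
        ext z
        constructor
        · rintro ⟨w, hw, rfl⟩
          have hw' : w = ⟨u, huW⟩ := hw
          rw [hw']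
          rfl
        · intro hz
          have hz' : z = u := hz
          exact ⟨⟨u, huW⟩, rfl, hz'.symm⟩
      rwa [e] at h2'
    have h3 := isOpenMap_ofPt_of_etale a ha _ h2
    rwa [Set.image_singleton] at h3
  · intro hx
    have hK := FC.of_lft str p hp
    obtain ⟨U, V, a, b, h, u, ha, hb, comm, rfl⟩ :=
      exists_chart_diagram_at hX (IsAlgSpace.yon_obj _) p x
    have hlft : LocallyOfFiniteType h.left := hp a b h ha hb comm
    have hu : IsOpen ({u} : Set ↥U.left) := FC.isOpen_singleton_chart_of_isOpen_singleton hK a ha u hx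
    refine hasAtMor_lqf_of_quasiFiniteAt p a b h ha hb comm u ?_
    rw [Scheme.Hom.quasiFiniteAt_iff_isOpen_singleton_asFiber]
    rw [← (h.left.fiberHomeo (h.left u)).isOpen_image]
    have : (h.left.fiberHomeo (h.left u)) '' {h.left.asFiber u} =
        (Subtype.val ⁻¹' ({u} : Set ↥U.left) : Set ↥(h.left ⁻¹' {h.left u})) := by
      ext z
      simp only [Set.image_singleton, Set.mem_singleton_iff, Set.mem_preimage]
      constructor
      · intro hz
        rw [hz]
        simp [Scheme.Hom.asFiber]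
      · intro hz
        apply Subtype.ext
        rw [hz]
        simp [Scheme.Hom.asFiber]
    rw [this]
    exact hu.preimage continuous_subtype_val

end Groth.Agent.H52
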