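import Groth.Agent.H52.FibreCond
import Groth.Agent.H52.Decent

/-!
# helper52: the fibre over a point of a decent space, via its monomorphic representative
-/

universe u

open CategoryTheory CategoryTheory.Limits AlgebraicGeometry Opposite AlgSp Topology

namespace Groth.Agent.H52

variable {S : Scheme.{u}}

theorem subsingleton_points_field {K : Type u} [Field K] (str : Spec (CommRingCat.of K) ⟶ S) :
    Subsingleton (Points ((yon S).obj (Over.mk str))) := by
  refine ⟨fun a b => ?_⟩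
  obtain ⟨a', rfl⟩ := (Points.schemeEquiv (Over.mk str)).surjective a
  obtain ⟨b', rfl⟩ := (Points.schemeEquiv (Over.mk str)).surjective b
  congr 1
  exact Subsingleton.elim (α := PrimeSpectrum K) _ _

theorem nonempty_points_field {K : Type u} [Field K] (str : Spec (CommRingCat.of K) ⟶ S) :
    Nonempty (Points ((yon S).obj (Over.mk str))) :=
  ⟨Points.ofScheme (Over.mk str) (IsLocalRing.closedPoint K : PrimeSpectrum K)⟩

/-- The fibre over a field point of a decent space is a base change of the fibre over its monomorphic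
representative. -/
theorem exists_mono_fibre {X Y : Sp S} (hY : IsAlgSpace Y) (hYd : IsDecent Y) (f : X ⟶ Y)
    (r : FieldPt Y) {Xk : Sp S} (fst : Xk ⟶ X) (snd : Xk ⟶ (yon S).obj r.pt)
    (hsq : IsPullback fst snd f r.toHom) :
    ∃ (p₀ : FieldPt Y) (X₀ : Sp S) (fst₀ : X₀ ⟶ X) (snd₀ : X₀ ⟶ (yon S).obj p₀.pt) (c : r.pt ⟶ p₀.pt)
      (e : Xk ⟶ X₀), Points.mk p₀ = Points.mk r ∧ Mono p₀.toHom ∧ RepWith @QuasiCompact p₀.toHom ∧
        IsPullback fst₀ snd₀ f p₀.toHom ∧ IsPullback e snd snd₀ ((yon S).map c) ∧ e ≫ fst₀ = fst := by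
  obtain ⟨p₀, hp₀, hm, hq⟩ := hYd (Points.mk r)
  have := hm
  obtain ⟨c, hc, -⟩ := existsUnique_factor_of_mono hY p₀ r hp₀
  have sq₀ := IsPullback.of_hasPullback f p₀.toHom
  have hcomm : fst ≫ f = (snd ≫ (yon S).map c) ≫ p₀.toHom := by
    rw [Category.assoc, hc, hsq.w]
  refine ⟨p₀, pullback f p₀.toHom, pullback.fst _ _, pullback.snd _ _, c,
    sq₀.lift fst (snd ≫ (yon S).map c) hcomm, hp₀, hm, hq, sq₀, ?_, sq₀.lift_fst _ _ _⟩
  refine IsPullback.of_right ?_ (sq₀.lift_snd _ _ _) sq₀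
  rw [sq₀.lift_fst, hc]
  exact hsq

section

variable {X Y : Sp S} (hX : IsAlgSpace X) (hY : IsAlgSpace Y) (f : X ⟶ Y)
  (hf : LocP @LocallyOfFiniteType f)
  {K K₀ : Type u} [Field K] [Field K₀] (str : Spec (CommRingCat.of K) ⟶ S)
  (str₀ : Spec (CommRingCat.of K₀) ⟶ S) (c : Over.mk str ⟶ Over.mk str₀)
  {Xk X₀ : Sp S} (hXk : IsAlgSpace Xk) (hX₀ : IsAlgSpace X₀)
  (snd : Xk ⟶ (yon S).obj (Over.mk str)) (snd₀ : X₀ ⟶ (yon S).obj (Over.mk str₀)) (e : Xk ⟶ X₀)
  (hsnd₀ : LocP @LocallyOfFiniteType snd₀)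
  (sqe : IsPullback e snd snd₀ ((yon S).map c))

include hXk hX₀ hsnd₀ sqe

theorem surjective_map_of_field_baseChange : Function.Surjective (Points.map e) := by
  refine surjective_map_fst_of_isPullback sqe fun y => ?_
  obtain ⟨z⟩ := nonempty_points_field str
  have := subsingleton_points_field str₀
  exact ⟨z, Subsingleton.elim _ _⟩

theorem lft_of_field_baseChange : LocP @LocallyOfFiniteType snd :=
  locP_baseChange etLocal_lft hX₀ (IsAlgSpace.yon_obj _) (IsAlgSpace.yon_obj _) sqe hsnd₀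

/-- Open points correspond under extension of the base field. -/
theorem isOpen_singleton_field_baseChange_iff (x : Points Xk) :
    IsOpen ({x} : Set (Points Xk)) ↔ IsOpen ({Points.map e x} : Set (Points X₀)) := by
  have hsnd := lft_of_field_baseChange str str₀ c hXk hX₀ snd snd₀ e hsnd₀ sqe
  rw [← lqfAt_field_iff_isOpen_singleton str hXk snd hsnd x,
    ← lqfAt_field_iff_isOpen_singleton str₀ hX₀ snd₀ hsnd₀ (Points.map e x)]
  exact lqfAt_baseChange_iff hX₀ (IsAlgSpace.yon_obj _) (IsAlgSpace.yon_obj _) hXk snd₀ hsnd₀ _ e snd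
    sqe x

theorem discreteTopology_field_baseChange_iff :
    DiscreteTopology (Points Xk) ↔ DiscreteTopology (Points X₀) := by
  rw [discreteTopology_iff_isOpen_singleton, discreteTopology_iff_isOpen_singleton]
  constructor
  · intro h x₀
    obtain ⟨x, rfl⟩ := surjective_map_of_field_baseChange str str₀ c hXk hX₀ snd snd₀ e hsnd₀ sqe x₀
    exact (isOpen_singleton_field_baseChange_iff str str₀ c hXk hX₀ snd snd₀ e hsnd₀ sqe x).1 (h x)
  · intro h x
    exact (isOpen_singleton_field_baseChange_iff str str₀ c hXk hX₀ snd snd₀ e hsnd₀ sqe x).2 (h _)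

end

end Groth.Agent.H52
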