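import Groth.Agent.H52.FibreCond2

/-!
# helper52: fibres of a morphism locally of finite type over field points
-/

universe u

open CategoryTheory CategoryTheory.Limits AlgebraicGeometry Opposite AlgSp Topology

namespace Groth.Agent.H52

variable {S : Scheme.{u}}

section

variable {X Y : Sp S} (hX : IsAlgSpace X) (hY : IsAlgSpace Y) (f : X ⟶ Y)
  (hf : LocP @LocallyOfFiniteType f) (r : FieldPt Y)
  {Xk : Sp S} (fst : Xk ⟶ X) (snd : Xk ⟶ (yon S).obj r.pt) (hsq : IsPullback fst snd f r.toHom)

include hsq in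
theorem range_map_fst_eq_fibre :
    Set.range (Points.map fst) = Points.map f ⁻¹' {Points.mk r} := by
  have hsub := subsingleton_points_field r.str
  let pt : ↥r.pt.left := (IsLocalRing.closedPoint r.K : PrimeSpectrum r.K)
  ext x
  constructor
  · rintro ⟨z, rfl⟩
    change Points.map f (Points.map fst z) = Points.mk r
    rw [← Points.map_comp, hsq.w, Points.map_comp,
      Subsingleton.elim (Points.map snd z) (Points.ofScheme r.pt pt), map_toHom_ofScheme]
  · intro hx
    obtain ⟨z, hz, -⟩ := exists_point_of_isPullback hsq x (Points.ofScheme r.pt pt)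
      (by rw [hx, map_toHom_ofScheme])
    exact ⟨z, hz⟩

include hX hY hsq in
theorem isAlgSpace_fibre : IsAlgSpace Xk :=
  isAlgSpace_of_isPullback hsq hY.diag hX (IsAlgSpace.yon_obj _)

include hX hY hf hsq in
theorem lft_snd_fibre : LocP @LocallyOfFiniteType snd :=
  locP_baseChange etLocal_lft hX hY (IsAlgSpace.yon_obj _) hsq hf

include hX hY hf hsq in
/-- (7) ⇔ (8). -/
theorem dim_fibre_eq_zero_iff [Nonempty (Points Xk)] :
    AlgSp.dim Xk = 0 ↔ ∀ x : Points X, Points.map f x = Points.mk r → LqfAt f x := by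
  have hXk := isAlgSpace_fibre hX hY f r fst snd hsq
  have hsnd := lft_snd_fibre hX hY f hf r fst snd hsq
  have hbc := fun z => lqfAt_baseChange_iff hX hY (IsAlgSpace.yon_obj _) hXk f hf r.toHom fst snd hsq z
  constructor
  · intro h x hx
    have hx' : x ∈ Set.range (Points.map fst) := by
      rw [range_map_fst_eq_fibre f r fst snd hsq]; exact hx
    obtain ⟨z, rfl⟩ := hx'
    have hl : LocP ((@LocallyQuasiFinite : MorphismProperty Scheme.{u}) ⊓ @LocallyOfFiniteType) snd :=
      (FC.lqf_field_iff r.str hXk snd).2 ⟨hsnd, h.le⟩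
    exact (hbc z).1 (lqfAt_of_locP hXk (IsAlgSpace.yon_obj _) snd hl z)
  · intro H
    have hl : LocP ((@LocallyQuasiFinite : MorphismProperty Scheme.{u}) ⊓ @LocallyOfFiniteType) snd := by
      refine Groth.Agent.H50.locP_of_forall_hasAtMor_nbhd etLocal_lqf snd fun z => ?_
      refine (hbc z).2 (H _ ?_)
      have : Points.map fst z ∈ Set.range (Points.map fst) := ⟨z, rfl⟩
      rw [range_map_fst_eq_fibre f r fst snd hsq] at this
      exact this
    exact le_antisymm ((FC.lqf_field_iff r.str hXk snd).1 hl).2 (FC.zero_le_dim_of_nonempty hXk)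

include hX hY hf hsq in
/-- Over a decent target, the fibre over a point is homeomorphic to the space of points of the fibre over the
monomorphic representative, of which `X_k` is a base change along a field extension. -/
theorem exists_fibre_data (hYd : IsDecent Y) :
    ∃ (K₀ : Type u) (_ : Field K₀) (str₀ : Spec (CommRingCat.of K₀) ⟶ S) (X₀ : Sp S)
      (snd₀ : X₀ ⟶ (yon S).obj (Over.mk str₀)) (fst₀ : X₀ ⟶ X) (e : Xk ⟶ X₀)
      (c : r.pt ⟶ Over.mk str₀),
      IsAlgSpace X₀ ∧ LocP @LocallyOfFiniteType snd₀ ∧ IsPullback e snd snd₀ ((yon S).map c) ∧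
        e ≫ fst₀ = fst ∧ IsEmbedding (Points.map fst₀) ∧
        Set.range (Points.map fst₀) = Points.map f ⁻¹' {Points.mk r} ∧ (IsDecent X → IsDecent X₀) := by
  obtain ⟨p₀, X₀, fst₀, snd₀, c, e, hp₀, hm, hq, sq₀, sqe, he⟩ :=
    exists_mono_fibre hY hYd f r fst snd hsq
  have hX₀ := isAlgSpace_fibre hX hY f p₀ fst₀ snd₀ sq₀
  have hsnd₀ := lft_snd_fibre hX hY f hf p₀ fst₀ snd₀ sq₀
  obtain ⟨hemb, hrange⟩ := isEmbedding_fibre hX hY f p₀ hm hq fst₀ snd₀ sq₀
  refine ⟨p₀.K, inferInstance, p₀.str, X₀, snd₀, fst₀, e, c, hX₀, hsnd₀, sqe, he, hemb,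
    by rw [hrange, hp₀], fun hXd => ?_⟩
  refine isDecent_of_representable fst₀ ?_ hXd
  exact MorphismProperty.of_isPullback (P := Representable) sq₀.flip (hY.representable_from_yon p₀.toHom)

end

end Groth.Agent.H52
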