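import Groth.Agent.H52.DiscreteField

/-!
# helper52: spaces whose etale charts are locally of finite type over a field (arbitrary base scheme)

Generalization of `IsolatedPt2`, `IsolatedPt3`, `DiscreteField`, `DimZeroField` from the base `Spec k` to an
arbitrary base `S`: the hypothesis is that every etale chart admits a morphism locally of finite type to `Spec k`.
-/

universe u

open CategoryTheory CategoryTheory.Limits AlgebraicGeometry Opposite AlgSp Topology

namespace Groth.Agent.H52

variable {S : Scheme.{u}}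

/-- Every etale chart of `X` admits a morphism locally of finite type to the spectrum of the field `k`. -/
def FieldCharts (k : Type u) [Field k] (X : Sp S) : Prop :=
  ∀ (U : Over S) (a : (yon S).obj U ⟶ X), RepWith @Etale a →
    ∃ s : U.left ⟶ Spec (CommRingCat.of k), LocallyOfFiniteType s

namespace FC

variable {k : Type u} [Field k]

theorem of_lft (str : Spec (CommRingCat.of k) ⟶ S) {X : Sp S}
    (p : X ⟶ (yon S).obj (Over.mk str)) (hp : LocP @LocallyOfFiniteType p) : FieldCharts k X := by
  intro U a ha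
  obtain ⟨h, hh⟩ := (yon S).map_surjective (a ≫ p)
  exact ⟨h.left, hp a (𝟙 _) h ha (repWith_id _ _) (by rw [Category.comp_id, hh])⟩

theorem isOpen_singleton_ofPt_of_codim_zero_nbhd {X : Sp S} (hK : FieldCharts k X)
    {U : Over S} (a : (yon S).obj U ⟶ X) (ha : RepWith @Etale a)
    (N : U.left.Opens) (hN : ∀ w ∈ N, ringKrullDim (U.left.presheaf.stalk w) = 0) (u : ↥U.left)
    (hu : u ∈ N) : IsOpen ({u} : Set ↥U.left) ∧ IsOpen ({Points.ofPt a u} : Set (Points X)) := by
  obtain ⟨s, hs⟩ := hK U a ha
  have h1 := H52.isOpen_singleton_of_codim_zero_nbhd s N hN u hu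
  refine ⟨h1, ?_⟩
  have h2 := isOpenMap_ofPt_of_etale a ha _ h1
  rwa [Set.image_singleton] at h2

theorem isOpen_singleton_chart_of_isOpen_singleton {X : Sp S} (hK : FieldCharts k X)
    {U : Over S} (a : (yon S).obj U ⟶ X) (ha : RepWith @Etale a)
    (u : ↥U.left) (h : IsOpen ({Points.ofPt a u} : Set (Points X))) :
    IsOpen ({u} : Set ↥U.left) := by
  let N : U.left.Opens := ⟨Points.ofPt a ⁻¹' {Points.ofPt a u}, h.preimage (Points.continuous_ofPt a)⟩
  have hN : ∀ w ∈ N, ringKrullDim (U.left.presheaf.stalk w) = 0 := by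
    intro w hw
    refine codim_zero_of_generization_const a ha w fun ξ hξ => ?_
    have hξN : ξ ∈ N := hξ.mem_open N.2 hw
    exact hξN.trans hw.symm
  exact (isOpen_singleton_ofPt_of_codim_zero_nbhd hK a ha N hN u rfl).1

theorem hasAt_localDim_zero_iff_isOpen_singleton {X : Sp S} (hX : IsAlgSpace X)
    (hK : FieldCharts k X) (x : Points X) :
    IsOpen ({x} : Set (Points X)) ↔ HasAt (fun U u => FlatMor.localDim ↥U u = 0) X x := by
  constructor
  · intro h
    obtain ⟨U, a, u, -, ha, rfl⟩ := exists_affine_chart_at hX x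
    exact ⟨U, a, u, ha, rfl, localDim_eq_zero_of_isOpen_singleton u
      (isOpen_singleton_chart_of_isOpen_singleton hK a ha u h)⟩
  · rintro ⟨U, a, u, ha, rfl, hd⟩
    obtain ⟨M, huM, hM⟩ := exists_nbhd_dim_le_zero_of_localDim_eq_zero u hd
    refine (isOpen_singleton_ofPt_of_codim_zero_nbhd hK a ha M (fun w hw => ?_) u huM).2
    let M' : U.left.Opens := M
    have h1 : ringKrullDim (M'.toScheme.presheaf.stalk ⟨w, hw⟩) = 0 :=
      ringKrullDim_stalk_eq_zero_of_topologicalKrullDim_le (X := M'.toScheme) ⟨w, hw⟩ hM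
    rw [ringKrullDim_stalk_eq_coheight, ← coheight_eq_of_isOpenImmersion M'.ι,
      ← ringKrullDim_stalk_eq_coheight] at h1
    exact h1

theorem isOpen_singleton_iff_isClosed_and {X : Sp S} (hX : IsAlgSpace X)
    (hK : FieldCharts k X) (x : Points X) :
    IsOpen ({x} : Set (Points X)) ↔
      (IsClosed ({x} : Set (Points X)) ∧ ∀ x' : Points X, x' ⤳ x → x' = x) := by
  constructor
  · intro h
    refine ⟨?_, fun x' hx' => hx'.mem_open h rfl⟩
    obtain ⟨U, a, hae, has⟩ := hX.atlas
    obtain ⟨s, hs⟩ := hK U a hae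
    have hUn : IsLocallyNoetherian U.left := LocallyOfFiniteType.isLocallyNoetherian s
    have hUj : JacobsonSpace U.left := LocallyOfFiniteType.jacobsonSpace s
    have hNcl : IsClosed (Points.ofPt a ⁻¹' {x}) := by
      refine isClosed_of_forall_isOpen_singleton _ fun w hw => ?_
      have hw' : Points.ofPt a w = x := hw
      exact isOpen_singleton_chart_of_isOpen_singleton hK a hae w (by rw [hw']; exact h)
    have h1 := isOpenMap_ofPt_of_etale a hae _ hNcl.isOpen_compl
    have h2 : Points.ofPt a '' (Points.ofPt a ⁻¹' {x})ᶜ = ({x} : Set (Points X))ᶜ := by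
      rw [← Set.preimage_compl]
      exact Set.image_preimage_eq _ (surjective_ofPt_of_surjective a has)
    rw [h2] at h1
    exact isOpen_compl_iff.mp h1
  · rintro ⟨hcl, hgen⟩
    obtain ⟨U, a, u, -, ha, rfl⟩ := exists_affine_chart_at hX x
    obtain ⟨s, hs⟩ := hK U a ha
    have hUn : IsLocallyNoetherian U.left := LocallyOfFiniteType.isLocallyNoetherian s
    have hNcl : IsClosed (Points.ofPt a ⁻¹' {Points.ofPt a u}) :=
      hcl.preimage (Points.continuous_ofPt a)
    have hN0 : ∀ w ∈ Points.ofPt a ⁻¹' {Points.ofPt a u},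
        ringKrullDim (U.left.presheaf.stalk w) = 0 := by
      intro w hw
      have hw' : Points.ofPt a w = Points.ofPt a u := hw
      refine codim_zero_of_generization_const a ha w fun ξ hξ => ?_
      rw [hw']
      refine hgen _ ?_
      rw [← hw']
      exact hξ.map (Points.continuous_ofPt a)
    have hNop := isOpen_of_isClosed_of_codim_zero _ hNcl hN0
    exact (isOpen_singleton_ofPt_of_codim_zero_nbhd hK a ha ⟨_, hNop⟩ hN0 u rfl).2

theorem localDim_points_eq_zero_iff {X : Sp S} (hX : IsAlgSpace X)
    (hK : FieldCharts k X) (hd : IsDecent X) (x : Points X) :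
    FlatMor.localDim (Points X) x = 0 ↔ IsOpen ({x} : Set (Points X)) := by
  constructor
  · intro h
    have : T0Space (Points X) := t0Space_of_isDecent hX hd
    obtain ⟨M, hxM, hM⟩ := exists_nbhd_dim_le_zero_of_localDim_eq_zero x h
    obtain ⟨U, a, u, -, ha, rfl⟩ := exists_affine_chart_at hX x
    let N : U.left.Opens := ⟨Points.ofPt a ⁻¹' (M : Set (Points X)), M.2.preimage (Points.continuous_ofPt a)⟩
    have hN0 : ∀ w ∈ N, ringKrullDim (U.left.presheaf.stalk w) = 0 := by
      intro w hw
      refine codim_zero_of_generization_const a ha w fun ξ hξ => ?_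
      exact eq_of_specializes_of_dim_le_zero M hM (hξ.map (Points.continuous_ofPt a)) hw
    exact (isOpen_singleton_ofPt_of_codim_zero_nbhd hK a ha N hN0 u hxM).2
  · exact localDim_eq_zero_of_isOpen_singleton x

theorem zero_le_dim_of_nonempty {X : Sp S} (hX : IsAlgSpace X)
    [Nonempty (Points X)] : 0 ≤ AlgSp.dim X := by
  obtain ⟨x⟩ := ‹Nonempty (Points X)›
  obtain ⟨U, a, u, -, ha, -⟩ := exists_affine_chart_at hX x
  have : Nonempty ↥U.left := ⟨u⟩
  refine le_trans (topologicalKrullDim_nonneg_of_nonempty ↥U.left) ?_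
  unfold AlgSp.dim
  exact le_iSup_of_le U (le_iSup_of_le a (le_iSup_of_le ha le_rfl))

theorem discreteTopology_points_iff_lqf (str : Spec (CommRingCat.of k) ⟶ S) {X : Sp S} (hX : IsAlgSpace X)
    (p : X ⟶ (yon S).obj (Over.mk str)) (hp : LocP @LocallyOfFiniteType p) :
    DiscreteTopology (Points X) ↔
      LocP (@LocallyQuasiFinite ⊓ @LocallyOfFiniteType : MorphismProperty Scheme.{u}) p := by
  constructor
  · intro hd
    refine Groth.Agent.H50.locP_of_forall_hasAtMor_nbhd etLocal_lqf p fun x => ?_
    refine hasAtMor_lqf_of_fibre_codim_zero hX (IsAlgSpace.yon_obj _) p hp x fun x' _ => ?_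
    obtain ⟨W, c, w, -, hce, rfl⟩ := exists_affine_chart_at hX x'
    exact hasAt_codim_zero_of_discrete c hce w
  · intro H
    obtain ⟨U, a, hae, has⟩ := hX.atlas
    obtain ⟨h, hh⟩ := (yon S).map_surjective (a ≫ p)
    have hl := H a (𝟙 _) h hae (repWith_id _ _) (by rw [Category.comp_id, hh])
    have : LocallyQuasiFinite h.left := hl.1
    have : DiscreteTopology ↥U.left := discreteTopology_of_lqf_field (k := k) h.left
    exact discreteTopology_points_of_chart a hae has

theorem lqf_field_iff (str : Spec (CommRingCat.of k) ⟶ S) {X : Sp S} (hX : IsAlgSpace X)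
    (p : X ⟶ (yon S).obj (Over.mk str)) :
    LocP (@LocallyQuasiFinite ⊓ @LocallyOfFiniteType : MorphismProperty Scheme.{u}) p ↔
      LocP @LocallyOfFiniteType p ∧ AlgSp.dim X ≤ 0 := by
  constructor
  · intro H
    refine ⟨fun U V a b h ha hb comm => (H a b h ha hb comm).2, ?_⟩
    unfold AlgSp.dim
    refine iSup_le fun U => iSup_le fun a => iSup_le fun ha => ?_
    obtain ⟨h, hh⟩ := (yon S).map_surjective (a ≫ p)
    have hl := H a (𝟙 _) h ha (repWith_id _ _) (by rw [Category.comp_id, hh])
    have : LocallyQuasiFinite h.left := hl.1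
    have : DiscreteTopology ↥U.left := discreteTopology_of_lqf_field (k := k) h.left
    exact topologicalKrullDim_zero_of_discreteTopology _
  · rintro ⟨hlft, hdim⟩
    refine Groth.Agent.H50.locP_of_forall_hasAtMor_nbhd etLocal_lqf p fun x => ?_
    refine hasAtMor_lqf_of_fibre_codim_zero hX (IsAlgSpace.yon_obj _) p hlft x fun x' _ => ?_
    obtain ⟨W, c, w, -, hce, rfl⟩ := exists_affine_chart_at hX x'
    refine ⟨W, c, w, hce, rfl, ringKrullDim_stalk_eq_zero_of_topologicalKrullDim_le w ?_⟩
    refine le_trans ?_ hdim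
    unfold AlgSp.dim
    exact le_iSup_of_le W (le_iSup_of_le c (le_iSup_of_le hce le_rfl))

theorem discreteTopology_points_iff_dim (str : Spec (CommRingCat.of k) ⟶ S) {X : Sp S} (hX : IsAlgSpace X)
    (p : X ⟶ (yon S).obj (Over.mk str)) (hp : LocP @LocallyOfFiniteType p)
    [Nonempty (Points X)] : DiscreteTopology (Points X) ↔ AlgSp.dim X = 0 := by
  rw [discreteTopology_points_iff_lqf str hX p hp, lqf_field_iff str hX p]
  constructor
  · rintro ⟨-, h⟩
    exact le_antisymm h (zero_le_dim_of_nonempty hX)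
  · intro h
    exact ⟨hp, h.le⟩

open Groth.Agent.H9.FibDim in
theorem discreteTopology_points_of_dim_zero_of_decent {X : Sp S} (hX : IsAlgSpace X)
    (hK : FieldCharts k X) (hd : IsDecent X) (h : topologicalKrullDim (Points X) = 0) :
    DiscreteTopology (Points X) := by
  rw [discreteTopology_iff_isOpen_singleton]
  intro x
  rw [← localDim_points_eq_zero_iff hX hK hd x]
  apply le_antisymm
  · rw [← h]; exact localDim_le_dim _ x
  · have hne := localDim_ne_bot (Points X) x
    obtain ⟨a, ha⟩ := WithBot.ne_bot_iff_exists.mp hne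
    rw [← ha]
    exact WithBot.coe_le_coe.mpr zero_le

theorem discreteTopology_points_of_finite_of_decent {X : Sp S} (hX : IsAlgSpace X)
    (hK : FieldCharts k X) (hd : IsDecent X) [Finite (Points X)] : DiscreteTopology (Points X) := by
  rw [discreteTopology_iff_isOpen_singleton]
  intro x
  obtain ⟨U, a, u, hU, ha, rfl⟩ := exists_affine_chart_at hX x
  obtain ⟨s, hs⟩ := hK U a ha
  have hUj : JacobsonSpace U.left := LocallyOfFiniteType.jacobsonSpace s
  have hfin : (Points.ofPt a ⁻¹' (Set.univ : Set (Points X))).Finite :=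
    Set.finite_univ.preimage' fun x _ => finite_fibre_of_isDecent hd x U a hU ha
  rw [Set.preimage_univ] at hfin
  have : Finite ↥U.left := Set.finite_univ_iff.mp hfin
  have h1 : IsOpen ({u} : Set ↥U.left) := isOpen_discrete _
  have h2 := isOpenMap_ofPt_of_etale a ha _ h1
  rwa [Set.image_singleton] at h2

end FC

end Groth.Agent.H52
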