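import Groth.Agent.H52.SL.General
import Groth.Agent.H52.DimZero2
import Groth.Agent.H52.DescCI
import Groth.Agent.H51.DiagSep
import Groth.Agent.H50.RepIso

/-!
# Algebraic spaces over a field all of whose etale charts are locally Artinian (helper52)
-/

set_option autoImplicit false
universe u
open CategoryTheory CategoryTheory.Limits AlgebraicGeometry
open AlgSp

namespace Groth.Agent.H52.FieldLqf

open Groth.Agent.H50 Groth.Agent.H52 Groth.Agent.H52.SL Groth.Agent.H52.DimZero

variable {k : Type u} [Field k]

/-- If all etale charts of `X` (locally of finite type over a field) are locally Artinian, then `X` is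
separated over the field. -/
theorem isSeparatedMor_of_charts_artinian {X : AlgSp.Sp (Spec (CommRingCat.of k))} (hX : IsAlgSpace X)
    (p : X ⟶ (AlgSp.yon (Spec (CommRingCat.of k))).obj (Over.mk (𝟙 _)))
    (hp : AlgSp.LocP @LocallyOfFiniteType p)
    (hch : ∀ ⦃U : Over (Spec (CommRingCat.of k))⦄ (a : (AlgSp.yon _).obj U ⟶ X),
      AlgSp.RepWith @Etale a → IsLocallyArtinian U.left) :
    IsSeparatedMor p := by
  have hB : IsAlgSpace ((AlgSp.yon (Spec (CommRingCat.of k))).obj (Over.mk (𝟙 _))) := IsAlgSpace.yon_obj _
  have hbcE := AlgSp.repWith_isStableUnderBaseChange (S := Spec (CommRingCat.of k)) @Etale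
  obtain ⟨U, T, R, a, α, β, α', β', ι, r, hae, has, hre, hrs, sqR, sqT, hια, hιβ, magic⟩ :=
    Groth.Agent.H51.exists_diagonal_chart hX hB p
  haveI hU : IsLocallyArtinian U.left := hch a hae
  obtain ⟨g, hg⟩ := (AlgSp.yon (Spec (CommRingCat.of k))).map_surjective (a ≫ p)
  haveI hglft : LocallyOfFiniteType g.left :=
    hp a (𝟙 _) g hae (SL.repWith_etale_id _) (by rw [hg, Category.comp_id])
  haveI hglqf : LocallyQuasiFinite g.left := lqf_of_discrete g.left
  have sqT' : IsPullback α β g g := by
    refine IsPullback.of_map (AlgSp.yon (Spec (CommRingCat.of k))) ?_ (by rw [hg]; exact sqT)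
    apply (AlgSp.yon (Spec (CommRingCat.of k))).map_injective
    rw [Functor.map_comp, Functor.map_comp, hg]
    exact sqT.w
  have sqTl : IsPullback α.left β.left g.left g.left := sqT'.map (Over.forget _)
  haveI : LocallyQuasiFinite β.left := MorphismProperty.of_isPullback (P := @LocallyQuasiFinite) sqTl hglqf
  haveI : LocallyOfFiniteType β.left := MorphismProperty.of_isPullback (P := @LocallyOfFiniteType) sqTl hglft
  haveI : IsLocallyNoetherian T.left := LocallyOfFiniteType.isLocallyNoetherian β.left
  haveI : DiscreteTopology ↥T.left := discrete_of_lqf β.left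
  haveI hT : IsLocallyArtinian T.left := .of_isLocallyNoetherian_of_discreteTopology
  have hβ'e : RepWith @Etale ((AlgSp.yon _).map β') := MorphismProperty.of_isPullback sqR hae
  haveI : Etale β'.left := (repWith_yon_map_iff @Etale β').1 hβ'e
  haveI : LocallyOfFiniteType (ι.left ≫ β.left) := by
    rw [← Over.comp_left, hιβ]; infer_instance
  haveI : LocallyOfFiniteType ι.left := locallyOfFiniteType_of_comp ι.left β.left
  haveI hιm : Mono ((AlgSp.yon (Spec (CommRingCat.of k))).map ι) := magic.mono_snd_of_mono
  haveI hιm' : Mono ι := (AlgSp.yon (Spec (CommRingCat.of k))).mono_of_mono_map hιm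
  haveI : Mono ι.left := inferInstance
  have hCI : IsClosedImmersion ι.left := isClosedImmersion_of_mono_lft ι.left
  exact Groth.Agent.H50.repWith_of_isPullback_atlas isClosedImmersion_descendsAlong_fppf
    (Groth.Agent.H51.representable_pullback_diagonal hX p) hre hrs magic
    ((repWith_yon_map_iff @IsClosedImmersion ι).2 hCI)

theorem repWith_etale_of_isIso {S : Scheme.{u}} {F G : AlgSp.Sp S} (f : F ⟶ G) [IsIso f] :
    RepWith @Etale f := by
  haveI : MorphismProperty.ContainsIdentities (@Etale : MorphismProperty Scheme.{u}) :=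
    (inferInstance : MorphismProperty.IsMultiplicative (@Etale : MorphismProperty Scheme.{u})).toContainsIdentities
  haveI : MorphismProperty.RespectsIso (@Etale : MorphismProperty Scheme.{u}) :=
    MorphismProperty.IsStableUnderBaseChange.respectsIso
  exact Groth.Agent.H50.repWith_of_isIso @Etale f

end Groth.Agent.H52.FieldLqf
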