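import Groth.Agent.H50.Descent
import Groth.Agent.H50.Fppf
import Groth.Agent.H50.Kernel
import Mathlib.AlgebraicGeometry.Sites.Fpqc
import Mathlib.CategoryTheory.MorphismProperty.Local

/-!
# Properties fppf local on the base: checking `RepWith P` on atlases and after surjective base change (helper52)
-/

set_option autoImplicit false
universe u

open CategoryTheory CategoryTheory.Limits AlgebraicGeometry Opposite AlgSp Topology MorphismProperty

namespace Groth.Agent.H52

/-- A property local at the target for the fppf precoverage descends along fppf morphisms. -/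
theorem descendsAlong_fppf_of_isLocalAtTarget (P : MorphismProperty Scheme.{u})
    [P.IsLocalAtTarget Scheme.fppfPrecoverage] : DescendsAlong P H50.fppfProp := by
  refine ⟨fun {A X Y Z fst snd f g} sq hf hfst => ?_⟩
  obtain ⟨⟨h1, h2⟩, h3⟩ := hf
  have : Surjective f := h1
  have : Flat f := h2
  have : LocallyOfFinitePresentation f := h3
  refine IsLocalAtTarget.of_forall_pullbackSnd (K := Scheme.fppfPrecoverage)
    (f.singleton_mem_fppfPrecoverage) ?_
  rintro U g' _ ⟨⟩
  have e : pullback.snd g f = (sq.flip.isoPullback).inv ≫ fst := by simp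
  rw [e]
  exact (P.cancel_left_of_respectsIso _ _).2 hfst

variable {S : Scheme.{u}}

/-- `RepWith P` for a representable morphism can be checked on one etale surjective chart of the target, for `P` fppf
local on the base. -/
theorem repWith_iff_of_atlas {F G : Sp S} (f : F ⟶ G) (hf : Representable f) {U V : Over S}
    (q : (yon S).obj U ⟶ G) (hqe : RepWith @Etale q) (hqs : RepWith @Surjective q)
    (fst : (yon S).obj V ⟶ F) (g : V ⟶ U) (sq : IsPullback fst ((yon S).map g) f q)
    (P : MorphismProperty Scheme.{u}) [P.IsStableUnderBaseChange]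
    [P.IsLocalAtTarget Scheme.fppfPrecoverage] : RepWith P f ↔ P g.left := by
  constructor
  · intro h
    exact h.2 _ _ _ sq
  · intro h
    exact H50.repWith_of_isPullback_atlas (descendsAlong_fppf_of_isLocalAtTarget P) hf hqe hqs sq
      ((repWith_yon_map_iff P g).2 h)

/-- `RepWith P` for a representable morphism can be checked after a base change along an epimorphism of sheaves,
for `P` fppf local on the base. -/
theorem repWith_of_epi_baseChange {F G H Q : Sp S} (a : F ⟶ G) (ha : Representable a) (b : H ⟶ G)
    [Epi b] (b' : Q ⟶ F) (a' : Q ⟶ H) (sq : IsPullback b' a' a b)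
    (P : MorphismProperty Scheme.{u}) [P.IsStableUnderBaseChange]
    [P.IsLocalAtTarget Scheme.fppfPrecoverage] (h : RepWith P a') : RepWith P a := by
  have : P.RespectsIso := MorphismProperty.IsStableUnderBaseChange.respectsIso
  refine MorphismProperty.relative_of_snd ha (fun T g => ?_)
  change P (ha.snd g).left
  obtain ⟨Sg, hSg, hlift⟩ := H50.exists_local_lift b g
  choose T' gτ hgτ hfl hfp t' ht' using fun τ : ↥T.left => H50.exists_fppf_of_mem_J hSg τ
  have hcov : Presieve.ofArrows (fun τ => (T' τ).left) (fun τ => (gτ τ).left) ∈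
      Scheme.fppfPrecoverage T.left := by
    rw [Scheme.fppfPrecoverage, Scheme.ofArrows_mem_precoverage_iff]
    exact ⟨fun τ => ⟨τ, t' τ, ht' τ⟩, fun τ => ⟨hfl τ, hfp τ⟩⟩
  refine IsLocalAtTarget.of_forall_pullbackSnd (K := Scheme.fppfPrecoverage) hcov ?_
  rintro U g' _ ⟨τ⟩
  obtain ⟨x, hx⟩ := hlift (gτ τ) (hgτ τ)
  -- the pullback in `Over S`
  have sqO := IsPullback.of_hasPullback (ha.snd g) (gτ τ)
  have sqS : IsPullback (pullback.fst (ha.snd g) (gτ τ)).left (pullback.snd (ha.snd g) (gτ τ)).left
      (ha.snd g).left (gτ τ).left := sqO.map (Over.forget S)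
  have e : pullback.snd (ha.snd g).left (gτ τ).left =
      (sqS.isoPullback).inv ≫ (pullback.snd (ha.snd g) (gτ τ)).left := by simp
  rw [e]
  refine (P.cancel_left_of_respectsIso _ _).2 ?_
  -- the big square is a pullback of `a` along `x ≫ b`
  have big := (sqO.map (yon S)).paste_horiz (ha.isPullback g)
  rw [← hx] at big
  have hw : ((yon S).map (pullback.fst (ha.snd g) (gτ τ)) ≫ ha.fst g) ≫ a =
      ((yon S).map (pullback.snd (ha.snd g) (gτ τ)) ≫ x) ≫ b := by
    rw [Category.assoc]; exact big.w
  have sqL : IsPullback (sq.lift _ _ hw) ((yon S).map (pullback.snd (ha.snd g) (gτ τ))) a' x := by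
    refine IsPullback.of_right ?_ (sq.lift_snd _ _ hw) sq
    rw [sq.lift_fst]
    exact big
  exact h.2 x _ _ sqL

end Groth.Agent.H52
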