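import Groth.Agent.H25.GeomConnAlgSp
import Groth.Agent.H52.FibProd
import Groth.Agent.H52.Points

/-!
# Connected components of fibres over separably closed field points (helper52)
-/

set_option autoImplicit false
universe u
open CategoryTheory CategoryTheory.Limits AlgebraicGeometry Opposite
open AlgSp

namespace Groth.Agent.H52

variable {S : Scheme.{u}}

theorem yon_map_comp_toHom {F : Sp S} (p : FieldPt F) {T : Over S} (a : T ⟶ p.pt) :
    (yon S).map a ≫ p.toHom = (J S).uliftYonedaEquiv.symm (F.obj.map a.op p.val) :=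
  (J S).uliftYonedaEquiv_symm_naturality_left a F p.val

/-- Equivalent field points give equal composites to the sheaf. -/
theorem exists_common_ext_of_mk_eq {F : Sp S} {p q : FieldPt F} (h : Points.mk p = Points.mk q) :
    ∃ (Ω : Type u) (_ : Field Ω) (w : Spec (CommRingCat.of Ω) ⟶ S) (a : Over.mk w ⟶ p.pt)
      (b : Over.mk w ⟶ q.pt), (yon S).map a ≫ p.toHom = (yon S).map b ≫ q.toHom := by
  obtain ⟨Ω, hΩ, w, a, b, hab⟩ := Points.mk_eq_mk_iff.1 h
  refine ⟨Ω, hΩ, w, a, b, ?_⟩
  rw [yon_map_comp_toHom, yon_map_comp_toHom, hab]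

set_option backward.isDefEq.respectTransparency.types false in
/-- The fibre over a separably closed field point and its base change to a larger field have the same number of
connected components. -/
theorem card_connectedComponents_fibre_ext {X Y : Sp S} (hX : IsAlgSpace X) (hY : IsAlgSpace Y)
    (f : X ⟶ Y) (k : FieldPt Y) [IsSepClosed k.K] {Ω : Type u} [Field Ω]
    {w : Spec (CommRingCat.of Ω) ⟶ S} (a : Over.mk w ⟶ k.pt)
    {X₁ : Sp S} {a₁ : X₁ ⟶ X} {b₁ : X₁ ⟶ (yon S).obj k.pt} (h₁ : IsPullback a₁ b₁ f k.toHom)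
    {XΩ : Sp S} {aΩ : XΩ ⟶ X} {bΩ : XΩ ⟶ (yon S).obj (Over.mk w)}
    (hΩ : IsPullback aΩ bΩ f ((yon S).map a ≫ k.toHom)) :
    ENat.card (_root_.ConnectedComponents (Points XΩ)) =
      ENat.card (_root_.ConnectedComponents (Points X₁)) := by
  classical
  have hψ0 : aΩ ≫ f = (bΩ ≫ (yon S).map a) ≫ k.toHom := by
    rw [Category.assoc]; exact hΩ.w
  obtain ⟨ψ, hψ1, hψ2⟩ : ∃ ψ : XΩ ⟶ X₁, ψ ≫ a₁ = aΩ ∧ ψ ≫ b₁ = bΩ ≫ (yon S).map a :=
    ⟨h₁.lift _ _ hψ0, h₁.lift_fst _ _ _, h₁.lift_snd _ _ _⟩
  have sqψ : IsPullback ψ bΩ b₁ ((yon S).map a) := by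
    refine IsPullback.of_right ?_ hψ2 h₁
    rw [hψ1]
    exact hΩ
  have hX₁ : IsAlgSpace X₁ := isAlgSpace_of_isPullback h₁ hY.diag hX (IsAlgSpace.yon_obj _)
  obtain ⟨V, p, hpe, hps⟩ := hX₁.atlas
  obtain ⟨β, hβ⟩ := (yon S).map_surjective (p ≫ b₁)
  have hw : pullback.snd β.left a.left ≫ w = pullback.fst β.left a.left ≫ V.hom := by
    have e1 : a.left ≫ k.str = w := Over.w a
    have e2 : β.left ≫ k.str = V.hom := Over.w β
    calc pullback.snd β.left a.left ≫ w
        = pullback.snd β.left a.left ≫ (a.left ≫ k.str) := congrArg (fun z => pullback.snd β.left a.left ≫ z) e1.symm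
      _ = (pullback.fst β.left a.left ≫ β.left) ≫ k.str := by
          rw [← Category.assoc, pullback.condition]
      _ = pullback.fst β.left a.left ≫ V.hom := by rw [Category.assoc, e2]
  let V' : Over S := Over.mk (pullback.fst β.left a.left ≫ V.hom)
  let q : V' ⟶ V := Over.homMk (pullback.fst β.left a.left) rfl
  let r : V' ⟶ Over.mk w := Over.homMk (pullback.snd β.left a.left) hw
  have hpb : IsPullback q.left r.left β.left a.left := IsPullback.of_hasPullback β.left a.left
  have commO : q ≫ β = r ≫ a := by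
    ext
    exact pullback.condition
  have sqO : IsPullback q r β a := IsPullback.of_map (Over.forget S) commO hpb
  have sqY : IsPullback ((yon S).map q) ((yon S).map r) ((yon S).map β) ((yon S).map a) :=
    sqO.map (yon S)
  have hp0 : ((yon S).map q ≫ p) ≫ b₁ = (yon S).map r ≫ (yon S).map a := by
    rw [Category.assoc, ← hβ]; exact sqY.w
  obtain ⟨p', hp1, hp2⟩ : ∃ p' : (yon S).obj V' ⟶ XΩ, p' ≫ ψ = (yon S).map q ≫ p ∧
      p' ≫ bΩ = (yon S).map r := ⟨sqψ.lift _ _ hp0, sqψ.lift_fst _ _ _, sqψ.lift_snd _ _ _⟩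
  have sqP : IsPullback p' ((yon S).map q) ψ p := by
    refine IsPullback.of_right ?_ hp1 sqψ.flip
    rw [hp2, ← hβ]
    exact sqY.flip
  -- the field extension
  let algΩ : Algebra k.K Ω := (Spec.preimage a.left).hom.toAlgebra
  have ha : a.left = Spec.map (CommRingCat.ofHom (algebraMap k.K Ω)) := by
    rw [← Spec.map_preimage a.left]
    rfl
  have hUO' : UniversallyOpen (Spec.map (CommRingCat.ofHom (algebraMap k.K Ω))) := inferInstance
  have hUO : UniversallyOpen a.left := by
    rw [ha]; exact hUO'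
  have hGC : GeometricallyConnected a.left := by
    rw [ha]
    exact Groth.Agent.H25.GeomConnAlgSp.geometricallyConnected_Spec_map_of_isSepClosed k.K Ω
  have : UniversallyOpen q.left :=
    (inferInstance : UniversallyOpen (pullback.fst β.left a.left))
  have : GeometricallyConnected q.left :=
    (inferInstance : GeometricallyConnected (pullback.fst β.left a.left))
  have key := Groth.Agent.H25.GeomConnAlgSp.isCoinducing_and_fibres_of_sq sqP.flip hpe hps
  have hbij := key.1.connectedComponentsMap_bijective key.2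
  exact ENat.card_congr (Equiv.ofBijective _ hbij)

end Groth.Agent.H52
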