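import Groth.Agent.H52.PairFibre
import Groth.Agent.H52.MonoFactor
import Groth.Agent.H52.MonoField
import Groth.Agent.H52.FibProd

/-!
# Fibres of `R = U ×_X U` over pairs of points: the converse direction (helper52)
-/

set_option autoImplicit false
universe u

open CategoryTheory CategoryTheory.Limits AlgebraicGeometry Opposite AlgSp

namespace Groth.Agent.H52

variable {S : Scheme.{u}}

/-- Points of schemes: existence of a point in a pullback square of schemes over `S`. -/
theorem exists_point_of_isPullback_over {A B C P : Over S} {fst : P ⟶ A} {snd : P ⟶ B} {f : A ⟶ C}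
    {g : B ⟶ C} (sq : IsPullback fst snd f g) (a : ↥A.left) (b : ↥B.left)
    (h : f.left a = g.left b) : ∃ z : ↥P.left, fst.left z = a ∧ snd.left z = b := by
  refine exists_of_ofPt_eq_ofPt (sq.map (yon S)) a b ?_
  have h1 := ofPt_yon_map_comp f (𝟙 ((yon S).obj C)) a
  have h2 := ofPt_yon_map_comp g (𝟙 ((yon S).obj C)) b
  rw [Category.comp_id] at h1 h2
  rw [h1, h2, h]

/-- If the chart point `Spec κ(u) ⟶ X` factors through a monomorphic field point `Spec k ⟶ X`, then
`κ(u) / k` is finite. -/
theorem isFinite_factor_of_mono {X : Sp S} (p : FieldPt X) [Mono p.toHom] {U : Over S}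
    (φ : (yon S).obj U ⟶ X) (hφ : RepWith @Etale φ) (u : ↥U.left)
    (c : (FieldPt.ofPt φ u).pt ⟶ p.pt)
    (hc : (yon S).map c ≫ p.toHom = (FieldPt.ofPt φ u).toHom) : IsFinite c.left := by
  have hz : (FieldPt.ofPt φ u).toHom = (yon S).map (ptIncl φ u) ≫ φ := FieldPt.toHom_ofPt φ u
  obtain ⟨W, wk, fst, sqW⟩ := hφ.1 p.toHom
  obtain ⟨wU, rfl⟩ := (yon S).map_surjective fst
  have hwke : Etale wk.left := hφ.2 _ _ _ sqW
  have comm : (yon S).map (ptIncl φ u) ≫ φ = (yon S).map c ≫ p.toHom := by rw [hc, hz]
  obtain ⟨e, he⟩ := (yon S).map_surjective (sqW.lift _ _ comm)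
  have he1 : e ≫ wU = ptIncl φ u :=
    (yon S).map_injective (by rw [Functor.map_comp, he, sqW.lift_fst])
  have he2 : e ≫ wk = c :=
    (yon S).map_injective (by rw [Functor.map_comp, he, sqW.lift_snd])
  have outer : IsPullback ((yon S).map e ≫ (yon S).map wk) (𝟙 _) p.toHom
      ((yon S).map (ptIncl φ u) ≫ φ) := by
    rw [← Functor.map_comp, he2, comm]
    exact (IsPullback.of_horiz_isIso_mono ⟨by simp⟩ :
      IsPullback (𝟙 _) ((yon S).map c) ((yon S).map c ≫ p.toHom) p.toHom).flip
  have sqL : IsPullback ((yon S).map e) (𝟙 _) ((yon S).map wU) ((yon S).map (ptIncl φ u)) :=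
    IsPullback.of_right outer (by rw [← Functor.map_comp, he1, Category.id_comp]) sqW.flip
  rw [← (yon S).map_id] at sqL
  have sqO : IsPullback e (𝟙 _) wU (ptIncl φ u) :=
    IsPullback.of_map (yon S) (by rw [he1, Category.id_comp]) sqL
  have sqS : IsPullback e.left (𝟙 _) wU.left (ptIncl φ u).left := by
    have := sqO.map (Over.forget S)
    simpa using this
  have hpre : IsPreimmersion (ptIncl φ u).left :=
    inferInstanceAs (IsPreimmersion (U.left.fromSpecResidueField u))
  have hpre' : IsPreimmersion e.left :=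
    MorphismProperty.of_isPullback (P := @IsPreimmersion) sqS.flip hpre
  have hlqf : LocallyQuasiFinite wk.left := H50.locallyQuasiFinite_of_unramified wk.left
  have hartZ : IsLocallyArtinian p.pt.left :=
    inferInstanceAs (IsLocallyArtinian (Spec (CommRingCat.of p.K)))
  have hart : IsLocallyArtinian W.left := IsLocallyArtinian.of_locallyQuasiFinite wk.left
  have hci : IsClosedImmersion e.left :=
    IsClosedImmersion.of_isPreimmersion _ (isClosed_discrete _)
  have hl : LocallyQuasiFinite c.left := by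
    rw [← he2, Over.comp_left]; infer_instance
  have hq : QuasiCompact c.left :=
    quasiCompact_of_field (k := (FieldPt.ofPt φ u).K) c.left
  exact IsFinite.of_locallyQuasiFinite c.left

/-- If `x` is represented by a monomorphism from the spectrum of a field, the fibre of `R = U ×_X U` over any pair of
points of an etale chart over `x` is finite. -/
theorem finite_pairFibre_of_mono {X : Sp S} (hX : IsAlgSpace X) (p : FieldPt X) [Mono p.toHom]
    {U : Over S} (φ : (yon S).obj U ⟶ X) (hφ : RepWith @Etale φ) (u u' : ↥U.left)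
    (hu : Points.ofPt φ u = Points.mk p) (hu' : Points.ofPt φ u' = Points.mk p) {R : Over S}
    (s t : R ⟶ U) (hR : IsPullback ((yon S).map t) ((yon S).map s) φ φ) :
    {r : ↥R.left | s.left r = u ∧ t.left r = u'}.Finite := by
  have hz : (FieldPt.ofPt φ u).toHom = (yon S).map (ptIncl φ u) ≫ φ := FieldPt.toHom_ofPt φ u
  have hz' : (FieldPt.ofPt φ u').toHom = (yon S).map (ptIncl φ u') ≫ φ := FieldPt.toHom_ofPt φ u'
  -- factorizations through `p`
  obtain ⟨c, hc, -⟩ := existsUnique_factor_of_mono hX p (FieldPt.ofPt φ u) hu.symm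
  obtain ⟨c', hc', -⟩ := existsUnique_factor_of_mono hX p (FieldPt.ofPt φ u') hu'.symm
  have hcf : IsFinite c.left := isFinite_factor_of_mono p φ hφ u c hc
  -- the iterated fibre product
  have sqA := IsPullback.of_hasPullback s (ptIncl φ u)
  have sqB := IsPullback.of_hasPullback (pullback.fst s (ptIncl φ u) ≫ t) (ptIncl φ u')
  have bot := (sqA.map (yon S)).paste_horiz hR
  have top := (sqB.map (yon S)).flip
  rw [Functor.map_comp] at top
  have big := top.paste_vert bot
  rw [← hz, ← hz', ← Functor.map_comp] at big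
  -- `big : IsPullback (yon B.snd) (yon (B.fst ≫ A.snd)) q'.toHom q.toHom`
  rw [← hc, ← hc'] at big
  have big' := isPullback_of_comp_mono p.toHom big
  have sqO := IsPullback.of_map (yon S) ((yon S).map_injective (by
    simpa only [Functor.map_comp] using big'.w)) big'
  have sqS := sqO.map (Over.forget S)
  -- the second projection is finite
  have hfin2 : IsFinite (pullback.snd (pullback.fst s (ptIncl φ u) ≫ t) (ptIncl φ u')).left :=
    MorphismProperty.of_isPullback (P := @IsFinite) sqS.flip hcf
  have hYfin : Finite ↥(pullback (pullback.fst s (ptIncl φ u) ≫ t) (ptIncl φ u')).left :=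
    finite_of_isFinite_field (K := (FieldPt.ofPt φ u').K)
      (pullback.snd (pullback.fst s (ptIncl φ u) ≫ t) (ptIncl φ u')).left
  refine (Set.finite_range (fun y : ↥(pullback (pullback.fst s (ptIncl φ u) ≫ t) (ptIncl φ u')).left =>
    (pullback.fst (pullback.fst s (ptIncl φ u) ≫ t) (ptIncl φ u') ≫
      pullback.fst s (ptIncl φ u)).left y)).subset ?_
  rintro r ⟨hr1, hr2⟩
  let s₁ : ↥(FieldPt.ofPt φ u).pt.left :=
    (IsLocalRing.closedPoint (FieldPt.ofPt φ u).K : PrimeSpectrum (FieldPt.ofPt φ u).K)
  let s₂ : ↥(FieldPt.ofPt φ u').pt.left :=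
    (IsLocalRing.closedPoint (FieldPt.ofPt φ u').K : PrimeSpectrum (FieldPt.ofPt φ u').K)
  obtain ⟨r₁, hr₁, -⟩ := exists_point_of_isPullback_over sqA r s₁
    (by rw [hr1, ptIncl_left_apply])
  obtain ⟨y, hy, -⟩ := exists_point_of_isPullback_over sqB r₁ s₂ (by
    rw [ptIncl_left_apply]
    change t.left ((pullback.fst s (ptIncl φ u)).left r₁) = u'
    rw [hr₁, hr2])
  refine ⟨y, ?_⟩
  change (pullback.fst s (ptIncl φ u)).left ((pullback.fst (pullback.fst s (ptIncl φ u) ≫ t)
    (ptIncl φ u')).left y) = r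
  rw [hy, hr₁]

end Groth.Agent.H52
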