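import Groth.Agent.H52.Iso
import Groth.Agent.H52.Topology
import Groth.Agent.H52.PairFibre2
import Groth.Agent.H50.OpenSub
import Groth.Agent.H50.Fppf
import Mathlib.AlgebraicGeometry.Morphisms.OpenImmersion

/-!
# helper52: a sheaf covered by pairwise disjoint representable open subfunctors is representable
-/

set_option autoImplicit false
universe u

open CategoryTheory CategoryTheory.Limits AlgebraicGeometry Opposite AlgSp Topology TopologicalSpace

namespace Groth.Agent.H52

variable {S : Scheme.{u}}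

section Glue

variable {I : Type u} (Zi : I → Over S)

/-- The disjoint union of a family of schemes over `S`. -/
noncomputable def sigmaOver : Over S :=
  Over.mk (Sigma.desc (fun i => (Zi i).hom) : (∐ fun i => (Zi i).left) ⟶ S)

/-- The inclusions into the disjoint union. -/
noncomputable def sigmaOverι (i : I) : Zi i ⟶ sigmaOver Zi :=
  Over.homMk (Sigma.ι (fun i => (Zi i).left) i) (by simp [sigmaOver])

theorem sigmaOverι_left (i : I) : (sigmaOverι Zi i).left = Sigma.ι (fun i => (Zi i).left) i := rfl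

instance (i : I) : IsOpenImmersion (sigmaOverι Zi i).left :=
  inferInstanceAs (IsOpenImmersion (Sigma.ι (fun i => (Zi i).left) i))

theorem exists_sigmaOverι_eq (τ : ↥(sigmaOver Zi).left) :
    ∃ (i : I) (y : ↥(Zi i).left), (sigmaOverι Zi i).left y = τ :=
  (sigmaOpenCover (fun i => (Zi i).left)).exists_eq τ

theorem sigmaOver_mem_J :
    Sieve.generate (Presieve.ofArrows Zi (sigmaOverι Zi)) ∈ J S (sigmaOver Zi) := by
  refine H50.mem_J_of_fppf_family Zi (sigmaOverι Zi) (exists_sigmaOverι_eq Zi) ?_ ?_ _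
    (fun a => Sieve.le_generate (Presieve.ofArrows Zi (sigmaOverι Zi)) _ _ (Presieve.ofArrows.mk a))
  · intro a; infer_instance
  · intro a; infer_instance

/-- Sections of a sheaf over an empty scheme are unique. -/
theorem subsingleton_sections_of_isEmpty (X : Sp S) (T : Over S) [IsEmpty ↥T.left] :
    Subsingleton (X.obj.obj (op T)) := by
  have hF : Presieve.IsSheaf (J S) X.obj := (isSheaf_iff_isSheaf_of_type _ _).1 X.property
  have hbot : (⊥ : Sieve T) ∈ J S T :=
    H50.mem_J_of_fppf_family (A := PEmpty.{1}) (fun a => a.elim) (fun a => a.elim)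
      (fun τ => (IsEmpty.false τ).elim) (fun a => a.elim) (fun a => a.elim) ⊥ (fun a => a.elim)
  exact ⟨fun t1 t2 => (hF ⊥ hbot).isSeparatedFor.ext (fun Y f hf => hf.elim)⟩

/-- Sections over the members of a disjoint union glue. -/
theorem exists_glue_sections (X : Sp S) (ξ : ∀ i, X.obj.obj (op (Zi i))) :
    ∃ t : X.obj.obj (op (sigmaOver Zi)), ∀ i, X.obj.map (sigmaOverι Zi i).op t = ξ i := by
  have hF : Presieve.IsSheaf (J S) X.obj := (isSheaf_iff_isSheaf_of_type _ _).1 X.property
  have h1 := hF _ (sigmaOver_mem_J Zi)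
  rw [← Presieve.isSheafFor_iff_generate, Presieve.isSheafFor_arrows_iff] at h1
  have hcomp : Presieve.Arrows.Compatible X.obj (sigmaOverι Zi) ξ := by
    intro i k T gi gk hcomm
    by_cases hik : i = k
    · subst hik
      have : Mono (sigmaOverι Zi i) :=
        (Over.forget S).mono_of_mono_map (inferInstanceAs (Mono (sigmaOverι Zi i).left))
      rw [(cancel_mono _).1 hcomm]
    · have hempty : IsEmpty ↥T.left :=
        isEmpty_of_commSq_sigmaι_of_ne (g := fun i => (Zi i).left) (a := gi.left) (b := gk.left)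
          ⟨congrArg (fun f => f.left) hcomm⟩ hik
      have := subsingleton_sections_of_isEmpty X T
      exact Subsingleton.elim _ _
  obtain ⟨t, ht, -⟩ := h1 ξ hcomp
  exact ⟨t, ht⟩

/-- A sheaf which is an algebraic space and is covered by pairwise disjoint representable open subfunctors is
representable by the disjoint union. -/
theorem exists_iso_yon_of_disjoint_open_cover {X : Sp S} (hX : IsAlgSpace X)
    (j : ∀ i, (yon S).obj (Zi i) ⟶ X) (hoi : ∀ i, RepWith @IsOpenImmersion (j i))
    (hdisj : ∀ i k (zi : ↥(Zi i).left) (zk : ↥(Zi k).left),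
      Points.ofPt (j i) zi = Points.ofPt (j k) zk → i = k)
    (hsurj : ∀ x : Points X, ∃ (i : I) (z : ↥(Zi i).left), Points.ofPt (j i) z = x) :
    ∃ e : (yon S).obj (sigmaOver Zi) ≅ X, ∀ i, (yon S).map (sigmaOverι Zi i) ≫ e.hom = j i := by
  obtain ⟨t, ht⟩ := exists_glue_sections Zi X (fun i => H50.yonEquiv (j i))
  have hfac : ∀ i, (yon S).map (sigmaOverι Zi i) ≫ H50.yonEquiv.symm t = j i := by
    intro i
    rw [H50.yon_map_comp_yonEquiv_symm, ht, Equiv.symm_apply_apply]
  generalize H50.yonEquiv.symm t = jZ at hfac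
  have hrep := hX.representable_from_yon jZ
  have hOI : RepWith @IsOpenImmersion jZ := by
    refine (repWith_iff _ jZ).2 ⟨hrep, ?_⟩
    intro T V g fst snd sq
    obtain ⟨vZ, rfl⟩ := (yon S).map_surjective fst
    have key : ∀ i, ∃ (Vi : Over S) (ei : Vi ⟶ V) (vi : Vi ⟶ Zi i), IsOpenImmersion ei.left ∧
        IsOpenImmersion (ei ≫ snd).left ∧
        (∀ v : ↥V.left, (∃ z, vZ.left v = (sigmaOverι Zi i).left z) → ∃ a, ei.left a = v) ∧
        ∀ a, Points.ofPt g ((ei ≫ snd).left a) = Points.ofPt (j i) (vi.left a) := by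
      intro i
      obtain ⟨Vi, sndi, fsti, sqi⟩ := (hoi i).1 g
      have hsi : IsOpenImmersion sndi.left := (hoi i).2 _ _ _ sqi
      obtain ⟨vi, rfl⟩ := (yon S).map_surjective fsti
      have hw : ((yon S).map vi ≫ (yon S).map (sigmaOverι Zi i)) ≫ jZ = (yon S).map sndi ≫ g := by
        rw [Category.assoc, hfac, sqi.w]
      obtain ⟨ei, hei⟩ := (yon S).map_surjective (sq.lift _ _ hw)
      have he1 : ei ≫ vZ = vi ≫ sigmaOverι Zi i :=
        (yon S).map_injective (by rw [Functor.map_comp, hei, sq.lift_fst, Functor.map_comp])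
      have he2 : ei ≫ snd = sndi :=
        (yon S).map_injective (by rw [Functor.map_comp, hei, sq.lift_snd])
      have sqL : IsPullback ((yon S).map ei) ((yon S).map vi) ((yon S).map vZ)
          ((yon S).map (sigmaOverι Zi i)) := by
        refine IsPullback.of_right ?_ (by rw [← Functor.map_comp, ← Functor.map_comp, he1]) sq.flip
        rw [← Functor.map_comp, he2, hfac]
        exact sqi.flip
      have sqO : IsPullback ei vi vZ (sigmaOverι Zi i) := IsPullback.of_map (yon S) he1 sqL
      have sqS : IsPullback ei.left vi.left vZ.left (sigmaOverι Zi i).left :=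
        sqO.map (Over.forget S)
      have hei_oi : IsOpenImmersion ei.left :=
        MorphismProperty.of_isPullback (P := @IsOpenImmersion) sqS.flip
          (inferInstanceAs (IsOpenImmersion (sigmaOverι Zi i).left))
      refine ⟨Vi, ei, vi, hei_oi, by rw [he2]; exact hsi, ?_, ?_⟩
      · rintro v ⟨z, hz⟩
        obtain ⟨a, ha, -⟩ := exists_point_of_isPullback_over sqO v z hz
        exact ⟨a, ha⟩
      · intro a
        rw [he2, ← ofPt_yon_map_comp, ← sqi.w, ofPt_yon_map_comp]
    choose Vi ei vi h1 h2 h4 h5 using key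
    apply IsOpenImmersion.of_forall_source_exists snd.left
    · intro v v' hvv'
      obtain ⟨i, z, hz⟩ := exists_sigmaOverι_eq Zi (vZ.left v)
      obtain ⟨k, z', hz'⟩ := exists_sigmaOverι_eq Zi (vZ.left v')
      obtain ⟨a, rfl⟩ := h4 i v ⟨z, hz.symm⟩
      obtain ⟨a', rfl⟩ := h4 k v' ⟨z', hz'.symm⟩
      have hik : i = k := hdisj i k ((vi i).left a) ((vi k).left a') (by
        rw [← h5, ← h5, Over.comp_left, Over.comp_left, Scheme.Hom.comp_apply,
          Scheme.Hom.comp_apply, hvv'])
      subst hik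
      have hinj : Function.Injective (ei i ≫ snd).left :=
        (ei i ≫ snd).left.isOpenEmbedding.injective
      have : a = a' := hinj (by
        rw [Over.comp_left, Scheme.Hom.comp_apply, Scheme.Hom.comp_apply, hvv'])
      rw [this]
    · intro v
      obtain ⟨i, z, hz⟩ := exists_sigmaOverι_eq Zi (vZ.left v)
      obtain ⟨a, rfl⟩ := h4 i v ⟨z, hz.symm⟩
      exact ⟨(Vi i).left, (ei i).left, h1 i, ⟨a, rfl⟩, h2 i⟩
  have hs : Function.Surjective (Points.map jZ) := by
    intro x
    obtain ⟨i, z, rfl⟩ := hsurj x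
    refine ⟨Points.ofScheme _ ((sigmaOverι Zi i).left z), ?_⟩
    rw [← Points.ofPt_eq_map_ofScheme, ← ofPt_yon_map_comp, hfac]
  have hiso := isIso_of_repWith_isOpenImmersion_of_surjective jZ hOI hs
  exact ⟨asIso jZ, hfac⟩

end Glue

end Groth.Agent.H52
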