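import Groth.Agent.S3627
import Groth.Agent.S3625
import Groth.Agent.H50.FlatLocus

/-!
# Gorenstein at a point and etale morphisms, scheme level (helper52)

* `isGorensteinAt_of_etale`: an etale morphism is Gorenstein at every point.
* `flat_stalkMap_of_comp_etale`: if `k ≫ e` is flat at `u` and `e` is etale, then `k` is flat at `u`.
* `gorAt_precomp_etale_iff`, `gorAt_postcomp_etale_iff`: `Dual3.IsGorensteinAt` is etale local on source and target.
-/

set_option autoImplicit false
universe u
open CategoryTheory CategoryTheory.Limits AlgebraicGeometry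

namespace Groth.Agent.H52

theorem isLocallyNoetherian_fiber_of_lft {X Y : Scheme.{u}} (f : X ⟶ Y) [LocallyOfFiniteType f] (y : Y) :
    IsLocallyNoetherian (f.fiber y) :=
  Groth.Agent.H60.GorBC.isLocallyNoetherian_fiber f y

/-- An etale morphism is Gorenstein at every point. -/
theorem isGorensteinAt_of_etale {U V : Scheme.{u}} (e : U ⟶ V) [Etale e] (u : U) :
    Dual3.IsGorensteinAt e u := by
  refine ⟨Flat.stalkMap e u, ?_⟩
  obtain ⟨eq⟩ := Groth.Agent.H29.FiberStalkAt.nonempty_fiberStalkEquiv e u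
  algebraize [(e.stalkMap u).hom]
  have : IsLocalHom (algebraMap (V.presheaf.stalk (e u)) (U.presheaf.stalk u)) :=
    inferInstanceAs <| IsLocalHom (e.stalkMap u).hom
  have : Algebra.EssFiniteType (V.presheaf.stalk (e u)) (U.presheaf.stalk u) := by
    rw [← RingHom.essFiniteType_algebraMap, RingHom.algebraMap_toAlgebra]
    exact LocallyOfFiniteType.stalkMap e u
  have : Algebra.FormallyUnramified (V.presheaf.stalk (e u)) (U.presheaf.stalk u) := by
    rw [← RingHom.formallyUnramified_algebraMap, RingHom.algebraMap_toAlgebra]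
    exact FormallyUnramified.stalkMap e u
  have hF : IsField (U.presheaf.stalk u ⧸ (IsLocalRing.maximalIdeal (V.presheaf.stalk (e u))).map
      (algebraMap (V.presheaf.stalk (e u)) (U.presheaf.stalk u))) :=
    Algebra.FormallyUnramified.isField_quotient_map_maximalIdeal
  letI := hF.toField
  exact Groth.Agent.H60.GorTransfer.gor_of_ringEquiv eq (Groth.Agent.H60.GorTransfer.gor_field _)

theorem flat_stalkMap_congr {X Y : Scheme.{u}} {f g : X ⟶ Y} (h : f = g) (x : X)
    (hf : (f.stalkMap x).hom.Flat) : (g.stalkMap x).hom.Flat := by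
  subst h; exact hf

theorem gorAt_congr {X Y : Scheme.{u}} {f g : X ⟶ Y} (h : f = g) (x : X)
    (hf : Dual3.IsGorensteinAt f x) : Dual3.IsGorensteinAt g x := by
  subst h; exact hf

/-- Flatness at a point cancels etale morphisms on the target. -/
theorem flat_stalkMap_of_comp_etale {U W V : Scheme.{u}} (k : U ⟶ W) (e : W ⟶ V) [Etale e] (u : U)
    (h : ((k ≫ e).stalkMap u).hom.Flat) : (k.stalkMap u).hom.Flat := by
  let Γ : U ⟶ pullback (k ≫ e) e := pullback.lift (𝟙 U) k (by simp)
  have hΓ1 : Γ ≫ pullback.fst (k ≫ e) e = 𝟙 U := pullback.lift_fst _ _ _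
  have hΓ2 : Γ ≫ pullback.snd (k ≫ e) e = k := pullback.lift_snd _ _ _
  haveI : Etale (Γ ≫ pullback.fst (k ≫ e) e) := by rw [hΓ1]; infer_instance
  haveI : Etale Γ := Etale.of_comp Γ (pullback.fst (k ≫ e) e)
  have hpt : (pullback.fst (k ≫ e) e) (Γ u) = u := by
    rw [← Scheme.Hom.comp_apply, hΓ1]; rfl
  have h2 : ((pullback.snd (k ≫ e) e).stalkMap (Γ u)).hom.Flat := by
    apply Groth.Agent.H8.flat_stalkMap_baseChange (IsPullback.of_hasPullback (k ≫ e) e).flip (Γ u)
    rw [hpt]; exact h
  exact flat_stalkMap_congr hΓ2 u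
    (Groth.Agent.H50.flat_stalkMap_comp' Γ (pullback.snd (k ≫ e) e) u (Flat.stalkMap Γ u) h2)

/-- `IsGorensteinAt` is etale local on the source. -/
theorem gorAt_precomp_etale_iff {U' U V : Scheme.{u}} (e : U' ⟶ U) [Etale e] (h : U ⟶ V)
    (hfib : ∀ y, IsLocallyNoetherian (h.fiber y))
    (hfib' : ∀ y, IsLocallyNoetherian ((e ≫ h).fiber y)) (u' : U') :
    Dual3.IsGorensteinAt (e ≫ h) u' ↔ Dual3.IsGorensteinAt h (e u') := by
  have key := Groth.Agent.S3627.result U' U V e h (fun y => isLocallyNoetherian_fiber_of_lft e y)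
    hfib hfib' u'
  exact ⟨fun hh => (key.2 hh (Flat.stalkMap e u')).2,
    fun hh => key.1 (isGorensteinAt_of_etale e u') hh⟩

/-- `IsGorensteinAt` is etale local on the target. -/
theorem gorAt_postcomp_etale_iff {U W V : Scheme.{u}} (k : U ⟶ W) (e : W ⟶ V) [Etale e]
    (hfib : ∀ y, IsLocallyNoetherian (k.fiber y))
    (hfib' : ∀ y, IsLocallyNoetherian ((k ≫ e).fiber y)) (u : U) :
    Dual3.IsGorensteinAt (k ≫ e) u ↔ Dual3.IsGorensteinAt k u := by
  have key := Groth.Agent.S3627.result U W V k e hfib (fun y => isLocallyNoetherian_fiber_of_lft e y)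
    hfib' u
  exact ⟨fun hh => (key.2 hh (flat_stalkMap_of_comp_etale k e u hh.1)).1,
    fun hh => key.1 hh (isGorensteinAt_of_etale e (k u))⟩

end Groth.Agent.H52
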