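import Groth.Agent.H52.GorLoc
import Groth.Agent.H47.HensNoeth2
import Groth.Agent.S0540

/-!
# Gorenstein local rings and strict henselization (helper52)
-/

set_option autoImplicit false
universe u

namespace Groth.Agent.H52

/-- A Noetherian local ring is Gorenstein iff its strict henselization is. -/
theorem gor_strictHenselization_iff (A R : Type u) [CommRing A] [IsLocalRing A] [CommRing R]
    [IsLocalRing R] [Algebra A R] [IsLocalHom (algebraMap A R)] [Hensel.IsStrictHenselization A R]
    [hAN : IsNoetherianRing A] :
    LocCoh.IsGorensteinLocalRing A ↔ LocCoh.IsGorensteinLocalRing R := by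
  have hI := Groth.Agent.H47.HensNoeth.isIndEtaleLocal_of_isStrictHenselization A R
  have hRN : IsNoetherianRing R := (Groth.Agent.S0540.result A R).1 hAN
  have hfl : Module.Flat A R := hI.flat
  have hmax : (IsLocalRing.maximalIdeal A).map (algebraMap A R) = IsLocalRing.maximalIdeal R :=
    hI.map_max
  have hM : ((IsLocalRing.maximalIdeal A).map (algebraMap A R)).IsMaximal := by
    rw [hmax]; infer_instance
  let _ := Ideal.Quotient.field ((IsLocalRing.maximalIdeal A).map (algebraMap A R))
  have key := Groth.Agent.H60.GorTransfer.flat_local_iff A R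
    (R ⧸ (IsLocalRing.maximalIdeal A).map (algebraMap A R))
    (Ideal.Quotient.mk _) Ideal.Quotient.mk_surjective Ideal.mk_ker
  exact ⟨fun hA => key.2 ⟨hA, Groth.Agent.H60.GorTransfer.gor_field _⟩, fun hR => (key.1 hR).1⟩

end Groth.Agent.H52
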