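import Groth.Agent.H52.GorEt

/-!
# Gorenstein local rings along flat / etale morphisms of locally Noetherian schemes (helper52)
-/

set_option autoImplicit false
universe u
open CategoryTheory CategoryTheory.Limits AlgebraicGeometry

namespace Groth.Agent.H52

/-- Flat local homomorphisms of Noetherian local rings: the target is Gorenstein iff the source and the closed fibre are
(scheme form, with the closed fibre written as the local ring of the scheme theoretic fibre). -/
theorem gor_stalk_iff_of_flat {U V : Scheme.{u}} [IsLocallyNoetherian U] [IsLocallyNoetherian V]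
    (h : U ⟶ V) (u : U) (hfl : (h.stalkMap u).hom.Flat) :
    LocCoh.IsGorensteinLocalRing (U.presheaf.stalk u) ↔
      (LocCoh.IsGorensteinLocalRing (V.presheaf.stalk (h u)) ∧
        LocCoh.IsGorensteinLocalRing ((h.fiber (h u)).presheaf.stalk (h.asFiber u))) := by
  obtain ⟨eq⟩ := Groth.Agent.H29.FiberStalkAt.nonempty_fiberStalkEquiv h u
  algebraize [(h.stalkMap u).hom]
  have : IsLocalHom (algebraMap (V.presheaf.stalk (h u)) (U.presheaf.stalk u)) :=
    inferInstanceAs <| IsLocalHom (h.stalkMap u).hom
  have : Module.Flat (V.presheaf.stalk (h u)) (U.presheaf.stalk u) := hfl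
  let I : Ideal (U.presheaf.stalk u) := (IsLocalRing.maximalIdeal (V.presheaf.stalk (h u))).map
      (algebraMap (V.presheaf.stalk (h u)) (U.presheaf.stalk u))
  have hI : I ≤ IsLocalRing.maximalIdeal (U.presheaf.stalk u) :=
    ((IsLocalRing.local_hom_TFAE (algebraMap (V.presheaf.stalk (h u)) (U.presheaf.stalk u))).out 0 2
      rfl rfl).mp ‹_›
  have : Nontrivial (U.presheaf.stalk u ⧸ I) :=
    Ideal.Quotient.nontrivial_iff.mpr
      (ne_top_of_le_ne_top (IsLocalRing.maximalIdeal.isMaximal _).ne_top hI)
  have : IsLocalRing (U.presheaf.stalk u ⧸ I) :=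
    .of_surjective' _ Ideal.Quotient.mk_surjective
  have key := Groth.Agent.H60.GorTransfer.flat_local_iff (V.presheaf.stalk (h u))
    (U.presheaf.stalk u) (U.presheaf.stalk u ⧸ I) (Ideal.Quotient.mk I)
    Ideal.Quotient.mk_surjective Ideal.mk_ker
  rw [key]
  refine and_congr Iff.rfl ?_
  exact ⟨fun hh => Groth.Agent.H60.GorTransfer.gor_of_ringEquiv eq hh,
    fun hh => Groth.Agent.H60.GorTransfer.gor_of_ringEquiv eq.symm hh⟩

/-- Gorenstein local rings are insensitive to etale morphisms. -/
theorem gor_stalk_etale_iff {P T : Scheme.{u}} [IsLocallyNoetherian T] (e : P ⟶ T) [Etale e] (z : P) :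
    LocCoh.IsGorensteinLocalRing (P.presheaf.stalk z) ↔
      LocCoh.IsGorensteinLocalRing (T.presheaf.stalk (e z)) := by
  have : IsLocallyNoetherian P := LocallyOfFiniteType.isLocallyNoetherian e
  rw [gor_stalk_iff_of_flat e z (Flat.stalkMap e z)]
  exact ⟨fun hh => hh.1, fun hh => ⟨hh, (isGorensteinAt_of_etale e z).2⟩⟩

/-- A scheme etale over a Gorenstein scheme is Gorenstein. -/
theorem isGorenstein_of_etale {P T : Scheme.{u}} (e : P ⟶ T) [Etale e] (hT : Dual3.IsGorenstein T) :
    Dual3.IsGorenstein P := by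
  have := hT.1
  exact ⟨LocallyOfFiniteType.isLocallyNoetherian e, fun z => (gor_stalk_etale_iff e z).2 (hT.2 _)⟩

/-- Descent of the Gorenstein property along etale surjective morphisms. -/
theorem isGorenstein_of_etale_surjective {P T : Scheme.{u}} (e : P ⟶ T) [Etale e] [Surjective e]
    [IsLocallyNoetherian T] (hP : Dual3.IsGorenstein P) : Dual3.IsGorenstein T := by
  refine ⟨inferInstance, fun t => ?_⟩
  obtain ⟨z, rfl⟩ := e.surjective t
  exact (gor_stalk_etale_iff e z).1 (hP.2 z)

end Groth.Agent.H52
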