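import Groth.Agent.H52.GorEt
import Groth.Agent.H52.NoethSpec
import Groth.Agent.H52.ChartBC
import Groth.Agent.H52.ChartAt
import Groth.Agent.H52.Charts
import Groth.Agent.H50.Etale
import Groth.Agent.H50.Permanence
import Groth.Agent.H51.DiagOpen
import Groth.Prelude.Def_AlgSpMor5

/-!
# Gorenstein at a point for morphisms of algebraic spaces: chart plumbing (helper52)

* `isLocallyNoetherian_fiber_chart`: if the fibres of `f : X ⟶ Y` over field points are locally Noetherian spaces, then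
  the fibres of the top arrow of every chart diagram of `f` are locally Noetherian schemes.
* `gorAt_chart_indep`: `Dual3.IsGorensteinAt` at a point does not depend on the chart diagram through it.
* `locPAt_gor_of_one_chart`: one chart diagram suffices.
-/

set_option autoImplicit false
universe u
open CategoryTheory CategoryTheory.Limits AlgebraicGeometry
open AlgSp

namespace Groth.Agent.H52

variable {S : Scheme.{u}}

/-- The hypothesis "the fibres of `f` over field points are locally Noetherian". -/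
def LocNoethFibres {X Y : Sp S} (f : X ⟶ Y) : Prop :=
  ∀ (k : FieldPt Y) (Xk : Sp S) (a : Xk ⟶ X) (b : Xk ⟶ (yon S).obj k.pt),
    IsPullback a b f k.toHom → IsLocNoethSp Xk

set_option backward.isDefEq.respectTransparency.types false in
theorem isLocallyNoetherian_fiber_chart {X Y : Sp S} (hX : IsAlgSpace X) (hY : IsAlgSpace Y)
    (f : X ⟶ Y) (hf : LocNoethFibres f)
    {U V : Over S} (a : (yon S).obj U ⟶ X) (b : (yon S).obj V ⟶ Y) (h : U ⟶ V)
    (ha : RepWith @Etale a) (hb : RepWith @Etale b) (comm : a ≫ f = (yon S).map h ≫ b)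
    (v : ↥V.left) : IsLocallyNoetherian (h.left.fiber v) := by
  classical
  have instE1 := AlgSp.repWith_isStableUnderBaseChange (S := S) @Etale
  have instE2 := AlgSp.repWith_isMultiplicative (S := S) @Etale
  -- `XV = X ×_Y V`
  obtain ⟨XV, π₁, π₂, sqXV⟩ : ∃ (XV : Sp S) (π₁ : XV ⟶ X) (π₂ : XV ⟶ (yon S).obj V),
      IsPullback π₁ π₂ f b := ⟨_, _, _, IsPullback.of_hasPullback f b⟩
  have hXV : IsAlgSpace XV := isAlgSpace_of_isPullback sqXV hY.diag hX (IsAlgSpace.yon_obj V)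
  have hπ₁ : RepWith @Etale π₁ := (RepWith @Etale).of_isPullback sqXV.flip hb
  obtain ⟨m, hm1, hm2⟩ : ∃ m : (yon S).obj U ⟶ XV, m ≫ π₁ = a ∧ m ≫ π₂ = (yon S).map h :=
    ⟨sqXV.lift _ _ comm, sqXV.lift_fst _ _ _, sqXV.lift_snd _ _ _⟩
  have hunr : LocP (@LocallyOfFiniteType ⊓ @FormallyUnramified) π₁ :=
    Groth.Agent.H50.locP_of_repWith (P := @LocallyOfFiniteType ⊓ @FormallyUnramified)
      (fun A B g hg => Groth.Agent.H51.etale_le_unramified A B g hg)
      (Groth.Agent.H51.repWith_mono Groth.Agent.H51.etale_le_unramified hπ₁)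
  have hΔ : RepWith @IsOpenImmersion (pullback.diagonal π₁) :=
    Groth.Agent.H51.repWith_isOpenImmersion_diagonal_of_unramified hXV hX π₁ hunr
  have hm : RepWith @Etale m :=
    Groth.Agent.H50.repWith_of_comp_of_diagonal (Q := @IsOpenImmersion) (P := @Etale) (P' := @Etale)
      (fun A B C k l hk hl => by
        have : IsOpenImmersion k := hk
        have : Etale l := hl
        exact (inferInstance : Etale (k ≫ l))) m π₁ hΔ (by rw [hm1]; exact ha)
  -- the field point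
  let k : FieldPt Y := FieldPt.ofPt b v
  let ι : k.pt ⟶ V := Over.homMk (V.left.fromSpecResidueField v) rfl
  have hk : k.toHom = (yon S).map ι ≫ b := FieldPt.toHom_ofPt b v
  obtain ⟨Xk, q₁, q₂, sqk⟩ : ∃ (Xk : Sp S) (q₁ : Xk ⟶ X) (q₂ : Xk ⟶ (yon S).obj k.pt),
      IsPullback q₁ q₂ f k.toHom := ⟨_, _, _, IsPullback.of_hasPullback _ _⟩
  have hXk : IsLocNoethSp Xk := hf k Xk q₁ q₂ sqk
  have hq : q₁ ≫ f = (q₂ ≫ (yon S).map ι) ≫ b := by
    rw [Category.assoc, ← hk]; exact sqk.w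
  obtain ⟨q, hq1, hq2⟩ : ∃ q : Xk ⟶ XV, q ≫ π₁ = q₁ ∧ q ≫ π₂ = q₂ ≫ (yon S).map ι :=
    ⟨sqXV.lift _ _ hq, sqXV.lift_fst _ _ _, sqXV.lift_snd _ _ _⟩
  have sqR : IsPullback q q₂ π₂ ((yon S).map ι) := by
    refine IsPullback.of_right ?_ hq2 sqXV
    rw [hq1, ← hk]
    exact sqk
  -- the fibre as a scheme over `S`
  let FO : Over S := Over.mk (h.left.fiberι v ≫ U.hom)
  let iU : FO ⟶ U := Over.homMk (h.left.fiberι v) rfl
  have hw : h.left.fiberToSpecResidueField v ≫ (V.left.fromSpecResidueField v ≫ V.hom) =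
      h.left.fiberι v ≫ U.hom := by
    rw [← Category.assoc, ← Scheme.Hom.fiber_fac, Category.assoc, Over.w h]
  let τ : FO ⟶ k.pt := Over.homMk (h.left.fiberToSpecResidueField v) hw
  have hpb : IsPullback iU.left τ.left h.left ι.left :=
    IsPullback.of_hasPullback h.left (V.left.fromSpecResidueField v)
  have commO : iU ≫ h = τ ≫ ι := by
    ext
    exact pullback.condition
  have sqO : IsPullback iU τ h ι := IsPullback.of_map (Over.forget S) commO hpb
  have sqF : IsPullback ((yon S).map iU) ((yon S).map τ) ((yon S).map h) ((yon S).map ι) :=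
    sqO.map (yon S)
  have hc0 : ((yon S).map iU ≫ m) ≫ π₂ = (yon S).map τ ≫ (yon S).map ι := by
    rw [Category.assoc, hm2]; exact sqF.w
  obtain ⟨c, hc1, hc2⟩ : ∃ c : (yon S).obj FO ⟶ Xk, c ≫ q = (yon S).map iU ≫ m ∧
      c ≫ q₂ = (yon S).map τ := ⟨sqR.lift _ _ hc0, sqR.lift_fst _ _ _, sqR.lift_snd _ _ _⟩
  have sqC : IsPullback c ((yon S).map iU) q m := by
    refine IsPullback.of_right ?_ hc1 sqR.flip
    rw [hc2, hm2]
    exact sqF.flip
  have hce : RepWith @Etale c := (RepWith @Etale).of_isPullback sqC.flip hm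
  exact isLocallyNoetherian_chart hXk c hce

/-- Fibres of a base change. -/
theorem locNoethFibres_baseChange {X Y Y' X' : Sp S} {f : X ⟶ Y} {g : Y' ⟶ Y} {g' : X' ⟶ X}
    {f' : X' ⟶ Y'} (sq : IsPullback g' f' f g) (hf : LocNoethFibres f) : LocNoethFibres f' := by
  intro k Xk a b sqk
  have h1 : IsPullback (a ≫ g') b f (k.toHom ≫ g) := sqk.paste_horiz sq
  have h2 : (k.map g).toHom = k.toHom ≫ g := FieldPt.toHom_map g k
  exact hf (k.map g) Xk (a ≫ g') b (by rw [h2]; exact h1)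

/-- Chart independence of `Dual3.IsGorensteinAt`. -/
theorem gorAt_chart_indep {X Y : Sp S} (hX : IsAlgSpace X) (hY : IsAlgSpace Y)
    (f : X ⟶ Y) (hf : LocNoethFibres f)
    {U V U' V' : Over S} (a : (yon S).obj U ⟶ X) (b : (yon S).obj V ⟶ Y) (h : U ⟶ V)
    (ha : RepWith @Etale a) (hb : RepWith @Etale b) (comm : a ≫ f = (yon S).map h ≫ b) (u : ↥U.left)
    (a' : (yon S).obj U' ⟶ X) (b' : (yon S).obj V' ⟶ Y) (h' : U' ⟶ V')
    (ha' : RepWith @Etale a') (hb' : RepWith @Etale b') (comm' : a' ≫ f = (yon S).map h' ≫ b')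
    (u' : ↥U'.left) (hu : Points.ofPt a u = Points.ofPt a' u')
    (hG : Dual3.IsGorensteinAt h.left u) : Dual3.IsGorensteinAt h'.left u' := by
  classical
  -- common refinement of the target charts
  obtain ⟨V₃, pV, pV', sqV, hpV, hpV'⟩ : ∃ (V₃ : Over S) (pV : V₃ ⟶ V) (pV' : V₃ ⟶ V'),
      IsPullback ((yon S).map pV') ((yon S).map pV) b' b ∧ Etale pV.left ∧ Etale pV'.left :=
    ⟨_, hb'.rep.snd b, hb'.rep.fst' b, hb'.rep.isPullback' b, hb'.property_snd b,
      hb.2 _ _ _ (hb'.rep.isPullback' b).flip⟩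
  obtain ⟨U₃, pU, pU', sqU, hpU, hpU'⟩ : ∃ (U₃ : Over S) (pU : U₃ ⟶ U) (pU' : U₃ ⟶ U'),
      IsPullback ((yon S).map pU') ((yon S).map pU) a' a ∧ Etale pU.left ∧ Etale pU'.left :=
    ⟨_, ha'.rep.snd a, ha'.rep.fst' a, ha'.rep.isPullback' a, ha'.property_snd a,
      ha.2 _ _ _ (ha'.rep.isPullback' a).flip⟩
  have hw : (yon S).map (pU' ≫ h') ≫ b' = (yon S).map (pU ≫ h) ≫ b := by
    rw [Functor.map_comp, Category.assoc, ← comm', ← Category.assoc, sqU.w, Category.assoc, comm,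
      Functor.map_comp, Category.assoc]
  obtain ⟨h₃, hh₃⟩ := (yon S).map_surjective (sqV.lift _ _ hw)
  have h₃V' : h₃ ≫ pV' = pU' ≫ h' := by
    apply (yon S).map_injective
    rw [Functor.map_comp, hh₃, sqV.lift_fst]
  have h₃V : h₃ ≫ pV = pU ≫ h := by
    apply (yon S).map_injective
    rw [Functor.map_comp, hh₃, sqV.lift_snd]
  obtain ⟨u₃, hu₃', hu₃⟩ := exists_of_ofPt_eq_ofPt sqU u' u hu.symm
  -- the charts
  have hA : RepWith @Etale ((yon S).map pU ≫ a) := repWith_yon_map_comp @Etale pU hpU a ha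
  have hA' : RepWith @Etale ((yon S).map pU' ≫ a') := repWith_yon_map_comp @Etale pU' hpU' a' ha'
  have hB : RepWith @Etale ((yon S).map pV ≫ b) := repWith_yon_map_comp @Etale pV hpV b hb
  have c1 : ((yon S).map pU ≫ a) ≫ f = (yon S).map (pU ≫ h) ≫ b := by
    rw [Category.assoc, comm, Functor.map_comp, Category.assoc]
  have c1' : ((yon S).map pU' ≫ a') ≫ f = (yon S).map (pU' ≫ h') ≫ b' := by
    rw [Category.assoc, comm', Functor.map_comp, Category.assoc]
  have c3 : ((yon S).map pU ≫ a) ≫ f = (yon S).map h₃ ≫ ((yon S).map pV ≫ b) := by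
    rw [c1, ← h₃V, Functor.map_comp, Category.assoc]
  have fib := fun {A B : Over S} (α : (yon S).obj A ⟶ X) (β : (yon S).obj B ⟶ Y) (γ : A ⟶ B)
      (hα : RepWith @Etale α) (hβ : RepWith @Etale β) (hc : α ≫ f = (yon S).map γ ≫ β) =>
    isLocallyNoetherian_fiber_chart hX hY f hf α β γ hα hβ hc
  have fh := fib a b h ha hb comm
  have fh' := fib a' b' h' ha' hb' comm'
  have fUh := fib _ b (pU ≫ h) hA hb c1
  have fUh' := fib _ b' (pU' ≫ h') hA' hb' c1'
  have fh₃ := fib _ _ h₃ hA hB c3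
  have := hpU; have := hpU'; have := hpV; have := hpV'
  -- step 1
  have s1 : Dual3.IsGorensteinAt (pU.left ≫ h.left) u₃ :=
    (gorAt_precomp_etale_iff pU.left h.left fh fUh u₃).2 (by rw [hu₃]; exact hG)
  have e1 : pU.left ≫ h.left = h₃.left ≫ pV.left := congrArg (fun φ => φ.left) h₃V.symm
  have s2 : Dual3.IsGorensteinAt (h₃.left ≫ pV.left) u₃ := gorAt_congr e1 u₃ s1
  have s3 : Dual3.IsGorensteinAt h₃.left u₃ :=
    (gorAt_postcomp_etale_iff h₃.left pV.left fh₃ (fun y => by rw [← e1]; exact fUh y) u₃).1 s2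
  have e2 : h₃.left ≫ pV'.left = pU'.left ≫ h'.left := congrArg (fun φ => φ.left) h₃V'
  have s4 : Dual3.IsGorensteinAt (h₃.left ≫ pV'.left) u₃ :=
    (gorAt_postcomp_etale_iff h₃.left pV'.left fh₃ (fun y => by rw [e2]; exact fUh' y) u₃).2 s3
  have s5 : Dual3.IsGorensteinAt (pU'.left ≫ h'.left) u₃ := gorAt_congr e2 u₃ s4
  have s6 := (gorAt_precomp_etale_iff pU'.left h'.left fh' fUh' u₃).1 s5
  rwa [hu₃'] at s6

/-- One chart diagram suffices for `LocPAt IsGorensteinAt`. -/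
theorem locPAt_gor_of_one_chart {X Y : Sp S} (hX : IsAlgSpace X) (hY : IsAlgSpace Y)
    (f : X ⟶ Y) (hf : LocNoethFibres f) (x : Points X)
    {U V : Over S} (a : (yon S).obj U ⟶ X) (b : (yon S).obj V ⟶ Y) (h : U ⟶ V)
    (ha : RepWith @Etale a) (hb : RepWith @Etale b) (comm : a ≫ f = (yon S).map h ≫ b) (u : ↥U.left)
    (hu : Points.ofPt a u = x) (hG : Dual3.IsGorensteinAt h.left u) :
    LocPAt (fun h u => Dual3.IsGorensteinAt h u) f x := by
  intro U' V' a' b' h' u' ha' hb' comm' hu'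
  exact gorAt_chart_indep hX hY f hf a b h ha hb comm u a' b' h' ha' hb' comm' u' (hu.trans hu'.symm) hG

end Groth.Agent.H52
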