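import Groth.Agent.H52.GorSp
import Groth.Agent.H52.GorLoc

/-!
# Fibres of chart diagrams as charts of the fibres of a morphism of algebraic spaces (helper52)
-/

set_option autoImplicit false
universe u
open CategoryTheory CategoryTheory.Limits AlgebraicGeometry
open AlgSp

namespace Groth.Agent.H52

variable {S : Scheme.{u}}

/-- The residue field point of `V` at `v`, over `S`. -/
noncomputable abbrev resOver (V : Over S) (v : ↥V.left) : Over S := Over.mk (V.left.fromSpecResidueField v ≫ V.hom)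

noncomputable abbrev resOverι (V : Over S) (v : ↥V.left) : resOver V v ⟶ V :=
  Over.homMk (V.left.fromSpecResidueField v) rfl

/-- The scheme theoretic fibre of `h : U ⟶ V` over `v`, over `S`. -/
noncomputable abbrev fibOver {U V : Over S} (h : U ⟶ V) (v : ↥V.left) : Over S := Over.mk (h.left.fiberι v ≫ U.hom)

noncomputable abbrev fibOverι {U V : Over S} (h : U ⟶ V) (v : ↥V.left) : fibOver h v ⟶ U :=
  Over.homMk (h.left.fiberι v) rfl

theorem fibOver_w {U V : Over S} (h : U ⟶ V) (v : ↥V.left) :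
    h.left.fiberToSpecResidueField v ≫ (V.left.fromSpecResidueField v ≫ V.hom) =
      h.left.fiberι v ≫ U.hom := by
  rw [← Category.assoc, ← Scheme.Hom.fiber_fac, Category.assoc, Over.w h]

noncomputable abbrev fibOverτ {U V : Over S} (h : U ⟶ V) (v : ↥V.left) : fibOver h v ⟶ resOver V v :=
  Over.homMk (h.left.fiberToSpecResidueField v) (fibOver_w h v)

theorem isPullback_fibOver {U V : Over S} (h : U ⟶ V) (v : ↥V.left) :
    IsPullback ((yon S).map (fibOverι h v)) ((yon S).map (fibOverτ h v)) ((yon S).map h)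
      ((yon S).map (resOverι V v)) := by
  have hpb : IsPullback (fibOverι h v).left (fibOverτ h v).left h.left (resOverι V v).left :=
    IsPullback.of_hasPullback h.left (V.left.fromSpecResidueField v)
  have commO : fibOverι h v ≫ h = fibOverτ h v ≫ resOverι V v := by
    ext
    exact pullback.condition
  exact (IsPullback.of_map (Over.forget S) commO hpb).map (yon S)

/-- The fibre of a chart diagram maps to the fibre of the morphism, as a base change of the comparison map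
`h_U ⟶ X ×_Y h_V`. -/
theorem exists_fibre_map {X Y : Sp S} (f : X ⟶ Y) {U V : Over S} (a : (yon S).obj U ⟶ X)
    (b : (yon S).obj V ⟶ Y) (h : U ⟶ V) {XV : Sp S} {π₁ : XV ⟶ X} {π₂ : XV ⟶ (yon S).obj V}
    (sqXV : IsPullback π₁ π₂ f b) (m : (yon S).obj U ⟶ XV) (hm1 : m ≫ π₁ = a)
    (hm2 : m ≫ π₂ = (yon S).map h) (v : ↥V.left) {Xv : Sp S} {q₁ : Xv ⟶ X}
    {q₂ : Xv ⟶ (yon S).obj (resOver V v)}
    (sqv : IsPullback q₁ q₂ f ((yon S).map (resOverι V v) ≫ b)) :
    ∃ (c : (yon S).obj (fibOver h v) ⟶ Xv) (q : Xv ⟶ XV),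
      IsPullback c ((yon S).map (fibOverι h v)) q m ∧
      c ≫ q₁ = (yon S).map (fibOverι h v) ≫ a ∧ c ≫ q₂ = (yon S).map (fibOverτ h v) := by
  have hq : q₁ ≫ f = (q₂ ≫ (yon S).map (resOverι V v)) ≫ b := by
    rw [Category.assoc]; exact sqv.w
  obtain ⟨q, hq1, hq2⟩ : ∃ q : Xv ⟶ XV, q ≫ π₁ = q₁ ∧ q ≫ π₂ = q₂ ≫ (yon S).map (resOverι V v) :=
    ⟨sqXV.lift _ _ hq, sqXV.lift_fst _ _ _, sqXV.lift_snd _ _ _⟩
  have sqR : IsPullback q q₂ π₂ ((yon S).map (resOverι V v)) := by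
    refine IsPullback.of_right ?_ hq2 sqXV
    rw [hq1]
    exact sqv
  have sqF := isPullback_fibOver h v
  have hc0 : ((yon S).map (fibOverι h v) ≫ m) ≫ π₂ =
      (yon S).map (fibOverτ h v) ≫ (yon S).map (resOverι V v) := by
    rw [Category.assoc, hm2]; exact sqF.w
  obtain ⟨c, hc1, hc2⟩ : ∃ c : (yon S).obj (fibOver h v) ⟶ Xv,
      c ≫ q = (yon S).map (fibOverι h v) ≫ m ∧ c ≫ q₂ = (yon S).map (fibOverτ h v) :=
    ⟨sqR.lift _ _ hc0, sqR.lift_fst _ _ _, sqR.lift_snd _ _ _⟩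
  have sqC : IsPullback c ((yon S).map (fibOverι h v)) q m := by
    refine IsPullback.of_right ?_ hc1 sqR.flip
    rw [hc2, hm2]
    exact sqF.flip
  refine ⟨c, q, sqC, ?_, hc2⟩
  rw [← hq1, ← Category.assoc, hc1, Category.assoc, hm1]

/-- Charts of `X` over a given etale chart `b : h_V ⟶ Y` whose fibres are etale surjective charts of the fibres of `f`. -/
theorem exists_fibre_atlas {X Y : Sp S} (hX : IsAlgSpace X) (f : X ⟶ Y) {V : Over S}
    (b : (yon S).obj V ⟶ Y) (hb : RepWith @Etale b) :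
    ∃ (U : Over S) (a : (yon S).obj U ⟶ X) (k : U ⟶ V), RepWith @Etale a ∧
      a ≫ f = (yon S).map k ≫ b ∧
      (∀ (x : Points X) (v : ↥V.left), Points.map f x = Points.ofPt b v →
        ∃ u : ↥U.left, Points.ofPt a u = x ∧ k.left u = v) ∧
      ∀ (v : ↥V.left) {Xv : Sp S} {q₁ : Xv ⟶ X} {q₂ : Xv ⟶ (yon S).obj (resOver V v)},
        IsPullback q₁ q₂ f ((yon S).map (resOverι V v) ≫ b) →
        ∃ c : (yon S).obj (fibOver k v) ⟶ Xv, RepWith @Etale c ∧ RepWith @Surjective c ∧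
          c ≫ q₁ = (yon S).map (fibOverι k v) ≫ a := by
  classical
  have instE1 := AlgSp.repWith_isStableUnderBaseChange (S := S) @Etale
  have instS1 := AlgSp.repWith_isStableUnderBaseChange (S := S) @Surjective
  obtain ⟨U₀, a₀, hae, has⟩ := hX.atlas
  obtain ⟨U, pU, k, sqU, hpU⟩ : ∃ (U : Over S) (pU : U ⟶ U₀) (k : U ⟶ V),
      IsPullback ((yon S).map k) ((yon S).map pU) b (a₀ ≫ f) ∧ Etale pU.left :=
    ⟨_, hb.rep.snd (a₀ ≫ f), hb.rep.fst' (a₀ ≫ f), hb.rep.isPullback' (a₀ ≫ f),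
      hb.property_snd (a₀ ≫ f)⟩
  have ha : RepWith @Etale ((yon S).map pU ≫ a₀) := repWith_yon_map_comp @Etale pU hpU a₀ hae
  have comm : ((yon S).map pU ≫ a₀) ≫ f = (yon S).map k ≫ b := by
    rw [Category.assoc]; exact sqU.w.symm
  refine ⟨U, (yon S).map pU ≫ a₀, k, ha, comm, ?_, ?_⟩
  · intro x v hxv
    obtain ⟨u₀, hu₀⟩ := surjective_ofPt_of_surjective a₀ has x
    have hpt : Points.ofPt b v = Points.ofPt (a₀ ≫ f) u₀ := by
      rw [← hxv, ← hu₀, Points.map_ofPt]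
    obtain ⟨u, hu1, hu2⟩ := exists_of_ofPt_eq_ofPt sqU v u₀ hpt
    exact ⟨u, by rw [ofPt_yon_map_comp, hu2, hu₀], hu1⟩
  · intro v Xv q₁ q₂ sqv
    obtain ⟨XV, π₁, π₂, sqXV⟩ : ∃ (XV : Sp S) (π₁ : XV ⟶ X) (π₂ : XV ⟶ (yon S).obj V),
        IsPullback π₁ π₂ f b := ⟨_, _, _, IsPullback.of_hasPullback f b⟩
    obtain ⟨m, hm1, hm2⟩ : ∃ m : (yon S).obj U ⟶ XV, m ≫ π₁ = (yon S).map pU ≫ a₀ ∧
        m ≫ π₂ = (yon S).map k := ⟨sqXV.lift _ _ comm, sqXV.lift_fst _ _ _, sqXV.lift_snd _ _ _⟩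
    have sqM : IsPullback m ((yon S).map pU) π₁ a₀ := by
      refine IsPullback.of_right ?_ hm1 sqXV.flip
      rw [hm2]
      exact sqU
    have hme : RepWith @Etale m := (RepWith @Etale).of_isPullback sqM.flip hae
    have hms : RepWith @Surjective m := (RepWith @Surjective).of_isPullback sqM.flip has
    obtain ⟨c, q, sqC, hc1, -⟩ := exists_fibre_map f _ b k sqXV m hm1 hm2 v sqv
    exact ⟨c, (RepWith @Etale).of_isPullback sqC.flip hme,
      (RepWith @Surjective).of_isPullback sqC.flip hms, hc1⟩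

end Groth.Agent.H52
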