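import Groth.Agent.H52.LocPBC
import Groth.Prelude.Def_AlgSpGpd

/-!
# Restriction of groupoids and `LocP` (helper52)
-/

set_option autoImplicit false
universe u

open CategoryTheory CategoryTheory.Limits AlgebraicGeometry MorphismProperty
open AlgSp

namespace Groth.Agent.H52

section Cat

variable {C : Type*} [Category C] [HasPullbacks C]

/-- Abstract form of "`R' = U' ×_{U,t} R ×_{s,U} U'`": the map `R' ⟶ R ×_{s,U} U'` is a base change of `g`. -/
theorem isPullback_restrict_aux {R U U' R' : C} (s t : R ⟶ U) (g : U' ⟶ U) (s' t' : R' ⟶ U')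
    (fR : R' ⟶ R) (hs : fR ≫ s = s' ≫ g) (ht : fR ≫ t = t' ≫ g)
    (huniv : ∀ {T : C} (α : T ⟶ R) (a b : T ⟶ U'), α ≫ t = a ≫ g → α ≫ s = b ≫ g →
      ∃ l : T ⟶ R', l ≫ fR = α ∧ l ≫ t' = a ∧ l ≫ s' = b)
    (hext : ∀ {T : C} (l l' : T ⟶ R'), l ≫ fR = l' ≫ fR → l ≫ t' = l' ≫ t' → l ≫ s' = l' ≫ s' →
      l = l') :
    IsPullback (pullback.lift fR s' hs : R' ⟶ pullback s g) t' (pullback.fst s g ≫ t) g := by
  refine ⟨⟨by rw [pullback.lift_fst_assoc, ht]⟩, ⟨PullbackCone.IsLimit.mk _
    (fun c => (huniv (c.fst ≫ pullback.fst s g) c.snd (c.fst ≫ pullback.snd s g)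
      (by rw [Category.assoc]; exact c.condition)
      (by rw [Category.assoc, Category.assoc, pullback.condition])).choose) ?_ ?_ ?_⟩⟩
  · intro c
    have h := (huniv (c.fst ≫ pullback.fst s g) c.snd (c.fst ≫ pullback.snd s g)
      (by rw [Category.assoc]; exact c.condition)
      (by rw [Category.assoc, Category.assoc, pullback.condition])).choose_spec
    apply pullback.hom_ext
    · rw [Category.assoc, pullback.lift_fst]; exact h.1
    · rw [Category.assoc, pullback.lift_snd]; exact h.2.2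
  · intro c
    exact (huniv (c.fst ≫ pullback.fst s g) c.snd (c.fst ≫ pullback.snd s g)
      (by rw [Category.assoc]; exact c.condition)
      (by rw [Category.assoc, Category.assoc, pullback.condition])).choose_spec.2.1
  · intro c m h1 h2
    have h := (huniv (c.fst ≫ pullback.fst s g) c.snd (c.fst ≫ pullback.snd s g)
      (by rw [Category.assoc]; exact c.condition)
      (by rw [Category.assoc, Category.assoc, pullback.condition])).choose_spec
    apply hext
    · rw [h.1, ← h1, Category.assoc, pullback.lift_fst]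
    · rw [h.2.1, h2]
    · rw [h.2.2, ← h1, Category.assoc, pullback.lift_snd]

end Cat

variable {S : Scheme.{u}}

/-- If `s` and `g` have `P` etale locally and `R' = U' ×_{U,t} R ×_{s,U} U'` then `s'` has `P` etale locally. -/
theorem locP_restrict_aux {P : MorphismProperty Scheme.{u}} (hP : EtLocal P)
    {R U U' R' : Sp S} (hR : IsAlgSpace R) (hU : IsAlgSpace U) (hU' : IsAlgSpace U')
    (s t : R ⟶ U) (g : U' ⟶ U) (s' t' : R' ⟶ U')
    (fR : R' ⟶ R) (hs : fR ≫ s = s' ≫ g) (ht : fR ≫ t = t' ≫ g)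
    (huniv : ∀ {T : Sp S} (α : T ⟶ R) (a b : T ⟶ U'), α ≫ t = a ≫ g → α ≫ s = b ≫ g →
      ∃ l : T ⟶ R', l ≫ fR = α ∧ l ≫ t' = a ∧ l ≫ s' = b)
    (hext : ∀ {T : Sp S} (l l' : T ⟶ R'), l ≫ fR = l' ≫ fR → l ≫ t' = l' ≫ t' → l ≫ s' = l' ≫ s' →
      l = l')
    (h1 : LocP P s) (h2 : LocP P g) : LocP P s' := by
  have sqM := IsPullback.of_hasPullback s g
  have hM : IsAlgSpace (pullback s g) := isAlgSpace_of_isPullback sqM hU.diag hR hU'
  have hm₂ : LocP P (pullback.snd s g) := locP_baseChange hP hR hU hU' sqM h1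
  have sqK := isPullback_restrict_aux s t g s' t' fR hs ht huniv hext
  have hk : LocP P (pullback.lift fR s' hs : R' ⟶ pullback s g) :=
    locP_baseChange hP hU' hU hM sqK.flip h2
  have := locP_comp hP hM _ _ hk hm₂
  rwa [pullback.lift_snd] at this

end Groth.Agent.H52
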