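import Groth.Agent.H52.GorEt
import Groth.Agent.H47.HensNoeth2

/-!
# Flatness cancels along etale and ind-etale local ring maps (helper52)
-/

set_option autoImplicit false
universe u
open CategoryTheory CategoryTheory.Limits AlgebraicGeometry

namespace Groth.Agent.H52

/-- If `C` is etale over `A` and `B` is a `C`-algebra which is flat over `A`, then `B` is flat over `C`. -/
theorem flat_of_etale_of_flat_comp {A C B : Type u} [CommRing A] [CommRing C] [CommRing B] [Algebra A C]
    [Algebra.Etale A C] (χ : C →+* B) (h : (χ.comp (algebraMap A C)).Flat) : χ.Flat := by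
  have he : Etale (Spec.map (CommRingCat.ofHom (algebraMap A C))) := by
    rw [HasRingHomProperty.Spec_iff (P := @Etale)]
    exact RingHom.etale_algebraMap.2 inferInstance
  have hke : Flat (Spec.map (CommRingCat.ofHom χ) ≫ Spec.map (CommRingCat.ofHom (algebraMap A C))) := by
    rw [← Spec.map_comp, ← CommRingCat.ofHom_comp, HasRingHomProperty.Spec_iff (P := @Flat)]
    exact h
  have hk : Flat (Spec.map (CommRingCat.ofHom χ)) := by
    apply Flat.of_stalkMap
    intro x
    exact flat_stalkMap_of_comp_etale _ (Spec.map (CommRingCat.ofHom (algebraMap A C))) x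
      (Flat.stalkMap _ x)
  rw [HasRingHomProperty.Spec_iff (P := @Flat)] at hk
  exact hk

open Groth.Agent.H47.HensNoeth in
/-- Flatness cancels along ind-etale local maps (for instance (strict) henselizations). -/
theorem flat_of_indEtaleLocal_of_flat_comp {A A' B : Type u} [CommRing A] [CommRing A'] [CommRing B]
    [Algebra A A'] [IsLocalRing A] [IsLocalRing A'] (hI : IsIndEtaleLocal A A') (φ : A' →+* B)
    (h : (φ.comp (algebraMap A A')).Flat) : φ.Flat := by
  classical
  letI algA' : Algebra A' B := φ.toAlgebra
  show Module.Flat A' B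
  apply Module.Flat.of_forall_isTrivialRelation
  intro l f x hfx
  obtain ⟨C, _, _, _, χ, hχ⟩ := hI.rep (Finset.image f Finset.univ)
  have hc : ∀ i, ∃ c : C, χ c = f i := fun i => hχ (f i) (Finset.mem_image_of_mem f (Finset.mem_univ i))
  choose c hc using hc
  have hfl : (φ.comp χ.toRingHom).Flat := by
    apply flat_of_etale_of_flat_comp (A := A)
    have : (φ.comp χ.toRingHom).comp (algebraMap A C) = φ.comp (algebraMap A A') := by
      ext r
      simp
    rw [this]
    exact h
  letI algC : Algebra C B := (φ.comp χ.toRingHom).toAlgebra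
  have hflC : Module.Flat C B := hfl
  have hsmul : ∀ (d : C) (b : B), d • b = (χ d) • b := by
    intro d b
    rw [Algebra.smul_def, Algebra.smul_def]
    rfl
  have hrel : ∑ i, c i • x i = 0 := by
    rw [← hfx]
    refine Finset.sum_congr rfl (fun i _ => ?_)
    rw [hsmul, hc]
  obtain ⟨k, a, y, h1, h2⟩ := Module.Flat.isTrivialRelation_of_sum_smul_eq_zero (R := C) (M := B) (f := c) (x := x) hrel
  refine ⟨k, fun i j => χ (a i j), y, fun i => ?_, fun j => ?_⟩
  · rw [h1 i]
    exact Finset.sum_congr rfl (fun j _ => hsmul _ _)
  · have := congrArg χ (h2 j)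
    rw [map_sum, map_zero] at this
    rw [← this]
    refine Finset.sum_congr rfl (fun i _ => ?_)
    rw [map_mul, hc]

end Groth.Agent.H52
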