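import Groth.Agent.H52.DimZeroField
import Groth.Agent.H52.DecentTop
import Groth.Agent.H71.DimFun

/-!
# helper52: isolated points of algebraic spaces locally of finite type over a field
-/

universe u

open CategoryTheory CategoryTheory.Limits AlgebraicGeometry Opposite AlgSp Topology

namespace Groth.Agent.H52

variable {S : Scheme.{u}}

/-- If all points of an open subset of a scheme locally of finite type over a field have codimension zero,
all of them are open points. -/
theorem isOpen_singleton_of_codim_zero_nbhd {k : Type u} [Field k] {U : Scheme.{u}}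
    (s : U ⟶ Spec (CommRingCat.of k)) [LocallyOfFiniteType s] (N : U.Opens)
    (hN : ∀ w ∈ N, ringKrullDim (U.presheaf.stalk w) = 0) (u : U) (hu : u ∈ N) :
    IsOpen ({u} : Set U) := by
  have hstalk : ∀ w' : N.toScheme, ringKrullDim (N.toScheme.presheaf.stalk w') = 0 := by
    intro w'
    rw [ringKrullDim_stalk_eq_coheight, ← coheight_eq_of_isOpenImmersion N.ι,
      ← ringKrullDim_stalk_eq_coheight]
    exact hN _ w'.2
  have hq : ∀ w' : N.toScheme, (N.ι ≫ s).QuasiFiniteAt w' := fun w' =>
    quasiFiniteAt_of_fibre_codim_zero (N.ι ≫ s) w' (fun w'' _ => hstalk w'')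
  have hlqf : LocallyQuasiFinite (N.ι ≫ s) := by
    rw [← Scheme.Hom.quasiFiniteLocus_eq_top_iff]
    refine top_unique fun w' _ => ?_
    exact hq w'
  have : DiscreteTopology ↥N.toScheme := discreteTopology_of_lqf_field (k := k) (N.ι ≫ s)
  have h1 : IsOpen ({⟨u, hu⟩} : Set N.toScheme) := isOpen_discrete _
  have h2 := N.ι.isOpenEmbedding.isOpenMap _ h1
  rw [Set.image_singleton] at h2
  exact h2

/-- A point all of whose generizations in an etale chart have the same image has codimension zero. -/
theorem codim_zero_of_generization_const {X : Sp S} {U : Over S} (a : (yon S).obj U ⟶ X)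
    (ha : RepWith @Etale a) (w : ↥U.left)
    (H : ∀ ξ : ↥U.left, ξ ⤳ w → Points.ofPt a ξ = Points.ofPt a w) :
    ringKrullDim ↥(U.left.presheaf.stalk w) = 0 := by
  obtain ⟨ξ, hξw, hξgen⟩ := exists_specializes_of_no_generization w
  rw [ringKrullDim_stalk_eq_of_charts a a ha ha w ξ (H ξ hξw).symm]
  exact (ringKrullDim_stalk_eq_zero_iff ξ).2 hξgen

open Groth.Agent.H9.FibDim in
theorem localDim_eq_zero_of_isOpen_singleton {T : Type*} [TopologicalSpace T] (x : T)
    (h : IsOpen ({x} : Set T)) : FlatMor.localDim T x = 0 := by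
  apply le_antisymm
  · have h1 := localDim_le_of_mem T x ⟨{x}, h⟩ rfl
    refine h1.trans ?_
    have : Subsingleton ↥({x} : Set T) := (Set.subsingleton_coe _).mpr Set.subsingleton_singleton
    have : DiscreteTopology ↥({x} : Set T) := Subsingleton.discreteTopology
    exact topologicalKrullDim_zero_of_discreteTopology _
  · have hne := localDim_ne_bot T x
    obtain ⟨a, ha⟩ := WithBot.ne_bot_iff_exists.mp hne
    rw [← ha]
    exact WithBot.coe_le_coe.mpr zero_le

theorem exists_nbhd_dim_le_zero_of_localDim_eq_zero {T : Type*} [TopologicalSpace T] (x : T)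
    (h : FlatMor.localDim T x = 0) :
    ∃ M : TopologicalSpace.Opens T, x ∈ M ∧ topologicalKrullDim (M : Set T) ≤ 0 := by
  by_contra hcon
  push Not at hcon
  have h1 : (1 : WithBot ℕ∞) ≤ FlatMor.localDim T x := by
    unfold FlatMor.localDim
    refine le_iInf fun ⟨M, hM⟩ => ?_
    have h2 := hcon M hM
    change (0 : WithBot ℕ∞) < topologicalKrullDim (M : Set T) at h2
    obtain ⟨d, hd⟩ := WithBot.ne_bot_iff_exists.mp (ne_bot_of_gt h2)
    change (1 : WithBot ℕ∞) ≤ topologicalKrullDim (M : Set T)
    rw [← hd] at h2 ⊢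
    have h3 : (0 : ℕ∞) < d := by exact_mod_cast h2
    have h4 : (1 : ℕ∞) ≤ d := Order.one_le_iff_pos.mpr h3
    exact_mod_cast h4
  rw [h] at h1
  exact absurd h1 (by decide)

end Groth.Agent.H52
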