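import Groth.Agent.H52.IsolatedPt

/-!
# helper52: isolated points of algebraic spaces locally of finite type over a field, II
-/

universe u

open CategoryTheory CategoryTheory.Limits AlgebraicGeometry Opposite AlgSp Topology

namespace Groth.Agent.H52

/-- In a T0 space, a specialization inside an open subset of dimension at most zero is an equality. -/
theorem eq_of_specializes_of_dim_le_zero {T : Type*} [TopologicalSpace T] [T0Space T]
    (M : TopologicalSpace.Opens T) (hM : topologicalKrullDim (M : Set T) ≤ 0) {y' y : T}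
    (h : y' ⤳ y) (hy : y ∈ M) : y' = y := by
  have hy' : y' ∈ M := h.mem_open M.2 hy
  have h1 : (⟨y', hy'⟩ : (M : Set T)) ⤳ ⟨y, hy⟩ := (subtype_specializes_iff _ _).mpr h
  let Z' : TopologicalSpace.IrreducibleCloseds (M : Set T) :=
    ⟨closure {⟨y', hy'⟩}, isIrreducible_singleton.closure, isClosed_closure⟩
  let Z : TopologicalSpace.IrreducibleCloseds (M : Set T) :=
    ⟨closure {⟨y, hy⟩}, isIrreducible_singleton.closure, isClosed_closure⟩
  have hle : Z ≤ Z' := by
    change closure _ ⊆ closure _
    exact specializes_iff_closure_subset.mp h1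
  have hmax : IsMax Z := (Order.krullDim_nonpos_iff_forall_isMax.mp hM) Z
  have hge : Z' ≤ Z := hmax hle
  have h2 : (⟨y, hy⟩ : (M : Set T)) ⤳ ⟨y', hy'⟩ := by
    apply specializes_iff_closure_subset.mpr
    exact hge
  exact (h.antisymm ((subtype_specializes_iff _ _).mp h2)).eq

variable {k : Type u} [Field k]

/-- The structure morphism of a chart of a space locally of finite type over a field. -/
theorem exists_chart_lft {X : Sp (Spec (CommRingCat.of k))}
    (p : X ⟶ (yon (Spec (CommRingCat.of k))).obj (Over.mk (𝟙 _))) (hp : LocP @LocallyOfFiniteType p)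
    {U : Over (Spec (CommRingCat.of k))} (a : (yon _).obj U ⟶ X) (ha : RepWith @Etale a) :
    ∃ s : U.left ⟶ Spec (CommRingCat.of k), LocallyOfFiniteType s := by
  obtain ⟨h, hh⟩ := (yon _).map_surjective (a ≫ p)
  exact ⟨h.left, hp a (𝟙 _) h ha (repWith_id _ _) (by rw [Category.comp_id, hh])⟩

/-- If all points of an open neighbourhood of `u` in a chart have codimension zero, the image of `u` is an open
point. -/
theorem isOpen_singleton_ofPt_of_codim_zero_nbhd {X : Sp (Spec (CommRingCat.of k))}
    (p : X ⟶ (yon (Spec (CommRingCat.of k))).obj (Over.mk (𝟙 _))) (hp : LocP @LocallyOfFiniteType p)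
    {U : Over (Spec (CommRingCat.of k))} (a : (yon _).obj U ⟶ X) (ha : RepWith @Etale a)
    (N : U.left.Opens) (hN : ∀ w ∈ N, ringKrullDim (U.left.presheaf.stalk w) = 0) (u : ↥U.left)
    (hu : u ∈ N) : IsOpen ({u} : Set ↥U.left) ∧ IsOpen ({Points.ofPt a u} : Set (Points X)) := by
  obtain ⟨s, hs⟩ := exists_chart_lft p hp a ha
  have h1 := isOpen_singleton_of_codim_zero_nbhd s N hN u hu
  refine ⟨h1, ?_⟩
  have h2 := isOpenMap_ofPt_of_etale a ha _ h1
  rwa [Set.image_singleton] at h2

/-- An open point is the image of an open point of any chart, which has local dimension zero. -/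
theorem isOpen_singleton_chart_of_isOpen_singleton {X : Sp (Spec (CommRingCat.of k))}
    (p : X ⟶ (yon (Spec (CommRingCat.of k))).obj (Over.mk (𝟙 _))) (hp : LocP @LocallyOfFiniteType p)
    {U : Over (Spec (CommRingCat.of k))} (a : (yon _).obj U ⟶ X) (ha : RepWith @Etale a)
    (u : ↥U.left) (h : IsOpen ({Points.ofPt a u} : Set (Points X))) :
    IsOpen ({u} : Set ↥U.left) := by
  let N : U.left.Opens := ⟨Points.ofPt a ⁻¹' {Points.ofPt a u}, h.preimage (Points.continuous_ofPt a)⟩
  have hN : ∀ w ∈ N, ringKrullDim (U.left.presheaf.stalk w) = 0 := by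
    intro w hw
    refine codim_zero_of_generization_const a ha w fun ξ hξ => ?_
    have hξN : ξ ∈ N := hξ.mem_open N.2 hw
    exact hξN.trans hw.symm
  exact (isOpen_singleton_ofPt_of_codim_zero_nbhd p hp a ha N hN u rfl).1

theorem hasAt_localDim_zero_iff_isOpen_singleton {X : Sp (Spec (CommRingCat.of k))} (hX : IsAlgSpace X)
    (p : X ⟶ (yon (Spec (CommRingCat.of k))).obj (Over.mk (𝟙 _))) (hp : LocP @LocallyOfFiniteType p)
    (x : Points X) :
    IsOpen ({x} : Set (Points X)) ↔ HasAt (fun U u => FlatMor.localDim ↥U u = 0) X x := by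
  constructor
  · intro h
    obtain ⟨U, a, u, -, ha, rfl⟩ := exists_affine_chart_at hX x
    exact ⟨U, a, u, ha, rfl, localDim_eq_zero_of_isOpen_singleton u
      (isOpen_singleton_chart_of_isOpen_singleton p hp a ha u h)⟩
  · rintro ⟨U, a, u, ha, rfl, hd⟩
    obtain ⟨M, huM, hM⟩ := exists_nbhd_dim_le_zero_of_localDim_eq_zero u hd
    refine (isOpen_singleton_ofPt_of_codim_zero_nbhd p hp a ha M (fun w hw => ?_) u huM).2
    let M' : U.left.Opens := M
    have h1 : ringKrullDim (M'.toScheme.presheaf.stalk ⟨w, hw⟩) = 0 :=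
      ringKrullDim_stalk_eq_zero_of_topologicalKrullDim_le (X := M'.toScheme) ⟨w, hw⟩ hM
    rw [ringKrullDim_stalk_eq_coheight, ← coheight_eq_of_isOpenImmersion M'.ι,
      ← ringKrullDim_stalk_eq_coheight] at h1
    exact h1

end Groth.Agent.H52
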