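import Groth.Agent.H52.IsolatedPt2

/-!
# helper52: isolated points of algebraic spaces locally of finite type over a field, III
-/

universe u

open CategoryTheory CategoryTheory.Limits AlgebraicGeometry Opposite AlgSp Topology

namespace Groth.Agent.H52

/-- In a locally Noetherian Jacobson scheme, a set of open points is closed. -/
theorem isClosed_of_forall_isOpen_singleton {U : Scheme.{u}} [IsLocallyNoetherian U] [JacobsonSpace U]
    (N : Set U) (hN : ∀ w ∈ N, IsOpen ({w} : Set U)) : IsClosed N := by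
  rw [← isOpen_compl_iff, isOpen_iff_forall_mem_open]
  intro p hp
  obtain ⟨O, hO, hpO, -⟩ := TopologicalSpace.Opens.isBasis_iff_nbhd.mp U.isBasis_affineOpens
    (show p ∈ (⊤ : U.Opens) from trivial)
  have hO' : IsAffineOpen O := hO
  have : IsNoetherianRing Γ(U, O) := IsLocallyNoetherian.component_noetherian ⟨O, hO'⟩
  have : TopologicalSpace.NoetherianSpace ↥O := noetherianSpace_of_isAffineOpen O hO'
  have hfin : {w : ↥O | (w : U) ∈ N}.Finite := by
    refine (finite_setOf_isOpen_singleton ↥O).subset fun w hw => ?_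
    have h1 : ({w} : Set ↥O) = Subtype.val ⁻¹' ({(w : U)} : Set U) := by
      ext w'
      simp only [Set.mem_singleton_iff, Set.mem_preimage]
      exact Subtype.ext_iff
    change IsOpen ({w} : Set ↥O)
    rw [h1]
    exact (hN _ hw).preimage continuous_subtype_val
  have hcl : IsClosed (Subtype.val '' {w : ↥O | (w : U) ∈ N} : Set U) := by
    have h2 : (Subtype.val '' {w : ↥O | (w : U) ∈ N} : Set U) =
        ⋃ w ∈ {w : ↥O | (w : U) ∈ N}, ({(w : U)} : Set U) := by
      ext z
      simp only [Set.mem_image, Set.mem_ofPred_eq, Set.mem_iUnion, Set.mem_singleton_iff, exists_prop]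
      constructor
      · rintro ⟨w, hw, rfl⟩; exact ⟨w, hw, rfl⟩
      · rintro ⟨w, hw, rfl⟩; exact ⟨w, hw, rfl⟩
    rw [h2]
    refine hfin.isClosed_biUnion fun w hw => ?_
    exact isClosed_singleton_of_isLocallyClosed_singleton (hN _ hw).isLocallyClosed
  refine ⟨(O : Set U) \ (Subtype.val '' {w : ↥O | (w : U) ∈ N}), ?_, O.2.sdiff hcl, ⟨hpO, ?_⟩⟩
  · rintro z ⟨hzO, hz⟩ hzN
    exact hz ⟨⟨z, hzO⟩, hzN, rfl⟩
  · rintro ⟨w, hw, rfl⟩
    exact hp hw

/-- In a locally Noetherian scheme, a closed set of points of codimension zero is open. -/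
theorem isOpen_of_isClosed_of_codim_zero {U : Scheme.{u}} [IsLocallyNoetherian U] (N : Set U)
    (hcl : IsClosed N) (hN : ∀ w ∈ N, ringKrullDim (U.presheaf.stalk w) = 0) : IsOpen N := by
  rw [isOpen_iff_forall_mem_open]
  intro w hw
  obtain ⟨M, hwM, hM⟩ := Groth.Agent.H71.DimFun.exists_open_generic_specializes U w
  refine ⟨M, fun p hp => ?_, M.2, hwM⟩
  obtain ⟨ξ, hξp, hξgen⟩ := exists_specializes_of_no_generization p
  have hξM : ξ ∈ M := hξp.mem_open M.2 hp
  have h1 : ξ ⤳ w := hM ξ hξM hξgen
  have h2 : ξ = w := (ringKrullDim_stalk_eq_zero_iff w).1 (hN w hw) ξ h1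
  rw [h2] at hξp
  exact hξp.mem_closed hcl hw

variable {k : Type u} [Field k]

theorem isOpen_singleton_iff_isClosed_and {X : Sp (Spec (CommRingCat.of k))} (hX : IsAlgSpace X)
    (p : X ⟶ (yon (Spec (CommRingCat.of k))).obj (Over.mk (𝟙 _))) (hp : LocP @LocallyOfFiniteType p)
    (x : Points X) :
    IsOpen ({x} : Set (Points X)) ↔
      (IsClosed ({x} : Set (Points X)) ∧ ∀ x' : Points X, x' ⤳ x → x' = x) := by
  constructor
  · intro h
    refine ⟨?_, fun x' hx' => hx'.mem_open h rfl⟩
    obtain ⟨U, a, hae, has⟩ := hX.atlas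
    obtain ⟨s, hs⟩ := exists_chart_lft p hp a hae
    have hUn : IsLocallyNoetherian U.left := LocallyOfFiniteType.isLocallyNoetherian s
    have hUj : JacobsonSpace U.left := LocallyOfFiniteType.jacobsonSpace s
    have hNcl : IsClosed (Points.ofPt a ⁻¹' {x}) := by
      refine isClosed_of_forall_isOpen_singleton _ fun w hw => ?_
      have hw' : Points.ofPt a w = x := hw
      exact isOpen_singleton_chart_of_isOpen_singleton p hp a hae w (by rw [hw']; exact h)
    have h1 := isOpenMap_ofPt_of_etale a hae _ hNcl.isOpen_compl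
    have h2 : Points.ofPt a '' (Points.ofPt a ⁻¹' {x})ᶜ = ({x} : Set (Points X))ᶜ := by
      rw [← Set.preimage_compl]
      exact Set.image_preimage_eq _ (surjective_ofPt_of_surjective a has)
    rw [h2] at h1
    exact isOpen_compl_iff.mp h1
  · rintro ⟨hcl, hgen⟩
    obtain ⟨U, a, u, -, ha, rfl⟩ := exists_affine_chart_at hX x
    obtain ⟨s, hs⟩ := exists_chart_lft p hp a ha
    have hUn : IsLocallyNoetherian U.left := LocallyOfFiniteType.isLocallyNoetherian s
    have hNcl : IsClosed (Points.ofPt a ⁻¹' {Points.ofPt a u}) :=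
      hcl.preimage (Points.continuous_ofPt a)
    have hN0 : ∀ w ∈ Points.ofPt a ⁻¹' {Points.ofPt a u},
        ringKrullDim (U.left.presheaf.stalk w) = 0 := by
      intro w hw
      have hw' : Points.ofPt a w = Points.ofPt a u := hw
      refine codim_zero_of_generization_const a ha w fun ξ hξ => ?_
      rw [hw']
      refine hgen _ ?_
      rw [← hw']
      exact hξ.map (Points.continuous_ofPt a)
    have hNop := isOpen_of_isClosed_of_codim_zero _ hNcl hN0
    exact (isOpen_singleton_ofPt_of_codim_zero_nbhd p hp a ha ⟨_, hNop⟩ hN0 u rfl).2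

theorem localDim_points_eq_zero_iff {X : Sp (Spec (CommRingCat.of k))} (hX : IsAlgSpace X)
    (p : X ⟶ (yon (Spec (CommRingCat.of k))).obj (Over.mk (𝟙 _))) (hp : LocP @LocallyOfFiniteType p)
    (hd : IsDecent X) (x : Points X) :
    FlatMor.localDim (Points X) x = 0 ↔ IsOpen ({x} : Set (Points X)) := by
  constructor
  · intro h
    have : T0Space (Points X) := t0Space_of_isDecent hX hd
    obtain ⟨M, hxM, hM⟩ := exists_nbhd_dim_le_zero_of_localDim_eq_zero x h
    obtain ⟨U, a, u, -, ha, rfl⟩ := exists_affine_chart_at hX x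
    let N : U.left.Opens := ⟨Points.ofPt a ⁻¹' (M : Set (Points X)), M.2.preimage (Points.continuous_ofPt a)⟩
    have hN0 : ∀ w ∈ N, ringKrullDim (U.left.presheaf.stalk w) = 0 := by
      intro w hw
      refine codim_zero_of_generization_const a ha w fun ξ hξ => ?_
      exact eq_of_specializes_of_dim_le_zero M hM (hξ.map (Points.continuous_ofPt a)) hw
    exact (isOpen_singleton_ofPt_of_codim_zero_nbhd p hp a ha N hN0 u hxM).2
  · exact localDim_eq_zero_of_isOpen_singleton x

end Groth.Agent.H52
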