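import Mathlib

/-!
# Linear algebra behind "locally separated implies decent" (helper52)

A family of pairs of points of `Spec A` with values in a field `Ω`, pairwise "separated" by an open
neighbourhood of the diagonal of `Spec (A ⊗[B] A)`, is finite.
-/

set_option autoImplicit false
universe u

open TensorProduct

namespace Groth.Agent.H52

/-- A family of vectors with a "dual" family is finite. -/
theorem finite_of_pairing {Ω : Type*} [Field Ω] {I : Type*} {n : Type*} [Fintype n]
    (v w : I → n → Ω) (h0 : ∀ i j, i ≠ j → ∑ m, v i m * w j m = 0)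
    (h1 : ∀ i, ∑ m, v i m * w i m ≠ 0) : Finite I := by
  have hli : LinearIndependent Ω v := by
    rw [linearIndependent_iff']
    intro s g hg i hi
    have h := congrArg (fun x : n → Ω => ∑ m, x m * w i m) hg
    simp only [Finset.sum_apply, Pi.smul_apply, smul_eq_mul, Pi.zero_apply, zero_mul,
      Finset.sum_const_zero] at h
    rw [Finset.sum_congr rfl (fun m _ => Finset.sum_mul _ _ _), Finset.sum_comm] at h
    have h2 : ∀ j ∈ s, ∑ m, g j * v j m * w i m = g j * ∑ m, v j m * w i m := by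
      intro j _
      rw [Finset.mul_sum]
      exact Finset.sum_congr rfl fun m _ => mul_assoc _ _ _
    rw [Finset.sum_congr rfl h2, Finset.sum_eq_single i] at h
    · exact (mul_eq_zero.1 h).resolve_right (h1 i)
    · intro j _ hji
      rw [h0 j i hji, mul_zero]
    · intro hi'
      exact absurd hi hi'
  exact hli.finite

variable {A B Ω : Type u} [CommRing A] [CommRing B] [Algebra B A] [Field Ω]

/-- Evaluate a tensor through multiplicative pairings. -/
theorem finite_of_tensor_pairing {I : Type*} (β : I → A →+* Ω) (ψ : I → I → (A ⊗[B] A) →+* Ω)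
    (hψ : ∀ i j a b, ψ i j (a ⊗ₜ b) = β i a * β j b) (f : A ⊗[B] A)
    (h0 : ∀ i j, i ≠ j → ψ i j f = 0) (h1 : ∀ i, ψ i i f ≠ 0) : Finite I := by
  obtain ⟨s, hs⟩ := TensorProduct.exists_finset f
  have key : ∀ i j, ψ i j f = ∑ m : ↥s, β i m.1.1 * β j m.1.2 := by
    intro i j
    rw [hs, map_sum, ← Finset.sum_coe_sort]
    exact Finset.sum_congr rfl fun m _ => hψ i j _ _
  refine finite_of_pairing (n := ↥s) (fun i m => β i m.1.1) (fun j m => β j m.1.2) ?_ ?_
  · intro i j hij
    rw [← key]; exact h0 i j hij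
  · intro i
    rw [← key]; exact h1 i

/-- **Separation lemma.**  Let `β i : A →+* Ω` be a family of `Ω`-points of `Spec A`, with pairings
`ψ i j : A ⊗[B] A →+* Ω` (the points `(β i, β j)` of `Spec (A ⊗[B] A)`), and `V` an open neighbourhood of the
diagonal such that `(β i, β j) ∈ V` only for `i = j`.  Then the family is finite. -/
theorem finite_of_tensor_separation {I : Type*} (β : I → A →+* Ω)
    (ψ : I → I → (A ⊗[B] A) →+* Ω) (hψ : ∀ i j a b, ψ i j (a ⊗ₜ b) = β i a * β j b)
    (V : Set (PrimeSpectrum (A ⊗[B] A))) (hV : IsOpen V)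
    (hdiag : ∀ y : PrimeSpectrum A,
      PrimeSpectrum.comap (Algebra.TensorProduct.lmul' B (S := A)).toRingHom y ∈ V)
    (hsep : ∀ i j (x : PrimeSpectrum Ω), PrimeSpectrum.comap (ψ i j) x ∈ V → i = j) : Finite I := by
  classical
  let μ : (A ⊗[B] A) →+* A := (Algebra.TensorProduct.lmul' B (S := A)).toRingHom
  let x₀ : PrimeSpectrum Ω := ⟨⊥, Ideal.isPrime_bot⟩
  have hx : ∀ x : PrimeSpectrum Ω, x.asIdeal = ⊥ := fun x =>
    (Ideal.eq_bot_or_top x.asIdeal).resolve_right x.2.ne_top
  -- the diagonal is compact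
  have hK : IsCompact (Set.range (PrimeSpectrum.comap μ)) :=
    isCompact_range (PrimeSpectrum.continuous_comap μ)
  have hbasis := PrimeSpectrum.isTopologicalBasis_basic_opens (R := A ⊗[B] A)
  have hex : ∀ y ∈ Set.range (PrimeSpectrum.comap μ), ∃ f : A ⊗[B] A,
      y ∈ (PrimeSpectrum.basicOpen f : Set (PrimeSpectrum (A ⊗[B] A))) ∧
        (PrimeSpectrum.basicOpen f : Set (PrimeSpectrum (A ⊗[B] A))) ⊆ V := by
    rintro y ⟨y', rfl⟩
    obtain ⟨_, ⟨f, rfl⟩, h1, h2⟩ := hbasis.exists_subset_of_mem_open (hdiag y') hV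
    exact ⟨f, h1, h2⟩
  choose! F hF1 hF2 using hex
  obtain ⟨t, ht⟩ := hK.elim_nhds_subcover' (fun y _ => (PrimeSpectrum.basicOpen (F y) : Set _))
    (fun y hy => (PrimeSpectrum.basicOpen (F y)).isOpen.mem_nhds (hF1 y hy))
  -- `ψ i i = β i ∘ μ`
  have hψd : ∀ i, ψ i i = (β i).comp μ := by
    intro i
    apply Algebra.TensorProduct.ringHom_ext
    · ext a
      simp [hψ, μ]
    · ext b
      simp [hψ, μ]
  -- every index lies in one of finitely many pieces
  have hmem : ∀ i, ∃ y ∈ t, ψ i i (F y.1) ≠ 0 := by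
    intro i
    have h1 : PrimeSpectrum.comap (ψ i i) x₀ ∈ Set.range (PrimeSpectrum.comap μ) := by
      refine ⟨PrimeSpectrum.comap (β i) x₀, ?_⟩
      rw [hψd i]; rfl
    obtain ⟨y, hy, hy'⟩ := Set.mem_iUnion₂.1 (ht h1)
    refine ⟨y, hy, ?_⟩
    have h2 : F y.1 ∉ (PrimeSpectrum.comap (ψ i i) x₀).asIdeal := hy'
    rw [PrimeSpectrum.comap_asIdeal, Ideal.mem_comap] at h2
    intro h0
    apply h2
    rw [h0]; exact Ideal.zero_mem _
  have hfin : ∀ y ∈ t, Finite {i : I // ψ i i (F y.1) ≠ 0} := by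
    intro y _
    refine finite_of_tensor_pairing (B := B) (fun i => β i.1) (fun i j => ψ i.1 j.1)
      (fun i j a b => hψ i.1 j.1 a b) (F y.1) ?_ (fun i => i.2)
    intro i j hij
    by_contra hne
    apply hij
    apply Subtype.ext
    apply hsep i.1 j.1 x₀
    apply hF2 y.1 y.2
    change F y.1 ∉ (PrimeSpectrum.comap (ψ i.1 j.1) x₀).asIdeal
    rw [PrimeSpectrum.comap_asIdeal, Ideal.mem_comap, hx x₀]
    exact hne
  have hfinset : (⋃ y ∈ t, {i : I | ψ i i (F y.1) ≠ 0}).Finite :=
    Set.Finite.biUnion t.finite_toSet fun y hy => by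
      have : Finite ↥{i : I | ψ i i (F y.1) ≠ 0} := hfin y hy
      exact Set.toFinite _
  refine Set.finite_univ_iff.1 (hfinset.subset fun i _ => ?_)
  obtain ⟨y, hy, hne⟩ := hmem i
  exact Set.mem_iUnion₂.2 ⟨y, hy, hne⟩

end Groth.Agent.H52
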