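import Groth.Agent.H52.LocSepAlg
import Groth.Agent.H52.FQFibres
import Groth.Agent.H52.FQDecent
import Groth.Agent.H51.DiagSq
import Groth.Agent.H50.RepIso
import Mathlib.AlgebraicGeometry.AlgClosed.Basic

/-!
# Locally separated algebraic spaces are decent (helper52)
-/

set_option autoImplicit false
universe u

open CategoryTheory CategoryTheory.Limits AlgebraicGeometry Opposite AlgSp TensorProduct

namespace Groth.Agent.H52

variable {S : Scheme.{u}}

/-- The algebra structure on the coordinate ring of an affine scheme over `S`, over the global sections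
of `S`. -/
@[reducible] noncomputable def baseAlg {A : Type u} [CommRing A] (f : Spec (CommRingCat.of A) ⟶ S) :
    Algebra Γ(S, ⊤) A :=
  (Spec.preimage (f ≫ S.toSpecΓ)).hom.toAlgebra

/-- For a locally separated sheaf, the kernel pair of an affine chart `Spec A ⟶ X` is immersed in
`Spec (A ⊗[Γ(S)] A)`. -/
theorem exists_immersion_tensor {X : Sp S} (hX : IsLocallySeparatedSp X) {A : Type u} [CommRing A]
    (f : Spec (CommRingCat.of A) ⟶ S) (a : (yon S).obj (Over.mk f) ⟶ X) {R : Over S}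
    (p₁ p₂ : R ⟶ Over.mk f) (hR : IsPullback ((yon S).map p₁) ((yon S).map p₂) a a) :
    letI := baseAlg f
    ∃ j : R.left ⟶ Spec (CommRingCat.of (A ⊗[Γ(S, ⊤)] A)), IsImmersion j ∧
      j ≫ Spec.map (CommRingCat.ofHom
        (Algebra.TensorProduct.includeLeftRingHom : A →+* A ⊗[Γ(S, ⊤)] A)) = p₁.left ∧
      j ≫ Spec.map (CommRingCat.ofHom
        (Algebra.TensorProduct.includeRight : A →ₐ[Γ(S, ⊤)] A ⊗[Γ(S, ⊤)] A).toRingHom) = p₂.left ∧
      ∀ {T : Scheme.{u}} (g h : T ⟶ Spec (CommRingCat.of (A ⊗[Γ(S, ⊤)] A))),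
        g ≫ Spec.map (CommRingCat.ofHom
          (Algebra.TensorProduct.includeLeftRingHom : A →+* A ⊗[Γ(S, ⊤)] A)) =
        h ≫ Spec.map (CommRingCat.ofHom
          (Algebra.TensorProduct.includeLeftRingHom : A →+* A ⊗[Γ(S, ⊤)] A)) →
        g ≫ Spec.map (CommRingCat.ofHom
          (Algebra.TensorProduct.includeRight : A →ₐ[Γ(S, ⊤)] A ⊗[Γ(S, ⊤)] A).toRingHom) =
        h ≫ Spec.map (CommRingCat.ofHom
          (Algebra.TensorProduct.includeRight : A →ₐ[Γ(S, ⊤)] A ⊗[Γ(S, ⊤)] A).toRingHom) → g = h := by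
  let _ := baseAlg f
  have hφ : Spec.map (CommRingCat.ofHom (algebraMap Γ(S, ⊤) A)) = f ≫ S.toSpecΓ :=
    Spec.map_preimage _
  have hpo := CommRingCat.isPushout_tensorProduct Γ(S, ⊤) A A
  have hpb := isPullback_SpecMap_of_isPushout _ _ _ _ hpo
  rw [hφ] at hpb
  let e := hpb.isoPullback
  have hk : IsImmersion (prod.lift p₁ p₂).left :=
    H51.prop_lift_of_repWith_diag @IsImmersion hX hR
  let m : (Over.mk f ⨯ Over.mk f).left ⟶ Spec (CommRingCat.of (A ⊗[Γ(S, ⊤)] A)) :=
    (Over.prodLeftIsoPullback (Over.mk f) (Over.mk f)).hom ≫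
      pullback.mapDesc f f S.toSpecΓ ≫ e.inv
  have hm : IsImmersion m := by
    dsimp only [m]; infer_instance
  refine ⟨(prod.lift p₁ p₂).left ≫ m, inferInstance, ?_, ?_, fun g h h1 h2 => hpb.hom_ext h1 h2⟩
  · dsimp only [m, e]
    rw [Category.assoc, Category.assoc, Category.assoc, hpb.isoPullback_inv_fst]
    simp only [pullback.mapDesc, pullback.map, pullback.lift_fst, Category.comp_id]
    erw [Over.prodLeftIsoPullback_hom_fst]
    rw [← Over.comp_left, prod.lift_fst]
  · dsimp only [m, e]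
    rw [Category.assoc, Category.assoc, Category.assoc, hpb.isoPullback_inv_snd]
    simp only [pullback.mapDesc, pullback.map, pullback.lift_snd, Category.comp_id]
    erw [Over.prodLeftIsoPullback_hom_snd]
    rw [← Over.comp_left, prod.lift_snd]

/-- **Key finiteness.**  Let `X` be a locally separated sheaf, `a : Spec A ⟶ X` an etale chart and `q` a field
point.  Then the scheme `Spec A ×_X Spec K` is finite (as a set). -/
theorem finite_fibreProduct_spec {X : Sp S} (hX : IsLocallySeparatedSp X) {A : Type u} [CommRing A]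
    (f : Spec (CommRingCat.of A) ⟶ S) (a : (yon S).obj (Over.mk f) ⟶ X) (ha : RepWith @Etale a)
    (q : FieldPt X) {W : Over S} (wU : W ⟶ Over.mk f) (wZ : W ⟶ q.pt)
    (sqW : IsPullback ((yon S).map wU) ((yon S).map wZ) a q.toHom) : Finite ↥W.left := by
  let _ := baseAlg f
  -- the kernel pair of the chart
  obtain ⟨R, p₂, fst, hR0⟩ := ha.1 a
  obtain ⟨p₁, rfl⟩ := (yon S).map_surjective fst
  have hp₂ : Etale p₂.left := ha.2 _ _ _ hR0
  have hp₁ : Etale p₁.left := ha.2 _ _ _ hR0.flip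
  obtain ⟨j, hj, hj1, hj2, hext⟩ := exists_immersion_tensor hX f a p₁ p₂ hR0
  -- the diagonal
  obtain ⟨δ, hδ⟩ := (yon S).map_surjective (hR0.lift (𝟙 _) (𝟙 _) rfl)
  have hδ1 : δ ≫ p₁ = 𝟙 _ := by
    apply (yon S).map_injective; rw [Functor.map_comp, hδ, hR0.lift_fst, (yon S).map_id]
  have hδ2 : δ ≫ p₂ = 𝟙 _ := by
    apply (yon S).map_injective; rw [Functor.map_comp, hδ, hR0.lift_snd, (yon S).map_id]
  have hδ1' : δ.left ≫ p₁.left = 𝟙 _ := by rw [← Over.comp_left, hδ1]; rfl
  have hδ2' : δ.left ≫ p₂.left = 𝟙 _ := by rw [← Over.comp_left, hδ2]; rfl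
  have hδe : Etale δ.left := by
    have : Etale (δ.left ≫ p₁.left) := by rw [hδ1']; infer_instance
    exact Etale.of_comp δ.left p₁.left
  have hδm : Mono δ.left := mono_of_mono_fac hδ1'
  have hδo : IsOpenImmersion δ.left := IsOpenImmersion.of_flat_of_mono δ.left
  obtain ⟨V, hVo, hV⟩ := (j.isEmbedding.isInducing.isOpen_iff).1 δ.left.opensRange.isOpen
  -- geometric points of `W`
  let Ω := AlgebraicClosure q.K
  let cΩ : Spec (CommRingCat.of Ω) ⟶ Spec (CommRingCat.of q.K) :=
    Spec.map (CommRingCat.ofHom (algebraMap q.K Ω))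
  let x₀ : ↥(Spec (CommRingCat.of Ω)) := (IsLocalRing.closedPoint Ω : PrimeSpectrum Ω)
  have hsub : Subsingleton ↥(Spec (CommRingCat.of Ω)) :=
    inferInstanceAs (Subsingleton (PrimeSpectrum Ω))
  have hwZe : Etale wZ.left := ha.2 _ _ _ sqW
  have hg : ∀ w : ↥W.left, ∃ g : Spec (CommRingCat.of Ω) ⟶ W.left, g ≫ wZ.left = cΩ ∧
      g x₀ = w := by
    intro w
    have hne : Nonempty ↥(Spec (CommRingCat.of Ω)) := ⟨x₀⟩
    have hsurj : Surjective cΩ := (flat_surjective_to_field (k := q.K) cΩ).2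
    obtain ⟨y, hy⟩ := (pullback.fst wZ.left cΩ).surjective w
    have hlqf : LocallyQuasiFinite (pullback.snd wZ.left cΩ) :=
      H50.locallyQuasiFinite_of_unramified _
    have hart : IsLocallyArtinian (pullback wZ.left cΩ) :=
      IsLocallyArtinian.of_locallyQuasiFinite (pullback.snd wZ.left cΩ)
    have hcl : IsClosed ({y} : Set ↥(pullback wZ.left cΩ)) := isClosed_discrete _
    refine ⟨pointOfClosedPoint (pullback.snd wZ.left cΩ) y hcl ≫ pullback.fst wZ.left cΩ, ?_, ?_⟩
    · rw [Category.assoc, pullback.condition, pointOfClosedPoint_comp_assoc]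
    · simp [hy]
  choose g hg1 hg2 using hg
  let OΩ : Over S := Over.mk (cΩ ≫ q.str)
  let CΩ : OΩ ⟶ q.pt := Over.homMk cΩ rfl
  have hGw : ∀ w, g w ≫ W.hom = OΩ.hom := by
    intro w
    rw [← Over.w wZ, ← Category.assoc, hg1]; rfl
  let G : ∀ w : ↥W.left, OΩ ⟶ W := fun w => Over.homMk (g w) (hGw w)
  have hGZ : ∀ w, G w ≫ wZ = CΩ := by
    intro w; ext; exact hg1 w
  let β : ∀ w : ↥W.left, OΩ ⟶ Over.mk f := fun w => G w ≫ wU
  have hβ : ∀ w, (yon S).map (β w) ≫ a = (yon S).map CΩ ≫ q.toHom := by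
    intro w
    rw [Functor.map_comp, Category.assoc, sqW.w, ← Category.assoc, ← Functor.map_comp, hGZ]
  have hβinj : ∀ w w', β w = β w' → w = w' := by
    intro w w' h
    have h1 : (yon S).map (G w) = (yon S).map (G w') := by
      apply sqW.hom_ext
      · rw [← Functor.map_comp, ← Functor.map_comp]; exact congrArg _ h
      · rw [← Functor.map_comp, ← Functor.map_comp, hGZ, hGZ]
    have h2 : G w = G w' := (yon S).map_injective h1
    have h3 : g w = g w' := congrArg (·.left) h2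
    rw [← hg2 w, ← hg2 w', h3]
  have hρ : ∀ w w', ∃ ρ : OΩ ⟶ R, ρ ≫ p₁ = β w ∧ ρ ≫ p₂ = β w' := by
    intro w w'
    obtain ⟨ρ, hρ⟩ := (yon S).map_surjective
      (hR0.lift ((yon S).map (β w)) ((yon S).map (β w')) ((hβ w).trans (hβ w').symm))
    refine ⟨ρ, ?_, ?_⟩
    · apply (yon S).map_injective; rw [Functor.map_comp, hρ, hR0.lift_fst]
    · apply (yon S).map_injective; rw [Functor.map_comp, hρ, hR0.lift_snd]
  choose ρ hρ1 hρ2 using hρ
  -- ring homomorphisms
  let βm : ∀ w : ↥W.left, Spec (CommRingCat.of Ω) ⟶ Spec (CommRingCat.of A) := fun w => (β w).left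
  let ρm : ∀ w w' : ↥W.left, Spec (CommRingCat.of Ω) ⟶ R.left := fun w w' => (ρ w w').left
  have hρm1 : ∀ w w', ρm w w' ≫ p₁.left = βm w := fun w w' => by
    dsimp only [ρm, βm]; rw [← hρ1 w w']; rfl
  have hρm2 : ∀ w w', ρm w w' ≫ p₂.left = βm w' := fun w w' => by
    dsimp only [ρm, βm]; rw [← hρ2 w w']; rfl
  let βr : ↥W.left → A →+* Ω := fun w => (Spec.preimage (βm w)).hom
  let ψ : ↥W.left → ↥W.left → (A ⊗[Γ(S, ⊤)] A) →+* Ω := fun w w' =>
    (Spec.preimage (ρm w w' ≫ j)).hom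
  have hψ : ∀ w w' x y, ψ w w' (x ⊗ₜ y) = βr w x * βr w' y := by
    intro w w' x y
    have e1 : CommRingCat.ofHom
        (Algebra.TensorProduct.includeLeftRingHom : A →+* A ⊗[Γ(S, ⊤)] A) ≫
          Spec.preimage (ρm w w' ≫ j) = Spec.preimage (βm w) := by
      apply Spec.map_injective
      rw [Spec.map_comp, Spec.map_preimage, Spec.map_preimage, Category.assoc, hj1, hρm1]
    have e2 : CommRingCat.ofHom
        (Algebra.TensorProduct.includeRight : A →ₐ[Γ(S, ⊤)] A ⊗[Γ(S, ⊤)] A).toRingHom ≫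
          Spec.preimage (ρm w w' ≫ j) = Spec.preimage (βm w') := by
      apply Spec.map_injective
      rw [Spec.map_comp, Spec.map_preimage, Spec.map_preimage, Category.assoc, hj2, hρm2]
    have h1 : ψ w w' (x ⊗ₜ 1) = βr w x := congr($(e1).hom x)
    have h2 : ψ w w' (1 ⊗ₜ y) = βr w' y := congr($(e2).hom y)
    rw [← h1, ← h2, ← map_mul, Algebra.TensorProduct.tmul_mul_tmul, mul_one, one_mul]
  have hμ : Spec.map (CommRingCat.ofHom
      (Algebra.TensorProduct.lmul' Γ(S, ⊤) (S := A)).toRingHom) = δ.left ≫ j := by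
    apply hext
    · have e : CommRingCat.ofHom
          (Algebra.TensorProduct.includeLeftRingHom : A →+* A ⊗[Γ(S, ⊤)] A) ≫
          CommRingCat.ofHom (Algebra.TensorProduct.lmul' Γ(S, ⊤) (S := A)).toRingHom =
          𝟙 (CommRingCat.of A) := by
        ext x; simp
      rw [Category.assoc, hj1, hδ1', ← Spec.map_comp, e, Spec.map_id]
      rfl
    · have e : CommRingCat.ofHom
          (Algebra.TensorProduct.includeRight : A →ₐ[Γ(S, ⊤)] A ⊗[Γ(S, ⊤)] A).toRingHom ≫
          CommRingCat.ofHom (Algebra.TensorProduct.lmul' Γ(S, ⊤) (S := A)).toRingHom =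
          𝟙 (CommRingCat.of A) := by
        ext x; simp
      rw [Category.assoc, hj2, hδ2', ← Spec.map_comp, e, Spec.map_id]
      rfl
  have hdiag : ∀ y : PrimeSpectrum A,
      PrimeSpectrum.comap (Algebra.TensorProduct.lmul' Γ(S, ⊤) (S := A)).toRingHom y ∈ V := by
    intro y
    have h1 : PrimeSpectrum.comap (Algebra.TensorProduct.lmul' Γ(S, ⊤) (S := A)).toRingHom y =
        (δ.left ≫ j) y := by rw [← hμ]; rfl
    rw [h1]
    have h2 : δ.left y ∈ j ⁻¹' V := by rw [hV]; exact ⟨y, rfl⟩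
    exact h2
  have hsep : ∀ w w' (x : PrimeSpectrum Ω), PrimeSpectrum.comap (ψ w w') x ∈ V → w = w' := by
    intro w w' x hx
    apply hβinj
    have h1 : PrimeSpectrum.comap (ψ w w') x = (ρm w w' ≫ j) x := by
      have := Spec.map_preimage (ρm w w' ≫ j)
      rw [← this]; rfl
    rw [h1] at hx
    have h2 : ρm w w' x ∈ Set.range δ.left := by
      have h3 : ρm w w' x ∈ j ⁻¹' V := hx
      rw [hV] at h3; exact h3
    have hrange : Set.range (ρm w w') ⊆ Set.range δ.left := by
      rintro _ ⟨x', rfl⟩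
      rw [hsub.elim x' x]; exact h2
    let γ := IsOpenImmersion.lift δ.left (ρm w w') hrange
    have hγ : γ ≫ δ.left = ρm w w' := IsOpenImmersion.lift_fac _ _ _
    ext
    change βm w = βm w'
    rw [← hρm1 w w', ← hρm2 w w', ← hγ, Category.assoc, Category.assoc, hδ1', hδ2']
  exact finite_of_tensor_separation βr ψ hψ V hVo hdiag hsep

/-- Key finiteness for an arbitrary affine chart. -/
theorem finite_fibreProduct_of_isLocallySeparatedSp {X : Sp S} (hX : IsLocallySeparatedSp X)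
    {U : Over S} [IsAffine U.left] (a : (yon S).obj U ⟶ X) (ha : RepWith @Etale a)
    (q : FieldPt X) {W : Over S} (wU : W ⟶ U) (wZ : W ⟶ q.pt)
    (sqW : IsPullback ((yon S).map wU) ((yon S).map wZ) a q.toHom) : Finite ↥W.left := by
  let f : Spec (CommRingCat.of ↑Γ(U.left, ⊤)) ⟶ S := U.left.isoSpec.inv ≫ U.hom
  let e : Over.mk f ≅ U := Over.isoMk U.left.isoSpec.symm rfl
  have hae : RepWith @Etale ((yon S).map e.hom ≫ a) :=
    (RepWith @Etale).comp_mem _ _ (H50.repWith_of_isIso @Etale _) ha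
  have sq' : IsPullback ((yon S).map (wU ≫ e.inv)) ((yon S).map wZ) ((yon S).map e.hom ≫ a)
      q.toHom := by
    refine IsPullback.of_iso sqW (Iso.refl _) ((yon S).mapIso e.symm) (Iso.refl _) (Iso.refl _)
      ?_ ?_ ?_ ?_
    · simp
    · simp
    · simp [← Functor.map_comp_assoc]
    · simp
  exact finite_fibreProduct_spec hX f _ hae q (wU ≫ e.inv) wZ sq'

/-- **A locally separated algebraic space is decent.** -/
theorem isDecent_of_isLocallySeparatedSp {X : Sp S} (hX : IsAlgSpace X)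
    (hls : IsLocallySeparatedSp X) : IsDecent X := by
  intro x
  obtain ⟨U, a, u, hU, hae, hu⟩ := exists_affine_chart_at hX x
  obtain ⟨W, wZ, fst, sqW⟩ := hae.1 (FieldPt.ofPt a u).toHom
  obtain ⟨wU, rfl⟩ := (yon S).map_surjective fst
  have hfin : Finite ↥W.left :=
    finite_fibreProduct_of_isLocallySeparatedSp hls a hae _ wU wZ sqW
  have : CompactSpace ↥W.left := Finite.compactSpace
  obtain ⟨p, c, hm, hfac, hfinc, hp⟩ := exists_mono_fieldPt_of_compact_fibre a hae u wU wZ sqW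
  refine ⟨p, hp.trans hu, hm, ?_⟩
  have := hm
  refine repWith_quasiCompact_of_finite_fibres hX p ?_
  intro V b hV hb
  obtain ⟨T, tZ, fst', sqT⟩ := hb.1 p.toHom
  obtain ⟨tV, rfl⟩ := (yon S).map_surjective fst'
  have hfinT : Finite ↥T.left :=
    finite_fibreProduct_of_isLocallySeparatedSp hls b hb p tV tZ sqT
  rw [fibre_eq_range_of_isPullback p b sqT.flip]
  exact Set.finite_range _

end Groth.Agent.H52
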