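import Mathlib
import Groth.Prelude
import Groth.Agent.H82.ProjSerre
import Groth.Agent.H82.HHLES
import Groth.Agent.H18.TensorCoh
import Groth.Agent.H22.QCohLimits

/-!
# (DIR1) for helper82's S11301 squad: `0 → K → O(-m)^b → F → 0` with `K` `(m+1)`-regular ⇒ `F` `m`-regular
-/

set_option autoImplicit false
universe u
open CategoryTheory CategoryTheory.Limits AlgebraicGeometry Opposite TopologicalSpace
open Groth.Agent.H18 Groth.Agent.H82.ProjSerre Groth.Agent.H82.HHA Groth.Agent.H82.ProjSections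
  Groth.Agent.H82.HHFinite Groth.Agent.H82.ProjCoh Groth.Agent.H82.HHLES Groth.Agent.H82.ProjFinite

namespace Groth.Agent.H52.Mumford_DIR1

/-- `O(t)` (same as `Groth.Agent.H82.RankTwo.Ot`) -/
noncomputable abbrev Ot (n : ℕ) (k : Type u) [Field k] (t : ℤ) : (CohB1.ProjSpace n k).Modules :=
  Twist.twistProjSpace n k t

theorem isInvertible_Ot (n : ℕ) (k : Type u) [Field k] (t : ℤ) : PicF.IsInvertible (Ot n k t) :=
  isInvertible_Fd n k t

theorem nonempty_tensor_Ot (n : ℕ) (k : Type u) [Field k] (a d : ℤ) :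
    Nonempty (CohB1.tensorMod (Ot n k a) (Ot n k d) ≅ Ot n k (a + d)) :=
  nonempty_tensor_iso n k a d

/-- (DIR1) -/
theorem DIR1 (k : Type u) [Field k] (n : ℕ) (F : (CohB1.ProjSpace n k).Modules) (hF : Coh.IsCoh F)
    (m : ℤ) (b : ℕ) (φ : (∐ fun _ : Fin b => Twist.twistProjSpace n k (-m)) ⟶ F) (hφ : Epi φ)
    (hK : Curv2.IsMRegular k n (kernel φ) (m + 1)) : Curv2.IsMRegular k n F m := by
  intro i hi1 hin
  let S : ShortComplex (CohB1.ProjSpace n k).Modules :=
    ShortComplex.mk (kernel.ι φ) φ (kernel.condition φ)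
  have hS : S.ShortExact := by
    haveI : Mono S.f := inferInstanceAs (Mono (kernel.ι φ))
    haveI : Epi S.g := hφ
    exact ShortComplex.ShortExact.mk (ShortComplex.exact_of_f_is_kernel S (kernelIsKernel φ))
  have hS' := shortExact_map_T (isInvertible_Ot n k (m - i)) S hS
  show Subsingleton (Coh.HH _ (S.map (T (Ot n k (m - i)))).X₃ i)
  refine subsingleton_right _ hS' i ?_ ?_
  · -- the middle term
    show Subsingleton (Coh.HH _ ((T (Ot n k (m - i))).obj (∐ fun _ : Fin b => Ot n k (-m))) i)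
    let E := sigmaIso (Ot n k (m - i)) (fun _ : Fin b => Ot n k (-m))
    refine subsingleton_HH_of_iso E.symm i ?_
    refine subsingleton_HH_sigma _ i (fun _ => ?_)
    obtain ⟨a⟩ := nonempty_tensor_Ot n k (-m) (m - i)
    refine subsingleton_HH_of_iso a.symm i ?_
    exact subsingleton_HH n k (-m + (m - i)) i (fun h => by omega) (fun h => by omega)
  · -- `H^{i+1}(K(m-i))`
    show Subsingleton (Coh.HH _ (CohB1.tensorMod (kernel φ) (Ot n k (m - i))) (i + 1))
    by_cases hlt : i + 1 ≤ n
    · have h1 := hK (i + 1) (by omega) hlt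
      have e : (m + 1 - ((i + 1 : ℕ) : ℤ)) = m - i := by push_cast; ring
      rw [e] at h1
      exact h1
    · haveI : (∐ fun _ : Fin b => Twist.twistProjSpace n k (-m)).IsQuasicoherent :=
        (isCoh_sigma _ (fun _ => isCoh_Fd n k _)).1
      haveI : F.IsQuasicoherent := hF.1
      haveI : (kernel φ).IsQuasicoherent := Groth.Agent.H22.QCohLimits.isQuasicoherent_kernel φ
      haveI : Coh.IsQCoh (CohB1.tensorMod (kernel φ) (Ot n k (m - i))) :=
        Groth.Agent.H18.TensorCoh.isQuasicoherent_tensorMod _ _ (isInvertible_Ot n k (m - i))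
      exact subsingleton_HH_above n k _ (i + 1) (by omega)

end Groth.Agent.H52.Mumford_DIR1
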