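import Groth.Agent.H52.PairFibre2
import Groth.Agent.H52.FQQs
import Groth.Agent.H52.Charts
import Groth.Agent.H52.QC

/-!
# Finite fibres of a fibre product over a monomorphic point, for morphisms quasi-finite at a point (helper52)
-/

set_option autoImplicit false
universe u

open CategoryTheory CategoryTheory.Limits AlgebraicGeometry Opposite AlgSp

namespace Groth.Agent.H52

variable {S : Scheme.{u}}

/-- If the image in `Y` of the chart point `Spec κ(u) ⟶ U ⟶ V ⟶ Y` (with `U ⟶ V` locally quasi-finite and `V ⟶ Y`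
etale) factors through a monomorphic field point `Spec k ⟶ Y`, then `κ(u) / k` is finite. -/
theorem isFinite_factor_of_mono_of_lqf {Y Z : Sp S} (r : FieldPt Y) [Mono r.toHom] {U V : Over S}
    (a : (yon S).obj U ⟶ Z) (b : (yon S).obj V ⟶ Y) (hb : RepWith @Etale b) (h : U ⟶ V)
    [LocallyQuasiFinite h.left] (u : ↥U.left) (c : (FieldPt.ofPt a u).pt ⟶ r.pt)
    (hc : (yon S).map c ≫ r.toHom = (yon S).map (ptIncl a u ≫ h) ≫ b) : IsFinite c.left := by
  obtain ⟨W, wk, fst, sqW⟩ := hb.1 r.toHom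
  obtain ⟨wU, rfl⟩ := (yon S).map_surjective fst
  have hwke : Etale wk.left := hb.2 _ _ _ sqW
  obtain ⟨e, he⟩ := (yon S).map_surjective (sqW.lift _ _ hc.symm)
  have he1 : e ≫ wU = ptIncl a u ≫ h :=
    (yon S).map_injective (by rw [Functor.map_comp, he, sqW.lift_fst])
  have he2 : e ≫ wk = c :=
    (yon S).map_injective (by rw [Functor.map_comp, he, sqW.lift_snd])
  have hpre : IsPreimmersion (ptIncl a u).left :=
    inferInstanceAs (IsPreimmersion (U.left.fromSpecResidueField u))
  have hl0 : LocallyQuasiFinite (ptIncl a u).left := inferInstance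
  have hl1 : LocallyQuasiFinite (e.left ≫ wU.left) := by
    rw [← Over.comp_left, he1, Over.comp_left]; infer_instance
  have hl2 : LocallyQuasiFinite e.left := LocallyQuasiFinite.of_comp e.left wU.left
  have hlqf : LocallyQuasiFinite wk.left := H50.locallyQuasiFinite_of_unramified wk.left
  have hl : LocallyQuasiFinite c.left := by
    rw [← he2, Over.comp_left]; infer_instance
  have hq : QuasiCompact c.left :=
    quasiCompact_of_field (k := (FieldPt.ofPt a u).K) c.left
  have hartZ : IsLocallyArtinian r.pt.left :=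
    inferInstanceAs (IsLocallyArtinian (Spec (CommRingCat.of r.K)))
  exact IsFinite.of_locallyQuasiFinite c.left

/-- Finite fibres of a fibre product: if `ξ : Spec K ⟶ X` and `ζ : Spec L ⟶ Z` lie over a monomorphic field point
`Spec k ⟶ Y` and `L / k` is finite, then only finitely many points of `X ×_Y Z` lie over `(ξ, ζ)`. -/
theorem finite_fibre_pullback_of_factor {X Y Z W : Sp S} (f : X ⟶ Y) (g : Z ⟶ Y) (p : W ⟶ X)
    (q : W ⟶ Z) (hW : IsPullback p q f g) (r : FieldPt Y) [Mono r.toHom] (ξ : FieldPt X)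
    (ζ : FieldPt Z) (cK : ξ.pt ⟶ r.pt) (hcK : (yon S).map cK ≫ r.toHom = ξ.toHom ≫ f)
    (cL : ζ.pt ⟶ r.pt) (hcL : (yon S).map cL ≫ r.toHom = ζ.toHom ≫ g) [IsFinite cL.left] :
    {w : Points W | Points.map p w = Points.mk ξ ∧ Points.map q w = Points.mk ζ}.Finite := by
  -- `T = Spec K ×_{Spec k} Spec L`
  have sqT := IsPullback.of_hasPullback cK cL
  have sqS := sqT.map (Over.forget S)
  have hfin1 : IsFinite (pullback.fst cK cL).left :=
    MorphismProperty.of_isPullback (P := @IsFinite) sqS.flip ‹IsFinite cL.left›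
  have hTfin : Finite ↥(pullback cK cL).left :=
    finite_of_isFinite_field (K := ξ.K) (pullback.fst cK cL).left
  have sqT' : IsPullback ((yon S).map (pullback.fst cK cL)) ((yon S).map (pullback.snd cK cL))
      (ξ.toHom ≫ f) (ζ.toHom ≫ g) := by
    have := isPullback_comp_mono (sqT.map (yon S)) r.toHom
    rwa [hcK, hcL] at this
  -- `X_L = W ×_Z Spec L`
  have sqL := IsPullback.of_hasPullback q ζ.toHom
  have sqXL : IsPullback (pullback.fst q ζ.toHom ≫ p) (pullback.snd q ζ.toHom) f (ζ.toHom ≫ g) :=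
    (sqL.flip.paste_vert hW.flip).flip
  have hw : ((yon S).map (pullback.fst cK cL) ≫ ξ.toHom) ≫ f =
      (yon S).map (pullback.snd cK cL) ≫ ζ.toHom ≫ g := by
    rw [Category.assoc]; exact sqT'.w
  let tL := sqXL.lift ((yon S).map (pullback.fst cK cL) ≫ ξ.toHom)
    ((yon S).map (pullback.snd cK cL)) hw
  have htL1 : tL ≫ pullback.fst q ζ.toHom ≫ p = (yon S).map (pullback.fst cK cL) ≫ ξ.toHom :=
    sqXL.lift_fst _ _ _
  have htL2 : tL ≫ pullback.snd q ζ.toHom = (yon S).map (pullback.snd cK cL) :=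
    sqXL.lift_snd _ _ _
  have sqLeft : IsPullback tL ((yon S).map (pullback.fst cK cL)) (pullback.fst q ζ.toHom ≫ p)
      ξ.toHom := by
    refine IsPullback.of_right ?_ htL1 sqXL.flip
    rw [htL2]
    exact sqT'.flip
  -- the point chase
  refine (Set.finite_range (fun t : ↥(pullback cK cL).left =>
    Points.ofPt (tL ≫ pullback.fst q ζ.toHom) t)).subset ?_
  rintro w ⟨hw1, hw2⟩
  let s₁ : ↥ξ.pt.left := (IsLocalRing.closedPoint ξ.K : PrimeSpectrum ξ.K)
  let s₂ : ↥ζ.pt.left := (IsLocalRing.closedPoint ζ.K : PrimeSpectrum ζ.K)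
  obtain ⟨xL, hxL1, -⟩ := exists_point_of_isPullback sqL w (Points.ofScheme ζ.pt s₂)
    (by rw [hw2, map_toHom_ofScheme])
  obtain ⟨τ, hτ, -⟩ := exists_point_of_isPullback sqLeft xL (Points.ofScheme ξ.pt s₁)
    (by rw [map_toHom_ofScheme, Points.map_comp, hxL1, hw1])
  refine ⟨Points.toScheme _ τ, ?_⟩
  change Points.ofPt (tL ≫ pullback.fst q ζ.toHom) (Points.toScheme _ τ) = w
  rw [Points.ofPt_eq_map_ofScheme, Points.ofScheme_toScheme, Points.map_comp, hτ, hxL1]

end Groth.Agent.H52
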