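import Groth.Agent.H52.QC
import Groth.Agent.H52.Topology

/-!
# Quasi-compact morphisms of algebraic spaces: covering lemma and descent (helper52)
-/

set_option autoImplicit false
universe u

open CategoryTheory CategoryTheory.Limits AlgebraicGeometry Opposite AlgSp Topology

namespace Groth.Agent.H52

variable {S : Scheme.{u}}

/-- If finitely many schemes `T i` jointly cover the scheme `Z` (on points) and the base changes of `f` to the
`T i` are quasi-compact, then the base change of `f` to `Z` is quasi-compact. -/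
theorem isQuasiCompactSp_of_finite_refinement {X Y : Sp S} (hX : IsAlgSpace X) (hY : IsAlgSpace Y)
    {f : X ⟶ Y} {Z : Over S} {h : (yon S).obj Z ⟶ Y} {P : Sp S} {pfst : P ⟶ X}
    {psnd : P ⟶ (yon S).obj Z} (sqP : IsPullback pfst psnd f h)
    {ι : Type*} [Finite ι] (T : ι → Over S) (c : ∀ i, (yon S).obj (T i) ⟶ (yon S).obj Z)
    (hcs : ∀ z : Points ((yon S).obj Z), ∃ i t, Points.ofPt (c i) t = z)
    (Q : ι → Sp S) (qfst : ∀ i, Q i ⟶ X) (qsnd : ∀ i, Q i ⟶ (yon S).obj (T i))
    (sqi : ∀ i, IsPullback (qfst i) (qsnd i) f (c i ≫ h))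
    (hQ : ∀ i, IsQuasiCompactSp (Q i)) : IsQuasiCompactSp P := by
  have hP : IsAlgSpace P := isAlgSpace_of_isPullback sqP hY.diag hX (IsAlgSpace.yon_obj Z)
  let l : ∀ i, Q i ⟶ P := fun i =>
    sqP.lift (qfst i) (qsnd i ≫ c i) (by rw [Category.assoc]; exact (sqi i).w)
  have sql : ∀ i, IsPullback (l i) (qsnd i) psnd (c i) := fun i =>
    isPullback_lift_of_comp_right sqP (sqi i) (l i) (sqP.lift_fst _ _ _) (sqP.lift_snd _ _ _)
  refine isQuasiCompactSp_of_finite_cover hP Q l hQ fun x => ?_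
  obtain ⟨i, t, hit⟩ := hcs (Points.map psnd x)
  rw [Points.ofPt_eq_map_ofScheme] at hit
  obtain ⟨z, hz, -⟩ := exists_point_of_isPullback (sql i) x _ hit.symm
  exact ⟨i, z, hz⟩

/-- Quasi-compactness of a morphism of algebraic spaces descends along a base change `g` that is universally
open and surjective. -/
theorem isQuasiCompactMor_of_univOpen_surjective {X Y Y' X' : Sp S} (hX : IsAlgSpace X)
    (hY : IsAlgSpace Y) (hY' : IsAlgSpace Y') {f : X ⟶ Y} {g : Y' ⟶ Y} {fst : X' ⟶ X} {f' : X' ⟶ Y'}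
    (sq : IsPullback fst f' f g) (hg : IsUnivOpenMor g) (hgs : IsSurjectiveMor g)
    (hf' : IsQuasiCompactMor f') : IsQuasiCompactMor f := by
  apply isQuasiCompactMor_of_affine hX hY f
  intro Z hZ h P pfst psnd sqP
  have : IsAffine Z.left := hZ
  have sqZ' := IsPullback.of_hasPullback h g
  have hZ'alg : IsAlgSpace (pullback h g) :=
    isAlgSpace_of_isPullback sqZ' hY.diag (IsAlgSpace.yon_obj Z) hY'
  have hopen : IsOpenMap (Points.map (pullback.fst h g)) :=
    hg (IsAlgSpace.yon_obj Z) h (pullback.snd h g) (pullback.fst h g) sqZ'.flip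
  have hsurj : Function.Surjective (Points.map (pullback.fst h g)) :=
    surjective_map_fst_of_isPullback sqZ' hgs
  obtain ⟨W, w, hwe, hws⟩ := hZ'alg.atlas
  have hcpt : CompactSpace (Points ((yon S).obj Z)) :=
    compactSpace_points_of_isQuasiCompactSp (isQuasiCompactSp_yon Z)
  let φ : ↥W.left → Points ((yon S).obj Z) := fun x =>
    Points.map (pullback.fst h g) (Points.ofPt w x)
  have hφo : IsOpenMap φ := hopen.comp (isOpenMap_ofPt_of_etale w hwe)
  have hφs : Function.Surjective φ := hsurj.comp (surjective_ofPt_of_surjective w hws)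
  have hcov : (Set.univ : Set (Points ((yon S).obj Z))) ⊆
      ⋃ V : W.left.affineOpens, φ '' (V.1 : Set ↥W.left) := by
    intro z _
    obtain ⟨x, rfl⟩ := hφs z
    obtain ⟨_, ⟨V, hV, rfl⟩, hxV, -⟩ :=
      W.left.isBasis_affineOpens.exists_subset_of_mem_open (Set.mem_univ x) isOpen_univ
    exact Set.mem_iUnion.mpr ⟨⟨V, hV⟩, x, hxV, rfl⟩
  obtain ⟨s, hs⟩ := isCompact_univ.elim_finite_subcover _
    (fun V : W.left.affineOpens => hφo _ V.1.2) hcov
  let e : ∀ V : ↥s, (yon S).obj (overOpen W V.1.1) ⟶ Y' := fun V =>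
    (yon S).map (overOpenHom W V.1.1) ≫ w ≫ pullback.snd h g
  have hce : ∀ V : ↥s, ((yon S).map (overOpenHom W V.1.1) ≫ w ≫ pullback.fst h g) ≫ h =
      e V ≫ g := fun V => by
    simp only [e, Category.assoc, pullback.condition]
  refine isQuasiCompactSp_of_finite_refinement hX hY sqP (ι := ↥s) (fun V => overOpen W V.1.1)
    (fun V => (yon S).map (overOpenHom W V.1.1) ≫ w ≫ pullback.fst h g) ?_
    (fun V => pullback f (e V ≫ g)) (fun V => pullback.fst _ _) (fun V => pullback.snd _ _)
    (fun V => by rw [hce V]; exact IsPullback.of_hasPullback _ _) ?_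
  · intro z
    have hz := hs (Set.mem_univ z)
    simp only [Set.mem_iUnion] at hz
    obtain ⟨V, hV, x, hxV, rfl⟩ := hz
    refine ⟨⟨V, hV⟩, ⟨x, hxV⟩, ?_⟩
    rw [ofPt_yon_map_comp, ← Points.map_ofPt]
    rfl
  · intro V
    have : IsAffine (overOpen W V.1.1).left := V.1.2
    let k : pullback f (e V ≫ g) ⟶ X' :=
      sq.lift (pullback.fst _ _) (pullback.snd _ _ ≫ e V)
        (pullback.condition.trans (Category.assoc _ _ _).symm)
    have sqk : IsPullback k (pullback.snd f (e V ≫ g)) f' (e V) :=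
      isPullback_lift_of_comp_right sq (IsPullback.of_hasPullback _ _) k (sq.lift_fst _ _ _)
        (sq.lift_snd _ _ _)
    exact hf' (IsAlgSpace.yon_obj _) (isQuasiCompactSp_yon _) (e V) k _ sqk

end Groth.Agent.H52
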