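import Groth.Agent.H52.QCOps
import Groth.Agent.H50.RepBySpCat

/-!
# Quasi-compact source, quasi-separated target (helper52)
-/

set_option autoImplicit false
universe u

open CategoryTheory CategoryTheory.Limits AlgebraicGeometry Opposite AlgSp Topology

namespace Groth.Agent.H52

variable {S : Scheme.{u}}

/-- `yon` of the two projections of a product in `Over S` are jointly monic. -/
theorem yon_prod_hom_ext (A B : Over S) {W : Sp S} (a b : W ⟶ (yon S).obj (A ⨯ B))
    (h1 : a ≫ (yon S).map prod.fst = b ≫ (yon S).map prod.fst)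
    (h2 : a ≫ (yon S).map prod.snd = b ≫ (yon S).map prod.snd) : a = b := by
  have hl : IsLimit (BinaryFan.mk ((yon S).map (prod.fst : A ⨯ B ⟶ A))
      ((yon S).map (prod.snd : A ⨯ B ⟶ B))) :=
    (isLimitMapConeBinaryFanEquiv (yon S) _ _) (isLimitOfPreserves (yon S) (prodIsProd A B))
  exact BinaryFan.IsLimit.hom_ext hl h1 h2

/-- The fibre product over `S` of two quasi-compact schemes is quasi-compact when `S` is quasi-separated. -/
theorem compactSpace_prod_left [QuasiSeparatedSpace ↥S] (A B : Over S) [CompactSpace ↥A.left]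
    [CompactSpace ↥B.left] : CompactSpace ↥(A ⨯ B).left := by
  have : QuasiCompact A.hom := inferInstance
  have : CompactSpace ↥(pullback A.hom B.hom) := inferInstance
  exact QuasiCompact.compactSpace_of_compactSpace (Over.prodLeftIsoPullback A B).hom

/-- Over a quasi-separated base scheme, a morphism from a quasi-compact algebraic space to an algebraic space
quasi-separated over the base is quasi-compact. -/
theorem isQuasiCompactMor_of_qc_qs [QuasiSeparatedSpace ↥S] {X Y : Sp S} (hX : IsAlgSpace X)
    (hY : IsAlgSpace Y) (f : X ⟶ Y) (hXq : IsQuasiCompactSp X) (hYq : IsQuasiSeparatedSp Y) :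
    IsQuasiCompactMor f := by
  apply isQuasiCompactMor_of_affine hX hY f
  intro Z hZ h P pfst psnd sqP
  have : IsAffine Z.left := hZ
  obtain ⟨ι, _, T, c, hT, hc, hs⟩ := exists_finite_affine_charts hXq
  have hP : IsAlgSpace P := isAlgSpace_of_isPullback sqP hY.diag hX (IsAlgSpace.yon_obj Z)
  have hrep : ∀ i, Representable (c i ≫ f) := fun i => hY.representable_from_yon _
  have sqi : ∀ i, IsPullback ((yon S).map ((hrep i).fst' h)) ((yon S).map ((hrep i).snd h))
      (c i ≫ f) h := fun i => (hrep i).isPullback' h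
  let l : ∀ i, (yon S).obj ((hrep i).pullback h) ⟶ P := fun i =>
    sqP.lift ((yon S).map ((hrep i).fst' h) ≫ c i) ((yon S).map ((hrep i).snd h))
      (by rw [Category.assoc]; exact (sqi i).w)
  have sql : ∀ i, IsPullback (l i) ((yon S).map ((hrep i).fst' h)) pfst (c i) := fun i =>
    isPullback_lift_of_comp_left sqP (sqi i) (l i) (sqP.lift_fst _ _ _) (sqP.lift_snd _ _ _)
  have hcpt : ∀ i, CompactSpace ↥((hrep i).pullback h).left := fun i => by
    have : IsAffine (T i).left := hT i
    let v₀ : (hrep i).pullback h ⟶ T i ⨯ Z := prod.lift ((hrep i).fst' h) ((hrep i).snd h)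
    have sqD := H50.isPullback_diag_of_isPullback (sqi i)
      (pr1 := (yon S).map (prod.fst : T i ⨯ Z ⟶ T i))
      (pr2 := (yon S).map (prod.snd : T i ⨯ Z ⟶ Z))
      (fun a b h1 h2 => yon_prod_hom_ext (T i) Z a b h1 h2) (v := (yon S).map v₀)
      (by rw [← Functor.map_comp, prod.lift_fst]) (by rw [← Functor.map_comp, prod.lift_snd])
    have hqc : QuasiCompact v₀.left := hYq.property _ _ v₀ sqD
    have := compactSpace_prod_left (T i) Z
    exact QuasiCompact.compactSpace_of_compactSpace v₀.left
  refine isQuasiCompactSp_of_finite_cover hP (fun i => (yon S).obj ((hrep i).pullback h)) l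
    (fun i => by have := hcpt i; exact isQuasiCompactSp_yon _) fun x => ?_
  obtain ⟨i, t, hit⟩ := hs (Points.map pfst x)
  rw [Points.ofPt_eq_map_ofScheme] at hit
  obtain ⟨z, hz, -⟩ := exists_point_of_isPullback (sql i) x _ hit.symm
  exact ⟨i, z, hz⟩

/-- A fibre product of sheaves quasi-separated over `S` is quasi-separated over `S` (nothing is needed on the
base of the fibre product). -/
theorem isQuasiSeparatedSp_of_isPullback {X Y Z P : Sp S} {f : X ⟶ Y} {g : Z ⟶ Y} {fst : P ⟶ X}
    {snd : P ⟶ Z} (sq : IsPullback fst snd f g) (hX : IsQuasiSeparatedSp X)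
    (hZ : IsQuasiSeparatedSp Z) : IsQuasiSeparatedSp P := by
  refine MorphismProperty.relative.of_exists (fun T g₀ => ?_)
  obtain ⟨a, ha⟩ : ∃ a, a = g₀ ≫ prod.fst := ⟨_, rfl⟩
  obtain ⟨b, hb⟩ : ∃ b, b = g₀ ≫ prod.snd := ⟨_, rfl⟩
  have hrX : Representable (Limits.diag X) := hX.rep
  have hrZ : Representable (Limits.diag Z) := hZ.rep
  have sqX := hrX.isPullback (prod.lift (a ≫ fst) (b ≫ fst))
  have sqZ := hrZ.isPullback (prod.lift (a ≫ snd) (b ≫ snd))
  have hqX : QuasiCompact (hrX.snd (prod.lift (a ≫ fst) (b ≫ fst))).left := hX.property_snd _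
  have hqZ : QuasiCompact (hrZ.snd (prod.lift (a ≫ snd) (b ≫ snd))).left := hZ.property_snd _
  generalize hrX.snd (prod.lift (a ≫ fst) (b ≫ fst)) = eX at sqX hqX
  generalize hrX.fst (prod.lift (a ≫ fst) (b ≫ fst)) = xX at sqX
  generalize hrZ.snd (prod.lift (a ≫ snd) (b ≫ snd)) = eZ at sqZ hqZ
  generalize hrZ.fst (prod.lift (a ≫ snd) (b ≫ snd)) = xZ at sqZ
  have hxX₁ : xX = (yon S).map eX ≫ a ≫ fst := by
    have := congr($(sqX.w) ≫ prod.fst)
    simpa only [Category.assoc, Limits.diag, prod.lift_fst, Category.comp_id] using this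
  have hxX₂ : xX = (yon S).map eX ≫ b ≫ fst := by
    have := congr($(sqX.w) ≫ prod.snd)
    simpa only [Category.assoc, Limits.diag, prod.lift_snd, Category.comp_id] using this
  have hxZ₁ : xZ = (yon S).map eZ ≫ a ≫ snd := by
    have := congr($(sqZ.w) ≫ prod.fst)
    simpa only [Category.assoc, Limits.diag, prod.lift_fst, Category.comp_id] using this
  have hxZ₂ : xZ = (yon S).map eZ ≫ b ≫ snd := by
    have := congr($(sqZ.w) ≫ prod.snd)
    simpa only [Category.assoc, Limits.diag, prod.lift_snd, Category.comp_id] using this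
  have sqO := IsPullback.of_hasPullback eX eZ
  have sqE' := sqO.map (yon S)
  have hw : (yon S).map (pullback.fst eX eZ ≫ eX) =
      (yon S).map (pullback.fst eX eZ) ≫ (yon S).map eX := Functor.map_comp _ _ _
  have hw' : (yon S).map (pullback.fst eX eZ ≫ eX) =
      (yon S).map (pullback.snd eX eZ) ≫ (yon S).map eZ := by
    rw [hw]; exact sqE'.w
  have hab : (yon S).map (pullback.fst eX eZ ≫ eX) ≫ a =
      (yon S).map (pullback.fst eX eZ ≫ eX) ≫ b := by
    apply sq.hom_ext
    · rw [hw, Category.assoc, Category.assoc, Category.assoc, Category.assoc, ← hxX₁, ← hxX₂]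
    · rw [hw', Category.assoc, Category.assoc, Category.assoc, Category.assoc, ← hxZ₁, ← hxZ₂]
  refine ⟨pullback eX eZ, (yon S).map (pullback.fst eX eZ ≫ eX) ≫ a, pullback.fst eX eZ ≫ eX, ?_, ?_⟩
  · have cone : ∀ s : PullbackCone (Limits.diag P) g₀, s.fst = s.snd ≫ a ∧ s.fst = s.snd ≫ b := by
      intro s
      have h1 := congr($(s.condition) ≫ prod.fst)
      have h2 := congr($(s.condition) ≫ prod.snd)
      simp only [Category.assoc, Limits.diag, prod.lift_fst, prod.lift_snd, Category.comp_id,
        ← ha, ← hb] at h1 h2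
      exact ⟨h1, h2⟩
    have condX : ∀ s : PullbackCone (Limits.diag P) g₀,
        (s.snd ≫ a ≫ fst) ≫ Limits.diag X = s.snd ≫ prod.lift (a ≫ fst) (b ≫ fst) := by
      intro s
      obtain ⟨h1, h2⟩ := cone s
      apply Limits.prod.hom_ext
      · simp only [Category.assoc, Limits.diag, prod.lift_fst, Category.comp_id]
      · simp only [Category.assoc, Limits.diag, prod.lift_snd, Category.comp_id]
        rw [← Category.assoc, ← h1, h2, Category.assoc]
    have condZ : ∀ s : PullbackCone (Limits.diag P) g₀,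
        (s.snd ≫ a ≫ snd) ≫ Limits.diag Z = s.snd ≫ prod.lift (a ≫ snd) (b ≫ snd) := by
      intro s
      obtain ⟨h1, h2⟩ := cone s
      apply Limits.prod.hom_ext
      · simp only [Category.assoc, Limits.diag, prod.lift_fst, Category.comp_id]
      · simp only [Category.assoc, Limits.diag, prod.lift_snd, Category.comp_id]
        rw [← Category.assoc, ← h1, h2, Category.assoc]
    refine ⟨⟨?_⟩, ⟨PullbackCone.IsLimit.mk _
      (fun s => sqE'.lift (sqX.lift _ _ (condX s)) (sqZ.lift _ _ (condZ s))
        ((sqX.lift_snd _ _ _).trans (sqZ.lift_snd _ _ _).symm)) ?_ ?_ ?_⟩⟩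
    · apply Limits.prod.hom_ext
      · simp only [Category.assoc, Limits.diag, prod.lift_fst, Category.comp_id, ← ha]
      · simp only [Category.assoc, Limits.diag, prod.lift_snd, Category.comp_id, ← hb]
        exact hab
    · intro s
      rw [hw, ← Category.assoc, ← Category.assoc, sqE'.lift_fst, sqX.lift_snd]
      exact (cone s).1.symm
    · intro s
      rw [hw, ← Category.assoc, sqE'.lift_fst, sqX.lift_snd]
    · intro s m h1 h2
      apply sqE'.hom_ext
      · rw [sqE'.lift_fst]
        apply sqX.hom_ext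
        · rw [sqX.lift_fst, hxX₁, Category.assoc, ← Category.assoc ((yon S).map _), ← hw,
            ← Category.assoc, h2]
        · rw [sqX.lift_snd, Category.assoc, ← hw, h2]
      · rw [sqE'.lift_snd]
        apply sqZ.hom_ext
        · rw [sqZ.lift_fst, hxZ₁, Category.assoc, ← Category.assoc ((yon S).map _), ← hw',
            ← Category.assoc, h2]
        · rw [sqZ.lift_snd, Category.assoc, ← hw', h2]
  · change QuasiCompact ((pullback.fst eX eZ).left ≫ eX.left)
    have sqS : IsPullback (pullback.fst eX eZ).left (pullback.snd eX eZ).left eX.left eZ.left :=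
      sqO.map (Over.forget S)
    have : QuasiCompact (pullback.fst eX eZ).left :=
      MorphismProperty.of_isPullback (P := @QuasiCompact) sqS.flip hqZ
    infer_instance

end Groth.Agent.H52
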