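import Groth.Agent.H52.QFFibre
import Groth.Agent.H52.ChartNbhd
import Groth.Agent.H52.FQDecent
import Groth.Agent.H52.EtLocalInst

/-!
# helper52: finitely many quasi-finite points in a fibre (algebraic spaces)
-/

universe u

open CategoryTheory CategoryTheory.Limits AlgebraicGeometry Opposite AlgSp Topology

namespace Groth.Agent.H52

variable {S : Scheme.{u}}

/-- For a morphism of finite type of algebraic spaces and a point `y` of the target, the set of points over `y`
where the morphism is quasi-finite is finite. -/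
theorem finite_setOf_quasiFinite_fibre {X Y : Sp S} (hY : IsAlgSpace Y) (f : X ⟶ Y)
    (hf : IsFiniteTypeMor f) (y : Points Y) :
    {x : Points X | Points.map f x = y ∧
      HasAtMor (fun U _ h u => ∃ W : U.Opens, u ∈ W ∧ LocallyQuasiFinite (W.ι ≫ h) ∧
        LocallyOfFiniteType (W.ι ≫ h)) f x}.Finite := by
  obtain ⟨V, b, v, hVaff, hbe, hbv⟩ := exists_affine_chart_at hY y
  have sq : IsPullback (pullback.fst f b) (pullback.snd f b) f b := IsPullback.of_hasPullback f b
  have hPqc : IsQuasiCompactSp (pullback f b) := by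
    have : CompactSpace ↥V.left := inferInstance
    exact hf.2 (IsAlgSpace.yon_obj V) (isQuasiCompactSp_yon V) b _ _ sq
  obtain ⟨U, p, hpe, hps, hU⟩ := hPqc
  have : CompactSpace ↥U.left := hU
  obtain ⟨h, hh⟩ := (yon S).map_surjective (p ≫ pullback.snd f b)
  have hfst : RepWith @Etale (pullback.fst f b) := (RepWith @Etale).of_isPullback sq.flip hbe
  have hae : RepWith @Etale (p ≫ pullback.fst f b) := (RepWith @Etale).comp_mem _ _ hpe hfst
  have comm : (p ≫ pullback.fst f b) ≫ f = (yon S).map h ≫ b := by
    rw [Category.assoc, sq.w, ← Category.assoc, hh]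
  have hlft : LocallyOfFiniteType h.left := hf.1 _ _ h hae hbe comm
  have hqc : QuasiCompact h.left := inferInstance
  refine ((finite_setOf_quasiFinite_nbhd_fiber h.left v).image
    (Points.ofPt (p ≫ pullback.fst f b))).subset ?_
  rintro x ⟨hxy, hx⟩
  obtain ⟨z, hz1, hz2⟩ := exists_point_of_isPullback sq x (Points.ofScheme V v)
    (by rw [hxy, ← hbv, Points.ofPt_eq_map_ofScheme])
  obtain ⟨u, rfl⟩ := surjective_ofPt_of_surjective p hps z
  refine ⟨u, ⟨?_, ?_⟩, ?_⟩
  · apply ofScheme_injective V
    change Points.ofScheme V (h.left u) = _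
    rw [← hz2, ← map_yon_map_ofScheme, hh, Points.ofPt_eq_map_ofScheme, Points.map_comp]
  · have hP : EtLocal (@LocallyQuasiFinite ⊓ @LocallyOfFiniteType) := etLocal_lqf
    exact exists_nbhd_of_hasAtMor_nbhd hP f x hx (p ≫ pullback.fst f b) b h hae hbe comm u
      (by rw [← hz1, Points.map_ofPt])
  · rw [← hz1, Points.map_ofPt]

end Groth.Agent.H52
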