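import Groth.Agent.H52.EtaleField
import Groth.Agent.H52.LocPBC
import Groth.Agent.H52.EtLocalInst
import Groth.Agent.H52.FQApp
import Groth.Agent.H52.QC
import Groth.Agent.H51.EtaleChart
import Groth.Agent.H50.RepIso

/-!
# helper52: monomorphic field points descend along quasi-compact etale surjective morphisms
-/

set_option autoImplicit false
universe u

open CategoryTheory CategoryTheory.Limits AlgebraicGeometry Opposite AlgSp Topology TopologicalSpace

namespace Groth.Agent.H52

variable {S : Scheme.{u}}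

/-- The fibre of a quasi-compact etale morphism over a field point is a finite etale scheme over the field. -/
theorem exists_fibre_scheme_of_qc_etale {X Y : Sp S} (hXa : IsAlgSpace X) (hYa : IsAlgSpace Y)
    (f : X ⟶ Y) (hq : IsQuasiCompactMor f) (he : IsEtaleMor f) (q₀ : FieldPt Y) :
    ∃ (Z : Over S) (fst' : (yon S).obj Z ⟶ X) (gZ : Z ⟶ q₀.pt),
      IsPullback fst' ((yon S).map gZ) f q₀.toHom ∧ Etale gZ.left ∧ CompactSpace ↥Z.left := by
  have sqF := IsPullback.of_hasPullback f q₀.toHom
  have hF : IsAlgSpace (pullback f q₀.toHom) :=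
    isAlgSpace_of_isPullback sqF hYa.diag hXa (IsAlgSpace.yon_obj _)
  have hlocf : LocP @Etale f := fun _ _ a b h ha hb comm =>
    Groth.Agent.H51.etale_of_isEtaleMor_of_charts f he a b h ha hb comm
  have hlocs : LocP @Etale (pullback.snd f q₀.toHom) :=
    locP_baseChange etLocal_etale hXa hYa (IsAlgSpace.yon_obj _) sqF hlocf
  have hets : IsEtaleMor (pullback.snd f q₀.toHom) := by
    intro U φ hφ
    obtain ⟨h, hh⟩ := (yon S).map_surjective (φ ≫ pullback.snd f q₀.toHom)
    rw [← hh]
    refine (repWith_yon_map_iff _ h).2 ?_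
    exact hlocs φ (𝟙 _) h hφ (repWith_id _ _) (by rw [Category.comp_id, hh])
  obtain ⟨Z, ⟨e⟩⟩ := exists_iso_yon_of_etale_field hF q₀.str (pullback.snd f q₀.toHom) hets
  obtain ⟨gZ, hgZ⟩ := (yon S).map_surjective (e.hom ≫ pullback.snd f q₀.toHom)
  have hee : RepWith @Etale e.hom := H50.repWith_of_isIso @Etale e.hom
  have hgZe : Etale gZ.left := (repWith_yon_map_iff _ gZ).1 (hgZ ▸ hets e.hom hee)
  have hqcF : IsQuasiCompactSp (pullback f q₀.toHom) := by
    have hcs : CompactSpace ↥q₀.pt.left :=
      inferInstanceAs (CompactSpace ↥(Spec (CommRingCat.of q₀.K)))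
    exact hq (IsAlgSpace.yon_obj _) (isQuasiCompactSp_yon q₀.pt) q₀.toHom _ _ sqF
  have hcF := compactSpace_points_of_isQuasiCompactSp hqcF
  have hcZ : CompactSpace (Points ((yon S).obj Z)) := by
    have hsurj : Function.Surjective (Points.map e.inv) := fun z =>
      ⟨Points.map e.hom z, by rw [← Points.map_comp, e.hom_inv_id, Points.map_id]⟩
    exact hsurj.compactSpace (Points.continuous_map e.inv)
  have hcZ' : CompactSpace ↥Z.left := (Points.schemeHomeo Z).symm.compactSpace
  refine ⟨Z, e.hom ≫ pullback.fst f q₀.toHom, gZ, ?_, hgZe, hcZ'⟩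
  rw [hgZ]
  exact IsPullback.of_iso sqF e.symm (Iso.refl _) (Iso.refl _) (Iso.refl _) (by simp) (by simp)
    (by simp) (by simp)

/-- Monomorphic field points descend along quasi-compact etale morphisms. -/
theorem exists_mono_fieldPt_of_qc_etale {X Y : Sp S} (hXa : IsAlgSpace X) (hYa : IsAlgSpace Y)
    (f : X ⟶ Y) (hq : IsQuasiCompactMor f) (he : IsEtaleMor f) (p : FieldPt X) [Mono p.toHom] :
    ∃ (q : FieldPt Y) (c : p.pt ⟶ q.pt), Mono q.toHom ∧
      (yon S).map c ≫ q.toHom = p.toHom ≫ f ∧ IsFinite c.left ∧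
      Points.mk q = Points.map f (Points.mk p) := by
  have hq₀ : (p.map f).toHom = p.toHom ≫ f := FieldPt.toHom_map f p
  obtain ⟨Z, fst', gZ, sqF', hgZe, hcZ⟩ := exists_fibre_scheme_of_qc_etale hXa hYa f hq he (p.map f)
  -- the pullback of `p` along the first projection of the fibre
  obtain ⟨R, r₁, r₂', sqR⟩ := (hXa.representable_from_yon p.toHom) fst'
  obtain ⟨r₂, rfl⟩ := (yon S).map_surjective r₂'
  have hmono : Mono r₁.left := mono_left_of_isPullback_of_mono sqR
  obtain ⟨hdZ, hrZ⟩ := discrete_reduced_of_etale_field (k := (p.map f).K) gZ.left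
  have hflat : Flat r₁.left :=
    flat_of_isField_stalk r₁.left (fun y => isField_stalk_of_discrete_reduced y)
  have hoi : IsOpenImmersion r₁.left := isOpenImmersion_of_flat_mono_discrete r₁.left
  have hfinZ : Finite ↥Z.left := finite_of_etale_field_of_compact (K := (p.map f).K) gZ.left
  have hfinR : Finite ↥R.left := Finite.of_injective _ r₁.left.injective
  have hse : Etale (r₁ ≫ gZ).left := by rw [Over.comp_left]; infer_instance
  have hsq : QuasiCompact (r₁ ≫ gZ).left := ⟨fun U _ _ => (Set.toFinite _).isCompact⟩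
  have hsf : IsFinite (r₁ ≫ gZ).left :=
    isFinite_of_etale_quasiCompact_field (k := (p.map f).K) (r₁ ≫ gZ).left
  have big := sqR.flip.paste_horiz sqF'.flip
  rw [← Functor.map_comp, ← hq₀] at big
  obtain ⟨q, c, hm, hfac, hfin, hmk⟩ :=
    exists_mono_fieldPt_of_finite (p.map f) (r₁ ≫ gZ) r₂ big.flip
  exact ⟨q, c, hm, hfac.trans hq₀, hfin, hmk⟩

end Groth.Agent.H52

namespace Groth.Agent.H52

variable {S : Scheme.{u}}

/-- The fibre of a quasi-compact etale morphism of algebraic spaces over a point is finite. -/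
theorem finite_fibre_of_qc_etale {X Y : Sp S} (hXa : IsAlgSpace X) (hYa : IsAlgSpace Y)
    (f : X ⟶ Y) (hq : IsQuasiCompactMor f) (he : IsEtaleMor f) (q : FieldPt Y) :
    (Points.map f ⁻¹' {Points.mk q}).Finite := by
  obtain ⟨Z, fst', gZ, sqF', hgZe, hcZ⟩ := exists_fibre_scheme_of_qc_etale hXa hYa f hq he q
  have hfinZ : Finite ↥Z.left := finite_of_etale_field_of_compact (K := q.K) gZ.left
  refine (Set.finite_range (Points.ofPt fst')).subset ?_
  intro x' hx'
  have h1 : Points.map f x' = Points.map q.toHom (Points.ofScheme q.pt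
      (IsLocalRing.closedPoint q.K : PrimeSpectrum q.K)) := by
    rw [map_toHom_ofScheme]; exact hx'
  obtain ⟨w, hw1, -⟩ := H50.exists_point_of_isPullback sqF' x' _ h1
  obtain ⟨z, rfl⟩ := (Points.schemeEquiv Z).surjective w
  exact ⟨z, by rw [Points.ofPt_eq_map_ofScheme]; exact hw1⟩

/-- The image of a point of a decent space under a quasi-compact etale morphism is represented by a representable
quasi-compact monomorphism from the spectrum of a field. -/
theorem exists_decent_rep_of_qc_etale {X Y : Sp S} (hXa : IsAlgSpace X) (hYa : IsAlgSpace Y)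
    (f : X ⟶ Y) (hq : IsQuasiCompactMor f) (he : IsEtaleMor f) (hX : IsDecent X) (x : Points X) :
    ∃ q : FieldPt Y, Points.mk q = Points.map f x ∧ Mono q.toHom ∧
      RepWith @QuasiCompact q.toHom := by
  obtain ⟨p, rfl, hm, hpq⟩ := hX x
  have := hm
  obtain ⟨q, c, hqm, hfac, hfinc, hmk⟩ := exists_mono_fieldPt_of_qc_etale hXa hYa f hq he p
  refine ⟨q, hmk, hqm, ?_⟩
  have := hqm
  refine repWith_quasiCompact_of_finite_fibres hYa q ?_
  intro V b hV hb
  have hfibre := finite_fibre_of_qc_etale hXa hYa f hq he q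
  have sqP := IsPullback.of_hasPullback f b
  have hcV : CompactSpace ↥V.left := inferInstance
  have hqcP : IsQuasiCompactSp (pullback f b) :=
    hq (IsAlgSpace.yon_obj _) (isQuasiCompactSp_yon V) b _ _ sqP
  obtain ⟨V', a', ha'e, ha's, hV'c⟩ := hqcP
  have : CompactSpace ↥V'.left := hV'c
  have h3 := AlgSp.repWith_isStableUnderBaseChange (S := S) @Etale
  have h4 := AlgSp.repWith_isMultiplicative (S := S) @Etale
  have hfst : RepWith @Etale (pullback.fst f b) :=
    MorphismProperty.of_isPullback (P := RepWith @Etale) sqP.flip hb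
  have ha'' : RepWith @Etale (a' ≫ pullback.fst f b) := (RepWith @Etale).comp_mem _ _ ha'e hfst
  obtain ⟨π, hπ⟩ := (yon S).map_surjective (a' ≫ pullback.snd f b)
  have hfin2 : (Points.ofPt (a' ≫ pullback.fst f b) ⁻¹'
      (Points.map f ⁻¹' {Points.mk q})).Finite := by
    rw [← Set.biUnion_of_singleton (Points.map f ⁻¹' {Points.mk q}), Set.preimage_iUnion₂]
    refine hfibre.biUnion (fun x' hx' => ?_)
    obtain ⟨p', rfl, -, hp'q⟩ := hX x'
    exact finite_fibre_of_quasiCompact p' hp'q _ ha''
  refine (hfin2.image π.left).subset ?_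
  intro v hv
  simp only [Set.mem_preimage, Set.mem_singleton_iff] at hv
  obtain ⟨w, -, hw⟩ := H50.exists_point_of_isPullback sqP (Points.mk p) (Points.ofScheme V v)
    (by rw [← Points.ofPt_eq_map_ofScheme, hv, hmk])
  obtain ⟨v', rfl⟩ := surjective_ofPt_of_surjective a' ha's w
  have hπv : π.left v' = v := by
    apply ofScheme_injective V
    rw [← hw, Points.map_ofPt, ← hπ, Points.ofPt_eq_map_ofScheme, map_yon_map_ofScheme]
  refine ⟨v', ?_, hπv⟩
  simp only [Set.mem_preimage, Set.mem_singleton_iff]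
  rw [Points.map_ofPt, Category.assoc, sqP.w, ← Category.assoc, ← hπ, ofPt_yon_map_comp, hπv]
  exact hv

/-- Decency descends along quasi-compact etale surjective morphisms. -/
theorem isDecent_of_qc_etale_surjective {X Y : Sp S} (hXa : IsAlgSpace X) (hYa : IsAlgSpace Y)
    (f : X ⟶ Y) (hq : IsQuasiCompactMor f) (he : IsEtaleMor f) (hs : IsSurjectiveMor f)
    (hX : IsDecent X) : IsDecent Y := by
  intro y
  obtain ⟨x, rfl⟩ := hs y
  exact exists_decent_rep_of_qc_etale hXa hYa f hq he hX x

end Groth.Agent.H52
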