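import Groth.Agent.H52.Codim0QfSp
import Groth.Agent.H52.NoethSpec
import Groth.Agent.S1608

/-!
# helper52: quasi-finiteness over a point of codimension at most one (algebraic spaces)
-/

universe u

open CategoryTheory CategoryTheory.Limits AlgebraicGeometry Opposite AlgSp Topology

namespace Groth.Agent.H52

variable {S : Scheme.{u}}

/-- Chart form: over a point of codimension at most one of a locally Noetherian space, quasi-finiteness at the
points of the chart without proper generizations implies quasi-finiteness at all points of the chart over it. -/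
theorem hasAtMor_lqf_of_codim_le_one {X Y : Sp S} (hX : IsAlgSpace X) (hY : IsAlgSpace Y) (f : X ⟶ Y)
    (hf : LocP @LocallyOfFiniteType f) (hYn : IsLocNoethSp Y) (x : Points X)
    (hy : HasAt (fun U u => ringKrullDim ↥(U.presheaf.stalk u) ≤ 1) Y (Points.map f x))
    (H : ∀ ⦃U V : Over S⦄ (a : (yon S).obj U ⟶ X) (b : (yon S).obj V ⟶ Y) (h : U ⟶ V),
      RepWith @Etale a → RepWith @Etale b → a ≫ f = (yon S).map h ≫ b → ∀ η : ↥U.left,
      (∀ ξ : ↥U.left, ξ ⤳ η → ξ = η) → h.left.QuasiFiniteAt η) :
    HasAtMor (fun U _ h u => ∃ W : U.Opens, u ∈ W ∧ LocallyQuasiFinite (W.ι ≫ h) ∧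
      LocallyOfFiniteType (W.ι ≫ h)) f x := by
  obtain ⟨U, V, a, b, h, u, ha, hb, comm, rfl⟩ := exists_chart_diagram_at hX hY f x
  have hlft : LocallyOfFiniteType h.left := hf a b h ha hb comm
  have hVn : IsLocallyNoetherian V.left := isLocallyNoetherian_chart hYn b hb
  have hv : ringKrullDim ↥(V.left.presheaf.stalk (h.left u)) ≤ 1 := by
    obtain ⟨V', b', v', hb', hv', hd⟩ := hy
    rw [ringKrullDim_stalk_eq_of_charts b b' hb hb' (h.left u) v'
      (by rw [hv', Points.map_ofPt, comm, ofPt_yon_map_comp])]
    exact hd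
  refine hasAtMor_lqf_of_quasiFiniteAt f a b h ha hb comm u ?_
  refine Groth.Agent.S1608.result h.left (h.left u) hv (fun Z hZ η hη => ?_) u rfl
  refine H a b h ha hb comm η fun ξ hξ => ?_
  have hcl : closure ({η} : Set ↥U.left) ∈ irreducibleComponents (↥U.left) := by
    rw [hη.def]; exact hZ
  have h2 : closure ({ξ} : Set ↥U.left) ≤ closure ({η} : Set ↥U.left) :=
    hcl.2 isIrreducible_singleton.closure (specializes_iff_closure_subset.mp hξ)
  exact (hξ.antisymm (specializes_iff_closure_subset.mpr h2)).eq

end Groth.Agent.H52
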