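import Groth.Agent.H52.QfCodimOne
import Groth.Agent.H71.DimFun

/-!
# helper52: quasi-finiteness over a point of codimension at most one, applications
-/

universe u

open CategoryTheory CategoryTheory.Limits AlgebraicGeometry Opposite AlgSp Topology

namespace Groth.Agent.H52

variable {S : Scheme.{u}}

/-- In a locally Noetherian scheme a dense open set contains all points without proper generizations. -/
theorem mem_of_dense_open_of_no_generization {X : Scheme.{u}} [IsLocallyNoetherian X] (O : Set X)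
    (hO : IsOpen O) (hd : Dense O) (η : X) (hη : ∀ ξ : X, ξ ⤳ η → ξ = η) : η ∈ O := by
  obtain ⟨N, hηN, hN⟩ := Groth.Agent.H71.DimFun.exists_open_generic_specializes X η
  obtain ⟨p, hpN, hpO⟩ := hd.inter_open_nonempty N N.2 ⟨η, hηN⟩
  obtain ⟨ξ, hξp, hξgen⟩ := exists_specializes_of_no_generization p
  have hξN : ξ ∈ N := hξp.mem_open N.2 hpN
  have hξO : ξ ∈ O := hξp.mem_open hO hpO
  have h1 := hN ξ hξN hξgen
  rwa [hη ξ h1] at hξO

/-- S10503. -/
theorem hasAtMor_lqf_of_codim_le_one_of_codim_zero {X Y : Sp S} (hX : IsAlgSpace X) (hY : IsAlgSpace Y)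
    (f : X ⟶ Y) (hf : LocP @LocallyOfFiniteType f) (hYn : IsLocNoethSp Y) (x : Points X)
    (hy : HasAt (fun U u => ringKrullDim ↥(U.presheaf.stalk u) ≤ 1) Y (Points.map f x))
    (H : ∀ x : Points X, HasAt (fun U u => ringKrullDim ↥(U.presheaf.stalk u) = 0) X x →
      HasAtMor (fun U _ h u => ∃ W : U.Opens, u ∈ W ∧ LocallyQuasiFinite (W.ι ≫ h) ∧
        LocallyOfFiniteType (W.ι ≫ h)) f x) :
    HasAtMor (fun U _ h u => ∃ W : U.Opens, u ∈ W ∧ LocallyQuasiFinite (W.ι ≫ h) ∧
      LocallyOfFiniteType (W.ι ≫ h)) f x := by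
  refine hasAtMor_lqf_of_codim_le_one hX hY f hf hYn x hy fun U V a b h ha hb comm η hη => ?_
  have hx' := H (Points.ofPt a η) ⟨U, a, η, ha, rfl, (ringKrullDim_stalk_eq_zero_iff η).2 hη⟩
  have hP : EtLocal (@LocallyQuasiFinite ⊓ @LocallyOfFiniteType) := etLocal_lqf
  exact quasiFiniteAt_of_nbhd h.left η
    (exists_nbhd_of_hasAtMor_nbhd hP f _ hx' a b h ha hb comm η rfl)

/-- S10456. -/
theorem hasAtMor_lqf_of_codim_le_one_of_dense {X Y : Sp S} (hX : IsAlgSpace X) (hY : IsAlgSpace Y)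
    (f : X ⟶ Y) (hf : LocP @LocallyOfFiniteType f) (hYn : IsLocNoethSp Y) (x : Points X)
    (hy : HasAt (fun U u => ringKrullDim ↥(U.presheaf.stalk u) ≤ 1) Y (Points.map f x))
    (H : Dense {x : Points X | HasAtMor (fun U _ h u => ∃ W : U.Opens, u ∈ W ∧
      LocallyQuasiFinite (W.ι ≫ h) ∧ LocallyOfFiniteType (W.ι ≫ h)) f x}) :
    HasAtMor (fun U _ h u => ∃ W : U.Opens, u ∈ W ∧ LocallyQuasiFinite (W.ι ≫ h) ∧
      LocallyOfFiniteType (W.ι ≫ h)) f x := by
  refine hasAtMor_lqf_of_codim_le_one hX hY f hf hYn x hy fun U V a b h ha hb comm η hη => ?_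
  have hlft : LocallyOfFiniteType h.left := hf a b h ha hb comm
  have hVn : IsLocallyNoetherian V.left := isLocallyNoetherian_chart hYn b hb
  have hUn : IsLocallyNoetherian U.left := LocallyOfFiniteType.isLocallyNoetherian h.left
  have hP : EtLocal (@LocallyQuasiFinite ⊓ @LocallyOfFiniteType) := etLocal_lqf
  have hd : Dense (h.left.quasiFiniteLocus : Set ↥U.left) := by
    refine (H.preimage (isOpenMap_ofPt_of_etale a ha)).mono fun u' hu' => ?_
    exact quasiFiniteAt_of_nbhd h.left u'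
      (exists_nbhd_of_hasAtMor_nbhd hP f _ hu' a b h ha hb comm u' rfl)
  exact mem_of_dense_open_of_no_generization _ h.left.quasiFiniteLocus.2 hd η hη

end Groth.Agent.H52
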