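import Groth.Agent.H52.IsolatedPt
import Groth.Agent.H52.DecentTop

/-!
# helper52: quasi-finiteness at the generic point of an integral space
-/

universe u

open CategoryTheory CategoryTheory.Limits AlgebraicGeometry Opposite AlgSp Topology

namespace Groth.Agent.H52

/-- A point where a morphism locally of finite type is quasi-finite has no proper specialization in its fibre. -/
theorem eq_of_specializes_of_quasiFiniteAt {U V : Scheme.{u}} (h : U ⟶ V) [LocallyOfFiniteType h]
    {u u' : U} (hq : h.QuasiFiniteAt u) (hs : u ⤳ u') (he : h u' = h u) : u' = u := by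
  rw [Groth.Agent.S9334.result] at hq
  have hcl := hq.1
  obtain ⟨uF, huF⟩ : ∃ uF : h.fiber (h.base u), h.fiberι (h.base u) uF = u' :=
    ⟨(h.fiberHomeo (h.base u)).symm ⟨u', he⟩, h.fiberι_fiberHomeo_symm _ _⟩
  have hsp : h.asFiber u ⤳ uF := by
    rw [← (h.fiberι (h.base u)).isEmbedding.isInducing.specializes_iff, huF, h.fiberι_asFiber]
    exact hs
  have heq : uF = h.asFiber u := hsp.mem_closed hcl (Set.mem_singleton _)
  rw [← huF, heq, h.fiberι_asFiber]

variable {S : Scheme.{u}}

theorem hasAtMor_lqf_generic_iff {X Y : Sp S} (hX : IsAlgSpace X) (hY : IsAlgSpace Y) (hXd : IsDecent X)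
    (hYd : IsDecent Y) (f : X ⟶ Y) (hft : LocP @LocallyOfFiniteType f) (hd : IsDominantMor f)
    (x : Points X) (hx : IsGenericPoint x (Set.univ : Set (Points X)))
    (y : Points Y) (hy : IsGenericPoint y (Set.univ : Set (Points Y))) :
    HasAtMor (fun U _ h u => ∃ W : U.Opens, u ∈ W ∧ LocallyQuasiFinite (W.ι ≫ h) ∧
      LocallyOfFiniteType (W.ι ≫ h)) f x ↔ (∀ x' : Points X, Points.map f x' = y → x' = x) := by
  have hT0X : T0Space (Points X) := t0Space_of_isDecent hX hXd
  have hT0Y : T0Space (Points Y) := t0Space_of_isDecent hY hYd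
  have hfx : Points.map f x = y := by
    have h1 : IsGenericPoint (Points.map f x) (closure (Points.map f '' Set.univ)) :=
      hx.image (Points.continuous_map f)
    rw [Set.image_univ, hd.closure_range] at h1
    exact h1.eq hy
  have hP : EtLocal (@LocallyQuasiFinite ⊓ @LocallyOfFiniteType) := etLocal_lqf
  constructor
  · intro H x' hx'
    obtain ⟨U, V, a, b, h, u', ha, hb, comm, hu'⟩ := exists_chart_diagram_at hX hY f x'
    have hlft : LocallyOfFiniteType h.left := hft a b h ha hb comm
    have hmap : ∀ w : ↥U.left, Points.map f (Points.ofPt a w) = Points.ofPt b (h.left w) := by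
      intro w
      rw [Points.map_ofPt, comm, ofPt_yon_map_comp]
    obtain ⟨p, hp, -, hq⟩ := hXd x
    have hsp : Points.mk p ⤳ x' := by rw [hp]; exact hx.specializes (Set.mem_univ x')
    obtain ⟨u, huu', hux⟩ := exists_generization_of_specializes x' p hsp hq a ha u' hu'
    rw [hp] at hux
    have hhu : h.left u' = h.left u := by
      refine eq_of_specializes_of_isDecent hYd b hb (h.left u') (h.left u) ?_ (huu'.map h.left.continuous)
      rw [← hmap, ← hmap, hu', hux, hx', hfx]
    have hqf : h.left.QuasiFiniteAt u := quasiFiniteAt_of_nbhd h.left u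
      (exists_nbhd_of_hasAtMor_nbhd hP f x H a b h ha hb comm u hux)
    have := eq_of_specializes_of_quasiFiniteAt h.left hqf huu' hhu
    rw [← hu', this, hux]
  · intro H
    obtain ⟨U, V, a, b, h, u, ha, hb, comm, rfl⟩ := exists_chart_diagram_at hX hY f x
    have hlft : LocallyOfFiniteType h.left := hft a b h ha hb comm
    have hmap : ∀ w : ↥U.left, Points.map f (Points.ofPt a w) = Points.ofPt b (h.left w) := by
      intro w
      rw [Points.map_ofPt, comm, ofPt_yon_map_comp]
    refine hasAtMor_lqf_of_quasiFiniteAt f a b h ha hb comm u ?_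
    refine quasiFiniteAt_of_fibre_codim_zero h.left u fun u'' hu'' => ?_
    have h1 : Points.ofPt a u'' = Points.ofPt a u := H _ (by rw [hmap, hu'', ← hmap, hfx])
    refine codim_zero_of_generization_const a ha u'' fun ξ hξ => ?_
    rw [h1]
    have h2 : Points.ofPt a ξ ⤳ Points.ofPt a u := by
      rw [← h1]; exact hξ.map (Points.continuous_ofPt a)
    exact (h2.antisymm (hx.specializes (Set.mem_univ _))).eq

end Groth.Agent.H52
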