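import Groth.Agent.H52.QfGeneric
import Groth.Agent.H52.QfCodimOne2
import Groth.Agent.H25.TrdegCharts

/-!
# helper52: quasi-finiteness at generic points via transcendence degree
-/

universe u

open CategoryTheory CategoryTheory.Limits AlgebraicGeometry Opposite AlgSp Topology

namespace Groth.Agent.H52

open Groth.Agent.H54 in
/-- At a point without proper generizations whose residue field has transcendence degree zero over the residue
field of its image, a morphism locally of finite type is quasi-finite. -/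
theorem quasiFiniteAt_of_resTrdeg_eq_zero {U V : Scheme.{u}} (h : U ⟶ V) [LocallyOfFiniteType h] (u : U)
    (hgen : ∀ ξ : U, ξ ⤳ u → ξ = u) (ht : Dual3.resTrdeg h u = 0) : h.QuasiFiniteAt u := by
  rw [Groth.Agent.S9334.result]
  constructor
  · apply Groth.Agent.S1608.isClosed_of_tdeg_eq_zero (fiberQ h (h.base u))
    have h1 := trdeg_fiber_eq h (h.base u) (h.asFiber u)
    have h2 : Dual3.resTrdeg h (h.fiberι _ (h.asFiber u)) = 0 := by
      rw [h.fiberι_asFiber]; exact ht
    have h3 : ((tdeg (fiberQ h (h.base u)) (h.asFiber u) : ℕ) : Cardinal.{u}) = 0 := h1.symm.trans h2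
    exact_mod_cast h3
  · intro x' hx'
    have h1 : h.fiberι _ x' ⤳ h.fiberι _ (h.asFiber u) := hx'.map (h.fiberι _).continuous
    rw [h.fiberι_asFiber] at h1
    apply (h.fiberι _).isEmbedding.injective
    rw [hgen _ h1, h.fiberι_asFiber]

/-- Quasi-finiteness in the neighbourhood form gives transcendence degree zero. -/
theorem resTrdeg_eq_zero_of_nbhd {U V : Scheme.{u}} (h : U ⟶ V) (u : U)
    (H : ∃ W : U.Opens, u ∈ W ∧ LocallyQuasiFinite (W.ι ≫ h) ∧ LocallyOfFiniteType (W.ι ≫ h)) :
    Dual3.resTrdeg h u = 0 := by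
  obtain ⟨W, huW, hq, -⟩ := H
  have h1 := Groth.Agent.H25.TrdegCharts.resTrdeg_eq_zero_of_locallyQuasiFinite (W.ι ≫ h) ⟨u, huW⟩
  rwa [Groth.Agent.H25.TrdegCharts.resTrdeg_etale_comp] at h1

end Groth.Agent.H52

namespace Groth.Agent.H52

variable {S : Scheme.{u}}

theorem hasAtMor_resTrdeg_zero_generic_iff {X Y : Sp S} (hX : IsAlgSpace X) (hY : IsAlgSpace Y)
    (hXd : IsDecent X) (hYd : IsDecent Y) (f : X ⟶ Y) (hft : LocP @LocallyOfFiniteType f)
    (hd : IsDominantMor f) (x : Points X) (hx : IsGenericPoint x (Set.univ : Set (Points X)))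
    (y : Points Y) (hy : IsGenericPoint y (Set.univ : Set (Points Y))) :
    HasAtMor (fun _ _ h u => Dual3.resTrdeg h u = 0) f x ↔
      (∀ x' : Points X, Points.map f x' = y → x' = x) := by
  have hT0X : T0Space (Points X) := t0Space_of_isDecent hX hXd
  rw [← hasAtMor_lqf_generic_iff hX hY hXd hYd f hft hd x hx y hy]
  constructor
  · rintro ⟨U, V, a, b, h, u, ha, hb, comm, rfl, ht⟩
    have hlft : LocallyOfFiniteType h.left := hft a b h ha hb comm
    refine hasAtMor_lqf_of_quasiFiniteAt f a b h ha hb comm u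
      (quasiFiniteAt_of_resTrdeg_eq_zero h.left u (fun ξ hξ => ?_) ht)
    have h2 : Points.ofPt a ξ ⤳ Points.ofPt a u := hξ.map (Points.continuous_ofPt a)
    have h3 : Points.ofPt a ξ = Points.ofPt a u :=
      (h2.antisymm (hx.specializes (Set.mem_univ _))).eq
    exact (eq_of_specializes_of_isDecent hXd a ha u ξ h3.symm hξ).symm
  · rintro ⟨U, V, a, b, h, u, ha, hb, comm, rfl, hW⟩
    exact ⟨U, V, a, b, h, u, ha, hb, comm, rfl, resTrdeg_eq_zero_of_nbhd h.left u hW⟩

end Groth.Agent.H52
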