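import Mathlib

/-!
# helper52: a reduced scheme mapping to a single point of an affine scheme factors through a field
-/

set_option autoImplicit false
universe u

open CategoryTheory CategoryTheory.Limits AlgebraicGeometry Opposite Topology TopologicalSpace

namespace Groth.Agent.H52

/-- A global function on a scheme which is invertible at every point is a unit. -/
theorem isUnit_of_basicOpen_eq_top {N : Scheme.{u}} (f : Γ(N, ⊤)) (h : N.basicOpen f = ⊤) :
    IsUnit f := by
  refine N.toLocallyRingedSpace.toRingedSpace.isUnit_of_isUnit_germ ⊤ f fun x hx => ?_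
  have hx' : x ∈ N.basicOpen f := by rw [h]; trivial
  exact (N.mem_basicOpen_top f x).1 hx'

/-- A morphism from a reduced scheme to an affine scheme whose image is a single point factors through the
spectrum of a field. -/
theorem exists_factor_field_of_reduced_of_const {N : Scheme.{u}} [IsReduced N] {A : CommRingCat.{u}}
    (h : N ⟶ Spec A) (q : PrimeSpectrum A) (hq : ∀ n : N, h n = q) :
    ∃ (K : Type u) (_ : Field K) (e : Spec (CommRingCat.of K) ⟶ Spec A)
      (g : N ⟶ Spec (CommRingCat.of K)), g ≫ e = h := by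
  let φ : A ⟶ Γ(N, ⊤) := (Scheme.ΓSpecIso A).inv ≫ h.appTop
  have hfac : h = N.toSpecΓ ≫ Spec.map φ := by
    have h1 := Scheme.toSpecΓ_naturality h
    rw [← SpecMap_ΓSpecIso_hom] at h1
    have h2 : h = (h ≫ Spec.map (Scheme.ΓSpecIso A).hom) ≫ Spec.map (Scheme.ΓSpecIso A).inv := by
      rw [Category.assoc, ← Spec.map_comp, Iso.inv_hom_id, Spec.map_id, Category.comp_id]
    rw [h2, h1, Category.assoc, ← Spec.map_comp]
  have hbo : ∀ a : A, N.basicOpen (φ a) = h ⁻¹ᵁ PrimeSpectrum.basicOpen a := by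
    intro a
    rw [← basicOpen_eq_of_affine, Scheme.preimage_basicOpen_top]
    rfl
  have hmem : ∀ (a : A) (n : N), n ∈ N.basicOpen (φ a) ↔ a ∉ q.asIdeal := by
    intro a n
    rw [hbo a]
    change h n ∈ PrimeSpectrum.basicOpen a ↔ _
    rw [hq n]
    rfl
  have hzero : ∀ a ∈ q.asIdeal, φ a = 0 := by
    intro a ha
    have hb : N.basicOpen (φ a) = ⊥ := by
      rw [eq_bot_iff]
      intro n hn
      exact absurd ha ((hmem a n).1 hn)
    exact (basicOpen_eq_bot_iff _).1 hb
  have hunit : ∀ a : A, a ∉ q.asIdeal → IsUnit (φ a) := by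
    intro a ha
    apply isUnit_of_basicOpen_eq_top
    rw [eq_top_iff]
    intro n _
    exact (hmem a n).2 ha
  have hprime : q.asIdeal.IsPrime := q.isPrime
  let φb : (↑A ⧸ q.asIdeal) →+* ↑Γ(N, ⊤) := Ideal.Quotient.lift q.asIdeal φ.hom hzero
  have hunit' : ∀ y : nonZeroDivisors (↑A ⧸ q.asIdeal), IsUnit (φb y) := by
    rintro ⟨y, hy⟩
    obtain ⟨a, rfl⟩ := Ideal.Quotient.mk_surjective y
    have hne : (Ideal.Quotient.mk q.asIdeal a) ≠ 0 := nonZeroDivisors.ne_zero hy
    have ha : a ∉ q.asIdeal := fun h => hne (Ideal.Quotient.eq_zero_iff_mem.2 h)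
    exact hunit a ha
  let K := FractionRing (↑A ⧸ q.asIdeal)
  let ψ : K →+* ↑Γ(N, ⊤) := IsLocalization.lift (M := nonZeroDivisors (↑A ⧸ q.asIdeal)) hunit'
  let ι : ↑A →+* K := (algebraMap (↑A ⧸ q.asIdeal) K).comp (Ideal.Quotient.mk q.asIdeal)
  have hcomp : CommRingCat.ofHom ι ≫ CommRingCat.ofHom ψ = φ := by
    ext a
    change ψ (algebraMap (↑A ⧸ q.asIdeal) K (Ideal.Quotient.mk q.asIdeal a)) = φ a
    rw [IsLocalization.lift_eq]
    rfl
  refine ⟨K, inferInstance, Spec.map (CommRingCat.ofHom ι),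
    N.toSpecΓ ≫ Spec.map (CommRingCat.ofHom ψ), ?_⟩
  rw [Category.assoc, ← Spec.map_comp, hcomp, ← hfac]

end Groth.Agent.H52
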