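import Groth.Agent.H51.ResidualSp

/-!
# helper52: the residual space of a point through a prescribed etale chart (generalizes H51.ResidualSp.exists_residual)
-/

set_option autoImplicit false
universe u
open CategoryTheory CategoryTheory.Limits AlgebraicGeometry Opposite AlgSp

namespace Groth.Agent.H52

open Groth.Agent.H50 Groth.Agent.H51 Groth.Agent.H51.ResidualSp

variable {S : Scheme.{u}}

set_option maxHeartbeats 1600000 in
/-- Existence of the residual space, through a prescribed etale chart: `Z` is the image sheaf of `Spec κ(u) ⟶ X`. -/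
theorem exists_residual_chart {X : Sp S} {U : Over S} (a : (yon S).obj U ⟶ X)
    (hae : RepWith @Etale a) (u : ↥U.left) :
    ∃ (Z : Sp S) (_ : IsAlgSpace Z) (i : Z ⟶ X), Mono i ∧
      Set.range (Points.map i) = {Points.ofPt a u} ∧
      ∃ (p : (yon S).obj (FieldPt.ofPt a u).pt ⟶ Z), RepWith @Etale p ∧ RepWith @Surjective p ∧
        Epi p ∧ p ≫ i = (yon S).map (ptIncl a u) ≫ a := by
  obtain ⟨x, hu⟩ : ∃ x, Points.ofPt a u = x := ⟨_, rfl⟩
  rw [hu]
  obtain ⟨q, hq⟩ : ∃ q : FieldPt X, q = FieldPt.ofPt a u := ⟨_, rfl⟩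
  have hg : (FieldPt.ofPt a u).toHom = (yon S).map (ptIncl a u) ≫ a := FieldPt.toHom_ofPt a u
  have hxq : Points.mk (FieldPt.ofPt a u) = x := hu
  -- `V = Spec κ(u) ×_X U`
  obtain ⟨V, v1, fstV, sqV⟩ := hae.1 ((yon S).map (ptIncl a u) ≫ a)
  have hv1 : Etale v1.left := hae.2 _ _ _ sqV
  obtain ⟨v2, rfl⟩ := (yon S).map_surjective fstV
  -- `R₀ = Spec κ(u) ×_U V`
  have sqR := IsPullback.of_hasPullback (ptIncl a u) v2
  have sqRS : IsPullback (pullback.fst (ptIncl a u) v2).left (pullback.snd (ptIncl a u) v2).left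
      (ptIncl a u).left v2.left := sqR.map (Over.forget S)
  have hkg : IsPullback ((yon S).map (pullback.fst (ptIncl a u) v2))
      ((yon S).map (pullback.snd (ptIncl a u) v2 ≫ v1)) ((yon S).map (ptIncl a u) ≫ a)
      ((yon S).map (ptIncl a u) ≫ a) := by
    rw [Functor.map_comp]
    exact (sqR.map (yon S)).paste_vert sqV
  have hmι : Mono (ptIncl a u).left := inferInstanceAs (Mono (U.left.fromSpecResidueField u))
  have hmono : Mono (pullback.snd (ptIncl a u) v2).left := by
    have : MorphismProperty.monomorphisms Scheme.{u} (pullback.snd (ptIncl a u) v2).left :=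
      MorphismProperty.of_isPullback (P := MorphismProperty.monomorphisms Scheme.{u}) sqRS
        (MorphismProperty.monomorphisms.infer_property _)
    exact this
  obtain ⟨hd, hr⟩ := discrete_reduced_of_etale_field (k := (FieldPt.ofPt a u).K) v1.left
  have hflat : Flat (pullback.snd (ptIncl a u) v2).left :=
    flat_of_isField_stalk _ (fun y => isField_stalk_of_discrete_reduced y)
  have hoi : IsOpenImmersion (pullback.snd (ptIncl a u) v2).left :=
    isOpenImmersion_of_flat_mono_discrete _
  have het : Etale (pullback.snd (ptIncl a u) v2 ≫ v1).left := by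
    rw [Over.comp_left]; infer_instance
  -- the image sheaf
  have hpi := Sheaf.toImage_ι ((yon S).map (ptIncl a u) ≫ a)
  have hkp : IsPullback ((yon S).map (pullback.fst (ptIncl a u) v2))
      ((yon S).map (pullback.snd (ptIncl a u) v2 ≫ v1))
      (Sheaf.toImage ((yon S).map (ptIncl a u) ≫ a))
      (Sheaf.toImage ((yon S).map (ptIncl a u) ≫ a)) := by
    apply isPullback_of_comp_mono (Sheaf.imageι ((yon S).map (ptIncl a u) ≫ a))
    rw [hpi]
    exact hkg
  obtain ⟨hZ, hpe, hps⟩ := EtQuotGen.isAlgSpace_of_epi_chart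
    (Sheaf.toImage ((yon S).map (ptIncl a u) ≫ a)) _ _ hkp
  refine ⟨Sheaf.image ((yon S).map (ptIncl a u) ≫ a), hZ,
    Sheaf.imageι ((yon S).map (ptIncl a u) ≫ a), inferInstance, ?_,
    Sheaf.toImage ((yon S).map (ptIncl a u) ≫ a), hpe, hps, inferInstance, hpi⟩
  have hpt : ∀ s : ↥(FieldPt.ofPt a u).pt.left,
      Points.map (Sheaf.imageι ((yon S).map (ptIncl a u) ≫ a))
        (Points.ofPt (Sheaf.toImage ((yon S).map (ptIncl a u) ≫ a)) s) = x := by
    intro s
    rw [Points.map_ofPt, hpi, ← hg, Points.ofPt_toHom, hxq]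
  apply Set.Subset.antisymm
  · rintro _ ⟨z, rfl⟩
    obtain ⟨s, rfl⟩ := surjective_ofPt_of_surjective _ hps z
    exact hpt s
  · rintro _ rfl
    exact ⟨_, hpt (IsLocalRing.closedPoint (FieldPt.ofPt a u).K : PrimeSpectrum (FieldPt.ofPt a u).K)⟩

end Groth.Agent.H52
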