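import Mathlib

set_option autoImplicit false
universe u
open CategoryTheory CategoryTheory.Limits AlgebraicGeometry

namespace Groth.Agent.H52.SL_P4_AS

/-- (AS) -/
theorem assemble {U0 T T₁ Y1 : Scheme.{u}} (g : U0 ⟶ T) (e₁ : T₁ ⟶ T) (e₂ : Y1 ⟶ T₁)
    (u₁ : ↥(pullback g e₁))
    (hrad : ∀ (K : Type u) [Field K] (α β : Spec (CommRingCat.of K) ⟶ pullback g e₁),
      α ≫ pullback.snd g e₁ = β ≫ pullback.snd g e₁ → (∀ z, α z = u₁) → (∀ z, β z = u₁) → α = β)
    (VV : (pullback (pullback.snd g e₁) e₂).Opens) (v : ↥(pullback (pullback.snd g e₁) e₂))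
    (hv : v ∈ VV) (hfin : IsFinite (VV.ι ≫ pullback.snd (pullback.snd g e₁) e₂))
    (hfst : pullback.fst (pullback.snd g e₁) e₂ v = u₁)
    (huniq : ∀ v' ∈ VV, pullback.snd (pullback.snd g e₁) e₂ v' =
      pullback.snd (pullback.snd g e₁) e₂ v → v' = v) :
    ∃ (VV' : (pullback g (e₂ ≫ e₁)).Opens) (v' : ↥(pullback g (e₂ ≫ e₁))),
      v' ∈ VV' ∧ IsFinite (VV'.ι ≫ pullback.snd g (e₂ ≫ e₁)) ∧
      pullback.fst g (e₂ ≫ e₁) v' = pullback.fst g e₁ u₁ ∧
      (∀ v'' ∈ VV', pullback.snd g (e₂ ≫ e₁) v'' = pullback.snd g (e₂ ≫ e₁) v' → v'' = v') ∧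
      (∀ (K : Type u) [Field K] (α β : Spec (CommRingCat.of K) ⟶ pullback g (e₂ ≫ e₁)),
        α ≫ pullback.snd g (e₂ ≫ e₁) = β ≫ pullback.snd g (e₂ ≫ e₁) →
        (∀ z, α z = v') → (∀ z, β z = v') → α = β) := by
  let iso : pullback (pullback.snd g e₁) e₂ ≅ pullback g (e₂ ≫ e₁) :=
    pullbackLeftPullbackSndIso g e₁ e₂
  have hsnd : iso.hom ≫ pullback.snd g (e₂ ≫ e₁) = pullback.snd (pullback.snd g e₁) e₂ :=
    pullbackLeftPullbackSndIso_hom_snd g e₁ e₂
  have hfst' : iso.hom ≫ pullback.fst g (e₂ ≫ e₁) =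
      pullback.fst (pullback.snd g e₁) e₂ ≫ pullback.fst g e₁ :=
    pullbackLeftPullbackSndIso_hom_fst g e₁ e₂
  have hinvsnd : iso.inv ≫ pullback.snd (pullback.snd g e₁) e₂ = pullback.snd g (e₂ ≫ e₁) := by
    rw [Iso.inv_comp_eq, hsnd]
  have hinvhom : ∀ w, iso.inv (iso.hom w) = w := fun w => by
    rw [← Scheme.Hom.comp_apply, Iso.hom_inv_id]; rfl
  have hhominv : ∀ w, iso.hom (iso.inv w) = w := fun w => by
    rw [← Scheme.Hom.comp_apply, Iso.inv_hom_id]; rfl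
  refine ⟨iso.inv ⁻¹ᵁ VV, iso.hom v, ?_, ?_, ?_, ?_, ?_⟩
  · show iso.inv (iso.hom v) ∈ VV
    rw [hinvhom]; exact hv
  · -- finiteness
    have e : (iso.inv ⁻¹ᵁ VV).ι ≫ pullback.snd g (e₂ ≫ e₁) =
        (iso.inv ∣_ VV) ≫ VV.ι ≫ pullback.snd (pullback.snd g e₁) e₂ := by
      rw [← Category.assoc (iso.inv ∣_ VV), morphismRestrict_ι, Category.assoc, hinvsnd]
    rw [e]
    infer_instance
  · rw [← Scheme.Hom.comp_apply, hfst', Scheme.Hom.comp_apply, hfst]
  · intro v'' hv'' h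
    have h1 : iso.inv v'' ∈ VV := hv''
    have h2 : pullback.snd (pullback.snd g e₁) e₂ (iso.inv v'') =
        pullback.snd (pullback.snd g e₁) e₂ v := by
      rw [← Scheme.Hom.comp_apply, hinvsnd, h, ← Scheme.Hom.comp_apply, hsnd]
    have h3 := huniq _ h1 h2
    rw [← h3, hhominv]
  · intro K _ α β hαβ hα hβ
    rw [← cancel_mono iso.inv]
    apply pullback.hom_ext
    · -- fst components are K-points of pullback g e₁ at u₁
      apply hrad K
      · simp only [Category.assoc, pullback.condition]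
        rw [← Category.assoc iso.inv, hinvsnd, ← Category.assoc, ← Category.assoc, hαβ]
      · intro z
        rw [Scheme.Hom.comp_apply, Scheme.Hom.comp_apply, hα z, hinvhom, hfst]
      · intro z
        rw [Scheme.Hom.comp_apply, Scheme.Hom.comp_apply, hβ z, hinvhom, hfst]
    · simp only [Category.assoc]
      rw [hinvsnd, hαβ]

end Groth.Agent.H52.SL_P4_AS
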