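import Groth.Agent.H52.SepBC
import Groth.Agent.H52.Sections

/-!
# Separatedness of representable morphisms: diagonal sense versus representable sense (helper52)
-/

set_option autoImplicit false
universe u

open CategoryTheory CategoryTheory.Limits AlgebraicGeometry Opposite AlgSp Topology

namespace Groth.Agent.H52

variable {S : Scheme.{u}}

/-- For a representable morphism with representable diagonal, a property of the diagonal can be read on the
scheme morphisms obtained by base change. -/
theorem repWith_diagonal_iff_of_representable {Q Q' : MorphismProperty Scheme.{u}}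
    [Q.IsStableUnderBaseChange] [Q'.IsStableUnderBaseChange]
    (hQQ' : ∀ {U V : Over S} (g : U ⟶ V),
      RepWith Q (pullback.diagonal ((yon S).map g)) ↔ Q' g.left)
    {X Y : Sp S} (f : X ⟶ Y) (hf : Representable f) (hrep : Representable (pullback.diagonal f)) :
    RepWith Q (pullback.diagonal f) ↔ RepWith Q' f := by
  constructor
  · intro h
    have : Q'.RespectsIso := MorphismProperty.IsStableUnderBaseChange.respectsIso
    refine MorphismProperty.relative_of_snd hf (fun T g => ?_)
    change Q' (hf.snd g).left
    rw [← hQQ']
    have sq := hf.isPullback g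
    let β : pullback ((yon S).map (hf.snd g)) ((yon S).map (hf.snd g)) ⟶ pullback f f :=
      pullback.lift (pullback.fst _ _ ≫ hf.fst g) (pullback.snd _ _ ≫ hf.fst g)
        (by rw [Category.assoc, Category.assoc, sq.w, ← Category.assoc, ← Category.assoc,
          pullback.condition])
    have hβ₁ : β ≫ pullback.fst f f = pullback.fst _ _ ≫ hf.fst g := pullback.lift_fst _ _ _
    have hβ₂ : β ≫ pullback.snd f f = pullback.snd _ _ ≫ hf.fst g := pullback.lift_snd _ _ _
    have sqD := isPullback_diagonal_of_isPullback sq β hβ₁ hβ₂
    exact H50.repWith_fst_of_isPullback sqD h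
  · intro h
    have : Q.RespectsIso := MorphismProperty.IsStableUnderBaseChange.respectsIso
    refine MorphismProperty.relative_of_snd hrep (fun T g => ?_)
    change Q (hrep.snd g).left
    have sq := hf.isPullback (g ≫ pullback.fst f f ≫ f)
    have hQ : RepWith Q (pullback.diagonal ((yon S).map (hf.snd (g ≫ pullback.fst f f ≫ f)))) :=
      (hQQ' _).2 (h.property_snd _)
    exact Q_of_diagonal_baseChange sq hQ g (hrep.fst g) (hrep.snd g) (hrep.isPullback g)
      (𝟙 T) (𝟙 _) (by simp) (𝟙 _) (hrep.snd g) IsPullback.of_id_fst

/-- For a representable morphism of algebraic spaces, separated (quasi-separated) in the diagonal sense agrees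
with separated (quasi-separated) in the representable sense. -/
theorem isSeparatedMor_iff_repWith {X Y : Sp S} (hX : IsAlgSpace X) (hY : IsAlgSpace Y) (f : X ⟶ Y)
    (hf : Representable f) :
    (IsSeparatedMor f ↔ RepWith @IsSeparated f) ∧
      (IsQuasiSeparatedMor f ↔ RepWith @QuasiSeparated f) := by
  have hrep : Representable (pullback.diagonal f) := (diagonal_props hX hY.diag f).1
  exact ⟨repWith_diagonal_iff_of_representable (fun g => isSeparatedMor_yon_map_iff g) f hf hrep,
    repWith_diagonal_iff_of_representable (fun g => isQuasiSeparatedMor_yon_map_iff g) f hf hrep⟩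

end Groth.Agent.H52
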