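import Groth.Agent.H52.Topology
import Mathlib.Topology.Spectral.ConstructibleTopology
import Mathlib.Topology.Sober

/-!
# helper52: generic points of irreducible closed subsets of `|X|` through a quasi-compact affine chart
-/

set_option autoImplicit false
universe u

open CategoryTheory CategoryTheory.Limits AlgebraicGeometry Opposite AlgSp Topology TopologicalSpace

namespace Groth.Agent.H52

/-- In a spectral-like space, a directed family of compact open sets all meeting a closed set `Z` has a common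
point in `Z` (compactness of the constructible topology). -/
theorem exists_mem_forall_of_directed_compact_open {U : Type*} [TopologicalSpace U] [CompactSpace U]
    [QuasiSober U] [PrespectralSpace U] [QuasiSeparatedSpace U] (Z : Set U) (hZ : IsClosed Z)
    (𝓥 : Set (Set U)) (hne0 : 𝓥.Nonempty) (h𝓥 : ∀ V ∈ 𝓥, IsOpen V ∧ IsCompact V)
    (hne : ∀ V ∈ 𝓥, (V ∩ Z).Nonempty)
    (hdir : ∀ V₁ ∈ 𝓥, ∀ V₂ ∈ 𝓥, ∃ V₃ ∈ 𝓥, V₃ ⊆ V₁ ∩ V₂) : ∃ z ∈ Z, ∀ V ∈ 𝓥, z ∈ V := by
  have hcs : @CompactSpace U (constructibleTopology U) :=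
    @Function.Surjective.compactSpace (WithConstructibleTopology U) U _ (constructibleTopology U)
      WithTopology.ofTopology (WithTopology.continuous_ofTopology _) _
      (WithTopology.ofTopology_surjective _)
  have hopen : ∀ s : Set U, IsOpen s → IsOpen[constructibleTopology U] s := by
    intro s hs
    obtain ⟨B, hB, rfl⟩ := (PrespectralSpace.isTopologicalBasis (X := U)).open_eq_sUnion hs
    exact @isOpen_sUnion U (constructibleTopology U) B
      (fun b hb => (hB hb).2.isOpen_constructibleTopology_of_isOpen (hB hb).1)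
  have hZc : IsClosed[constructibleTopology U] Z :=
    @IsClosed.mk U (constructibleTopology U) Z (hopen _ hZ.isOpen_compl)
  have hVc : ∀ V ∈ 𝓥, IsClosed[constructibleTopology U] V := fun V hV =>
    @IsClosed.mk U (constructibleTopology U) V
      (IsCompact.isOpen_constructibleTopology_of_isClosed (s := Vᶜ)
        (by rw [compl_compl]; exact (h𝓥 V hV).2) (h𝓥 V hV).1.isClosed_compl)
  have hVZc : ∀ V ∈ 𝓥, IsClosed[constructibleTopology U] (V ∩ Z) := fun V hV =>
    @IsClosed.inter U V Z (constructibleTopology U) (hVc V hV) hZc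
  have : Nonempty ↥𝓥 := hne0.to_subtype
  have hdir' : Directed (· ⊇ ·) (fun V : ↥𝓥 => V.1 ∩ Z) := by
    intro V₁ V₂
    obtain ⟨V₃, h3, hsub⟩ := hdir V₁.1 V₁.2 V₂.1 V₂.2
    exact ⟨⟨V₃, h3⟩, Set.inter_subset_inter_left _ (hsub.trans Set.inter_subset_left),
      Set.inter_subset_inter_left _ (hsub.trans Set.inter_subset_right)⟩
  obtain ⟨z, hz⟩ := @IsCompact.nonempty_iInter_of_directed_nonempty_isCompact_isClosed U
    (constructibleTopology U) ↥𝓥 _ (fun V => V.1 ∩ Z) hdir' (fun V => hne V.1 V.2)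
    (fun V => @IsClosed.isCompact U (constructibleTopology U) _ hcs (hVZc V.1 V.2))
    (fun V => hVZc V.1 V.2)
  rw [Set.mem_iInter] at hz
  obtain ⟨V₀, hV₀⟩ := hne0
  exact ⟨z, (hz ⟨V₀, hV₀⟩).2, fun V hV => (hz ⟨V, hV⟩).1⟩

variable {S : Scheme.{u}}

/-- Let `a : h_U ⟶ X` be an etale chart with `U` affine whose kernel pair `R ⇉ U` has a quasi-compact projection.
Then every irreducible closed subset of `|X|` meeting the image of `U` has a generic point in that image. -/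
theorem exists_isGenericPoint_of_affine_chart {X : Sp S} {U R : Over S} [IsAffine U.left]
    (a : (yon S).obj U ⟶ X) (ha : RepWith @Etale a) (s t : R ⟶ U)
    (hR : IsPullback ((yon S).map t) ((yon S).map s) a a) [QuasiCompact s.left]
    (T : Set (Points X)) (hT : IsPreirreducible T) (hTc : IsClosed T) (u₀ : ↥U.left)
    (hu₀ : Points.ofPt a u₀ ∈ T) : ∃ z : ↥U.left, IsGenericPoint (Points.ofPt a z) T := by
  have hcont := Points.continuous_ofPt a
  have hopen := isOpenMap_ofPt_of_etale a ha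
  have hsat_eq : ∀ B : Set ↥U.left,
      Points.ofPt a ⁻¹' (Points.ofPt a '' B) = t.left '' (s.left ⁻¹' B) := by
    intro B
    ext v
    constructor
    · rintro ⟨b, hb, hbv⟩
      obtain ⟨r, hr1, hr2⟩ := exists_of_ofPt_eq_ofPt hR v b hbv.symm
      exact ⟨r, by rw [Set.mem_preimage, hr2]; exact hb, hr1⟩
    · rintro ⟨r, hr, rfl⟩
      refine ⟨s.left r, hr, ?_⟩
      rw [← ofPt_yon_map_comp, ← ofPt_yon_map_comp, hR.w]
  have hsat_compact : ∀ B : Set ↥U.left, IsOpen B → IsCompact B →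
      IsCompact (Points.ofPt a ⁻¹' (Points.ofPt a '' B)) := by
    intro B hBo hBc
    rw [hsat_eq]
    exact (QuasiCompact.isCompact_preimage (f := s.left) B hBo hBc).image t.left.continuous
  have hsat_open : ∀ B : Set ↥U.left, IsOpen B →
      IsOpen (Points.ofPt a ⁻¹' (Points.ofPt a '' B)) := fun B hB => (hopen B hB).preimage hcont
  have hZc : IsClosed (Points.ofPt a ⁻¹' T) := hTc.preimage hcont
  -- the family of saturated compact opens meeting `Z`
  have nbhd : ∀ (v : ↥U.left) (O : Set ↥U.left), IsOpen O → v ∈ O →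
      Points.ofPt a ⁻¹' (Points.ofPt a '' O) = O → v ∈ Points.ofPt a ⁻¹' T →
      ∃ V : Set ↥U.left, (IsOpen V ∧ IsCompact V ∧ Points.ofPt a ⁻¹' (Points.ofPt a '' V) = V ∧
        (V ∩ Points.ofPt a ⁻¹' T).Nonempty) ∧ v ∈ V ∧ V ⊆ O := by
    intro v O hO hvO hOsat hvZ
    obtain ⟨B, ⟨hBo, hBc⟩, hvB, hBO⟩ :=
      (PrespectralSpace.isTopologicalBasis (X := ↥U.left)).exists_subset_of_mem_open hvO hO
    have hvV : v ∈ Points.ofPt a ⁻¹' (Points.ofPt a '' B) := Set.subset_preimage_image _ _ hvB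
    refine ⟨Points.ofPt a ⁻¹' (Points.ofPt a '' B),
      ⟨hsat_open B hBo, hsat_compact B hBo hBc, ?_, ⟨v, hvV, hvZ⟩⟩, hvV, ?_⟩
    · rw [Set.image_preimage_eq_inter_range, Set.inter_eq_left.2 (Set.image_subset_range _ _)]
    · rw [← hOsat]
      exact Set.preimage_mono (Set.image_mono hBO)
  obtain ⟨V₀, hV₀, -, -⟩ := nbhd u₀ Set.univ isOpen_univ (Set.mem_univ _)
    (by ext v; simp only [Set.mem_preimage, Set.mem_image, Set.mem_univ, true_and, iff_true]
        exact ⟨v, rfl⟩) hu₀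
  obtain ⟨z, hzZ, hz⟩ := exists_mem_forall_of_directed_compact_open (Points.ofPt a ⁻¹' T) hZc
    {V | IsOpen V ∧ IsCompact V ∧ Points.ofPt a ⁻¹' (Points.ofPt a '' V) = V ∧
      (V ∩ Points.ofPt a ⁻¹' T).Nonempty} ⟨V₀, hV₀⟩ (fun V hV => ⟨hV.1, hV.2.1⟩)
    (fun V hV => hV.2.2.2) (by
      rintro V₁ ⟨h1o, h1c, h1s, ⟨w₁, hw₁V, hw₁Z⟩⟩ V₂ ⟨h2o, h2c, h2s, ⟨w₂, hw₂V, hw₂Z⟩⟩
      obtain ⟨x', hx'T, ⟨v₁, hv₁, rfl⟩, ⟨v₂, hv₂, hv₂e⟩⟩ :=
        hT (Points.ofPt a '' V₁) (Points.ofPt a '' V₂) (hopen V₁ h1o) (hopen V₂ h2o)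
          ⟨_, hw₁Z, w₁, hw₁V, rfl⟩ ⟨_, hw₂Z, w₂, hw₂V, rfl⟩
      have hv₁V₂ : v₁ ∈ V₂ := by
        rw [← h2s]
        exact ⟨v₂, hv₂, hv₂e⟩
      obtain ⟨V₃, hV₃, -, hsub⟩ := nbhd v₁ (V₁ ∩ V₂) (h1o.inter h2o) ⟨hv₁, hv₁V₂⟩ (by
        apply Set.Subset.antisymm
        · intro w hw
          obtain ⟨w', ⟨hw'1, hw'2⟩, hw'e⟩ := hw
          exact ⟨by rw [← h1s]; exact ⟨w', hw'1, hw'e⟩, by rw [← h2s]; exact ⟨w', hw'2, hw'e⟩⟩
        · exact Set.subset_preimage_image _ _) hx'T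
      exact ⟨V₃, hV₃, hsub⟩)
  refine ⟨z, ?_⟩
  rw [isGenericPoint_def]
  apply Set.Subset.antisymm
  · exact closure_minimal (Set.singleton_subset_iff.2 hzZ) hTc
  · intro x hxT
    by_contra hx
    obtain ⟨x'', hx''T, hx''O, ⟨u'', -, rfl⟩⟩ :=
      hT (closure {Points.ofPt a z})ᶜ (Points.ofPt a '' Set.univ) isClosed_closure.isOpen_compl
        (hopen _ isOpen_univ) ⟨x, hxT, hx⟩ ⟨_, hu₀, u₀, Set.mem_univ _, rfl⟩
    obtain ⟨V, hV, -, hsub⟩ := nbhd u'' (Points.ofPt a ⁻¹' (closure {Points.ofPt a z})ᶜ)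
      (isClosed_closure.isOpen_compl.preimage hcont) hx''O (by rw [Set.preimage_image_preimage])
      hx''T
    exact hsub (hz V hV) (subset_closure rfl)

end Groth.Agent.H52
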