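import Groth.Agent.H45.ResTrdeg
import Groth.Agent.H25.TrdegCharts
import Groth.Agent.H52.ChartBC
import Groth.Agent.H52.FibreDimPB

/-!
# helper52: local rings of fibres and transcendence degrees under base change (schemes and chart diagrams)
-/

set_option autoImplicit false
set_option linter.style.haveILetI false
universe u

open CategoryTheory CategoryTheory.Limits AlgebraicGeometry Opposite AlgSp

namespace Groth.Agent.H52

/-- Variant of `H45.ResTrdeg.exists_point_trdeg_ge` recording that the point also lies over `y`. -/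
theorem exists_point_trdeg_ge' {P X Y S : Scheme.{u}} {p₁ : P ⟶ X} {p₂ : P ⟶ Y}
    {f : X ⟶ S} {g : Y ⟶ S} (h : IsPullback p₁ p₂ f g) (x : X) (y : Y)
    (hxy : g.base y = f.base x) :
    ∃ z : P, p₁.base z = x ∧ p₂.base z = y ∧
      (letI := (f.residueFieldMap x).hom.toAlgebra
       Algebra.trdeg (S.residueField (f.base x)) (X.residueField x)) ≤
      (letI := (p₂.residueFieldMap z).hom.toAlgebra
       Algebra.trdeg (Y.residueField (p₂.base z)) (P.residueField z)) := by
  letI algx : Algebra (S.residueField (f.base x)) (X.residueField x) :=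
    (f.residueFieldMap x).hom.toAlgebra
  obtain ⟨ι, xb, hxb⟩ := exists_isTranscendenceBasis' (S.residueField (f.base x))
    (A := X.residueField x)
  let dC : S.residueField (f.base x) ⟶ Y.residueField y :=
    (S.residueFieldCongr hxy.symm).hom ≫ g.residueFieldMap y
  obtain ⟨Ω, hΩ, α, β, hαβ, hind⟩ :=
    Groth.Agent.H45.ResTrdegAlg.exists_field_compositum dC.hom xb hxb
  let αC : X.residueField x ⟶ CommRingCat.of Ω := CommRingCat.ofHom α
  let βC : Y.residueField y ⟶ CommRingCat.of Ω := CommRingCat.ofHom β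
  have hαβC : f.residueFieldMap x ≫ αC = dC ≫ βC := by
    ext a
    exact RingHom.congr_fun hαβ a
  have hcompat : (Spec.map αC ≫ X.fromSpecResidueField x) ≫ f =
      (Spec.map βC ≫ Y.fromSpecResidueField y) ≫ g := by
    calc (Spec.map αC ≫ X.fromSpecResidueField x) ≫ f
        = Spec.map αC ≫ Spec.map (f.residueFieldMap x) ≫ S.fromSpecResidueField (f.base x) := by
          rw [Category.assoc, ← Scheme.Hom.SpecMap_residueFieldMap_fromSpecResidueField]
      _ = Spec.map (f.residueFieldMap x ≫ αC) ≫ S.fromSpecResidueField (f.base x) := by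
          rw [Spec.map_comp, Category.assoc]
      _ = Spec.map (dC ≫ βC) ≫ S.fromSpecResidueField (f.base x) := by rw [hαβC]
      _ = Spec.map βC ≫ Spec.map (g.residueFieldMap y) ≫
            (Spec.map (S.residueFieldCongr hxy.symm).hom ≫
              S.fromSpecResidueField (f.base x)) := by
          simp only [dC, Spec.map_comp, Category.assoc]
      _ = Spec.map βC ≫ Spec.map (g.residueFieldMap y) ≫ S.fromSpecResidueField (g.base y) := by
          rw [Scheme.residueFieldCongr_fromSpecResidueField]
      _ = (Spec.map βC ≫ Y.fromSpecResidueField y) ≫ g := by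
          rw [Scheme.Hom.SpecMap_residueFieldMap_fromSpecResidueField, Category.assoc]
  let u : Spec (CommRingCat.of Ω) ⟶ P := h.lift (Spec.map αC ≫ X.fromSpecResidueField x)
    (Spec.map βC ≫ Y.fromSpecResidueField y) hcompat
  have hu1 : u ≫ p₁ = Spec.map αC ≫ X.fromSpecResidueField x := h.lift_fst _ _ _
  have hu2 : u ≫ p₂ = Spec.map βC ≫ Y.fromSpecResidueField y := h.lift_snd _ _ _
  obtain ⟨e₁, he₁⟩ := Groth.Agent.H45.ResTrdeg.specPt (u ≫ p₁) x αC hu1
  obtain ⟨e₂, he₂⟩ := Groth.Agent.H45.ResTrdeg.specPt (u ≫ p₂) y βC hu2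
  let z : P := u.base (IsLocalRing.closedPoint Ω)
  let ρ : P.residueField z ⟶ CommRingCat.of Ω :=
    P.descResidueField (Scheme.stalkClosedPointTo u)
  have hA : p₁.residueFieldMap z ≫ ρ = (X.residueFieldCongr e₁).hom ≫ αC :=
    (Scheme.descResidueField_stalkClosedPointTo_comp p₁ u).symm.trans he₁
  have hB : p₂.residueFieldMap z ≫ ρ = (Y.residueFieldCongr e₂).hom ≫ βC :=
    (Scheme.descResidueField_stalkClosedPointTo_comp p₂ u).symm.trans he₂
  refine ⟨z, e₁, e₂, ?_⟩
  letI algz : Algebra (Y.residueField (p₂.base z)) (P.residueField z) :=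
    (p₂.residueFieldMap z).hom.toAlgebra
  show Algebra.trdeg (S.residueField (f.base x)) (X.residueField x) ≤
    Algebra.trdeg (Y.residueField (p₂.base z)) (P.residueField z)
  letI algΩ : Algebra (Y.residueField y) Ω := β.toAlgebra
  let yb : ι → P.residueField z := fun j =>
    (p₁.residueFieldMap z).hom ((X.residueFieldCongr e₁).inv.hom (xb j))
  have hyb : ρ.hom ∘ yb = α ∘ xb := by
    funext j
    have h1 := congrArg (fun m => m.hom ((X.residueFieldCongr e₁).inv.hom (xb j))) hA
    have h2 : (X.residueFieldCongr e₁).hom.hom ((X.residueFieldCongr e₁).inv.hom (xb j)) = xb j :=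
      congrArg (fun m : X.residueField x ⟶ X.residueField x => m.hom (xb j))
        (X.residueFieldCongr e₁).inv_hom_id
    exact h1.trans (congrArg α h2)
  have hind' : AlgebraicIndependent (Y.residueField y) (ρ.hom ∘ yb) := by
    rw [hyb]
    exact hind
  have hyind : AlgebraicIndependent (Y.residueField (p₂.base z)) yb := by
    refine AlgebraicIndependent.of_ringHom_of_comp_eq (Y.residueFieldCongr e₂).hom.hom ρ.hom
      hind' (Y.residueFieldCongr e₂).hom.hom.injective ?_
    exact (congrArg CommRingCat.Hom.hom hB).symm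
  calc Algebra.trdeg (S.residueField (f.base x)) (X.residueField x)
      = Cardinal.mk ι := hxb.cardinalMk_eq_trdeg.symm
    _ ≤ Algebra.trdeg (Y.residueField (p₂.base z)) (P.residueField z) :=
        hyind.cardinalMk_le_trdeg

/-- The core computation for a cartesian square of schemes `U' = U ×_V V'` with `h : U ⟶ V` locally of finite
type: at a point `u'` of `U'`, the dimensions of the local rings of the fibres and the residual transcendence
degrees are natural numbers with the same sum, and the transcendence degree does not increase. -/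
theorem stalkDim_trdeg_of_isPullback {U V V' U' : Scheme.{u}} (h : U ⟶ V) [LocallyOfFiniteType h]
    (gV : V' ⟶ V) (π : U' ⟶ U) (h' : U' ⟶ V') (sq : IsPullback π h' h gV) (u' : U') :
    ∃ b n b' n' : ℕ,
      ringKrullDim ↥((h.fiber (h (π u'))).presheaf.stalk (h.asFiber (π u'))) = (b : WithBot ℕ∞) ∧
      Dual3.resTrdeg h (π u') = (n : Cardinal.{u}) ∧
      ringKrullDim ↥((h'.fiber (h' u')).presheaf.stalk (h'.asFiber u')) = (b' : WithBot ℕ∞) ∧
      Dual3.resTrdeg h' u' = (n' : Cardinal.{u}) ∧ b' + n' = b + n ∧ n' ≤ n := by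
  haveI : LocallyOfFiniteType h' := MorphismProperty.of_isPullback (P := @LocallyOfFiniteType) sq ‹_›
  obtain ⟨n, b, h1, h2, h3⟩ := Groth.Agent.H9.FibreFormula.fibre_formula h (π u')
  obtain ⟨n', b', h1', h2', h3'⟩ := Groth.Agent.H9.FibreFormula.fibre_formula h' u'
  have hd := fibreDimAt_eq_of_isPullback h gV π h' sq u'
  have hle := Groth.Agent.H45.ResTrdeg.trdeg_le_of_isPullback sq u'
  have hle' : Dual3.resTrdeg h' u' ≤ Dual3.resTrdeg h (π u') := hle
  have hr : Dual3.resTrdeg h (π u') = (n : Cardinal.{u}) := h1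
  have hr' : Dual3.resTrdeg h' u' = (n' : Cardinal.{u}) := h1'
  refine ⟨b, n, b', n', h2, hr, h2', hr', ?_, ?_⟩
  · rw [h3, h3'] at hd
    have : ((n' + b' : ℕ) : WithBot ℕ∞) = ((n + b : ℕ) : WithBot ℕ∞) := hd
    have h4 : (n' + b' : ℕ) = (n + b : ℕ) := by exact_mod_cast this
    omega
  · rw [hr, hr'] at hle'
    exact_mod_cast hle'

end Groth.Agent.H52
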