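import Mathlib

/-!
# Valuation rings: residue field extensions and composites (helper52)

* `exists_valuationSubring_ext_residue`: a valuation ring `B` with a ring map `ρ : B → Ω` to a field killing the
  maximal ideal embeds in a valuation ring `V` whose residue field receives `Ω` compatibly.
* `compositeVal V A₂`: the composite of a valuation subring `V` of `F` and a valuation subring `A₂` of the residue
  field of `V`.
-/

set_option autoImplicit false
universe u

namespace Groth.Agent.H52

open IsLocalRing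

/-- Extension of a valuation ring with a prescribed extension of the residue field. -/
theorem exists_valuationSubring_ext_residue {B : Type u} [CommRing B] [IsDomain B] [ValuationRing B]
    {Ω : Type u} [Field Ω] (ρ : B →+* Ω) :
    ∃ (F₂ : Type u) (_ : Field F₂) (V : ValuationSubring F₂) (φ : B →+* V)
      (σ : Ω →+* ResidueField V),
      Function.Injective φ ∧ σ.comp ρ = (residue V).comp φ := by
  classical
  let ev : MvPolynomial Ω B →+* Ω := MvPolynomial.eval₂Hom ρ id
  have hev : Function.Surjective ev := fun ω => ⟨MvPolynomial.X ω, by simp [ev]⟩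
  let ι : MvPolynomial Ω B →+* FractionRing (MvPolynomial Ω B) :=
    algebraMap (MvPolynomial Ω B) (FractionRing (MvPolynomial Ω B))
  have hι : Function.Injective ι := IsFractionRing.injective _ _
  let I : Ideal ι.range := (RingHom.ker ev).map ι.rangeRestrict
  have hI : I ≠ ⊤ := by
    intro htop
    have h1 : (1 : ι.range) ∈ I := by rw [htop]; trivial
    obtain ⟨r, hr, hr1⟩ := (Ideal.mem_map_iff_of_surjective ι.rangeRestrict
      ι.rangeRestrict_surjective).1 h1
    have h2 : ι r = 1 := congrArg Subtype.val hr1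
    have h3 : r = 1 := hι (by rw [h2, map_one])
    rw [h3, RingHom.mem_ker, map_one] at hr
    exact one_ne_zero hr
  obtain ⟨V, hAV, hIV⟩ := Ideal.image_subset_nonunits_valuationSubring I hI
  let g : MvPolynomial Ω B →+* V := ι.codRestrict V (fun r => hAV ⟨r, rfl⟩)
  have hg : Function.Injective g := fun a b hab => hι (congrArg Subtype.val hab)
  have hker : RingHom.ker ev ≤ RingHom.ker ((residue V).comp g) := by
    intro r hr
    rw [RingHom.mem_ker, RingHom.comp_apply, residue_eq_zero_iff]
    have h1 : ι r ∈ V.nonunits := hIV ⟨ι.rangeRestrict r, Ideal.mem_map_of_mem _ hr, rfl⟩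
    obtain ⟨ha, h2⟩ := V.mem_nonunits_iff_exists_mem_maximalIdeal.1 h1
    exact h2
  refine ⟨FractionRing (MvPolynomial Ω B), inferInstance, V, g.comp MvPolynomial.C,
    ev.liftOfSurjective hev ⟨(residue V).comp g, hker⟩, ?_, ?_⟩
  · exact hg.comp (MvPolynomial.C_injective Ω B)
  · ext b
    have h1 : ρ b = ev (MvPolynomial.C b) := by simp [ev]
    rw [RingHom.comp_apply, h1, RingHom.liftOfSurjective_comp_apply]
    rfl


section composite

variable {F : Type u} [Field F] (V : ValuationSubring F) (A₂ : ValuationSubring (ResidueField V))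

/-- The composite of a valuation subring `V` of `F` and a valuation subring `A₂` of the residue field of `V`:
the elements of `V` whose residue class lies in `A₂`. -/
noncomputable def compositeVal : ValuationSubring F :=
  ValuationSubring.ofSubring ((A₂.toSubring.comap (residue V)).map V.subtype) (by
    intro x
    by_cases hx0 : x = 0
    · left; rw [hx0]; exact Subring.zero_mem _
    rcases V.mem_or_inv_mem x with hx | hx
    · by_cases hu : (⟨x, hx⟩ : V) ∈ maximalIdeal V
      · left
        refine ⟨⟨x, hx⟩, ?_, rfl⟩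
        change residue V ⟨x, hx⟩ ∈ A₂
        rw [(residue_eq_zero_iff _).2 hu]; exact zero_mem _
      · have hunit : IsUnit (⟨x, hx⟩ : V) := by
          by_contra h; exact hu ((mem_maximalIdeal _).2 h)
        have hx' : x⁻¹ ∈ V := by
          obtain ⟨⟨a, b, hab, hba⟩, rfl : a = ⟨x, hx⟩⟩ := hunit
          have h1 : x * (b : F) = 1 := congrArg Subtype.val hab
          have h2 : x⁻¹ = (b : F) := by
            rw [← mul_one x⁻¹, ← h1, ← mul_assoc, inv_mul_cancel₀ hx0, one_mul]
          rw [h2]; exact b.2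
        have hmul : (⟨x, hx⟩ : V) * ⟨x⁻¹, hx'⟩ = 1 := Subtype.ext (mul_inv_cancel₀ hx0)
        have hres : residue V ⟨x, hx⟩ * residue V ⟨x⁻¹, hx'⟩ = 1 := by
          rw [← map_mul, hmul, map_one]
        rcases A₂.mem_or_inv_mem (residue V ⟨x, hx⟩) with h | h
        · left; exact ⟨⟨x, hx⟩, h, rfl⟩
        · right
          refine ⟨⟨x⁻¹, hx'⟩, ?_, rfl⟩
          change residue V ⟨x⁻¹, hx'⟩ ∈ A₂
          rw [eq_inv_of_mul_eq_one_right hres]; exact h
    · by_cases hu : (⟨x⁻¹, hx⟩ : V) ∈ maximalIdeal V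
      · right
        refine ⟨⟨x⁻¹, hx⟩, ?_, rfl⟩
        change residue V ⟨x⁻¹, hx⟩ ∈ A₂
        rw [(residue_eq_zero_iff _).2 hu]; exact zero_mem _
      · have hx0' : x⁻¹ ≠ 0 := inv_ne_zero hx0
        have hunit : IsUnit (⟨x⁻¹, hx⟩ : V) := by
          by_contra h; exact hu ((mem_maximalIdeal _).2 h)
        have hx' : x ∈ V := by
          obtain ⟨⟨a, b, hab, hba⟩, rfl : a = ⟨x⁻¹, hx⟩⟩ := hunit
          have h1 : x⁻¹ * (b : F) = 1 := congrArg Subtype.val hab
          have h2 : x = (b : F) := by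
            rw [← mul_one x, ← h1, ← mul_assoc, mul_inv_cancel₀ hx0, one_mul]
          rw [h2]; exact b.2
        have hmul : (⟨x, hx'⟩ : V) * ⟨x⁻¹, hx⟩ = 1 := Subtype.ext (mul_inv_cancel₀ hx0)
        have hres : residue V ⟨x, hx'⟩ * residue V ⟨x⁻¹, hx⟩ = 1 := by
          rw [← map_mul, hmul, map_one]
        rcases A₂.mem_or_inv_mem (residue V ⟨x, hx'⟩) with h | h
        · left; exact ⟨⟨x, hx'⟩, h, rfl⟩
        · right
          refine ⟨⟨x⁻¹, hx⟩, ?_, rfl⟩
          change residue V ⟨x⁻¹, hx⟩ ∈ A₂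
          rw [eq_inv_of_mul_eq_one_right hres]; exact h)

theorem mem_compositeVal {x : F} :
    x ∈ compositeVal V A₂ ↔ ∃ hx : x ∈ V, residue V ⟨x, hx⟩ ∈ A₂ := by
  constructor
  · rintro ⟨⟨y, hy⟩, h, rfl⟩
    exact ⟨hy, h⟩
  · rintro ⟨hx, h⟩
    exact ⟨⟨x, hx⟩, h, rfl⟩

theorem compositeVal_le : compositeVal V A₂ ≤ V := fun _ hx =>
  ((mem_compositeVal V A₂).1 hx).1

/-- The inclusion `C → V`. -/
noncomputable def compositeIncl : compositeVal V A₂ →+* V :=
  Subring.inclusion (compositeVal_le V A₂)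

/-- The residue map `C → A₂`. -/
noncomputable def compositeRes : compositeVal V A₂ →+* A₂ :=
  ((residue V).comp (compositeIncl V A₂)).codRestrict A₂ (fun x =>
    ((mem_compositeVal V A₂).1 x.2).2)

theorem compositeRes_coe (x : compositeVal V A₂) :
    (compositeRes V A₂ x : ResidueField V) = residue V (compositeIncl V A₂ x) := rfl

theorem compositeRes_surjective : Function.Surjective (compositeRes V A₂) := by
  rintro ⟨a, ha⟩
  obtain ⟨v, rfl⟩ := residue_surjective a
  exact ⟨⟨v.1, (mem_compositeVal V A₂).2 ⟨v.2, ha⟩⟩, Subtype.ext rfl⟩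

/-- `C` is the fibre product of `V` and `A₂` over the residue field of `V`. -/
theorem exists_lift_compositeVal {R : Type*} [CommRing R] (g₁ : R →+* V) (g₂ : R →+* A₂)
    (h : (residue V).comp g₁ = A₂.subtype.comp g₂) :
    ∃ g : R →+* compositeVal V A₂, (compositeIncl V A₂).comp g = g₁ ∧
      (compositeRes V A₂).comp g = g₂ := by
  have hmem : ∀ r, ((g₁ r : V) : F) ∈ compositeVal V A₂ := fun r =>
    (mem_compositeVal V A₂).2 ⟨(g₁ r).2, by
      have := congrArg (fun k => k r) h
      change residue V (g₁ r) = (g₂ r : ResidueField V) at this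
      change residue V (g₁ r) ∈ A₂
      rw [this]; exact (g₂ r).2⟩
  refine ⟨(V.subtype.comp g₁).codRestrict (compositeVal V A₂) hmem, ?_, ?_⟩
  · ext r; rfl
  · ext r
    have := congrArg (fun k => k r) h
    exact this


theorem compositeIncl_injective : Function.Injective (compositeIncl V A₂) :=
  Subring.inclusion_injective _

theorem compositeRes_eq_zero_iff (x : compositeVal V A₂) :
    compositeRes V A₂ x = 0 ↔ compositeIncl V A₂ x ∈ maximalIdeal V := by
  rw [← residue_eq_zero_iff, ← compositeRes_coe]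
  exact ⟨fun h => by rw [h]; rfl, fun h => Subtype.ext h⟩

instance : (RingHom.ker (compositeRes V A₂)).IsPrime := RingHom.ker_isPrime _

/-- `V` is the localization of the composite `C` at the kernel of `C → A₂`. -/
theorem isLocalization_compositeVal :
    @IsLocalization.AtPrime _ _ V _ (compositeIncl V A₂).toAlgebra
      (RingHom.ker (compositeRes V A₂)) _ := by
  letI := (compositeIncl V A₂).toAlgebra
  refine ⟨?_, ?_, ?_⟩
  · rintro ⟨y, hy⟩
    change IsUnit (compositeIncl V A₂ y)
    by_contra h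
    exact hy ((compositeRes_eq_zero_iff V A₂ y).2 ((mem_maximalIdeal _).2 h))
  · intro z
    by_cases hz : residue V z ∈ A₂
    · refine ⟨(⟨z.1, (mem_compositeVal V A₂).2 ⟨z.2, hz⟩⟩, 1), ?_⟩
      change z * compositeIncl V A₂ 1 = _
      rw [map_one, mul_one]; rfl
    · have hz' : (residue V z)⁻¹ ∈ A₂ := (A₂.mem_or_inv_mem _).resolve_left hz
      have hne : residue V z ≠ 0 := fun h0 => hz (by rw [h0]; exact zero_mem _)
      have hunit : IsUnit z := by
        by_contra h
        exact hne ((residue_eq_zero_iff _).2 ((mem_maximalIdeal _).2 h))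
      obtain ⟨u, rfl⟩ := hunit
      have hres : residue V (u⁻¹ : Vˣ) = (residue V (u : V))⁻¹ := by
        apply eq_inv_of_mul_eq_one_left
        rw [← map_mul, Units.inv_mul, map_one]
      have hmem : ((u⁻¹ : Vˣ) : V).1 ∈ compositeVal V A₂ :=
        (mem_compositeVal V A₂).2 ⟨((u⁻¹ : Vˣ) : V).2, by rw [hres]; exact hz'⟩
      have hnot : (⟨((u⁻¹ : Vˣ) : V).1, hmem⟩ : compositeVal V A₂) ∉
          RingHom.ker (compositeRes V A₂) := by
        intro hk
        rw [RingHom.mem_ker, compositeRes_eq_zero_iff] at hk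
        exact ((mem_maximalIdeal _).1 hk) (Units.isUnit (u⁻¹))
      refine ⟨(1, ⟨⟨((u⁻¹ : Vˣ) : V).1, hmem⟩, hnot⟩), ?_⟩
      change (u : V) * ((u⁻¹ : Vˣ) : V) = compositeIncl V A₂ 1
      rw [Units.mul_inv, map_one]
  · intro x y hxy
    exact ⟨1, by rw [compositeIncl_injective V A₂ hxy]⟩

end composite

section prime

/-- Any fraction field maps to the standard one. -/
theorem exists_fractionRing_lift (C' F' : Type u) [CommRing C'] [IsDomain C'] [Field F'] [Algebra C' F']
    [IsFractionRing C' F'] :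
    ∃ ψB : F' →+* FractionRing C', ψB.comp (algebraMap C' F') = algebraMap C' (FractionRing C') := by
  refine ⟨((FractionRing.algEquiv C' F').symm : F' →ₐ[C'] FractionRing C').toRingHom, ?_⟩
  ext x
  exact (FractionRing.algEquiv C' F').symm.commutes x

/-- The composite `C' → C'_𝔭' → Frac C'` is the canonical map. -/
theorem algebraMap_localization_fractionRing_comp (C' : Type u) [CommRing C'] [IsDomain C']
    (𝔭' : Ideal C') [𝔭'.IsPrime] :
    (algebraMap (Localization.AtPrime 𝔭') (FractionRing C')).comp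
      (algebraMap C' (Localization.AtPrime 𝔭')) = algebraMap C' (FractionRing C') :=
  (IsScalarTower.algebraMap_eq C' (Localization.AtPrime 𝔭') (FractionRing C')).symm

/-- A prime of a valuation ring lifts along an injective local homomorphism of valuation rings. -/
theorem exists_prime_liesOver_of_valuationRing {C C' : Type u} [CommRing C] [IsDomain C]
    [ValuationRing C] [CommRing C'] [IsDomain C'] [ValuationRing C'] (φ : C →+* C')
    (hinj : Function.Injective φ) [IsLocalHom φ] (𝔭 : Ideal C) [𝔭.IsPrime] :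
    ∃ 𝔭' : Ideal C', 𝔭'.IsPrime ∧ 𝔭'.comap φ = 𝔭 := by
  let _ := φ.toAlgebra
  have hfs : FaithfulSMul C C' := (faithfulSMul_iff_algebraMap_injective C C').2 hinj
  have htf : Module.IsTorsionFree C C' := inferInstance
  have hflat : Module.Flat C C' := by
    rw [Module.Flat.flat_iff_torsion_eq_bot_of_isBezout, ← Submodule.isTorsionFree_iff_torsion_eq_bot]
    exact htf
  have hloc : IsLocalHom (algebraMap C C') := ‹IsLocalHom φ›
  have hff : Module.FaithfullyFlat C C' := Module.FaithfullyFlat.of_flat_of_isLocalHom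
  obtain ⟨P, hP, hPo⟩ := Ideal.exists_isPrime_liesOver_of_faithfullyFlat (B := C') 𝔭
  exact ⟨P, hP, hPo.over.symm⟩

/-- The localization of a valuation ring at a prime is a valuation ring. -/
instance valuationRing_localization_atPrime {C' : Type u} [CommRing C'] [IsDomain C']
    [ValuationRing C'] (𝔭' : Ideal C') [𝔭'.IsPrime] : ValuationRing (Localization.AtPrime 𝔭') := by
  rw [ValuationRing.iff_dvd_total]
  refine ⟨fun a b => ?_⟩
  obtain ⟨⟨x, s⟩, hxs⟩ := IsLocalization.surj 𝔭'.primeCompl a
  obtain ⟨⟨y, t⟩, hyt⟩ := IsLocalization.surj 𝔭'.primeCompl b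
  have hs : IsUnit (algebraMap C' (Localization.AtPrime 𝔭') s) := IsLocalization.map_units _ s
  have ht : IsUnit (algebraMap C' (Localization.AtPrime 𝔭') t) := IsLocalization.map_units _ t
  obtain ⟨us, hus⟩ := hs
  obtain ⟨ut, hut⟩ := ht
  simp only at hxs hyt
  rw [← hus] at hxs
  rw [← hut] at hyt
  have key : ∀ {x y : C'}, x ∣ y →
      algebraMap C' (Localization.AtPrime 𝔭') x ∣ algebraMap C' (Localization.AtPrime 𝔭') y :=
    fun h => map_dvd _ h
  rcases ValuationRing.dvd_total x y with h | h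
  · left
    have := key h
    rw [← hxs, ← hyt, Units.mul_right_dvd, Units.dvd_mul_right] at this
    exact this
  · right
    have := key h
    rw [← hxs, ← hyt, Units.mul_right_dvd, Units.dvd_mul_right] at this
    exact this

end prime


section ext

variable {F : Type u} [Field F] (V : ValuationSubring F) (A₂ : ValuationSubring (ResidueField V))
  {C' : Type u} [CommRing C'] [IsDomain C'] [ValuationRing C'] (φ : compositeVal V A₂ →+* C')
  (𝔭' : Ideal C') [𝔭'.IsPrime] (h𝔭' : 𝔭'.comap φ = RingHom.ker (compositeRes V A₂))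

include h𝔭' in
theorem primeCompl_le_comap_of_comap_eq :
    (RingHom.ker (compositeRes V A₂)).primeCompl ≤ 𝔭'.primeCompl.comap φ := by
  intro x hx hx'
  apply hx
  rw [← h𝔭']
  exact hx'

/-- The map `V = C_𝔭 → C'_𝔭'` induced by `φ : C → C'` for a prime `𝔭'` over `𝔭`. -/
noncomputable def compositeLocMap : V →+* Localization.AtPrime 𝔭' :=
  letI := (compositeIncl V A₂).toAlgebra
  haveI := isLocalization_compositeVal V A₂
  IsLocalization.map (M := (RingHom.ker (compositeRes V A₂)).primeCompl) (S := V)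
    (T := 𝔭'.primeCompl) (Localization.AtPrime 𝔭') φ
    (primeCompl_le_comap_of_comap_eq V A₂ φ 𝔭' h𝔭')

theorem compositeLocMap_incl (x : compositeVal V A₂) :
    compositeLocMap V A₂ φ 𝔭' h𝔭' (compositeIncl V A₂ x) =
      algebraMap C' (Localization.AtPrime 𝔭') (φ x) := by
  letI := (compositeIncl V A₂).toAlgebra
  haveI := isLocalization_compositeVal V A₂
  exact IsLocalization.map_eq (M := (RingHom.ker (compositeRes V A₂)).primeCompl) (S := V)
    (T := 𝔭'.primeCompl) (Q := Localization.AtPrime 𝔭')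
    (primeCompl_le_comap_of_comap_eq V A₂ φ 𝔭' h𝔭') x

theorem compositeLocMap_comp :
    (compositeLocMap V A₂ φ 𝔭' h𝔭').comp (compositeIncl V A₂) =
      (algebraMap C' (Localization.AtPrime 𝔭')).comp φ :=
  RingHom.ext (compositeLocMap_incl V A₂ φ 𝔭' h𝔭')

theorem isLocalHom_compositeLocMap : IsLocalHom (compositeLocMap V A₂ φ 𝔭' h𝔭') := by
  refine ⟨fun v hv => ?_⟩
  letI := (compositeIncl V A₂).toAlgebra
  haveI := isLocalization_compositeVal V A₂
  obtain ⟨⟨c, s⟩, hcs⟩ := IsLocalization.surj (RingHom.ker (compositeRes V A₂)).primeCompl v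
  change v * compositeIncl V A₂ s = compositeIncl V A₂ c at hcs
  have h1 := congrArg (compositeLocMap V A₂ φ 𝔭' h𝔭') hcs
  rw [map_mul, compositeLocMap_incl, compositeLocMap_incl] at h1
  have hs : IsUnit (algebraMap C' (Localization.AtPrime 𝔭') (φ s)) :=
    IsLocalization.map_units (M := 𝔭'.primeCompl) _
      ⟨φ s, primeCompl_le_comap_of_comap_eq V A₂ φ 𝔭' h𝔭' s.2⟩
  have hc : IsUnit (algebraMap C' (Localization.AtPrime 𝔭') (φ c)) := by
    rw [← h1]; exact hv.mul hs
  have hc' : φ c ∈ 𝔭'.primeCompl :=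
    (IsLocalization.AtPrime.isUnit_to_map_iff (Localization.AtPrime 𝔭') 𝔭' (φ c)).1 hc
  have hc'' : c ∉ RingHom.ker (compositeRes V A₂) := by
    rw [← h𝔭']; exact hc'
  have hcu : IsUnit (compositeIncl V A₂ c) := by
    by_contra h
    exact hc'' ((compositeRes_eq_zero_iff V A₂ c).2 ((mem_maximalIdeal _).2 h))
  rw [← hcs] at hcu
  exact isUnit_of_mul_isUnit_left hcu

include h𝔭' in
theorem ker_compositeRes_le :
    RingHom.ker (compositeRes V A₂) ≤ RingHom.ker ((Ideal.Quotient.mk 𝔭').comp φ) := by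
  intro x hx
  rw [RingHom.mem_ker, RingHom.comp_apply, Ideal.Quotient.eq_zero_iff_mem]
  rw [← h𝔭'] at hx
  exact hx

/-- The map `A₂ = C/𝔭 → C'/𝔭'` induced by `φ`. -/
noncomputable def compositeQuotMap : A₂ →+* C' ⧸ 𝔭' :=
  (compositeRes V A₂).liftOfSurjective (compositeRes_surjective V A₂)
    ⟨(Ideal.Quotient.mk 𝔭').comp φ, ker_compositeRes_le V A₂ φ 𝔭' h𝔭'⟩

theorem compositeQuotMap_res (x : compositeVal V A₂) :
    compositeQuotMap V A₂ φ 𝔭' h𝔭' (compositeRes V A₂ x) = Ideal.Quotient.mk 𝔭' (φ x) :=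
  RingHom.liftOfSurjective_comp_apply _ _ _ x

theorem isLocalHom_compositeQuotMap [IsLocalHom φ] : IsLocalHom (compositeQuotMap V A₂ φ 𝔭' h𝔭') := by
  refine ⟨fun a ha => ?_⟩
  obtain ⟨x, rfl⟩ := compositeRes_surjective V A₂ a
  rw [compositeQuotMap_res] at ha
  have h1 : IsUnit (φ x) := by
    by_contra h
    have hm : φ x ∈ maximalIdeal C' := (mem_maximalIdeal _).2 h
    obtain ⟨b, hb⟩ := ha.exists_right_inv
    obtain ⟨y, rfl⟩ := Ideal.Quotient.mk_surjective b
    rw [← map_mul, ← map_one (Ideal.Quotient.mk 𝔭'), Ideal.Quotient.eq] at hb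
    have h2 : φ x * y - 1 ∈ maximalIdeal C' := le_maximalIdeal (Ideal.IsPrime.ne_top ‹_›) hb
    have h3 : (1 : C') ∈ maximalIdeal C' := by
      have := (maximalIdeal C').sub_mem ((maximalIdeal C').mul_mem_right y hm) h2
      simpa using this
    exact (Ideal.ne_top_iff_one _).1 (maximalIdeal.isMaximal C').ne_top h3
  exact (IsUnit.of_map φ x h1).map (compositeRes V A₂)

/-- The induced map on residue fields `κ(V) → κ(𝔭')`. -/
noncomputable def compositeResidueMap : ResidueField V →+* 𝔭'.ResidueField :=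
  @ResidueField.map _ _ _ _ _ _ (compositeLocMap V A₂ φ 𝔭' h𝔭')
    (isLocalHom_compositeLocMap V A₂ φ 𝔭' h𝔭')

theorem compositeResidueMap_residue (v : V) :
    compositeResidueMap V A₂ φ 𝔭' h𝔭' (residue V v) =
      residue (Localization.AtPrime 𝔭') (compositeLocMap V A₂ φ 𝔭' h𝔭' v) := rfl

theorem compositeResidueMap_subtype (a : A₂) :
    compositeResidueMap V A₂ φ 𝔭' h𝔭' (a : ResidueField V) =
      algebraMap (C' ⧸ 𝔭') 𝔭'.ResidueField (compositeQuotMap V A₂ φ 𝔭' h𝔭' a) := by
  obtain ⟨x, rfl⟩ := compositeRes_surjective V A₂ a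
  rw [compositeQuotMap_res, compositeRes_coe, compositeResidueMap_residue, compositeLocMap_incl,
    Ideal.algebraMap_quotient_residueField_mk]
  rfl

end ext

end Groth.Agent.H52
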