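import Mathlib

/-!
# Points in the closure of the image of a morphism of affine schemes (helper52)
-/

set_option autoImplicit false
universe u
open CategoryTheory CategoryTheory.Limits AlgebraicGeometry

namespace Groth.Agent.H52

/-- A point in the closure of the image of `Spec S → Spec R` is a specialization of a point in the image. -/
theorem exists_comap_specializes_of_mem_closure_range {R A : Type u} [CommRing R] [CommRing A]
    (f : R →+* A) (x : PrimeSpectrum R) (hx : x ∈ closure (Set.range (PrimeSpectrum.comap f))) :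
    ∃ p : PrimeSpectrum A, PrimeSpectrum.comap f p ⤳ x := by
  rw [PrimeSpectrum.closure_range_comap] at hx
  have hx' : (⊥ : Ideal A).comap f ≤ x.asIdeal := hx
  obtain ⟨q, hq₁, hq₂⟩ := Ideal.exists_minimalPrimes_le hx'
  obtain ⟨p', hp', -, hp''⟩ := Ideal.exists_comap_eq_of_mem_minimalPrimes f (I := ⊥) q hq₁
  refine ⟨⟨p', hp'⟩, ?_⟩
  rw [← PrimeSpectrum.le_iff_specializes]
  change Ideal.comap f p' ≤ x.asIdeal
  rw [hp'']
  exact hq₂

/-- A point in the closure of the image of a morphism of affine schemes is a specialization of a point in the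
image. -/
theorem exists_specializes_of_mem_closure_range {T W : Scheme.{u}} [IsAffine T] [IsAffine W]
    (g : T ⟶ W) (w : W) (hw : w ∈ closure (Set.range g)) : ∃ v : T, g v ⤳ w := by
  have hnat : T.isoSpec.hom ≫ Spec.map g.appTop = g ≫ W.isoSpec.hom :=
    Scheme.isoSpec_hom_naturality g
  have hx : W.isoSpec.hom w ∈ closure (Set.range (PrimeSpectrum.comap g.appTop.hom)) := by
    have h1 : W.isoSpec.hom w ∈ closure (W.isoSpec.hom '' Set.range g) :=
      image_closure_subset_closure_image W.isoSpec.hom.continuous (Set.mem_image_of_mem _ hw)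
    refine closure_mono ?_ h1
    rintro _ ⟨_, ⟨t, rfl⟩, rfl⟩
    refine ⟨T.isoSpec.hom t, ?_⟩
    have := congrArg (fun k : T ⟶ Spec Γ(W, ⊤) => k t) hnat
    simp only [Scheme.Hom.comp_apply] at this
    exact this
  obtain ⟨p, hp⟩ := exists_comap_specializes_of_mem_closure_range g.appTop.hom _ hx
  refine ⟨T.isoSpec.inv p, ?_⟩
  have hind : Topology.IsInducing W.isoSpec.hom :=
    (Scheme.homeoOfIso W.isoSpec).isInducing
  rw [← hind.specializes_iff]
  have h2 : W.isoSpec.hom (g (T.isoSpec.inv p)) = PrimeSpectrum.comap g.appTop.hom p := by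
    have := congrArg (fun k : T ⟶ Spec Γ(W, ⊤) => k (T.isoSpec.inv p)) hnat
    simp only [Scheme.Hom.comp_apply] at this
    rw [← this]
    have h3 : T.isoSpec.hom (T.isoSpec.inv p) = p := by
      rw [← Scheme.Hom.comp_apply, Iso.inv_hom_id]; rfl
    rw [h3]
    rfl
  rw [h2]
  exact hp

end Groth.Agent.H52
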