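import Mathlib
import Groth.Prelude.Def_AlgSpMor5

/-! Lifting a valuation ring along a flat morphism of schemes after a dominating extension. -/

set_option autoImplicit false
universe u
open CategoryTheory CategoryTheory.Limits AlgebraicGeometry

namespace Groth.Agent.H52

set_option backward.isDefEq.respectTransparency.types false in
/-- Scheme-level lemma: along a flat morphism `g : W ⟶ Spec A` with `A` a valuation ring and a point
`w` over the closed point, there is a valuation ring `A'` with an injective local homomorphism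
`A → A'` such that `Spec A' ⟶ Spec A` lifts to `W`. -/
theorem exists_valuationRing_lift_of_flat {A : Type u} [CommRing A] [IsDomain A] [ValuationRing A]
    {W : Scheme.{u}} (g : W ⟶ Spec (.of A)) [Flat g] (w : W)
    (hw : g w = IsLocalRing.closedPoint A) :
    ∃ (A' : Type u) (_ : CommRing A') (_ : IsDomain A') (_ : ValuationRing A') (φ : A →+* A'),
      Function.Injective φ ∧ IsLocalHom φ ∧
      ∃ l : Spec (.of A') ⟶ W, l ≫ g = Spec.map (CommRingCat.ofHom φ) := by
  let B : CommRingCat.{u} := W.presheaf.stalk w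
  let ρ : CommRingCat.of A ⟶ B := Spec.preimage (W.fromSpecStalk w ≫ g)
  have hρ : Spec.map ρ = W.fromSpecStalk w ≫ g := Spec.map_preimage _
  -- the generic point of `Spec A`
  let η : Spec (.of A) := (⟨⊥, Ideal.isPrime_bot⟩ : PrimeSpectrum A)
  have hη : η ⤳ g w := by
    rw [hw]; exact IsLocalRing.specializes_closedPoint (R := A) _
  obtain ⟨w', hw', hgw'⟩ := Flat.generalizingMap g hη
  have hmem : w' ∈ Set.range (W.fromSpecStalk w) := by
    rw [Scheme.range_fromSpecStalk]; exact hw'
  obtain ⟨𝔮, h𝔮⟩ := hmem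
  have hcomap : Spec.map ρ 𝔮 = η := by
    rw [hρ, Scheme.Hom.comp_apply, h𝔮, hgw']
  have hcomap' : Ideal.comap ρ.hom 𝔮.asIdeal = ⊥ := by
    have := congrArg PrimeSpectrum.asIdeal hcomap
    exact this
  -- `ρ` is a local homomorphism
  have hρloc : IsLocalHom ρ.hom := by
    have h1 : Spec.map ρ (IsLocalRing.closedPoint B) = IsLocalRing.closedPoint A := by
      rw [hρ, Scheme.Hom.comp_apply, Scheme.fromSpecStalk_closedPoint, hw]
    have h2 : Ideal.comap ρ.hom (IsLocalRing.maximalIdeal B) = IsLocalRing.maximalIdeal A := by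
      have := congrArg PrimeSpectrum.asIdeal h1
      exact this
    exact ((IsLocalRing.local_hom_TFAE ρ.hom).out 0 4).2 h2
  haveI : 𝔮.asIdeal.IsPrime := 𝔮.isPrime
  let K := FractionRing (B ⧸ 𝔮.asIdeal)
  let f : B →+* K := (algebraMap (B ⧸ 𝔮.asIdeal) K).comp (Ideal.Quotient.mk 𝔮.asIdeal)
  obtain ⟨A', hA', hloc⟩ := IsLocalRing.exists_factor_valuationRing f
  let c : B →+* A' := f.codRestrict A'.toSubring hA'
  refine ⟨A', inferInstance, inferInstance, inferInstance, c.comp ρ.hom, ?_, ?_, ?_⟩
  · rw [injective_iff_map_eq_zero]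
    intro a ha
    have h0 : f (ρ.hom a) = 0 := by
      have := congrArg (Subtype.val) ha
      exact this
    have h1 : Ideal.Quotient.mk 𝔮.asIdeal (ρ.hom a) = 0 := by
      apply (IsFractionRing.injective (B ⧸ 𝔮.asIdeal) K)
      rw [map_zero]; exact h0
    have h2 : a ∈ Ideal.comap ρ.hom 𝔮.asIdeal := by
      rw [Ideal.mem_comap]; exact Ideal.Quotient.eq_zero_iff_mem.1 h1
    rw [hcomap'] at h2
    exact h2
  · exact RingHom.isLocalHom_comp _ _
  · refine ⟨Spec.map (CommRingCat.ofHom c) ≫ W.fromSpecStalk w, ?_⟩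
    rw [Category.assoc, ← hρ, ← Spec.map_comp]
    rfl

end Groth.Agent.H52
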