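import Mathlib
import Groth.Prelude.Def_AlgSpMor5

/-!
# Restriction of valuative squares along extensions of valuation rings (helper52)
-/

set_option autoImplicit false
universe u
open CategoryTheory CategoryTheory.Limits AlgebraicGeometry
open AlgSp

namespace Groth.Agent.H52

variable {S : Scheme.{u}}

/-- Two composites `h_{m₁} ≫ g`, `h_{m₂} ≫ g` agree as soon as the underlying morphisms of schemes agree. -/
theorem yon_map_congr {T T' : Over S} {G : Sp S} {m₁ m₂ : T ⟶ T'} (g : (yon S).obj T' ⟶ G)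
    (h : m₁.left = m₂.left) : (yon S).map m₁ ≫ g = (yon S).map m₂ ≫ g := by
  rw [Over.OverMorphism.ext h]

theorem yon_map_congr₂₂ {T T₁ T₂ T' : Over S} {G : Sp S} (a₁ : T ⟶ T₁) (a₂ : T₁ ⟶ T') (b₁ : T ⟶ T₂)
    (b₂ : T₂ ⟶ T') (g : (yon S).obj T' ⟶ G) (h : a₁.left ≫ a₂.left = b₁.left ≫ b₂.left) :
    (yon S).map a₁ ≫ (yon S).map a₂ ≫ g = (yon S).map b₁ ≫ (yon S).map b₂ ≫ g := by
  rw [← Category.assoc, ← Category.assoc, ← Functor.map_comp, ← Functor.map_comp]
  exact yon_map_congr g h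

theorem yon_map_congr₂₁ {T T₁ T' : Over S} {G : Sp S} (a₁ : T ⟶ T₁) (a₂ : T₁ ⟶ T') (b : T ⟶ T')
    (g : (yon S).obj T' ⟶ G) (h : a₁.left ≫ a₂.left = b.left) :
    (yon S).map a₁ ≫ (yon S).map a₂ ≫ g = (yon S).map b ≫ g := by
  rw [← Category.assoc, ← Functor.map_comp]
  exact yon_map_congr g h

theorem yon_map_congr₃₁ {T T₁ T₂ T' : Over S} {G : Sp S} (a₁ : T ⟶ T₁) (a₂ : T₁ ⟶ T₂) (a₃ : T₂ ⟶ T')
    (b : T ⟶ T') (g : (yon S).obj T' ⟶ G) (h : a₁.left ≫ a₂.left ≫ a₃.left = b.left) :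
    (yon S).map a₁ ≫ (yon S).map a₂ ≫ (yon S).map a₃ ≫ g = (yon S).map b ≫ g := by
  rw [← Category.assoc ((yon S).map a₂), ← Functor.map_comp, ← Category.assoc, ← Functor.map_comp]
  exact yon_map_congr g (by simpa using h)

theorem yon_map_congr₃₂ {T T₁ T₂ T₃ T' : Over S} {G : Sp S} (a₁ : T ⟶ T₁) (a₂ : T₁ ⟶ T₂) (a₃ : T₂ ⟶ T')
    (b₁ : T ⟶ T₃) (b₂ : T₃ ⟶ T') (g : (yon S).obj T' ⟶ G)
    (h : a₁.left ≫ a₂.left ≫ a₃.left = b₁.left ≫ b₂.left) :
    (yon S).map a₁ ≫ (yon S).map a₂ ≫ (yon S).map a₃ ≫ g = (yon S).map b₁ ≫ (yon S).map b₂ ≫ g := by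
  rw [← Category.assoc ((yon S).map a₂), ← Functor.map_comp, ← Category.assoc, ← Functor.map_comp,
    ← Category.assoc ((yon S).map b₁), ← Functor.map_comp]
  exact yon_map_congr g (by simpa using h)

theorem specMap_ofHom_comp {A B C : Type u} [CommRing A] [CommRing B] [CommRing C] (φ : A →+* B)
    (ψ : B →+* C) :
    Spec.map (CommRingCat.ofHom (ψ.comp φ)) =
      Spec.map (CommRingCat.ofHom ψ) ≫ Spec.map (CommRingCat.ofHom φ) := by
  rw [CommRingCat.ofHom_comp, Spec.map_comp]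

variable {F G : Sp S} {f : F ⟶ G}

/-- The valuative square obtained by restricting along ring maps `A → A'`, `K → K'`. -/
noncomputable def restrictSq (sq : ValSq f) (A' : Type u) [CommRing A'] [IsDomain A']
    [ValuationRing A'] (K' : Type u) [Field K'] [Algebra A' K'] [IsFractionRing A' K']
    (φ : sq.A →+* A') (ψ : sq.K →+* K')
    (comm : (algebraMap A' K').comp φ = ψ.comp (algebraMap sq.A sq.K)) : ValSq f where
  A := A'
  K := K'
  str := Spec.map (CommRingCat.ofHom φ) ≫ sq.str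
  top := (yon S).map (Over.homMk (Spec.map (CommRingCat.ofHom ψ)) (by
      change Spec.map _ ≫ Spec.map _ ≫ _ = Spec.map _ ≫ Spec.map _ ≫ _
      rw [← Spec.map_comp_assoc, ← Spec.map_comp_assoc, ← CommRingCat.ofHom_comp,
        ← CommRingCat.ofHom_comp, comm]) :
    Over.mk (Spec.map (CommRingCat.ofHom (algebraMap A' K')) ≫
      Spec.map (CommRingCat.ofHom φ) ≫ sq.str) ⟶ sq.ptK) ≫ sq.top
  bot := (yon S).map (Over.homMk (Spec.map (CommRingCat.ofHom φ)) rfl :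
    Over.mk (Spec.map (CommRingCat.ofHom φ) ≫ sq.str) ⟶ sq.ptA) ≫ sq.bot
  comm := by
    rw [Category.assoc, sq.comm]
    refine yon_map_congr₂₂ _ _ _ _ _ ?_
    change Spec.map _ ≫ Spec.map _ = Spec.map _ ≫ Spec.map _
    rw [← Spec.map_comp, ← Spec.map_comp, ← CommRingCat.ofHom_comp, ← CommRingCat.ofHom_comp, comm]

/-- A dotted arrow for the restricted square along a local homomorphism is a dotted arrow after extension. -/
theorem hasLiftExt_of_restrictSq_hasLift (sq : ValSq f) (A' : Type u) [CommRing A'] [IsDomain A']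
    [ValuationRing A'] (K' : Type u) [Field K'] [Algebra A' K'] [IsFractionRing A' K']
    (φ : sq.A →+* A') (ψ : sq.K →+* K')
    (comm : (algebraMap A' K').comp φ = ψ.comp (algebraMap sq.A sq.K)) (hloc : IsLocalHom φ)
    (h : (restrictSq sq A' K' φ ψ comm).HasLift) : sq.HasLiftExt :=
  ⟨⟨A', K', φ, ψ, comm, hloc⟩, h⟩

/-- Restricting a dotted arrow of an extension `e` further along `A' → A''`. -/
theorem isLift_restrictSq_of_domExt {sq : ValSq f} (e : sq.DomExt)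
    (l : (yon S).obj e.ptA' ⟶ F)
    (hl1 : (yon S).map (Over.homMk (Spec.map (CommRingCat.ofHom (algebraMap e.A' e.K'))) rfl :
        e.ptK' ⟶ e.ptA') ≫ l =
      (restrictSq sq e.A' e.K' e.φ e.ψ e.comm).top)
    (hl2 : l ≫ f = (restrictSq sq e.A' e.K' e.φ e.ψ e.comm).bot)
    (A'' : Type u) [CommRing A''] [IsDomain A''] [ValuationRing A''] (K'' : Type u) [Field K'']
    [Algebra A'' K''] [IsFractionRing A'' K''] (φ' : e.A' →+* A'') (ψ' : e.K' →+* K'')
    (comm' : (algebraMap A'' K'').comp φ' = ψ'.comp (algebraMap e.A' e.K'))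
    (comm'' : (algebraMap A'' K'').comp (φ'.comp e.φ) = (ψ'.comp e.ψ).comp (algebraMap sq.A sq.K))
    (m : (restrictSq sq A'' K'' (φ'.comp e.φ) (ψ'.comp e.ψ) comm'').ptA ⟶ e.ptA')
    (hm : m.left = Spec.map (CommRingCat.ofHom φ')) :
    (yon S).map (restrictSq sq A'' K'' (φ'.comp e.φ) (ψ'.comp e.ψ) comm'').j ≫ (yon S).map m ≫ l =
        (restrictSq sq A'' K'' (φ'.comp e.φ) (ψ'.comp e.ψ) comm'').top ∧
      ((yon S).map m ≫ l) ≫ f = (restrictSq sq A'' K'' (φ'.comp e.φ) (ψ'.comp e.ψ) comm'').bot := by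
  constructor
  · -- the `K''`-point
    have hw : Spec.map (CommRingCat.ofHom ψ') ≫ (Spec.map (CommRingCat.ofHom (algebraMap e.A' e.K')) ≫
        Spec.map (CommRingCat.ofHom e.φ) ≫ sq.str) =
        Spec.map (CommRingCat.ofHom (algebraMap A'' K'')) ≫
          Spec.map (CommRingCat.ofHom (φ'.comp e.φ)) ≫ sq.str := by
      rw [← Category.assoc, ← specMap_ofHom_comp, ← comm', specMap_ofHom_comp, specMap_ofHom_comp]
      simp only [Category.assoc]
    let mK : (restrictSq sq A'' K'' (φ'.comp e.φ) (ψ'.comp e.ψ) comm'').ptK ⟶ e.ptK' :=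
      Over.homMk (Spec.map (CommRingCat.ofHom ψ')) hw
    have h1 : (restrictSq sq A'' K'' (φ'.comp e.φ) (ψ'.comp e.ψ) comm'').j ≫ m =
        mK ≫ (Over.homMk (Spec.map (CommRingCat.ofHom (algebraMap e.A' e.K'))) rfl :
          e.ptK' ⟶ e.ptA') := by
      apply Over.OverMorphism.ext
      rw [Over.comp_left, Over.comp_left, hm]
      change Spec.map (CommRingCat.ofHom (algebraMap A'' K'')) ≫ Spec.map (CommRingCat.ofHom φ') =
        Spec.map (CommRingCat.ofHom ψ') ≫ Spec.map (CommRingCat.ofHom (algebraMap e.A' e.K'))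
      rw [← specMap_ofHom_comp, ← specMap_ofHom_comp, comm']
    rw [← Category.assoc, ← Functor.map_comp, h1, Functor.map_comp, Category.assoc, hl1]
    refine yon_map_congr₂₁ _ _ _ _ ?_
    exact (specMap_ofHom_comp e.ψ ψ').symm
  · rw [Category.assoc, hl2]
    refine yon_map_congr₂₁ _ _ _ _ ?_
    rw [hm]
    exact (specMap_ofHom_comp e.φ φ').symm

/-- Transitivity: a dotted arrow after an extension of an extended square is a dotted arrow after an extension. -/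
theorem hasLiftExt_of_restrictSq_hasLiftExt (sq : ValSq f) (e : sq.DomExt)
    (h : (restrictSq sq e.A' e.K' e.φ e.ψ e.comm).HasLiftExt) : sq.HasLiftExt := by
  obtain ⟨e₂, l, hl1, hl2⟩ := h
  have comm'' : (algebraMap e₂.A' e₂.K').comp (e₂.φ.comp e.φ) =
      (e₂.ψ.comp e.ψ).comp (algebraMap sq.A sq.K) := by
    rw [← RingHom.comp_assoc, e₂.comm, RingHom.comp_assoc, RingHom.comp_assoc]
    congr 1
    exact e.comm
  have hloc : IsLocalHom (e₂.φ.comp e.φ) :=
    @RingHom.isLocalHom_comp _ _ _ _ _ _ _ _ e₂.isLocalHom e.isLocalHom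
  refine hasLiftExt_of_restrictSq_hasLift sq e₂.A' e₂.K' (e₂.φ.comp e.φ) (e₂.ψ.comp e.ψ) comm'' hloc ?_
  have hw : 𝟙 _ ≫ (Spec.map (CommRingCat.ofHom e₂.φ) ≫ Spec.map (CommRingCat.ofHom e.φ) ≫ sq.str) =
      Spec.map (CommRingCat.ofHom (e₂.φ.comp e.φ)) ≫ sq.str := by
    rw [Category.id_comp, specMap_ofHom_comp, Category.assoc]
  let m : (restrictSq sq e₂.A' e₂.K' (e₂.φ.comp e.φ) (e₂.ψ.comp e.ψ) comm'').ptA ⟶ e₂.ptA' :=
    Over.homMk (𝟙 _) hw
  refine ⟨(yon S).map m ≫ l, ?_, ?_⟩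
  · have hwK : 𝟙 _ ≫ (Spec.map (CommRingCat.ofHom (algebraMap e₂.A' e₂.K')) ≫
        Spec.map (CommRingCat.ofHom e₂.φ) ≫ Spec.map (CommRingCat.ofHom e.φ) ≫ sq.str) =
        Spec.map (CommRingCat.ofHom (algebraMap e₂.A' e₂.K')) ≫
          Spec.map (CommRingCat.ofHom (e₂.φ.comp e.φ)) ≫ sq.str := by
      rw [Category.id_comp, specMap_ofHom_comp, Category.assoc]
    let mK : (restrictSq sq e₂.A' e₂.K' (e₂.φ.comp e.φ) (e₂.ψ.comp e.ψ) comm'').ptK ⟶ e₂.ptK' :=
      Over.homMk (𝟙 _) hwK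
    have h1 : (restrictSq sq e₂.A' e₂.K' (e₂.φ.comp e.φ) (e₂.ψ.comp e.ψ) comm'').j ≫ m =
        mK ≫ (Over.homMk (Spec.map (CommRingCat.ofHom (algebraMap e₂.A' e₂.K'))) rfl :
          e₂.ptK' ⟶ e₂.ptA') := by
      apply Over.OverMorphism.ext
      change Spec.map _ ≫ 𝟙 _ = 𝟙 _ ≫ Spec.map _
      rw [Category.comp_id, Category.id_comp]
      rfl
    rw [← Category.assoc, ← Functor.map_comp, h1, Functor.map_comp, Category.assoc, hl1]
    refine yon_map_congr₃₁ _ _ _ _ _ ?_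
    exact (Category.id_comp _).trans (specMap_ofHom_comp e.ψ e₂.ψ).symm
  · rw [Category.assoc, hl2]
    refine yon_map_congr₃₁ _ _ _ _ _ ?_
    exact (Category.id_comp _).trans (specMap_ofHom_comp e.φ e₂.φ).symm

end Groth.Agent.H52
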