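import Mathlib
import Groth.Prelude.Def_AlgSpMor5
import Groth.Agent.H52.ValComp
import Groth.Agent.H52.ValSqExt

/-!
# The refined valuative criterion: the composite valuation ring step (helper52)
-/

set_option autoImplicit false
universe u
open CategoryTheory CategoryTheory.Limits AlgebraicGeometry
open AlgSp IsLocalRing

namespace Groth.Agent.H52

/-- `Spec` of the composite valuation ring is the pushout of `Spec V` and `Spec A₂` along `Spec κ(V)`, for maps
to affine schemes. -/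
theorem exists_spec_compositeVal_hom {T : Scheme.{u}} [IsAffine T] {F : Type u} [Field F]
    (V : ValuationSubring F) (A₂ : ValuationSubring (ResidueField V))
    (m₁ : Spec (.of V) ⟶ T) (m₂ : Spec (.of A₂) ⟶ T)
    (h : Spec.map (CommRingCat.ofHom (residue V)) ≫ m₁ =
      Spec.map (CommRingCat.ofHom A₂.subtype) ≫ m₂) :
    ∃ m : Spec (.of (compositeVal V A₂)) ⟶ T,
      Spec.map (CommRingCat.ofHom (compositeIncl V A₂)) ≫ m = m₁ ∧
      Spec.map (CommRingCat.ofHom (compositeRes V A₂)) ≫ m = m₂ := by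
  let g₁ : Γ(T, ⊤) ⟶ .of V := Spec.preimage (m₁ ≫ T.isoSpec.hom)
  have hg₁ : Spec.map g₁ = m₁ ≫ T.isoSpec.hom := Spec.map_preimage _
  let g₂ : Γ(T, ⊤) ⟶ .of A₂ := Spec.preimage (m₂ ≫ T.isoSpec.hom)
  have hg₂ : Spec.map g₂ = m₂ ≫ T.isoSpec.hom := Spec.map_preimage _
  have hcompat : (residue V).comp g₁.hom = A₂.subtype.comp g₂.hom := by
    have : g₁ ≫ CommRingCat.ofHom (residue V) = g₂ ≫ CommRingCat.ofHom A₂.subtype := by
      apply Spec.map_injective
      rw [Spec.map_comp, Spec.map_comp, hg₁, hg₂, ← Category.assoc, h, Category.assoc]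
    exact congrArg CommRingCat.Hom.hom this
  obtain ⟨g, hg1, hg2⟩ := exists_lift_compositeVal V A₂ g₁.hom g₂.hom hcompat
  refine ⟨Spec.map (CommRingCat.ofHom g) ≫ T.isoSpec.inv, ?_, ?_⟩
  · rw [← Category.assoc, ← specMap_ofHom_comp, hg1]
    change Spec.map g₁ ≫ _ = _
    rw [hg₁, Category.assoc, Iso.hom_inv_id, Category.comp_id]
  · rw [← Category.assoc, ← specMap_ofHom_comp, hg2]
    change Spec.map g₂ ≫ _ = _
    rw [hg₂, Category.assoc, Iso.hom_inv_id, Category.comp_id]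


variable {S : Scheme.{u}}

set_option backward.isDefEq.respectTransparency.types false in
/-- The composite valuation ring step of the refined valuative criterion. -/
theorem hasLiftExt_of_composite {X Y U : Sp S} (f : X ⟶ Y) (h : U ⟶ X)
    (hv : ∀ sq : ValSq f, (∃ t : (yon S).obj sq.ptK ⟶ U, t ≫ h = sq.top) →
      sq.HasUniq ∧ sq.HasLiftExt)
    (sq₁ : ValSq f) (Y' : Over S) [IsAffine Y'.left] (b : (yon S).obj Y' ⟶ Y) (β : sq₁.ptA ⟶ Y')
    (hβ : (yon S).map β ≫ b = sq₁.bot)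
    {F₂ : Type u} [Field F₂] (V : ValuationSubring F₂) (μ : Spec (.of V) ⟶ Y'.left)
    (ξ : (yon S).obj (Over.mk (μ ≫ Y'.hom)) ⟶ X)
    (hξ : ξ ≫ f = (yon S).map (Over.homMk μ rfl : Over.mk (μ ≫ Y'.hom) ⟶ Y') ≫ b)
    (t : (yon S).obj (Over.mk (Spec.map (CommRingCat.ofHom (algebraMap V F₂)) ≫ μ ≫ Y'.hom)) ⟶ U)
    (ht : t ≫ h = (yon S).map (Over.homMk (Spec.map (CommRingCat.ofHom (algebraMap V F₂))) rfl :
      Over.mk (Spec.map (CommRingCat.ofHom (algebraMap V F₂)) ≫ μ ≫ Y'.hom) ⟶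
        Over.mk (μ ≫ Y'.hom)) ≫ ξ)
    (θ : sq₁.K →+* ResidueField V)
    (hθY : Spec.map (CommRingCat.ofHom θ) ≫
        Spec.map (CommRingCat.ofHom (algebraMap sq₁.A sq₁.K)) ≫ β.left =
      Spec.map (CommRingCat.ofHom (residue V)) ≫ μ)
    (θ' : Over.mk (Spec.map (CommRingCat.ofHom (residue V)) ≫ μ ≫ Y'.hom) ⟶ sq₁.ptK)
    (hθ' : θ'.left = Spec.map (CommRingCat.ofHom θ))
    (hθX : (yon S).map θ' ≫ sq₁.top =
      (yon S).map (Over.homMk (Spec.map (CommRingCat.ofHom (residue V))) rfl :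
        Over.mk (Spec.map (CommRingCat.ofHom (residue V)) ≫ μ ≫ Y'.hom) ⟶
          Over.mk (μ ≫ Y'.hom)) ≫ ξ) :
    sq₁.HasLiftExt := by
  classical
  -- Step 1: a valuation ring `A₂` of `κ(V)` dominating `A`
  obtain ⟨A₂, hA₂, hloc⟩ :=
    IsLocalRing.exists_factor_valuationRing (θ.comp (algebraMap sq₁.A sq₁.K))
  let α : sq₁.A →+* A₂ := (θ.comp (algebraMap sq₁.A sq₁.K)).codRestrict A₂ hA₂
  have hαloc : IsLocalHom α := hloc
  have hα : A₂.subtype.comp α = θ.comp (algebraMap sq₁.A sq₁.K) := by ext a; rfl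
  -- Step 2: gluing
  have hcompat : Spec.map (CommRingCat.ofHom (residue V)) ≫ μ =
      Spec.map (CommRingCat.ofHom A₂.subtype) ≫ (Spec.map (CommRingCat.ofHom α) ≫ β.left) := by
    rw [← Category.assoc, ← specMap_ofHom_comp, hα, specMap_ofHom_comp, Category.assoc, hθY]
  obtain ⟨mC, hmC1, hmC2⟩ :=
    exists_spec_compositeVal_hom V A₂ μ (Spec.map (CommRingCat.ofHom α) ≫ β.left) hcompat
  have hCF : algebraMap (compositeVal V A₂) F₂ = (algebraMap V F₂).comp (compositeIncl V A₂) := by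
    ext x; rfl
  -- Step 3: the square over the composite
  have hτ : Spec.map (CommRingCat.ofHom (algebraMap V F₂)) ≫ μ =
      Spec.map (CommRingCat.ofHom (algebraMap (compositeVal V A₂) F₂)) ≫ mC := by
    rw [hCF, specMap_ofHom_comp (compositeIncl V A₂) (algebraMap V F₂), Category.assoc, hmC1]
  have hwτ : Spec.map (CommRingCat.ofHom (algebraMap V F₂)) ≫ (μ ≫ Y'.hom) =
      Spec.map (CommRingCat.ofHom (algebraMap (compositeVal V A₂) F₂)) ≫ mC ≫ Y'.hom := by
    rw [← Category.assoc, hτ, Category.assoc]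
  let τ : Over.mk (Spec.map (CommRingCat.ofHom (algebraMap (compositeVal V A₂) F₂)) ≫ mC ≫ Y'.hom) ⟶
      Over.mk (μ ≫ Y'.hom) := Over.homMk (Spec.map (CommRingCat.ofHom (algebraMap V F₂))) hwτ
  let sqC : ValSq f :=
    { A := compositeVal V A₂
      K := F₂
      str := mC ≫ Y'.hom
      top := (yon S).map τ ≫ ξ
      bot := (yon S).map (Over.homMk mC rfl : Over.mk (mC ≫ Y'.hom) ⟶ Y') ≫ b
      comm := by
        rw [Category.assoc, hξ]
        exact yon_map_congr₂₂ _ _ _ _ _ hτ }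
  have hwU : 𝟙 _ ≫ (Spec.map (CommRingCat.ofHom (algebraMap V F₂)) ≫ μ ≫ Y'.hom) =
      Spec.map (CommRingCat.ofHom (algebraMap (compositeVal V A₂) F₂)) ≫ mC ≫ Y'.hom := by
    rw [Category.id_comp]; exact hwτ
  let ιU : sqC.ptK ⟶ Over.mk (Spec.map (CommRingCat.ofHom (algebraMap V F₂)) ≫ μ ≫ Y'.hom) :=
    Over.homMk (𝟙 _) hwU
  have hU : ∃ t' : (yon S).obj sqC.ptK ⟶ U, t' ≫ h = sqC.top :=
    ⟨(yon S).map ιU ≫ t, by
      rw [Category.assoc, ht]
      exact yon_map_congr₂₁ _ _ _ _ (Category.id_comp _)⟩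
  obtain ⟨-, e, l, hl1, hl2⟩ := hv sqC hU
  -- Step 4: the prime over `𝔭`
  have hφinj : Function.Injective e.φ := by
    have h1 : Function.Injective ((algebraMap e.A' e.K').comp e.φ) := by
      rw [e.comm]
      exact (e.ψ.injective).comp (IsFractionRing.injective (compositeVal V A₂) F₂)
    exact Function.Injective.of_comp h1
  haveI := e.isLocalHom
  obtain ⟨𝔭', h𝔭'prime, h𝔭'⟩ := exists_prime_liesOver_of_valuationRing (C := compositeVal V A₂)
    e.φ hφinj (RingHom.ker (compositeRes V A₂))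
  haveI := h𝔭'prime
  have hlam : (compositeLocMap V A₂ e.φ 𝔭' h𝔭').comp (compositeIncl V A₂) =
      (algebraMap e.A' (Localization.AtPrime 𝔭')).comp e.φ := compositeLocMap_comp V A₂ e.φ 𝔭' h𝔭'
  obtain ⟨ψB, hψB⟩ := exists_fractionRing_lift e.A' e.K'
  have commB' : (algebraMap (Localization.AtPrime 𝔭') (FractionRing e.A')).comp
      (algebraMap e.A' (Localization.AtPrime 𝔭')) = ψB.comp (algebraMap e.A' e.K') := by
    rw [hψB]
    exact algebraMap_localization_fractionRing_comp e.A' 𝔭'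
  have commB : (algebraMap (Localization.AtPrime 𝔭') (FractionRing e.A')).comp
      ((algebraMap e.A' (Localization.AtPrime 𝔭')).comp e.φ) =
      (ψB.comp e.ψ).comp (algebraMap sqC.A sqC.K) := by
    rw [← RingHom.comp_assoc, commB', RingHom.comp_assoc, RingHom.comp_assoc]
    congr 1
    exact e.comm
  -- the first dotted arrow over `B'`
  have hwm₁ : Spec.map (CommRingCat.ofHom (algebraMap e.A' (Localization.AtPrime 𝔭'))) ≫
      (Spec.map (CommRingCat.ofHom e.φ) ≫ sqC.str) =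
      Spec.map (CommRingCat.ofHom ((algebraMap e.A' (Localization.AtPrime 𝔭')).comp e.φ)) ≫ sqC.str := by
    rw [specMap_ofHom_comp e.φ (algebraMap e.A' (Localization.AtPrime 𝔭')), Category.assoc]
  let m₁ : (restrictSq sqC (Localization.AtPrime 𝔭') (FractionRing e.A')
      ((algebraMap e.A' (Localization.AtPrime 𝔭')).comp e.φ) (ψB.comp e.ψ) commB).ptA ⟶ e.ptA' :=
    Over.homMk (Spec.map (CommRingCat.ofHom (algebraMap e.A' (Localization.AtPrime 𝔭')))) hwm₁
  obtain ⟨hL1a, hL1b⟩ := isLift_restrictSq_of_domExt e l hl1 hl2 (Localization.AtPrime 𝔭')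
    (FractionRing e.A') (algebraMap e.A' (Localization.AtPrime 𝔭')) ψB commB'
    commB m₁ rfl
  -- the second dotted arrow over `B'`
  have hm₂ : Spec.map (CommRingCat.ofHom (compositeLocMap V A₂ e.φ 𝔭' h𝔭')) ≫ μ =
      Spec.map (CommRingCat.ofHom ((algebraMap e.A' (Localization.AtPrime 𝔭')).comp e.φ)) ≫ mC := by
    rw [← hmC1, ← Category.assoc, ← specMap_ofHom_comp, hlam]
  have hwm₂ : Spec.map (CommRingCat.ofHom (compositeLocMap V A₂ e.φ 𝔭' h𝔭')) ≫ (μ ≫ Y'.hom) =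
      Spec.map (CommRingCat.ofHom ((algebraMap e.A' (Localization.AtPrime 𝔭')).comp e.φ)) ≫
        mC ≫ Y'.hom := by
    rw [← Category.assoc, hm₂, Category.assoc]
  let m₂ : (restrictSq sqC (Localization.AtPrime 𝔭') (FractionRing e.A')
      ((algebraMap e.A' (Localization.AtPrime 𝔭')).comp e.φ) (ψB.comp e.ψ) commB).ptA ⟶
      Over.mk (μ ≫ Y'.hom) :=
    Over.homMk (Spec.map (CommRingCat.ofHom (compositeLocMap V A₂ e.φ 𝔭' h𝔭'))) hwm₂
  have hringB : (algebraMap (Localization.AtPrime 𝔭') (FractionRing e.A')).comp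
      (compositeLocMap V A₂ e.φ 𝔭' h𝔭') = (ψB.comp e.ψ).comp (algebraMap V F₂) := by
    letI := (compositeIncl V A₂).toAlgebra
    haveI := isLocalization_compositeVal V A₂
    apply IsLocalization.ringHom_ext (RingHom.ker (compositeRes V A₂)).primeCompl
    change ((algebraMap (Localization.AtPrime 𝔭') (FractionRing e.A')).comp
      (compositeLocMap V A₂ e.φ 𝔭' h𝔭')).comp (compositeIncl V A₂) =
      ((ψB.comp e.ψ).comp (algebraMap V F₂)).comp (compositeIncl V A₂)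
    rw [RingHom.comp_assoc, hlam, ← RingHom.comp_assoc, commB']
    simp only [RingHom.comp_assoc]
    rw [← hCF]
    congr 1
    exact e.comm
  have hL2a : (yon S).map (restrictSq sqC (Localization.AtPrime 𝔭')
      (FractionRing e.A') ((algebraMap e.A' (Localization.AtPrime 𝔭')).comp e.φ)
      (ψB.comp e.ψ) commB).j ≫ (yon S).map m₂ ≫ ξ =
      (restrictSq sqC (Localization.AtPrime 𝔭') (FractionRing e.A')
        ((algebraMap e.A' (Localization.AtPrime 𝔭')).comp e.φ) (ψB.comp e.ψ) commB).top := by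
    change _ = (yon S).map _ ≫ (yon S).map τ ≫ ξ
    refine yon_map_congr₂₂ _ _ _ _ _ ?_
    change Spec.map (CommRingCat.ofHom (algebraMap (Localization.AtPrime 𝔭')
        (FractionRing e.A'))) ≫
      Spec.map (CommRingCat.ofHom (compositeLocMap V A₂ e.φ 𝔭' h𝔭')) =
      Spec.map (CommRingCat.ofHom (ψB.comp e.ψ)) ≫ Spec.map (CommRingCat.ofHom (algebraMap V F₂))
    rw [← specMap_ofHom_comp, ← specMap_ofHom_comp, hringB]
  have hL2b : ((yon S).map m₂ ≫ ξ) ≫ f =
      (restrictSq sqC (Localization.AtPrime 𝔭') (FractionRing e.A')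
        ((algebraMap e.A' (Localization.AtPrime 𝔭')).comp e.φ) (ψB.comp e.ψ) commB).bot := by
    rw [Category.assoc, hξ]
    change _ = (yon S).map _ ≫ (yon S).map (Over.homMk mC rfl : Over.mk (mC ≫ Y'.hom) ⟶ Y') ≫ b
    exact yon_map_congr₂₂ _ _ _ _ _ hm₂
  have hUB : ∃ t' : (yon S).obj (restrictSq sqC (Localization.AtPrime 𝔭')
      (FractionRing e.A') ((algebraMap e.A' (Localization.AtPrime 𝔭')).comp e.φ)
      (ψB.comp e.ψ) commB).ptK ⟶ U, t' ≫ h =
      (restrictSq sqC (Localization.AtPrime 𝔭') (FractionRing e.A')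
        ((algebraMap e.A' (Localization.AtPrime 𝔭')).comp e.φ) (ψB.comp e.ψ) commB).top := by
    obtain ⟨t', ht'⟩ := hU
    exact ⟨(yon S).map _ ≫ t', by rw [Category.assoc, ht']; rfl⟩
  have hL : (yon S).map m₁ ≫ l = (yon S).map m₂ ≫ ξ :=
    (hv _ hUB).1 _ _ hL1a hL1b hL2a hL2b
  -- Step 5: the final extension
  have hA''val : ValuationRing (e.A' ⧸ 𝔭') :=
    Function.Surjective.valuationRing (Ideal.Quotient.mk 𝔭') Ideal.Quotient.mk_surjective
  have commt : (algebraMap (e.A' ⧸ 𝔭') 𝔭'.ResidueField).comp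
      ((compositeQuotMap V A₂ e.φ 𝔭' h𝔭').comp α) =
      ((compositeResidueMap V A₂ e.φ 𝔭' h𝔭').comp θ).comp (algebraMap sq₁.A sq₁.K) := by
    ext a
    exact (compositeResidueMap_subtype V A₂ e.φ 𝔭' h𝔭' (α a)).symm
  have hloct : IsLocalHom ((compositeQuotMap V A₂ e.φ 𝔭' h𝔭').comp α) := by
    haveI := isLocalHom_compositeQuotMap V A₂ e.φ 𝔭' h𝔭'
    exact RingHom.isLocalHom_comp _ _
  refine hasLiftExt_of_restrictSq_hasLift sq₁ (e.A' ⧸ 𝔭') 𝔭'.ResidueField
    ((compositeQuotMap V A₂ e.φ 𝔭' h𝔭').comp α) ((compositeResidueMap V A₂ e.φ 𝔭' h𝔭').comp θ)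
    commt hloct ?_
  have hkey : Spec.map (CommRingCat.ofHom (Ideal.Quotient.mk 𝔭')) ≫
      Spec.map (CommRingCat.ofHom e.φ) ≫ mC =
      Spec.map (CommRingCat.ofHom ((compositeQuotMap V A₂ e.φ 𝔭' h𝔭').comp α)) ≫ β.left := by
    rw [specMap_ofHom_comp, Category.assoc, ← hmC2, ← Category.assoc, ← Category.assoc,
      ← specMap_ofHom_comp, ← specMap_ofHom_comp]
    congr 3
    ext x
    exact (compositeQuotMap_res V A₂ e.φ 𝔭' h𝔭' x).symm
  have hwm₃ : Spec.map (CommRingCat.ofHom (Ideal.Quotient.mk 𝔭')) ≫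
      (Spec.map (CommRingCat.ofHom e.φ) ≫ mC ≫ Y'.hom) =
      Spec.map (CommRingCat.ofHom ((compositeQuotMap V A₂ e.φ 𝔭' h𝔭').comp α)) ≫ sq₁.str := by
    have h1 : sq₁.str = β.left ≫ Y'.hom := (Over.w β).symm
    rw [h1, ← Category.assoc _ β.left, ← hkey]
    simp only [Category.assoc]
  let m₃ : (restrictSq sq₁ (e.A' ⧸ 𝔭') 𝔭'.ResidueField
      ((compositeQuotMap V A₂ e.φ 𝔭' h𝔭').comp α) ((compositeResidueMap V A₂ e.φ 𝔭' h𝔭').comp θ)
      commt).ptA ⟶ e.ptA' :=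
    Over.homMk (Spec.map (CommRingCat.ofHom (Ideal.Quotient.mk 𝔭'))) hwm₃
  refine ⟨(yon S).map m₃ ≫ l, ?_, ?_⟩
  · -- the generic point
    have hring1 : (algebraMap (e.A' ⧸ 𝔭') 𝔭'.ResidueField).comp (Ideal.Quotient.mk 𝔭') =
        (residue (Localization.AtPrime 𝔭')).comp (algebraMap e.A' (Localization.AtPrime 𝔭')) := by
      ext x; rfl
    have hring2 : (residue (Localization.AtPrime 𝔭')).comp (compositeLocMap V A₂ e.φ 𝔭' h𝔭') =
        (compositeResidueMap V A₂ e.φ 𝔭' h𝔭').comp (residue V) := by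
      ext x; rfl
    have hwr : Spec.map (CommRingCat.ofHom (residue (Localization.AtPrime 𝔭'))) ≫
        (Spec.map (CommRingCat.ofHom ((algebraMap e.A' (Localization.AtPrime 𝔭')).comp e.φ)) ≫
          mC ≫ Y'.hom) =
        Spec.map (CommRingCat.ofHom (algebraMap (e.A' ⧸ 𝔭') 𝔭'.ResidueField)) ≫
          Spec.map (CommRingCat.ofHom ((compositeQuotMap V A₂ e.φ 𝔭' h𝔭').comp α)) ≫ sq₁.str := by
      rw [← hwm₃, ← Category.assoc (Spec.map (CommRingCat.ofHom (algebraMap (e.A' ⧸ 𝔭') 𝔭'.ResidueField))),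
        ← specMap_ofHom_comp, hring1,
        specMap_ofHom_comp (algebraMap e.A' (Localization.AtPrime 𝔭')) (residue (Localization.AtPrime 𝔭')),
        specMap_ofHom_comp e.φ (algebraMap e.A' (Localization.AtPrime 𝔭'))]
      simp only [Category.assoc]
    let r : (restrictSq sq₁ (e.A' ⧸ 𝔭') 𝔭'.ResidueField
        ((compositeQuotMap V A₂ e.φ 𝔭' h𝔭').comp α) ((compositeResidueMap V A₂ e.φ 𝔭' h𝔭').comp θ)
        commt).ptK ⟶ (restrictSq sqC (Localization.AtPrime 𝔭')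
        (FractionRing e.A') ((algebraMap e.A' (Localization.AtPrime 𝔭')).comp e.φ)
        (ψB.comp e.ψ) commB).ptA :=
      Over.homMk (Spec.map (CommRingCat.ofHom (residue (Localization.AtPrime 𝔭')))) hwr
    have hwr' : Spec.map (CommRingCat.ofHom (compositeResidueMap V A₂ e.φ 𝔭' h𝔭')) ≫
        (Spec.map (CommRingCat.ofHom (residue V)) ≫ μ ≫ Y'.hom) =
        Spec.map (CommRingCat.ofHom (algebraMap (e.A' ⧸ 𝔭') 𝔭'.ResidueField)) ≫
          Spec.map (CommRingCat.ofHom ((compositeQuotMap V A₂ e.φ 𝔭' h𝔭').comp α)) ≫ sq₁.str := by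
      rw [← hwr, ← Category.assoc, ← specMap_ofHom_comp, ← hring2, specMap_ofHom_comp,
        Category.assoc, ← hwm₂]
    let r' : (restrictSq sq₁ (e.A' ⧸ 𝔭') 𝔭'.ResidueField
        ((compositeQuotMap V A₂ e.φ 𝔭' h𝔭').comp α) ((compositeResidueMap V A₂ e.φ 𝔭' h𝔭').comp θ)
        commt).ptK ⟶ Over.mk (Spec.map (CommRingCat.ofHom (residue V)) ≫ μ ≫ Y'.hom) :=
      Over.homMk (Spec.map (CommRingCat.ofHom (compositeResidueMap V A₂ e.φ 𝔭' h𝔭'))) hwr'
    have step1 : (yon S).map (restrictSq sq₁ (e.A' ⧸ 𝔭') 𝔭'.ResidueField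
        ((compositeQuotMap V A₂ e.φ 𝔭' h𝔭').comp α) ((compositeResidueMap V A₂ e.φ 𝔭' h𝔭').comp θ)
        commt).j ≫ (yon S).map m₃ ≫ l = (yon S).map r ≫ (yon S).map m₁ ≫ l := by
      refine yon_map_congr₂₂ _ _ _ _ _ ?_
      change Spec.map (CommRingCat.ofHom (algebraMap (e.A' ⧸ 𝔭') 𝔭'.ResidueField)) ≫
        Spec.map (CommRingCat.ofHom (Ideal.Quotient.mk 𝔭')) =
        Spec.map (CommRingCat.ofHom (residue (Localization.AtPrime 𝔭'))) ≫
          Spec.map (CommRingCat.ofHom (algebraMap e.A' (Localization.AtPrime 𝔭')))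
      rw [← specMap_ofHom_comp, ← specMap_ofHom_comp, hring1]
    have step3 : (yon S).map r ≫ (yon S).map m₂ ≫ ξ =
        (yon S).map r' ≫ (yon S).map (Over.homMk (Spec.map (CommRingCat.ofHom (residue V))) rfl :
          Over.mk (Spec.map (CommRingCat.ofHom (residue V)) ≫ μ ≫ Y'.hom) ⟶
            Over.mk (μ ≫ Y'.hom)) ≫ ξ := by
      refine yon_map_congr₂₂ _ _ _ _ _ ?_
      change Spec.map (CommRingCat.ofHom (residue (Localization.AtPrime 𝔭'))) ≫
        Spec.map (CommRingCat.ofHom (compositeLocMap V A₂ e.φ 𝔭' h𝔭')) =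
        Spec.map (CommRingCat.ofHom (compositeResidueMap V A₂ e.φ 𝔭' h𝔭')) ≫
          Spec.map (CommRingCat.ofHom (residue V))
      rw [← specMap_ofHom_comp, ← specMap_ofHom_comp, hring2]
    rw [step1, hL, step3, ← hθX]
    change _ = (yon S).map _ ≫ sq₁.top
    refine yon_map_congr₂₁ _ _ _ _ ?_
    rw [hθ']
    exact (specMap_ofHom_comp θ (compositeResidueMap V A₂ e.φ 𝔭' h𝔭')).symm
  · -- the bottom arrow
    rw [Category.assoc, hl2]
    change (yon S).map m₃ ≫ (yon S).map _ ≫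
      (yon S).map (Over.homMk mC rfl : Over.mk (mC ≫ Y'.hom) ⟶ Y') ≫ b = (yon S).map _ ≫ sq₁.bot
    rw [← hβ]
    exact yon_map_congr₃₂ _ _ _ _ _ _ hkey

end Groth.Agent.H52
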