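import Mathlib
import Groth.Prelude.Def_AlgSpMor5
import Groth.Agent.H52.ValRefined
import Groth.Agent.H52.ValDense
import Groth.Agent.H52.ValExist
import Groth.Agent.H52.QC
import Groth.Agent.H52.FQDecent
import Groth.Agent.H52.Topology
import Groth.Agent.H52.Points
import Groth.Agent.H52.FibProd

/-!
# The refined valuative criterion: the geometric step (helper52)
-/

set_option autoImplicit false
universe u
open CategoryTheory CategoryTheory.Limits AlgebraicGeometry
open AlgSp IsLocalRing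

namespace Groth.Agent.H52

variable {S : Scheme.{u}}

/-- Density step: a point `w` of an affine étale chart `W → X` is a specialization of the image of a point of a
finite family of affine schemes covering `U ×_X W`. -/
theorem exists_specializes_of_denseRange {X U : Sp S} (h : U ⟶ X) (hh : IsQuasiCompactMor h)
    (hd : DenseRange (Points.map h)) (W : Over S) [IsAffine W.left] (aX : (yon S).obj W ⟶ X)
    (haX : RepWith @Etale aX) {UW : Sp S} (q₁ : UW ⟶ U) (q₂ : UW ⟶ (yon S).obj W)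
    (sqUW : IsPullback q₁ q₂ h aX) (w : ↥W.left) :
    ∃ (T : Over S) (_ : IsAffine T.left) (c : (yon S).obj T ⟶ UW) (g : T ⟶ W) (v : ↥T.left),
      (yon S).map g = c ≫ q₂ ∧ g.left v ⤳ w := by
  classical
  have hUWqc : IsQuasiCompactSp UW :=
    hh (IsAlgSpace.yon_obj W) (isQuasiCompactSp_yon W) aX q₁ q₂ sqUW
  obtain ⟨ι, hfin, T, c, hTaff, hce, hcs⟩ := exists_finite_affine_charts hUWqc
  have := hfin
  choose g hg using fun i => (yon S).map_surjective (c i ≫ q₂)
  have hdense : w ∈ closure (⋃ i, Set.range (g i).left) := by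
    rw [mem_closure_iff]
    intro O hO hwO
    have hO' : IsOpen (Points.ofPt aX '' O) := isOpenMap_ofPt_of_etale aX haX O hO
    obtain ⟨u', hu'⟩ := hd.exists_mem_open hO' ⟨_, Set.mem_image_of_mem _ hwO⟩
    obtain ⟨o, hoO, ho⟩ := hu'
    obtain ⟨z, hz1, hz2⟩ := exists_point_of_isPullback sqUW u' (Points.ofScheme W o)
      (by rw [← ho, Points.ofPt_eq_map_ofScheme])
    obtain ⟨i, t, hit⟩ := hcs z
    refine ⟨o, hoO, Set.mem_iUnion.2 ⟨i, t, ?_⟩⟩
    apply ofScheme_injective W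
    have h1 := ofPt_yon_map_comp (g i) (𝟙 ((yon S).obj W)) t
    rw [Category.comp_id] at h1
    change Points.ofPt (𝟙 _) ((g i).left t) = _
    rw [← h1, hg, ← Points.map_ofPt, hit, hz2]
  have hfinU : closure (⋃ i, Set.range (g i).left) = ⋃ i, closure (Set.range (g i).left) :=
    closure_iUnion_of_finite _
  rw [hfinU, Set.mem_iUnion] at hdense
  obtain ⟨i, hi⟩ := hdense
  have : IsAffine (T i).left := hTaff i
  obtain ⟨v, hvw⟩ := exists_specializes_of_mem_closure_range (g i).left w hi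
  exact ⟨T i, hTaff i, c i, g i, v, hg i, hvw⟩

set_option backward.isDefEq.respectTransparency.types false in
/-- The refined valuative criterion for a square whose bottom arrow factors through an affine étale chart of
the target. -/
theorem hasLiftExt_of_chart {X Y U : Sp S} (hX : IsAlgSpace X) (hY : IsAlgSpace Y)
    (f : X ⟶ Y) (h : U ⟶ X) (hh : IsQuasiCompactMor h) (hd : DenseRange (Points.map h))
    (hv : ∀ sq : ValSq f, (∃ t : (yon S).obj sq.ptK ⟶ U, t ≫ h = sq.top) →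
      sq.HasUniq ∧ sq.HasLiftExt)
    (sq₁ : ValSq f) (Y' : Over S) [IsAffine Y'.left] (b : (yon S).obj Y' ⟶ Y)
    (hbe : RepWith @Etale b) (β : sq₁.ptA ⟶ Y') (hβ : (yon S).map β ≫ b = sq₁.bot) :
    sq₁.HasLiftExt := by
  classical
  -- Step 1: the base change `X' = X ×_Y Y'`
  obtain ⟨X', p₁, p₂, sqX'⟩ : ∃ (X' : Sp S) (p₁ : X' ⟶ X) (p₂ : X' ⟶ (yon S).obj Y'),
      IsPullback p₁ p₂ f b := ⟨_, _, _, IsPullback.of_hasPullback f b⟩
  have hX' : IsAlgSpace X' := isAlgSpace_of_isPullback sqX' hY.diag hX (IsAlgSpace.yon_obj Y')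
  have hp₁ : RepWith @Etale p₁ :=
    (repWith_isStableUnderBaseChange (S := S) @Etale).of_isPullback sqX'.flip hbe
  have hcomm' : sq₁.top ≫ f = (yon S).map (sq₁.j ≫ β) ≫ b := by
    rw [sq₁.comm, Functor.map_comp, Category.assoc, hβ]
  obtain ⟨top', htop1, htop2⟩ : ∃ top' : (yon S).obj sq₁.ptK ⟶ X', top' ≫ p₁ = sq₁.top ∧
      top' ≫ p₂ = (yon S).map (sq₁.j ≫ β) :=
    ⟨sqX'.lift _ _ hcomm', sqX'.lift_fst _ _ _, sqX'.lift_snd _ _ _⟩
  let pt : ↥sq₁.ptK.left := IsLocalRing.closedPoint sq₁.K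
  obtain ⟨W, a, w, hWaff, hae, hw⟩ := exists_affine_chart_at hX' (Points.ofPt top' pt)
  have : IsAffine W.left := hWaff
  have haX : RepWith @Etale (a ≫ p₁) :=
    (repWith_isMultiplicative (S := S) @Etale).comp_mem _ _ hae hp₁
  obtain ⟨γ, hγ⟩ := (yon S).map_surjective (a ≫ p₂)
  -- Step 2: the fibre product `U ×_X W` and a point specializing to `w`
  obtain ⟨UW, q₁, q₂, sqUW⟩ : ∃ (UW : Sp S) (q₁ : UW ⟶ U) (q₂ : UW ⟶ (yon S).obj W),
      IsPullback q₁ q₂ h (a ≫ p₁) := ⟨_, _, _, IsPullback.of_hasPullback h (a ≫ p₁)⟩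
  obtain ⟨T, hTaff, c, g, v, hg, hvw⟩ :=
    exists_specializes_of_denseRange h hh hd W (a ≫ p₁) haX q₁ q₂ sqUW w
  -- Step 3: the valuation ring `B` of `κ(v)` dominating `O_{W,w}`
  let F := T.left.residueField v
  let m : Spec (.of F) ⟶ W.left := T.left.fromSpecResidueField v ≫ g.left
  have hm : m (IsLocalRing.closedPoint F) ⤳ w := by
    have : m (IsLocalRing.closedPoint F) = g.left v := by
      change (T.left.fromSpecResidueField v ≫ g.left) _ = _
      rw [Scheme.Hom.comp_apply, Scheme.fromSpecResidueField_apply]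
    rw [this]; exact hvw
  obtain ⟨B, βB, hβB, hβm⟩ := exists_valuationSubring_of_specializes_field m w hm
  let lB : Spec (.of B) ⟶ W.left := Spec.map βB ≫ W.left.fromSpecStalk w
  have hlB : Spec.map (CommRingCat.ofHom (algebraMap B F)) ≫ lB = m := hβm
  have hlBc : lB (IsLocalRing.closedPoint B) = w := by
    change (Spec.map βB ≫ W.left.fromSpecStalk w) _ = _
    rw [Scheme.Hom.comp_apply]
    have : Spec.map βB (IsLocalRing.closedPoint B) =
        IsLocalRing.closedPoint (W.left.presheaf.stalk w) :=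
      IsLocalRing.comap_closedPoint (S := B) βB.hom
    rw [this, Scheme.fromSpecStalk_closedPoint]
  -- Step 4: a common field `Ω` of `κ(B)` and `K`
  obtain ⟨Wp, ψ, fstW, sqW⟩ := hae.1 top'
  obtain ⟨φW, rfl⟩ := (yon S).map_surjective fstW
  obtain ⟨w', hw'1, hw'2⟩ := exists_of_ofPt_eq_ofPt sqW w pt hw
  let lk : Spec (.of (ResidueField B)) ⟶ W.left :=
    Spec.map (CommRingCat.ofHom (residue B)) ≫ lB
  have hlk : lk (IsLocalRing.closedPoint (ResidueField B)) = φW.left w' := by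
    rw [hw'1, ← hlBc]
    change (Spec.map (CommRingCat.ofHom (residue B)) ≫ lB) _ = _
    rw [Scheme.Hom.comp_apply]
    congr 1
    exact IsLocalRing.comap_closedPoint (residue B)
  obtain ⟨z, hz1, hz2⟩ := Scheme.Pullback.exists_preimage_pullback (f := lk) (g := φW.left)
    (IsLocalRing.closedPoint (ResidueField B)) w' hlk
  let Ω := (pullback lk φW.left).residueField z
  let rz : Spec (.of Ω) ⟶ pullback lk φW.left := (pullback lk φW.left).fromSpecResidueField z
  let ιB : CommRingCat.of (ResidueField B) ⟶ .of Ω := Spec.preimage (rz ≫ pullback.fst lk φW.left)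
  have hιB : Spec.map ιB = rz ≫ pullback.fst lk φW.left := Spec.map_preimage _
  let ιK : CommRingCat.of sq₁.K ⟶ .of Ω :=
    Spec.preimage (rz ≫ pullback.snd lk φW.left ≫ ψ.left)
  have hιK : Spec.map ιK = rz ≫ pullback.snd lk φW.left ≫ ψ.left := Spec.map_preimage _
  -- (E4)
  have hE4 : Spec.map ιB ≫ lk = rz ≫ pullback.snd lk φW.left ≫ φW.left := by
    rw [hιB, Category.assoc, pullback.condition]
  -- (E6)
  have hE6 : φW ≫ γ = ψ ≫ sq₁.j ≫ β := by
    apply (yon S).map_injective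
    rw [Functor.map_comp, Functor.map_comp, hγ, ← Category.assoc, sqW.w, Category.assoc, htop2]
  have hE6' : φW.left ≫ γ.left = ψ.left ≫ Spec.map (CommRingCat.ofHom (algebraMap sq₁.A sq₁.K)) ≫
      β.left := congrArg (fun k => k.left) hE6
  -- Step 5: the extension `V` of `B` with residue field containing `Ω`
  obtain ⟨F₂, hF₂, V, φ₂, σ, hφ₂inj, hσ⟩ :=
    exists_valuationSubring_ext_residue (ιB.hom.comp (residue B))
  have hginj : Function.Injective ((algebraMap V F₂).comp φ₂) :=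
    (IsFractionRing.injective V F₂).comp hφ₂inj
  let ψF : F →+* F₂ := IsFractionRing.lift (A := B) (K := F) hginj
  have hψF : ψF.comp (algebraMap B F) = (algebraMap V F₂).comp φ₂ := by
    ext x
    exact IsFractionRing.lift_algebraMap hginj x
  -- (E1)
  have hE1 : Spec.map (CommRingCat.ofHom ψF) ≫ Spec.map (CommRingCat.ofHom (algebraMap B F)) =
      Spec.map (CommRingCat.ofHom (algebraMap V F₂)) ≫ Spec.map (CommRingCat.ofHom φ₂) := by
    rw [← specMap_ofHom_comp, ← specMap_ofHom_comp, hψF]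
  -- (E2)
  have hE2 : (Spec.map (CommRingCat.ofHom ψF) ≫ T.left.fromSpecResidueField v) ≫ g.left =
      Spec.map (CommRingCat.ofHom (algebraMap V F₂)) ≫ Spec.map (CommRingCat.ofHom φ₂) ≫ lB := by
    rw [Category.assoc]
    change _ ≫ m = _
    rw [← hlB, ← Category.assoc, hE1, Category.assoc]
  -- (E3)
  have hE3 : Spec.map (CommRingCat.ofHom (residue V)) ≫ Spec.map (CommRingCat.ofHom φ₂) =
      Spec.map (CommRingCat.ofHom σ) ≫ Spec.map ιB ≫ Spec.map (CommRingCat.ofHom (residue B)) := by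
    rw [← specMap_ofHom_comp, ← hσ, specMap_ofHom_comp, specMap_ofHom_comp]
    rfl
  -- (E7): the closed point of `Spec V` in `W`
  have hE7 : Spec.map (CommRingCat.ofHom (residue V)) ≫ Spec.map (CommRingCat.ofHom φ₂) ≫ lB =
      Spec.map (CommRingCat.ofHom σ) ≫ rz ≫ pullback.snd lk φW.left ≫ φW.left := by
    rw [← Category.assoc, hE3]
    simp only [Category.assoc]
    change _ ≫ Spec.map ιB ≫ lk = _
    rw [hE4]
  -- Step 6: the data of the composite step
  obtain ⟨μ, hμ⟩ : ∃ μ : Spec (.of V) ⟶ Y'.left,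
      μ = Spec.map (CommRingCat.ofHom φ₂) ≫ lB ≫ γ.left := ⟨_, rfl⟩
  have hwξ : (Spec.map (CommRingCat.ofHom φ₂) ≫ lB) ≫ W.hom = μ ≫ Y'.hom := by
    rw [hμ]
    simp only [Category.assoc]
    rw [Over.w γ]
  let ξ₀ : Over.mk (μ ≫ Y'.hom) ⟶ W := Over.homMk (Spec.map (CommRingCat.ofHom φ₂) ≫ lB) hwξ
  let ξ : (yon S).obj (Over.mk (μ ≫ Y'.hom)) ⟶ X := (yon S).map ξ₀ ≫ a ≫ p₁
  have hξ : ξ ≫ f = (yon S).map (Over.homMk μ rfl : Over.mk (μ ≫ Y'.hom) ⟶ Y') ≫ b := by
    change ((yon S).map ξ₀ ≫ a ≫ p₁) ≫ f = _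
    rw [Category.assoc, Category.assoc, sqX'.w, ← Category.assoc a, ← hγ]
    refine yon_map_congr₂₁ _ _ _ _ ?_
    change (Spec.map (CommRingCat.ofHom φ₂) ≫ lB) ≫ γ.left = μ
    rw [hμ, Category.assoc]
  have hwt : (Spec.map (CommRingCat.ofHom ψF) ≫ T.left.fromSpecResidueField v) ≫ T.hom =
      Spec.map (CommRingCat.ofHom (algebraMap V F₂)) ≫ μ ≫ Y'.hom := by
    rw [← Over.w g, ← Category.assoc, hE2, ← hwξ]
    simp only [Category.assoc]
  let t₀ : Over.mk (Spec.map (CommRingCat.ofHom (algebraMap V F₂)) ≫ μ ≫ Y'.hom) ⟶ T :=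
    Over.homMk (Spec.map (CommRingCat.ofHom ψF) ≫ T.left.fromSpecResidueField v) hwt
  let t : (yon S).obj (Over.mk (Spec.map (CommRingCat.ofHom (algebraMap V F₂)) ≫ μ ≫ Y'.hom)) ⟶ U :=
    (yon S).map t₀ ≫ c ≫ q₁
  have ht : t ≫ h = (yon S).map (Over.homMk (Spec.map (CommRingCat.ofHom (algebraMap V F₂))) rfl :
      Over.mk (Spec.map (CommRingCat.ofHom (algebraMap V F₂)) ≫ μ ≫ Y'.hom) ⟶
        Over.mk (μ ≫ Y'.hom)) ≫ ξ := by
    change ((yon S).map t₀ ≫ c ≫ q₁) ≫ h = _ ≫ (yon S).map ξ₀ ≫ a ≫ p₁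
    rw [Category.assoc, Category.assoc, sqUW.w, ← Category.assoc c, ← hg]
    exact yon_map_congr₂₂ _ _ _ _ _ hE2
  let θ : sq₁.K →+* ResidueField V := σ.comp ιK.hom
  have hSpecθ : Spec.map (CommRingCat.ofHom θ) =
      Spec.map (CommRingCat.ofHom σ) ≫ rz ≫ pullback.snd lk φW.left ≫ ψ.left := by
    change Spec.map (CommRingCat.ofHom (σ.comp ιK.hom)) = _
    rw [specMap_ofHom_comp, ← hιK]
    rfl
  have hθY : Spec.map (CommRingCat.ofHom θ) ≫
      Spec.map (CommRingCat.ofHom (algebraMap sq₁.A sq₁.K)) ≫ β.left =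
      Spec.map (CommRingCat.ofHom (residue V)) ≫ μ := by
    rw [hμ, hSpecθ]
    simp only [Category.assoc]
    rw [← hE6']
    have := congrArg (· ≫ γ.left) hE7
    simp only [Category.assoc] at this
    exact this.symm
  have hstr : sq₁.str = β.left ≫ Y'.hom := (Over.w β).symm
  have hwθ' : Spec.map (CommRingCat.ofHom θ) ≫ sq₁.ptK.hom =
      Spec.map (CommRingCat.ofHom (residue V)) ≫ μ ≫ Y'.hom := by
    change _ ≫ Spec.map (CommRingCat.ofHom (algebraMap sq₁.A sq₁.K)) ≫ sq₁.str = _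
    rw [hstr]
    have := congrArg (· ≫ Y'.hom) hθY
    simp only [Category.assoc] at this
    exact this
  let θ' : Over.mk (Spec.map (CommRingCat.ofHom (residue V)) ≫ μ ≫ Y'.hom) ⟶ sq₁.ptK :=
    Over.homMk (Spec.map (CommRingCat.ofHom θ)) hwθ'
  have hθX : (yon S).map θ' ≫ sq₁.top =
      (yon S).map (Over.homMk (Spec.map (CommRingCat.ofHom (residue V))) rfl :
        Over.mk (Spec.map (CommRingCat.ofHom (residue V)) ≫ μ ≫ Y'.hom) ⟶
          Over.mk (μ ≫ Y'.hom)) ≫ ξ := by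
    have hwζ : (Spec.map (CommRingCat.ofHom σ) ≫ rz ≫ pullback.snd lk φW.left) ≫ Wp.hom =
        Spec.map (CommRingCat.ofHom (residue V)) ≫ μ ≫ Y'.hom := by
      rw [← Over.w φW]
      have := congrArg (· ≫ W.hom) hE7
      simp only [Category.assoc] at this ⊢
      rw [← this, ← hwξ]
      simp only [Category.assoc]
    let ζ : Over.mk (Spec.map (CommRingCat.ofHom (residue V)) ≫ μ ≫ Y'.hom) ⟶ Wp :=
      Over.homMk (Spec.map (CommRingCat.ofHom σ) ≫ rz ≫ pullback.snd lk φW.left) hwζ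
    change _ = _ ≫ (yon S).map ξ₀ ≫ a ≫ p₁
    rw [← htop1]
    have h1 : (yon S).map θ' ≫ top' = (yon S).map ζ ≫ (yon S).map ψ ≫ top' := by
      symm
      refine yon_map_congr₂₁ _ _ _ _ ?_
      change (Spec.map (CommRingCat.ofHom σ) ≫ rz ≫ pullback.snd lk φW.left) ≫ ψ.left =
        Spec.map (CommRingCat.ofHom θ)
      rw [hSpecθ]
      simp only [Category.assoc]
    have h2 : (yon S).map θ' ≫ top' ≫ p₁ = ((yon S).map θ' ≫ top') ≫ p₁ :=
      (Category.assoc _ _ _).symm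
    rw [h2, h1, ← sqW.w]
    simp only [Category.assoc]
    refine yon_map_congr₂₂ _ _ _ _ (a ≫ p₁) ?_
    change (Spec.map (CommRingCat.ofHom σ) ≫ rz ≫ pullback.snd lk φW.left) ≫ φW.left =
      Spec.map (CommRingCat.ofHom (residue V)) ≫ (Spec.map (CommRingCat.ofHom φ₂) ≫ lB)
    simp only [Category.assoc]
    exact hE7.symm
  exact hasLiftExt_of_composite f h hv sq₁ Y' b β hβ V μ ξ hξ t ht θ hθY θ' rfl hθX

end Groth.Agent.H52
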