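import Mathlib
import Groth.Prelude.Def_AlgSpMor5
import Groth.Agent.H52.ValCrit
import Groth.Agent.H52.Univ
import Groth.Agent.H52.QC

/-! Uniqueness part of the valuative criterion and separatedness. -/

set_option autoImplicit false
universe u
open CategoryTheory CategoryTheory.Limits AlgebraicGeometry
open AlgSp

namespace Groth.Agent.H52

variable {S : Scheme.{u}}

/-- A dotted arrow without extension gives a dotted arrow after the trivial extension. -/
theorem hasLiftExt_of_hasLift {F G : Sp S} {f : F ⟶ G} (sq : ValSq f) (h : sq.HasLift) :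
    sq.HasLiftExt := by
  obtain ⟨l, hl1, hl2⟩ := h
  let e : sq.DomExt :=
    { A' := sq.A, K' := sq.K, φ := RingHom.id _, ψ := RingHom.id _, comm := by
        rw [RingHom.comp_id, RingHom.id_comp]
      isLocalHom := inferInstance }
  let i : e.ptA' ⟶ sq.ptA := Over.homMk (Spec.map (CommRingCat.ofHom e.φ)) rfl
  refine ⟨e, (yon S).map i ≫ l, ?_, ?_⟩
  · rw [← hl1, ← Category.assoc, ← Category.assoc, ← Functor.map_comp, ← Functor.map_comp]
    congr 2
    ext
    change Spec.map (CommRingCat.ofHom (algebraMap sq.A sq.K)) ≫
      Spec.map (CommRingCat.ofHom (RingHom.id sq.A)) =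
      Spec.map (CommRingCat.ofHom (RingHom.id sq.K)) ≫
        Spec.map (CommRingCat.ofHom (algebraMap sq.A sq.K))
    rw [CommRingCat.ofHom_id, CommRingCat.ofHom_id, Spec.map_id, Spec.map_id, Category.comp_id,
      Category.id_comp]
  · rw [Category.assoc, hl2]

/-- If `f` satisfies the uniqueness part of the valuative criterion, its diagonal satisfies the existence
part (without extension). -/
theorem existVC_diagonal_of_uniqVC {F G : Sp S} (f : F ⟶ G) (hu : UniqVC f) :
    ExistVC (pullback.diagonal f) := by
  intro sq
  apply hasLiftExt_of_hasLift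
  have htop : sq.top = (yon S).map sq.j ≫ sq.bot ≫ pullback.fst f f := by
    have := congrArg (· ≫ pullback.fst f f) sq.comm
    simpa using this
  have htop' : sq.top = (yon S).map sq.j ≫ sq.bot ≫ pullback.snd f f := by
    have := congrArg (· ≫ pullback.snd f f) sq.comm
    simpa using this
  let sq₀ : ValSq f :=
    { A := sq.A, K := sq.K, str := sq.str, top := sq.top, bot := sq.bot ≫ pullback.fst f f ≫ f,
      comm := by
        conv_lhs => rw [htop]
        simp only [Category.assoc] }
  have key : sq.bot ≫ pullback.fst f f = sq.bot ≫ pullback.snd f f := by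
    apply hu sq₀ _ _ htop.symm (by rw [Category.assoc]) htop'.symm
    rw [Category.assoc, ← pullback.condition]
  refine ⟨sq.bot ≫ pullback.fst f f, htop.symm, ?_⟩
  apply pullback.hom_ext
  · simp
  · simp [key]

/-- A quasi-compact diagonal of a morphism satisfying the uniqueness part of the valuative criterion is
universally closed. -/
theorem isUnivClosedMor_diagonal_of_uniqVC {F G : Sp S} (f : F ⟶ G)
    (hqs : RepWith @QuasiCompact (pullback.diagonal f)) (hu : UniqVC f) :
    IsUnivClosedMor (pullback.diagonal f) := by
  apply isUnivClosedMor_of_affine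
  intro Z hZ g P fst snd sq
  obtain ⟨V, ψ, fst', sqV⟩ := hqs.1 g
  have hψ : QuasiCompact ψ.left := hqs.2 _ _ _ sqV
  have : CompactSpace ↥Z.left := inferInstance
  have : CompactSpace ↥V.left := QuasiCompact.compactSpace_of_compactSpace ψ.left
  let e : (yon S).obj V ≅ P := sqV.isoIsPullback _ _ sq
  have hPqc : IsQuasiCompactSp P := isQuasiCompactSp_of_iso_yon V e.hom
  exact isClosedMap_of_existVC_of_isAffine hZ snd hPqc
    (existVC_of_isPullback sq (existVC_diagonal_of_uniqVC f hu))

end Groth.Agent.H52
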