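import Mathlib
import Groth.Prelude.Def_AlgSpMor5
import Groth.Agent.H52.ValRefined2
import Groth.Agent.H52.ValLift
import Groth.Agent.H52.ValSep

/-!
# The refined valuative criterion: assembly (helper52)
-/

set_option autoImplicit false
universe u
open CategoryTheory CategoryTheory.Limits AlgebraicGeometry
open AlgSp IsLocalRing

namespace Groth.Agent.H52

/-- An injective map of domains extends to the fraction fields. -/
theorem exists_fractionRing_map {A K A' K' : Type u} [CommRing A] [IsDomain A] [Field K]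
    [Algebra A K] [IsFractionRing A K] [CommRing A'] [IsDomain A'] [Field K'] [Algebra A' K']
    [IsFractionRing A' K'] (φ : A →+* A') (hφ : Function.Injective φ) :
    ∃ ψ : K →+* K', (algebraMap A' K').comp φ = ψ.comp (algebraMap A K) := by
  have hinj : Function.Injective ((algebraMap A' K').comp φ) :=
    (IsFractionRing.injective A' K').comp hφ
  refine ⟨IsFractionRing.lift hinj, ?_⟩
  ext x
  exact (IsFractionRing.lift_algebraMap hinj x).symm

variable {S : Scheme.{u}}

set_option backward.isDefEq.respectTransparency.types false in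
/-- The existence part of the refined valuative criterion. -/
theorem existVC_of_refined {X Y U : Sp S} (hX : IsAlgSpace X) (hY : IsAlgSpace Y)
    (f : X ⟶ Y) (h : U ⟶ X) (hh : IsQuasiCompactMor h) (hd : DenseRange (Points.map h))
    (hv : ∀ sq : ValSq f, (∃ t : (yon S).obj sq.ptK ⟶ U, t ≫ h = sq.top) →
      sq.HasUniq ∧ sq.HasLiftExt) : ExistVC f := by
  intro sq
  classical
  let cpt : ↥sq.ptA.left := IsLocalRing.closedPoint sq.A
  obtain ⟨Y', b, y', hY'aff, hbe, hy'⟩ := exists_affine_chart_at hY (Points.ofPt sq.bot cpt)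
  have : IsAffine Y'.left := hY'aff
  obtain ⟨P, ψP, fstP, sqP⟩ := hbe.1 sq.bot
  obtain ⟨φP, rfl⟩ := (yon S).map_surjective fstP
  have hψPet : Etale ψP.left := hbe.2 _ _ _ sqP
  obtain ⟨p, hp1, hp2⟩ := exists_of_ofPt_eq_ofPt sqP y' cpt hy'
  have : Flat ψP.left := inferInstance
  obtain ⟨A', i1, i2, i3, φ, hφinj, hφloc, l₀, hl₀⟩ :=
    exists_valuationRing_lift_of_flat (A := sq.A) ψP.left p hp2
  obtain ⟨ψ, hψ⟩ := exists_fractionRing_map (K := sq.K) (K' := FractionRing A') φ hφinj
  let e : sq.DomExt :=
    { A' := A', K' := FractionRing A', φ := φ, ψ := ψ, comm := hψ, isLocalHom := hφloc }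
  apply hasLiftExt_of_restrictSq_hasLiftExt sq e
  have hwl : l₀ ≫ P.hom = Spec.map (CommRingCat.ofHom φ) ≫ sq.str := by
    rw [← hl₀, Category.assoc]
    congr 1
    exact (Over.w ψP).symm
  have hwβ : (l₀ ≫ φP.left) ≫ Y'.hom = Spec.map (CommRingCat.ofHom φ) ≫ sq.str := by
    rw [Category.assoc, Over.w φP, hwl]
  let β : (restrictSq sq e.A' e.K' e.φ e.ψ e.comm).ptA ⟶ Y' := Over.homMk (l₀ ≫ φP.left) hwβ
  let lP : (restrictSq sq e.A' e.K' e.φ e.ψ e.comm).ptA ⟶ P := Over.homMk l₀ hwl
  have hβ : (yon S).map β ≫ b = (restrictSq sq e.A' e.K' e.φ e.ψ e.comm).bot := by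
    have h1 : (yon S).map β ≫ b = (yon S).map lP ≫ (yon S).map φP ≫ b :=
      (yon_map_congr₂₁ lP φP β b rfl).symm
    rw [h1, sqP.w]
    exact yon_map_congr₂₁ _ _ _ _ hl₀
  exact hasLiftExt_of_chart hX hY f h hh hd hv _ Y' b hbe β hβ

/-- A quasi-compact diagonal satisfying the existence part of the valuative criterion is universally closed. -/
theorem isUnivClosedMor_diagonal_of_existVC {F G : Sp S} (f : F ⟶ G)
    (hqs : RepWith @QuasiCompact (pullback.diagonal f)) (he : ExistVC (pullback.diagonal f)) :
    IsUnivClosedMor (pullback.diagonal f) := by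
  apply isUnivClosedMor_of_affine
  intro Z hZ g P fst snd sq
  obtain ⟨V, ψ, fst', sqV⟩ := hqs.1 g
  have hψ : QuasiCompact ψ.left := hqs.2 _ _ _ sqV
  have : CompactSpace ↥Z.left := inferInstance
  have : CompactSpace ↥V.left := QuasiCompact.compactSpace_of_compactSpace ψ.left
  let e : (yon S).obj V ≅ P := sqV.isoIsPullback _ _ sq
  have hPqc : IsQuasiCompactSp P := isQuasiCompactSp_of_iso_yon V e.hom
  exact isClosedMap_of_existVC_of_isAffine hZ snd hPqc (existVC_of_isPullback sq he)

/-- The existence part of the valuative criterion for the diagonal, under the hypotheses of the refined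
criterion. -/
theorem existVC_diagonal_of_refined {X Y U : Sp S} (hX : IsAlgSpace X) (hY : IsAlgSpace Y)
    (f : X ⟶ Y) (h : U ⟶ X) (hh : IsQuasiCompactMor h) (hd : DenseRange (Points.map h))
    (hv : ∀ sq : ValSq f, (∃ t : (yon S).obj sq.ptK ⟶ U, t ≫ h = sq.top) →
      sq.HasUniq ∧ sq.HasLiftExt) : ExistVC (pullback.diagonal f) := by
  have hP : IsAlgSpace (pullback f f) :=
    isAlgSpace_of_isPullback (IsPullback.of_hasPullback f f) hY.diag hX hX
  apply existVC_of_refined hX hP (pullback.diagonal f) h hh hd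
  intro sq hsq
  refine ⟨?_, ?_⟩
  · intro l l' _ hl _ hl'
    exact (cancel_mono (pullback.diagonal f)).1 (hl.trans hl'.symm)
  · apply hasLiftExt_of_hasLift
    have htop : sq.top = (yon S).map sq.j ≫ sq.bot ≫ pullback.fst f f := by
      have := congrArg (· ≫ pullback.fst f f) sq.comm
      simpa using this
    have htop' : sq.top = (yon S).map sq.j ≫ sq.bot ≫ pullback.snd f f := by
      have := congrArg (· ≫ pullback.snd f f) sq.comm
      simpa using this
    let sq₀ : ValSq f :=
      { A := sq.A, K := sq.K, str := sq.str, top := sq.top, bot := sq.bot ≫ pullback.fst f f ≫ f,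
        comm := by
          conv_lhs => rw [htop]
          simp only [Category.assoc] }
    have key : sq.bot ≫ pullback.fst f f = sq.bot ≫ pullback.snd f f := by
      apply (hv sq₀ hsq).1 _ _ htop.symm (by rw [Category.assoc]) htop'.symm
      rw [Category.assoc, ← pullback.condition]
    refine ⟨sq.bot ≫ pullback.fst f f, htop.symm, ?_⟩
    apply pullback.hom_ext
    · simp
    · simp [key]

end Groth.Agent.H52
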