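import Groth.Agent.H51.AffineTest
import Groth.Agent.H52.Points
import Groth.Agent.H52.Topology
import Groth.Agent.H52.QC

/-!
# helper52: representability with a target-local property is Zariski local on the target (sheaf level)
-/

set_option autoImplicit false
universe u

open CategoryTheory CategoryTheory.Limits AlgebraicGeometry Opposite AlgSp

namespace Groth.Agent.H52

variable {S : Scheme.{u}}

/-- A morphism from a scheme factors through an open subspace as soon as all its points land in it. -/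
theorem exists_factor_openImmersion_of_range {Y' Y : Sp S} (j : Y' ⟶ Y)
    (hj : RepWith @IsOpenImmersion j) {U : Over S} (a : (yon S).obj U ⟶ Y)
    (h : ∀ u : ↥U.left, Points.ofPt a u ∈ Set.range (Points.map j)) :
    ∃ l : (yon S).obj U ⟶ Y', l ≫ j = a := by
  obtain ⟨T', ψ, fst, sq⟩ := hj.1 a
  have hψ : IsOpenImmersion ψ.left := hj.2 _ _ _ sq
  have hsurj : Function.Surjective ψ.left := by
    intro u
    obtain ⟨y', hy'⟩ := h u
    rw [Points.ofPt_eq_map_ofScheme] at hy'
    obtain ⟨z, -, hz⟩ := exists_point_of_isPullback sq y' (Points.ofScheme U u) hy'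
    obtain ⟨t', rfl⟩ := (Points.schemeEquiv T').surjective z
    refine ⟨t', ?_⟩
    have h1 : Points.ofScheme U (ψ.left t') = Points.ofScheme U u := by
      rw [← map_yon_map_ofScheme]; exact hz
    exact (Points.schemeEquiv U).injective h1
  have hiso : IsIso ψ.left := by
    rw [isIso_iff_isOpenImmersion_and_surjective]
    exact ⟨hψ, ⟨hsurj⟩⟩
  have hiso' : IsIso ψ := by
    have : IsIso ((Over.forget S).map ψ) := hiso
    exact isIso_of_reflects_iso ψ (Over.forget S)
  refine ⟨(yon S).map (inv ψ) ≫ fst, ?_⟩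
  rw [Category.assoc, sq.w, ← Category.assoc, ← Functor.map_comp, IsIso.inv_hom_id,
    CategoryTheory.Functor.map_id, Category.id_comp]

open Groth.Agent.H51.ZarGlue in
/-- If, for every scheme `T` over `S` and `g : h_T ⟶ G`, the base changes of `f` to the members of some open cover of `T`
are representable with `Q`, for `Q` local on the target, then `f` is representable with `Q`. -/
theorem repWith_of_cover_test (Q : MorphismProperty Scheme.{u}) [IsZariskiLocalAtTarget Q]
    {F G : Sp S} (f : F ⟶ G)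
    (hf : ∀ (T : Over S) (g : (yon S).obj T ⟶ G), ∃ 𝒰 : Scheme.OpenCover.{u} T.left, ∀ a : 𝒰.I₀,
      ∃ (W : Over S) (i : W ⟶ coverOver T 𝒰 a) (fst : (yon S).obj W ⟶ F),
        IsPullback fst ((yon S).map i) f ((yon S).map (coverOverι T 𝒰 a) ≫ g) ∧ Q i.left) :
    RepWith Q f := by
  have : Q.RespectsIso := inferInstance
  have : (Q.inverseImage (Over.forget S)).RespectsIso := inferInstance
  refine MorphismProperty.relative.of_exists (fun T g => ?_)
  obtain ⟨𝒰, hx⟩ := hf T g
  choose Wa i fst sqa hQ using hx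
  have hcomm : ∀ a, fst a ≫ f = (yon S).map (i a ≫ coverOverι T 𝒰 a) ≫ g := by
    intro a
    rw [(sqa a).w, Functor.map_comp, Category.assoc]
  let φ : ∀ a, (yon S).obj (Wa a) ⟶ pullback f g := fun a =>
    pullback.lift (fst a) ((yon S).map (i a ≫ coverOverι T 𝒰 a)) (hcomm a)
  have sq : ∀ a, IsPullback (φ a) ((yon S).map (i a)) (pullback.snd f g)
      ((yon S).map (coverOverι T 𝒰 a)) := by
    intro a
    exact Groth.Agent.H52.isPullback_lift_of_comp_right (IsPullback.of_hasPullback f g) (sqa a)
      (φ a) (pullback.lift_fst _ _ _) (by rw [pullback.lift_snd, Functor.map_comp])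
  obtain ⟨G', e, snd, c, he, hc, hsq⟩ :=
    exists_iso_yon_of_openCover (pullback.snd f g) 𝒰 Wa i φ sq
  refine ⟨G', e.hom ≫ pullback.fst f g, snd, ?_, ?_⟩
  · rw [← he]
    exact IsPullback.of_iso (IsPullback.of_hasPullback f g) e.symm (Iso.refl _) (Iso.refl _)
      (Iso.refl _) (by simp) (by simp) (by simp) (by simp)
  · show Q snd.left
    exact of_openCover_of_isPullback Q snd.left 𝒰
      (fun a => (c a).left) (fun a => (i a).left) hsq hQ

/-- Representability with a target-local property can be checked on the affine opens of test schemes that factor through the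
members of a Zariski covering of the target. -/
theorem repWith_of_zarCover (Q : MorphismProperty Scheme.{u}) [IsZariskiLocalAtTarget Q]
    {X Y : Sp S} (f : X ⟶ Y) {ι : Type u} (Yi : ι → Sp S) (j : ∀ i, Yi i ⟶ Y)
    (hj : IsZarCover Yi j) (Xi : ι → Sp S) (p : ∀ i, Xi i ⟶ X) (q : ∀ i, Xi i ⟶ Yi i)
    (sq : ∀ i, IsPullback (p i) (q i) f (j i))
    (h : ∀ i ⦃Z : Over S⦄, IsAffine Z.left → ∀ (l : (yon S).obj Z ⟶ Yi i),
      ∃ (W : Over S) (c : W ⟶ Z) (fst : (yon S).obj W ⟶ Xi i),
        IsPullback fst ((yon S).map c) (q i) l ∧ Q c.left) : RepWith Q f := by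
  refine repWith_of_cover_test Q f (fun T g => ?_)
  -- the affine opens of `T` mapping into some member of the covering
  let s : Type u := {V : T.left.Opens // IsAffineOpen V ∧ ∃ (i : ι)
    (l : (yon S).obj (overOpen T V) ⟶ Yi i), l ≫ j i = (yon S).map (overOpenHom T V) ≫ g}
  have hcov : TopologicalSpace.IsOpenCover (fun V : s => V.1) := by
    rw [TopologicalSpace.IsOpenCover, eq_top_iff]
    rintro t -
    obtain ⟨i, hi⟩ := hj.2 (Points.ofPt g t)
    obtain ⟨Ti, ψ, fst, sqψ⟩ := (hj.1 i).1 g
    have hψ : IsOpenImmersion ψ.left := (hj.1 i).2 _ _ _ sqψ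
    -- `t` lies in the range of `ψ`
    obtain ⟨y', hy'⟩ := hi
    rw [Points.ofPt_eq_map_ofScheme] at hy'
    obtain ⟨z, -, hz⟩ := exists_point_of_isPullback sqψ y' (Points.ofScheme T t) hy'
    obtain ⟨t', rfl⟩ := (Points.schemeEquiv Ti).surjective z
    have h1 : ψ.left t' = t := by
      have h1 : Points.ofScheme T (ψ.left t') = Points.ofScheme T t := by
        rw [← map_yon_map_ofScheme]; exact hz
      exact (Points.schemeEquiv T).injective h1
    obtain ⟨_, ⟨V, hV, rfl⟩, htV, hVle⟩ :=
      T.left.isBasis_affineOpens.exists_subset_of_mem_open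
        (show t ∈ (ψ.left.opensRange : Set ↥T.left) from ⟨t', h1⟩) ψ.left.opensRange.2
    have hfac : ∃ l : (yon S).obj (overOpen T V) ⟶ Yi i,
        l ≫ j i = (yon S).map (overOpenHom T V) ≫ g := by
      apply exists_factor_openImmersion_of_range (j i) (hj.1 i)
      intro v
      obtain ⟨t'', ht''⟩ := hVle v.2
      refine ⟨Points.ofPt fst t'', ?_⟩
      rw [ofPt_yon_map_comp]
      have hv : (overOpenHom T V).left v = ψ.left t'' := ht''.symm
      rw [hv, ← ofPt_yon_map_comp, ← sqψ.w]
      rw [Points.ofPt_eq_map_ofScheme, Points.ofPt_eq_map_ofScheme, Points.map_comp]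
    rw [TopologicalSpace.Opens.mem_iSup]
    exact ⟨⟨V, hV, i, hfac⟩, htV⟩
  refine ⟨T.left.openCoverOfIsOpenCover (fun V : s => V.1) hcov, fun a => ?_⟩
  obtain ⟨V, hV, i, l, hl⟩ := a
  obtain ⟨W, c, fst, sqc, hQ⟩ := h i (Z := overOpen T V) hV l
  refine ⟨W, c, fst ≫ p i, ?_, hQ⟩
  have := sqc.paste_horiz (sq i)
  rw [hl] at this
  exact this

end Groth.Agent.H52
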